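import Mathlib
import Cfsg.Prelude.Def_Characters
import Cfsg.Agent.Lib.Helper4.CharOrtho

set_option autoImplicit false

/-!
# Permutation characters, Burnside's lemma in complex form, orbits on pairs
-/

namespace Cfsg.Agent.Lib.Helper28

open Cfsg MulAction

section Rep

variable (G : Type*) [Group G] (X : Type*) [MulAction G X]

/-- the permutation representation on functions `X → ℂ` -/
noncomputable def permRep : Representation ℂ G (X → ℂ) where
  toFun g := LinearMap.funLeft ℂ ℂ (fun x => g⁻¹ • x)
  map_one' := by
    ext f x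
    simp [LinearMap.funLeft]
  map_mul' g h := by
    ext f x
    simp [LinearMap.funLeft, mul_smul]

theorem permRep_apply (g : G) (f : X → ℂ) (x : X) : permRep G X g f x = f (g⁻¹ • x) := rfl

theorem permRep_character [Fintype X] [DecidableEq X] (g : G) :
    (permRep G X).character g = ((Finset.univ.filter (fun x : X => g • x = x)).card : ℂ) := by
  unfold Representation.character
  rw [LinearMap.trace_eq_matrix_trace ℂ (Pi.basisFun ℂ X), LinearMap.toMatrix_eq_toMatrix',
    Matrix.trace]
  simp only [Matrix.diag_apply, LinearMap.toMatrix'_apply, permRep_apply, Pi.single_apply]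
  rw [Finset.sum_boole]
  congr 2
  ext x
  simp only [Finset.mem_filter, Finset.mem_univ, true_and]
  constructor
  · intro h
    calc g • x = g • (g⁻¹ • x) := by rw [h]
      _ = x := smul_inv_smul g x
  · intro h
    calc g⁻¹ • x = g⁻¹ • (g • x) := by rw [h]
      _ = x := inv_smul_smul g x

theorem card_fixedBy_eq [Fintype X] [DecidableEq X] (g : G) :
    Nat.card (fixedBy X g) = (Finset.univ.filter (fun x : X => g • x = x)).card := by
  rw [Nat.card_eq_fintype_card, Fintype.card_subtype]
  rfl

theorem permRep_character' [Finite X] (g : G) :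
    (permRep G X).character g = (Nat.card (fixedBy X g) : ℂ) := by
  classical
  have : Fintype X := Fintype.ofFinite X
  rw [permRep_character, card_fixedBy_eq]

/-- the permutation character is a character -/
theorem isCharacter_permChar [Finite X] :
    IsCharacter G (fun g => (Nat.card (fixedBy X g) : ℂ)) := by
  have : Fintype X := Fintype.ofFinite X
  have h := Cfsg.Agent.Lib.Helper4.isCharacter_of_rep (permRep G X)
  have h2 : (permRep G X).character = fun g => (Nat.card (fixedBy X g) : ℂ) := by
    funext g
    exact permRep_character' G X g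
  rwa [h2] at h

/-- Burnside's lemma, with complex-valued casts of `Nat.card` -/
theorem sum_card_fixedBy [Fintype G] [Finite X] :
    ∑ g : G, (Nat.card (fixedBy X g) : ℂ) =
      (Nat.card (Quotient (orbitRel G X)) : ℂ) * (Nat.card G : ℂ) := by
  classical
  have : Fintype X := Fintype.ofFinite X
  have : Fintype (Quotient (orbitRel G X)) := Fintype.ofFinite _
  have h := MulAction.sum_card_fixedBy_eq_card_orbits_mul_card_group G X
  rw [Nat.card_eq_fintype_card, Nat.card_eq_fintype_card, ← Nat.cast_mul, ← h, Nat.cast_sum]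
  refine Finset.sum_congr rfl fun g _ => ?_
  rw [Nat.card_eq_fintype_card]

/-- fixed points on the square -/
theorem card_fixedBy_prod (g : G) :
    Nat.card (fixedBy (X × X) g) = Nat.card (fixedBy X g) * Nat.card (fixedBy X g) := by
  rw [← Nat.card_prod]
  apply Nat.card_congr
  refine
    { toFun := fun p => (⟨p.1.1, ?_⟩, ⟨p.1.2, ?_⟩)
      invFun := fun q => ⟨(q.1.1, q.2.1), ?_⟩
      left_inv := fun p => rfl
      right_inv := fun q => rfl }
  · have := p.2
    rw [mem_fixedBy] at this ⊢
    exact congrArg Prod.fst this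
  · have := p.2
    rw [mem_fixedBy] at this ⊢
    exact congrArg Prod.snd this
  · rw [mem_fixedBy]
    have h1 := q.1.2
    have h2 := q.2.2
    rw [mem_fixedBy] at h1 h2
    exact Prod.ext h1 h2

theorem card_orbits_of_isPretransitive [IsPretransitive G X] [Nonempty X] :
    Nat.card (Quotient (orbitRel G X)) = 1 := by
  rw [Nat.card_eq_one_iff_unique]
  refine ⟨⟨?_⟩, ⟨Quotient.mk'' (Classical.arbitrary X)⟩⟩
  intro a b
  induction a using Quotient.inductionOn' with | h a => ?_
  induction b using Quotient.inductionOn' with | h b => ?_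
  apply Quotient.sound'
  rw [orbitRel_apply]
  obtain ⟨g, hg⟩ := exists_smul_eq G b a
  exact ⟨g, hg⟩

/-- a transitive action on at least two points has exactly two orbits on pairs iff it is
2-transitive -/
theorem card_orbits_prod_eq_two_iff [IsPretransitive G X] [Finite X] (hX : 2 ≤ Nat.card X) :
    Nat.card (Quotient (orbitRel G (X × X))) = 2 ↔ IsMultiplyPretransitive G X 2 := by
  have hnt : Nontrivial X := Finite.one_lt_card_iff_nontrivial.mp hX
  obtain ⟨x₀, y₀, hxy⟩ := exists_pair_ne X
  have hmk : ∀ p q : X × X, (Quotient.mk'' p : Quotient (orbitRel G (X × X))) = Quotient.mk'' q ↔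
      ∃ g : G, g • q = p := by
    intro p q
    rw [Quotient.eq'', orbitRel_apply]
    rfl
  have hdiag : ∀ a c d : X, c ≠ d →
      (Quotient.mk'' (a, a) : Quotient (orbitRel G (X × X))) ≠ Quotient.mk'' (c, d) := by
    intro a c d hcd h
    obtain ⟨g, hg⟩ := (hmk _ _).mp h
    have h1 : g • c = a := congrArg Prod.fst hg
    have h2 : g • d = a := congrArg Prod.snd hg
    exact hcd (smul_left_cancel g (h1.trans h2.symm))
  rw [Nat.card_eq_two_iff, is_two_pretransitive_iff]
  constructor
  · rintro ⟨ω₁, ω₂, hne, huniv⟩ a b c d hab hcd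
    have hmem : ∀ ω : Quotient (orbitRel G (X × X)), ω = ω₁ ∨ ω = ω₂ := by
      intro ω
      have : ω ∈ ({ω₁, ω₂} : Set _) := by rw [huniv]; exact Set.mem_univ _
      simpa using this
    have h1 := hdiag a a b hab
    have h2 := hdiag a c d hcd
    have h3 : (Quotient.mk'' (c, d) : Quotient (orbitRel G (X × X))) = Quotient.mk'' (a, b) := by
      rcases hmem (Quotient.mk'' (a, a)) with e1 | e1 <;>
      rcases hmem (Quotient.mk'' (a, b)) with e2 | e2 <;>
      rcases hmem (Quotient.mk'' (c, d)) with e3 | e3
      · exact absurd (e1.trans e2.symm) h1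
      · exact absurd (e1.trans e2.symm) h1
      · exact absurd (e1.trans e3.symm) h2
      · exact e3.trans e2.symm
      · exact e3.trans e2.symm
      · exact absurd (e1.trans e3.symm) h2
      · exact absurd (e1.trans e2.symm) h1
      · exact absurd (e1.trans e2.symm) h1
    obtain ⟨g, hg⟩ := (hmk _ _).mp h3
    exact ⟨g, congrArg Prod.fst hg, congrArg Prod.snd hg⟩
  · intro h2
    refine ⟨Quotient.mk'' (x₀, x₀), Quotient.mk'' (x₀, y₀), hdiag x₀ x₀ y₀ hxy, ?_⟩
    rw [Set.eq_univ_iff_forall]
    intro ω
    induction ω using Quotient.inductionOn' with | h p => ?_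
    obtain ⟨a, b⟩ := p
    by_cases hab : a = b
    · subst hab
      left
      rw [hmk]
      obtain ⟨g, hg⟩ := exists_smul_eq G x₀ a
      exact ⟨g, Prod.ext hg hg⟩
    · right
      rw [Set.mem_singleton_iff, hmk]
      obtain ⟨g, hg1, hg2⟩ := h2 hxy hab
      exact ⟨g, Prod.ext hg1 hg2⟩

end Rep

end Cfsg.Agent.Lib.Helper28
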