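import Mathlib
import Cfsg.Prelude.Def_Characters
import Cfsg.Agent.S0871
import Cfsg.Agent.Lib.Helper26.TIInd

set_option autoImplicit false

/-!
# Permutation characters as sums of induced trivial characters (helper28)

* `indFun_one_stabilizer`: `(1_{G_x})^G (g)` is the number of fixed points of `g` on the orbit of `x`.
* `card_fixedBy_eq_sum_indFun`: the permutation character of a finite `G`-set is the sum over the
  orbits of `(1_{G_{s ω}})^G`, for any section `s` of the orbit map.
-/

namespace Cfsg.Agent.Lib.Helper28

open Cfsg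

variable {G : Type*} [Group G] [Fintype G] {X : Type*} [MulAction G X] [Finite X]

theorem card_smul_eq (x : X) (y0 : G) :
    Nat.card {y : G // y • x = y0 • x} = Nat.card (MulAction.stabilizer G x) := by
  refine Nat.card_congr
    { toFun := fun y => ⟨y0⁻¹ * y.1, ?_⟩
      invFun := fun u => ⟨y0 * u.1, ?_⟩
      left_inv := fun y => by apply Subtype.ext; simp
      right_inv := fun u => by apply Subtype.ext; simp }
  · rw [MulAction.mem_stabilizer_iff, mul_smul, y.2, ← mul_smul, inv_mul_cancel, one_smul]
  · rw [mul_smul, MulAction.mem_stabilizer_iff.mp u.2]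

theorem card_conj_mem_stabilizer (x : X) (g : G) :
    Nat.card {y : G // y⁻¹ * g * y ∈ MulAction.stabilizer G x}
      = Nat.card (MulAction.stabilizer G x)
        * Nat.card {z : X // g • z = z ∧ z ∈ MulAction.orbit G x} := by
  classical
  have : Fintype X := Fintype.ofFinite X
  set S := Finset.univ.filter (fun y : G => g • y • x = y • x) with hS
  set T := Finset.univ.filter (fun z : X => g • z = z ∧ z ∈ MulAction.orbit G x) with hT
  have h1 : Nat.card {y : G // y⁻¹ * g * y ∈ MulAction.stabilizer G x} = S.card := by
    rw [Nat.card_eq_fintype_card, Fintype.card_subtype]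
    congr 1
    ext y
    simp only [Finset.mem_filter, Finset.mem_univ, true_and, hS, MulAction.mem_stabilizer_iff]
    rw [mul_smul, mul_smul, inv_smul_eq_iff]
  have h1' : Nat.card {z : X // g • z = z ∧ z ∈ MulAction.orbit G x} = T.card := by
    rw [Nat.card_eq_fintype_card, Fintype.card_subtype]
  have hmaps : ∀ y ∈ S, y • x ∈ T := by
    intro y hy
    rw [hS, Finset.mem_filter] at hy
    rw [hT, Finset.mem_filter]
    exact ⟨Finset.mem_univ _, hy.2, MulAction.mem_orbit x y⟩
  rw [h1, h1', Finset.card_eq_sum_card_fiberwise hmaps]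
  have h2 : ∀ z ∈ T, (S.filter (fun y => y • x = z)).card = Nat.card (MulAction.stabilizer G x) := by
    intro z hz
    rw [hT, Finset.mem_filter] at hz
    obtain ⟨y0, rfl⟩ := hz.2.2
    rw [← card_smul_eq x y0, Nat.card_eq_fintype_card, Fintype.card_subtype]
    congr 1
    ext y
    simp only [Finset.mem_filter, Finset.mem_univ, true_and, hS]
    constructor
    · rintro ⟨_, h⟩; exact h
    · intro h
      refine ⟨?_, h⟩
      rw [h]; exact hz.2.1
  rw [Finset.sum_congr rfl h2, Finset.sum_const, smul_eq_mul, mul_comm]

/-- `(1_{G_x})^G (g)` counts the fixed points of `g` on the orbit of `x`. -/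
theorem indFun_one_stabilizer (x : X) (g : G) :
    indFun (MulAction.stabilizer G x) (fun _ => (1 : ℂ)) g
      = (Nat.card {z : X // g • z = z ∧ z ∈ MulAction.orbit G x} : ℂ) := by
  rw [Cfsg.Agent.S0871.indFun_one, card_conj_mem_stabilizer, Nat.cast_mul, ← mul_assoc,
    inv_mul_cancel₀, one_mul]
  exact Nat.cast_ne_zero.mpr Nat.card_pos.ne'

/-- the permutation character is the sum over orbits of the induced trivial characters of point
stabilizers, for any choice `s` of orbit representatives. -/
theorem card_fixedBy_eq_sum_indFun [Fintype (MulAction.orbitRel.Quotient G X)]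
    (s : MulAction.orbitRel.Quotient G X → X)
    (hs : ∀ ω, (Quotient.mk'' (s ω) : MulAction.orbitRel.Quotient G X) = ω) (g : G) :
    (Nat.card {z : X // g • z = z} : ℂ)
      = ∑ ω : MulAction.orbitRel.Quotient G X,
          indFun (MulAction.stabilizer G (s ω)) (fun _ => (1 : ℂ)) g := by
  classical
  have : Fintype X := Fintype.ofFinite X
  have h0 : Nat.card {z : X // g • z = z} = (Finset.univ.filter (fun z : X => g • z = z)).card := by
    rw [Nat.card_eq_fintype_card, Fintype.card_subtype]
  have hmaps : ∀ z ∈ Finset.univ.filter (fun z : X => g • z = z),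
      (Quotient.mk'' z : MulAction.orbitRel.Quotient G X) ∈ Finset.univ := fun _ _ => Finset.mem_univ _
  rw [h0, Finset.card_eq_sum_card_fiberwise hmaps, Nat.cast_sum]
  refine Finset.sum_congr rfl fun ω _ => ?_
  rw [indFun_one_stabilizer, Nat.card_eq_fintype_card, Fintype.card_subtype]
  congr 2
  ext z
  simp only [Finset.mem_filter, Finset.mem_univ, true_and]
  constructor
  · rintro ⟨h1, h2⟩
    refine ⟨h1, ?_⟩
    rw [← hs ω] at h2
    exact MulAction.orbitRel_apply.mp (Quotient.exact' h2)
  · rintro ⟨h1, h2⟩
    refine ⟨h1, ?_⟩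
    rw [← hs ω]
    exact Quotient.sound' (MulAction.orbitRel_apply.mpr h2)

end Cfsg.Agent.Lib.Helper28
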