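import Mathlib

set_option autoImplicit false

namespace Cfsg.Agent.Lib.Helper28

open Matrix Matrix.SpecialLinearGroup

variable {ι F : Type*} [Fintype ι] [DecidableEq ι] [Field F]

/-- action of a transvection matrix on a vector, coordinatewise -/
theorem transvection_mulVec_apply {i j : ι} (hij : i ≠ j) (b : F) (v : ι → F) (l : ι) :
    ((SpecialLinearGroup.transvection hij b).1 *ᵥ v) l = v l + if l = i then b * v j else 0 := by
  rw [SpecialLinearGroup.transvection_coe, Matrix.add_mulVec, Matrix.one_mulVec, Pi.add_apply]
  congr 1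
  by_cases h : l = i
  · subst h
    simp [Matrix.mulVec, dotProduct, Matrix.single_apply]
  · simp [Matrix.mulVec, dotProduct, Matrix.single_apply, h, Ne.symm h]

theorem diag2n_mulVec_apply {i j : ι} (hij : i ≠ j) (a : F) (ha : a ≠ 0) (v : ι → F) (l : ι) :
    ((diag2n hij a ha).1 *ᵥ v) l = (if l = i then a else if l = j then a⁻¹ else 1) * v l := by
  rw [diag2n_coe, Matrix.mulVec_diagonal]

/-- `diag2n` is a product of six transvections, in any dimension. -/
theorem diag2n_decompose {i j : ι} (hij : i ≠ j) (a : F) (ha : a ≠ 0) :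
    diag2n hij a ha = SpecialLinearGroup.transvection hij a *
      SpecialLinearGroup.transvection hij.symm (- a⁻¹) *
      SpecialLinearGroup.transvection hij a *
      SpecialLinearGroup.transvection hij (-1) *
      SpecialLinearGroup.transvection hij.symm 1 *
      SpecialLinearGroup.transvection hij (-1) := by
  apply Subtype.ext
  rw [Matrix.ext_iff_mulVec]
  intro v
  funext l
  simp only [Matrix.SpecialLinearGroup.coe_mul, ← Matrix.mulVec_mulVec]
  rw [diag2n_mulVec_apply]
  simp only [transvection_mulVec_apply]
  have hji : j ≠ i := hij.symm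
  by_cases h1 : l = i
  · subst h1
    simp [hij, hji]
    field_simp
    ring
  · by_cases h2 : l = j
    · subst h2
      simp [hij, hji, h1]
      field_simp
      ring
    · simp [h1, h2, hij, hji]

end Cfsg.Agent.Lib.Helper28

namespace Cfsg.Agent.Lib.Helper28

open Matrix Matrix.SpecialLinearGroup
open scoped commutatorElement

variable {ι F : Type*} [Fintype ι] [DecidableEq ι] [Field F]

/-- a transvection is a commutator of two transvections when a third index is available -/
theorem transvection_eq_commutator {i j k : ι} (hij : i ≠ j) (hik : i ≠ k) (hkj : k ≠ j) (a : F) :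
    SpecialLinearGroup.transvection hij a =
      ⁅SpecialLinearGroup.transvection hik a, SpecialLinearGroup.transvection hkj (1 : F)⁆ := by
  rw [commutatorElement_def, SpecialLinearGroup.transvection_inv, SpecialLinearGroup.transvection_inv]
  apply Subtype.ext
  rw [Matrix.ext_iff_mulVec]
  intro v
  funext l
  simp only [Matrix.SpecialLinearGroup.coe_mul, ← Matrix.mulVec_mulVec]
  simp only [transvection_mulVec_apply]
  have hji : j ≠ i := hij.symm
  have hki : k ≠ i := hik.symm
  have hjk : j ≠ k := hkj.symm
  by_cases h1 : l = i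
  · subst h1
    simp [hij, hik, hkj, hji, hki, hjk]
    ring
  · by_cases h2 : l = k
    · subst h2
      simp [hij, hik, hkj, hji, hki, hjk]
    · simp [h1, h2, hij, hik, hkj, hji, hki, hjk]

theorem exists_third (n : ℕ) (hn : 3 ≤ n) (i j : Fin n) : ∃ k : Fin n, k ≠ i ∧ k ≠ j := by
  by_contra h
  push_neg at h
  have hsub : (Finset.univ : Finset (Fin n)) ⊆ {i, j} := by
    intro k _
    by_cases hk : k = i
    · simp [hk]
    · simp [h k hk]
  have h1 := Finset.card_le_card hsub
  have h2 : ({i, j} : Finset (Fin n)).card ≤ 2 := Finset.card_le_two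
  rw [Finset.card_univ, Fintype.card_fin] at h1
  omega

/-- `SL_n(F)` is perfect for `n ≥ 3`. -/
theorem SL_commutator_eq_top (n : ℕ) (hn : 3 ≤ n) :
    commutator (Matrix.SpecialLinearGroup (Fin n) F) = ⊤ := by
  have : Nontrivial (Fin n) := Fin.nontrivial_iff_two_le.mpr (by omega)
  have htr : ∀ (i j : Fin n) (hij : i ≠ j) (a : F),
      SpecialLinearGroup.transvection hij a ∈ commutator (Matrix.SpecialLinearGroup (Fin n) F) := by
    intro i j hij a
    obtain ⟨k, hki, hkj⟩ := exists_third n hn i j
    rw [transvection_eq_commutator hij hki.symm hkj a]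
    exact Subgroup.commutator_mem_commutator (Subgroup.mem_top _) (Subgroup.mem_top _)
  refine le_antisymm le_top (fun A _ => ?_)
  refine diagonal_transvection_induction' (fun A => A ∈ commutator (Matrix.SpecialLinearGroup (Fin n) F)) A
    (fun i j hij c hc => ?_) htr (fun _ _ => mul_mem)
  rw [diag2n_decompose hij c hc]
  exact mul_mem (mul_mem (mul_mem (mul_mem (mul_mem (htr _ _ _ _) (htr _ _ _ _)) (htr _ _ _ _))
    (htr _ _ _ _)) (htr _ _ _ _)) (htr _ _ _ _)

end Cfsg.Agent.Lib.Helper28
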