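import Mathlib

set_option autoImplicit false

/-!
# Involutions acting on groups of odd order (helper28)

Pure group theory used for the Brauer–Fowler type statements on groups in which the centralizers
of `p`-elements have odd order.
-/

namespace Cfsg.Agent.Lib.Helper28

open scoped Pointwise

section

variable {G : Type*} [Group G]

/-- an involution acting without non-trivial fixed points on a finite subgroup inverts it -/
theorem inverts_of_fixedPointFree (Q : Subgroup G) [Finite Q] (g : G) (hg2 : g * g = 1)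
    (hgQ : ∀ x ∈ Q, g * x * g⁻¹ ∈ Q) (hfix : ∀ x ∈ Q, g * x * g⁻¹ = x → x = 1) :
    ∀ x ∈ Q, g * x * g⁻¹ = x⁻¹ := by
  let f : Q → Q := fun x => ⟨(x : G)⁻¹ * (g * x * g⁻¹), Q.mul_mem (Q.inv_mem x.2) (hgQ x x.2)⟩
  have hinj : Function.Injective f := by
    intro x y h
    have hc : (x : G)⁻¹ * (g * x * g⁻¹) = (y : G)⁻¹ * (g * y * g⁻¹) := congrArg Subtype.val h
    have h1 : g * y * g⁻¹ = y * ((x : G)⁻¹ * (g * x * g⁻¹)) := by rw [hc]; group
    have h2 : g * ((y : G) * (x : G)⁻¹) * g⁻¹ = (g * y * g⁻¹) * (g * x * g⁻¹)⁻¹ := by group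
    rw [h1] at h2
    have h3 : g * ((y : G) * (x : G)⁻¹) * g⁻¹ = (y : G) * (x : G)⁻¹ := by
      rw [h2]; group
    have h4 := hfix _ (Q.mul_mem y.2 (Q.inv_mem x.2)) h3
    apply Subtype.ext
    have : (y : G) = x := by
      have := mul_inv_eq_one.mp h4
      exact this
    exact this.symm
  have hsurj : Function.Surjective f := Finite.surjective_of_injective hinj
  intro x hx
  obtain ⟨w, hw⟩ := hsurj ⟨x, hx⟩
  have hx' : x = (w : G)⁻¹ * (g * w * g⁻¹) := (congrArg Subtype.val hw).symm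
  have hgg : g * (g * (w : G) * g⁻¹) * g⁻¹ = w := by
    have : g * (g * (w : G) * g⁻¹) * g⁻¹ = (g * g) * w * (g * g)⁻¹ := by group
    rw [this, hg2]; group
  rw [hx']
  have : g * ((w : G)⁻¹ * (g * w * g⁻¹)) * g⁻¹ =
      (g * w * g⁻¹)⁻¹ * (g * (g * (w : G) * g⁻¹) * g⁻¹) := by group
  rw [this, hgg]
  group

/-- a subgroup inverted elementwise by some element is commutative -/
theorem comm_of_inverts (Q : Subgroup G) (g : G) (hinv : ∀ x ∈ Q, g * x * g⁻¹ = x⁻¹) :
    ∀ x ∈ Q, ∀ y ∈ Q, x * y = y * x := by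
  intro x hx y hy
  have h1 := hinv (x * y) (Q.mul_mem hx hy)
  have h2 : g * (x * y) * g⁻¹ = (g * x * g⁻¹) * (g * y * g⁻¹) := by group
  rw [h2, hinv x hx, hinv y hy] at h1
  have h3 : (x⁻¹ * y⁻¹)⁻¹ = ((x * y)⁻¹)⁻¹ := congrArg Inv.inv h1
  rw [inv_inv, mul_inv_rev, inv_inv, inv_inv] at h3
  exact h3.symm

end

section

variable {H : Type*} [Group H] [Finite H]

/-- a central `p`-element lies in every Sylow `p`-subgroup -/
theorem mem_sylow_of_central {p : ℕ} [Fact p.Prime] (Q : Sylow p H) (x : H)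
    (hx : ∀ y : H, y * x = x * y) (hxp : ∃ k : ℕ, orderOf x = p ^ k) : x ∈ Q := by
  obtain ⟨k, hk⟩ := hxp
  have hz : IsPGroup p (Subgroup.zpowers x) := by
    apply IsPGroup.of_card (n := k)
    rw [Nat.card_zpowers, hk]
  obtain ⟨R, hR⟩ := hz.exists_le_sylow
  obtain ⟨c, hc⟩ := MulAction.exists_smul_eq H R Q
  have hxR : x ∈ R := hR (Subgroup.mem_zpowers x)
  have h1 : MulAut.conj c • x ∈ MulAut.conj c • (R : Subgroup H) :=
    Subgroup.smul_mem_pointwise_smul x (MulAut.conj c) R hxR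
  have h2 : MulAut.conj c • x = x := by
    rw [MulAut.smul_def, MulAut.conj_apply, hx c, mul_inv_cancel_right]
  rw [h2] at h1
  rw [← hc]
  exact h1

end

section

variable {G : Type*} [Group G] [Finite G]

/-- an involution normalizing a subgroup of odd order normalizes one of its Sylow subgroups -/
theorem exists_invariant_sylow (p : ℕ) [Fact p.Prime] (C : Subgroup G)
    (hodd : Odd (Nat.card C)) (g : G) (hg2 : g * g = 1) (hgC : ∀ c ∈ C, g * c * g⁻¹ ∈ C) :
    ∃ Q : Sylow p C, ∀ c : C, c ∈ Q → (⟨g * c * g⁻¹, hgC c c.2⟩ : C) ∈ Q := by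
  have hgg : ∀ c : G, g * (g * c * g⁻¹) * g⁻¹ = c := by
    intro c
    have : g * (g * c * g⁻¹) * g⁻¹ = (g * g) * c * (g * g)⁻¹ := by group
    rw [this, hg2]; group
  let φ : C ≃* C :=
    { toFun := fun c => ⟨g * c * g⁻¹, hgC c c.2⟩
      invFun := fun c => ⟨g * c * g⁻¹, hgC c c.2⟩
      left_inv := fun c => Subtype.ext (hgg c)
      right_inv := fun c => Subtype.ext (hgg c)
      map_mul' := fun a b => Subtype.ext (by
        show g * ((a : G) * (b : G)) * g⁻¹ = (g * a * g⁻¹) * (g * b * g⁻¹)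
        group) }
  have hφ2 : (φ : MulAut C) * φ = 1 := by
    ext c
    exact hgg c
  let A : Subgroup (MulAut C) := Subgroup.zpowers (φ : MulAut C)
  have hA : IsPGroup 2 A := by
    intro a
    refine ⟨1, ?_⟩
    obtain ⟨n, hn⟩ := Subgroup.mem_zpowers_iff.mp a.2
    apply Subtype.ext
    rw [pow_one]
    show (a : MulAut C) ^ 2 = 1
    rw [← hn, ← zpow_natCast, ← zpow_mul, mul_comm, zpow_mul]
    have : (φ : MulAut C) ^ ((2 : ℕ) : ℤ) = 1 := by
      rw [zpow_natCast, pow_two, hφ2]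
    rw [this, one_zpow]
  have hcard : ¬ 2 ∣ Nat.card (Sylow p C) := by
    intro h2
    obtain ⟨Q0⟩ : Nonempty (Sylow p C) := inferInstance
    have h3 : Nat.card (Sylow p C) ∣ Nat.card C :=
      (Sylow.card_dvd_index Q0).trans (Subgroup.index_dvd_card _)
    have h4 : 2 ∣ Nat.card C := h2.trans h3
    rw [← even_iff_two_dvd] at h4
    exact (Nat.not_even_iff_odd.mpr hodd) h4
  obtain ⟨Q, hQ⟩ := hA.nonempty_fixed_point_of_prime_not_dvd_card (Sylow p C) hcard
  refine ⟨Q, fun c hc => ?_⟩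
  have h1 : (⟨φ, Subgroup.mem_zpowers _⟩ : A) • Q = Q := hQ _
  have h2 : (φ : MulAut C) • c ∈ (φ : MulAut C) • (Q : Subgroup C) :=
    Subgroup.smul_mem_pointwise_smul c φ Q hc
  have h3 : ((φ : MulAut C) • Q : Sylow p C) = Q := h1
  have h4 : (φ : MulAut C) • (Q : Subgroup C) = (Q : Subgroup C) := by
    rw [← Sylow.pointwise_smul_def, h3]
  rw [h4] at h2
  exact h2

end

end Cfsg.Agent.Lib.Helper28
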