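import Mathlib
import Cfsg.Prelude.Def_SporadicCombinatorics

set_option autoImplicit false

/-!
# The ternary Golay code of length 12 (MINIMOG description): explicit generator matrix,
systematic encoding, weight enumerator, self-orthogonality.
-/

namespace Cfsg.Agent.Lib.Helper28.TGolay

open Cfsg

/-- the six generators, rows of a systematic generator matrix; coordinate `(i, r)` is entry
`3 i + r`. -/
def genTab : Fin 6 → Fin 12 → ZMod 3 :=
  ![![1, 0, 0, 0, 0, 1, 0, 0, 1, 1, 1, 2],
    ![0, 1, 0, 0, 0, 1, 0, 2, 2, 2, 0, 2],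
    ![0, 0, 1, 0, 0, 1, 0, 1, 0, 2, 1, 1],
    ![0, 0, 0, 1, 0, 2, 0, 2, 1, 2, 1, 0],
    ![0, 0, 0, 0, 1, 2, 0, 1, 2, 0, 1, 2],
    ![0, 0, 0, 0, 0, 0, 1, 1, 1, 2, 2, 2]]

/-- index of an array point -/
def ptIdx (p : ArrayPt) : Fin 12 := ⟨3 * p.1.val + (p.2 : ZMod 3).val, by
  have h1 := p.1.isLt
  have h2 : (p.2 : ZMod 3).val < 3 := ZMod.val_lt _
  omega⟩

/-- the generators as words on the array -/
def gen (j : Fin 6) : ArrayPt → ZMod 3 := fun p => genTab j (ptIdx p)

/-- the encoding map -/
def enc (c : Fin 6 → ZMod 3) : ArrayPt → ZMod 3 := fun p => ∑ j, c j * gen j p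

/-- decidable version of the word condition -/
def IsWordD (x : ArrayPt → ZMod 3) : Prop :=
  ∃ s : ZMod 3, (∀ i : Fin 4, ∑ r : ZMod 3, x (i, r) = -s) ∧
    ∀ c d : ZMod 3,
      ∑ i : Fin 4, x (i, (c • ![0, 1, 1, 1] + d • ![1, 0, 1, 2] : Fin 4 → ZMod 3) i) = s

instance : DecidablePred IsWordD := fun x => by unfold IsWordD; infer_instance

theorem isWord_iff (x : ArrayPt → ZMod 3) : IsTernaryGolayWord x ↔ IsWordD x := by
  unfold IsTernaryGolayWord IsWordD
  constructor
  · rintro ⟨s, h1, h2⟩
    refine ⟨s, h1, fun c d => h2 _ ?_⟩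
    unfold tetracode
    rw [Submodule.mem_span_pair]
    exact ⟨c, d, rfl⟩
  · rintro ⟨s, h1, h2⟩
    refine ⟨s, h1, fun t ht => ?_⟩
    unfold tetracode at ht
    rw [Submodule.mem_span_pair] at ht
    obtain ⟨c, d, rfl⟩ := ht
    exact h2 c d

theorem mem_code_iff (x : ArrayPt → ZMod 3) : x ∈ ternaryGolayCode ↔ IsWordD x :=
  isWord_iff x

set_option maxRecDepth 100000 in
theorem gen_isWord : ∀ j : Fin 6, IsWordD (gen j) := by decide +kernel

theorem gen_mem (j : Fin 6) : gen j ∈ ternaryGolayCode := (mem_code_iff _).mpr (gen_isWord j)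

theorem enc_eq_sum (c : Fin 6 → ZMod 3) : enc c = ∑ j, c j • gen j := by
  funext p
  simp [enc, Finset.sum_apply]

theorem enc_mem (c : Fin 6 → ZMod 3) : enc c ∈ ternaryGolayCode := by
  rw [enc_eq_sum]
  exact Submodule.sum_mem _ fun j _ => Submodule.smul_mem _ _ (gen_mem j)

theorem enc_add (c d : Fin 6 → ZMod 3) : enc (c + d) = enc c + enc d := by
  funext p
  simp [enc, add_mul, Finset.sum_add_distrib]

theorem enc_neg (c : Fin 6 → ZMod 3) : enc (-c) = -enc c := by
  funext p
  simp [enc]

theorem enc_sub (c d : Fin 6 → ZMod 3) : enc (c - d) = enc c - enc d := by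
  rw [sub_eq_add_neg, enc_add, enc_neg, sub_eq_add_neg]

theorem enc_zero : enc 0 = 0 := by
  funext p
  simp [enc]

/-- the information positions -/
def infoPt : Fin 6 → ArrayPt := ![(0, 0), (0, 1), (0, 2), (1, 0), (1, 1), (2, 0)]

/-- the check positions -/
def otherPt : Fin 6 → ArrayPt := ![(1, 2), (2, 1), (2, 2), (3, 0), (3, 1), (3, 2)]

/-- the information symbols of a word -/
def info (x : ArrayPt → ZMod 3) : Fin 6 → ZMod 3 := fun j => x (infoPt j)

set_option maxRecDepth 100000 in
theorem gen_infoPt : ∀ j k : Fin 6, gen j (infoPt k) = if j = k then 1 else 0 := by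
  decide +kernel

theorem info_enc (c : Fin 6 → ZMod 3) : info (enc c) = c := by
  funext k
  simp [info, enc, gen_infoPt]

theorem enc_injective : Function.Injective enc := fun c d h => by
  rw [← info_enc c, ← info_enc d, h]

/-- a word supported on the check positions -/
def ext (z : Fin 6 → ZMod 3) : ArrayPt → ZMod 3 := fun p =>
  (![0, 0, 0, 0, 0, z 0, 0, z 1, z 2, z 3, z 4, z 5] : Fin 12 → ZMod 3) (ptIdx p)

set_option maxRecDepth 100000 in
theorem ext_isWord : ∀ z : Fin 6 → ZMod 3, IsWordD (ext z) → z = 0 := by decide +kernel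

set_option maxRecDepth 100000 in
theorem pt_cases : ∀ p : ArrayPt, (∃ j, p = infoPt j) ∨ (∃ k, p = otherPt k) := by
  decide +kernel

theorem ext_infoPt (z : Fin 6 → ZMod 3) (j : Fin 6) : ext z (infoPt j) = 0 := by
  fin_cases j <;> rfl

theorem ext_otherPt (z : Fin 6 → ZMod 3) (k : Fin 6) : ext z (otherPt k) = z k := by
  fin_cases k <;> rfl

theorem eq_zero_of_info_zero {x : ArrayPt → ZMod 3} (hx : x ∈ ternaryGolayCode)
    (h0 : info x = 0) : x = 0 := by
  have hext : x = ext (fun k => x (otherPt k)) := by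
    funext p
    rcases pt_cases p with ⟨j, rfl⟩ | ⟨k, rfl⟩
    · rw [ext_infoPt]; exact congrFun h0 j
    · rw [ext_otherPt]
  have hz := ext_isWord _ (by rw [← hext]; exact (mem_code_iff x).mp hx)
  rw [hext, hz]
  funext p
  rcases pt_cases p with ⟨j, rfl⟩ | ⟨k, rfl⟩
  · rw [ext_infoPt]; rfl
  · rw [ext_otherPt]; rfl

theorem eq_enc_info {x : ArrayPt → ZMod 3} (hx : x ∈ ternaryGolayCode) : x = enc (info x) := by
  have h1 : x - enc (info x) ∈ ternaryGolayCode := Submodule.sub_mem _ hx (enc_mem _)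
  have h2 : info (x - enc (info x)) = 0 := by
    funext k
    have := congrFun (info_enc (info x)) k
    simp only [info, Pi.sub_apply, Pi.zero_apply] at this ⊢
    rw [this, sub_self]
  exact sub_eq_zero.mp (eq_zero_of_info_zero h1 h2)

theorem mem_code_iff_exists (x : ArrayPt → ZMod 3) : x ∈ ternaryGolayCode ↔ ∃ c, enc c = x :=
  ⟨fun hx => ⟨info x, (eq_enc_info hx).symm⟩, fun ⟨c, hc⟩ => hc ▸ enc_mem c⟩

/-- the code is in bijection with the coefficient vectors -/
noncomputable def encEquiv : (Fin 6 → ZMod 3) ≃ ternaryGolayCode where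
  toFun c := ⟨enc c, enc_mem c⟩
  invFun x := info x.1
  left_inv c := info_enc c
  right_inv x := Subtype.ext (eq_enc_info x.2).symm

theorem card_code : Nat.card ternaryGolayCode = 729 := by
  rw [← Nat.card_congr encEquiv, Nat.card_eq_fintype_card, Fintype.card_fun, ZMod.card,
    Fintype.card_fin]
  norm_num

/-- counting codewords with a decidable property via coefficient vectors -/
theorem ncard_code_filter (P : (ArrayPt → ZMod 3) → Prop) [DecidablePred P] :
    {x : ArrayPt → ZMod 3 | x ∈ ternaryGolayCode ∧ P x}.ncard =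
      (Finset.univ.filter (fun c : Fin 6 → ZMod 3 => P (enc c))).card := by
  have : {x : ArrayPt → ZMod 3 | x ∈ ternaryGolayCode ∧ P x} =
      ((Finset.univ.filter (fun c : Fin 6 → ZMod 3 => P (enc c))).image enc : Finset _) := by
    ext x
    simp only [Set.mem_setOf_eq, Finset.coe_image, Finset.coe_filter, Finset.mem_univ, true_and,
      Set.mem_image]
    constructor
    · rintro ⟨hx, hP⟩
      exact ⟨info x, by rw [← eq_enc_info hx]; exact hP, (eq_enc_info hx).symm⟩
    · rintro ⟨c, hP, rfl⟩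
      exact ⟨enc_mem c, hP⟩
  rw [this, Set.ncard_coe_finset, Finset.card_image_of_injective _ enc_injective]

set_option maxRecDepth 100000 in
theorem weights_enc : ∀ c : Fin 6 → ZMod 3, c ≠ 0 → (ternarySupport (enc c)).card = 6 ∨
    (ternarySupport (enc c)).card = 9 ∨ (ternarySupport (enc c)).card = 12 := by
  decide +kernel

set_option maxRecDepth 100000 in
theorem count6 : (Finset.univ.filter
    (fun c : Fin 6 → ZMod 3 => (ternarySupport (enc c)).card = 6)).card = 264 := by
  decide +kernel

set_option maxRecDepth 100000 in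
theorem count9 : (Finset.univ.filter
    (fun c : Fin 6 → ZMod 3 => (ternarySupport (enc c)).card = 9)).card = 440 := by
  decide +kernel

set_option maxRecDepth 100000 in
theorem count12 : (Finset.univ.filter
    (fun c : Fin 6 → ZMod 3 => (ternarySupport (enc c)).card = 12)).card = 24 := by
  decide +kernel

theorem weights {x : ArrayPt → ZMod 3} (hx : x ∈ ternaryGolayCode) (h0 : x ≠ 0) :
    (ternarySupport x).card = 6 ∨ (ternarySupport x).card = 9 ∨
      (ternarySupport x).card = 12 := by
  rw [eq_enc_info hx]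
  apply weights_enc
  intro h
  apply h0
  rw [eq_enc_info hx, h, enc_zero]

/-- a codeword of weight less than six is zero. -/
theorem eq_zero_of_weight_lt {x : ArrayPt → ZMod 3} (hx : x ∈ ternaryGolayCode)
    (h : (ternarySupport x).card < 6) : x = 0 := by
  by_contra h0
  rcases weights hx h0 with h1 | h1 | h1 <;> omega

set_option maxRecDepth 100000 in
theorem gen_dot : ∀ i j : Fin 6, ∑ p, gen i p * gen j p = 0 := by decide +kernel

/-- the code is self-orthogonal -/
theorem dot_eq_zero {x y : ArrayPt → ZMod 3} (hx : x ∈ ternaryGolayCode)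
    (hy : y ∈ ternaryGolayCode) : ∑ p, x p * y p = 0 := by
  rw [eq_enc_info hx, eq_enc_info hy]
  generalize info x = c
  generalize info y = d
  have h1 : ∀ p, enc c p * enc d p = ∑ i, ∑ j, (c i * d j) * (gen i p * gen j p) := by
    intro p
    simp only [enc, Finset.sum_mul_sum]
    refine Finset.sum_congr rfl fun i _ => Finset.sum_congr rfl fun j _ => ?_
    ring
  simp only [h1]
  rw [Finset.sum_comm]
  apply Finset.sum_eq_zero
  intro i _
  rw [Finset.sum_comm]
  apply Finset.sum_eq_zero
  intro j _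
  rw [← Finset.mul_sum, gen_dot, mul_zero]

end Cfsg.Agent.Lib.Helper28.TGolay
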