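import Mathlib
import Cfsg.Prelude.Def_Blocks

set_option autoImplicit false

/-!
# Existence of a `p`-modular maximal ideal (copy with fresh names, importable with BrauerC)
-/

namespace Cfsg.Agent.Lib.Helper28

open Cfsg

/-- `p` is not a unit in the ring of algebraic integers -/
theorem not_isUnit_natCast_algInt' {p : ℕ} (hp : p.Prime) : ¬ IsUnit ((p : ℕ) : AlgInt) := by
  intro hu
  obtain ⟨γ, hγ⟩ := hu.exists_right_inv
  have h1 : (p : ℂ) * (γ : ℂ) = 1 := by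
    have := congrArg (Subtype.val : AlgInt → ℂ) hγ
    push_cast at this
    exact this
  have hp0 : (p : ℂ) ≠ 0 := by exact_mod_cast hp.ne_zero
  have h2 : (γ : ℂ) = algebraMap ℚ ℂ ((p : ℚ)⁻¹) := by
    rw [map_inv₀, map_natCast]
    field_simp
    rw [mul_comm]; exact h1
  have h3 : IsIntegral ℤ (algebraMap ℚ ℂ ((p : ℚ)⁻¹)) := h2 ▸ γ.2
  have h4 : IsIntegral ℤ ((p : ℚ)⁻¹) :=
    (isIntegral_algebraMap_iff (algebraMap ℚ ℂ).injective).mp h3
  obtain ⟨y, hy⟩ := IsIntegrallyClosed.isIntegral_iff.mp h4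
  have h5 : (y : ℚ) * p = 1 := by
    have : (algebraMap ℤ ℚ) y = (y : ℚ) := rfl
    rw [← this, hy]
    have hq0 : (p : ℚ) ≠ 0 := by exact_mod_cast hp.ne_zero
    field_simp
  have h6 : y * (p : ℤ) = 1 := by exact_mod_cast h5
  have h7 : (p : ℤ) ∣ 1 := ⟨y, by rw [mul_comm]; exact h6.symm⟩
  have h8 : p ∣ 1 := by exact_mod_cast h7
  exact hp.one_lt.ne' (Nat.dvd_one.mp h8)

theorem exists_isPModular' {p : ℕ} (hp : p.Prime) : ∃ M : Ideal AlgInt, IsPModular p M := by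
  have hne : Ideal.span {((p : ℕ) : AlgInt)} ≠ ⊤ := by
    intro h
    exact not_isUnit_natCast_algInt' hp (Ideal.span_singleton_eq_top.mp h)
  obtain ⟨M, hM, hle⟩ := Ideal.exists_le_maximal _ hne
  exact ⟨M, hp, hM, hle (Ideal.subset_span rfl)⟩


end Cfsg.Agent.Lib.Helper28
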