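import Mathlib
import Cfsg.Prelude.Def_Blocks

set_option autoImplicit false

/-!
# Basic facts on the local ideal at a maximal ideal of the algebraic integers (helper28)
-/

namespace Cfsg.Agent.Lib.Helper28

open Cfsg

variable {M : Ideal AlgInt}

theorem algInt_coe_ne_zero_of_not_mem {b : AlgInt} (hb : b ∉ M) : (b : ℂ) ≠ 0 := by
  intro h
  apply hb
  have : b = 0 := Subtype.ext h
  rw [this]
  exact M.zero_mem

theorem memLocalIdeal_of_mem (hM : M ≠ ⊤) {a : AlgInt} (ha : a ∈ M) :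
    MemLocalIdeal M (a : ℂ) :=
  ⟨a, 1, ha, (Ideal.ne_top_iff_one M).mp hM, by simp⟩

theorem memLocalIdeal_zero (hM : M ≠ ⊤) : MemLocalIdeal M 0 := by
  have := memLocalIdeal_of_mem hM (M.zero_mem)
  simpa using this

theorem memLocalIdeal_add [M.IsPrime] {z w : ℂ} (hz : MemLocalIdeal M z)
    (hw : MemLocalIdeal M w) : MemLocalIdeal M (z + w) := by
  obtain ⟨a1, b1, ha1, hb1, rfl⟩ := hz
  obtain ⟨a2, b2, ha2, hb2, rfl⟩ := hw
  refine ⟨a1 * b2 + a2 * b1, b1 * b2,
    M.add_mem (M.mul_mem_right _ ha1) (M.mul_mem_right _ ha2),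
    fun h => (Ideal.IsPrime.mem_or_mem ‹_› h).elim hb1 hb2, ?_⟩
  have h1 := algInt_coe_ne_zero_of_not_mem hb1
  have h2 := algInt_coe_ne_zero_of_not_mem hb2
  push_cast
  field_simp

theorem memLocalIdeal_algInt_mul {z : ℂ} (c : AlgInt) (hz : MemLocalIdeal M z) :
    MemLocalIdeal M ((c : ℂ) * z) := by
  obtain ⟨a, b, ha, hb, rfl⟩ := hz
  refine ⟨c * a, b, M.mul_mem_left _ ha, hb, ?_⟩
  push_cast
  ring

theorem memLocalIdeal_isIntegral_mul {z c : ℂ} (hc : IsIntegral ℤ c) (hz : MemLocalIdeal M z) :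
    MemLocalIdeal M (c * z) :=
  memLocalIdeal_algInt_mul (⟨c, hc⟩ : AlgInt) hz

theorem memLocalIdeal_neg {z : ℂ} (hz : MemLocalIdeal M z) : MemLocalIdeal M (-z) := by
  have := memLocalIdeal_algInt_mul (-1 : AlgInt) hz
  simpa using this

theorem memLocalIdeal_sub [M.IsPrime] {z w : ℂ} (hz : MemLocalIdeal M z)
    (hw : MemLocalIdeal M w) : MemLocalIdeal M (z - w) := by
  rw [sub_eq_add_neg]
  exact memLocalIdeal_add hz (memLocalIdeal_neg hw)

theorem memLocalIdeal_sum [M.IsPrime] {ι : Type*} (s : Finset ι) (f : ι → ℂ)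
    (h : ∀ i ∈ s, MemLocalIdeal M (f i)) : MemLocalIdeal M (∑ i ∈ s, f i) := by
  classical
  induction s using Finset.induction_on with
  | empty =>
    rw [Finset.sum_empty]
    exact memLocalIdeal_zero (Ideal.IsPrime.ne_top ‹_›)
  | insert i s hi ih =>
    rw [Finset.sum_insert hi]
    exact memLocalIdeal_add (h i (Finset.mem_insert_self i s))
      (ih (fun j hj => h j (Finset.mem_insert_of_mem hj)))

/-- an algebraic integer lying in the local ideal lies in `M` -/
theorem mem_of_memLocalIdeal [M.IsPrime] {c : AlgInt} (h : MemLocalIdeal M (c : ℂ)) : c ∈ M := by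
  obtain ⟨a, b, ha, hb, hab⟩ := h
  have hb0 := algInt_coe_ne_zero_of_not_mem hb
  have h1 : c * b = a := by
    apply Subtype.ext
    push_cast
    rw [← hab]
    field_simp
  have h2 : c * b ∈ M := h1 ▸ ha
  exact (Ideal.IsPrime.mem_or_mem ‹_› h2).resolve_right hb

theorem not_memLocalIdeal_natCast {p : ℕ} (hM : IsPModular p M) {n : ℕ} (hn : n.Coprime p) :
    ¬ MemLocalIdeal M (n : ℂ) := by
  obtain ⟨hp, hmax, hpM⟩ := hM
  have : M.IsPrime := hmax.isPrime
  intro h
  have h1 : (n : AlgInt) ∈ M := by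
    apply mem_of_memLocalIdeal
    simpa using h
  obtain ⟨u, v, huv⟩ : IsCoprime (n : ℤ) (p : ℤ) := Nat.isCoprime_iff_coprime.mpr hn
  have h2 : (1 : AlgInt) ∈ M := by
    have h3 : ((u : AlgInt) * (n : AlgInt) + (v : AlgInt) * (p : AlgInt)) = 1 := by
      have := congrArg (Int.cast : ℤ → AlgInt) huv
      push_cast at this
      exact this
    rw [← h3]
    exact M.add_mem (M.mul_mem_left _ h1) (M.mul_mem_left _ hpM)
  exact hmax.ne_top ((Ideal.eq_top_iff_one M).mpr h2)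

/-- `ε - 1` lies in the local ideal for a `p`-power root of unity `ε` -/
theorem memLocalIdeal_root_sub_one {p : ℕ} (hM : IsPModular p M) {ε : ℂ} {j : ℕ}
    (hε : ε ^ (p ^ j) = 1) : MemLocalIdeal M (ε - 1) := by
  obtain ⟨hp, hmax, hpM⟩ := hM
  have : Fact p.Prime := ⟨hp⟩
  have hint : IsIntegral ℤ ε :=
    IsIntegral.of_pow (pow_pos hp.pos j) (by rw [hε]; exact isIntegral_one)
  let e : AlgInt := ⟨ε, hint⟩
  have he : e ^ (p ^ j) = 1 := by
    apply Subtype.ext
    push_cast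
    exact hε
  have hfield : Nontrivial (AlgInt ⧸ M) := Ideal.Quotient.nontrivial_iff.mpr hmax.ne_top
  have hp0 : ((p : ℕ) : AlgInt ⧸ M) = 0 := by
    have : ((p : AlgInt) : AlgInt ⧸ M) = Ideal.Quotient.mk M (p : AlgInt) := rfl
    rw [← map_natCast (Ideal.Quotient.mk M) p]
    exact Ideal.Quotient.eq_zero_iff_mem.mpr hpM
  have hchar : CharP (AlgInt ⧸ M) p := (CharP.charP_iff_prime_eq_zero hp).mpr hp0
  have hdom : IsDomain (AlgInt ⧸ M) := (Ideal.Quotient.isDomain_iff_prime M).mpr hmax.isPrime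
  have h1 : (Ideal.Quotient.mk M e - 1) ^ (p ^ j) = 0 := by
    rw [sub_pow_char_pow_of_commute p j (Commute.all _ _), ← map_pow, he, map_one, one_pow, sub_self]
  have h2 : Ideal.Quotient.mk M (e - 1) = 0 := by
    rw [map_sub, map_one]
    exact pow_eq_zero_iff (pow_ne_zero j hp.ne_zero) |>.mp h1
  have h3 : e - 1 ∈ M := Ideal.Quotient.eq_zero_iff_mem.mp h2
  have := memLocalIdeal_of_mem hmax.ne_top h3
  simpa [e] using this

end Cfsg.Agent.Lib.Helper28
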