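import Mathlib
import Cfsg.Prelude.Def_Blocks
import Cfsg.Agent.Lib.Helper28.LocalIdeal

set_option autoImplicit false

/-!
# The local ring at a maximal ideal of the algebraic integers (helper28)
Closure properties of `MemLocalRing`, interplay with `MemLocalIdeal`.
-/

namespace Cfsg.Agent.Lib.Helper28

open Cfsg

variable {M : Ideal AlgInt}

theorem memLocalRing_of_isIntegral (hM : M ≠ ⊤) {z : ℂ} (hz : IsIntegral ℤ z) :
    MemLocalRing M z :=
  ⟨⟨z, hz⟩, 1, (Ideal.ne_top_iff_one M).mp hM, by simp⟩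

theorem memLocalRing_zero (hM : M ≠ ⊤) : MemLocalRing M 0 :=
  memLocalRing_of_isIntegral hM isIntegral_zero

theorem memLocalRing_one (hM : M ≠ ⊤) : MemLocalRing M 1 :=
  memLocalRing_of_isIntegral hM isIntegral_one

theorem memLocalRing_natCast (hM : M ≠ ⊤) (n : ℕ) : MemLocalRing M (n : ℂ) :=
  memLocalRing_of_isIntegral hM (by
    have h := isIntegral_algebraMap (R := ℤ) (A := ℂ) (x := (n : ℤ))
    simpa using h)

theorem memLocalRing_of_memLocalIdeal {z : ℂ} (hz : MemLocalIdeal M z) : MemLocalRing M z := by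
  obtain ⟨a, b, _, hb, h⟩ := hz
  exact ⟨a, b, hb, h⟩

theorem memLocalRing_add [M.IsPrime] {z w : ℂ} (hz : MemLocalRing M z)
    (hw : MemLocalRing M w) : MemLocalRing M (z + w) := by
  obtain ⟨a1, b1, hb1, rfl⟩ := hz
  obtain ⟨a2, b2, hb2, rfl⟩ := hw
  refine ⟨a1 * b2 + a2 * b1, b1 * b2,
    fun h => (Ideal.IsPrime.mem_or_mem ‹_› h).elim hb1 hb2, ?_⟩
  have h1 := algInt_coe_ne_zero_of_not_mem hb1
  have h2 := algInt_coe_ne_zero_of_not_mem hb2
  push_cast
  field_simp

theorem memLocalRing_mul [M.IsPrime] {z w : ℂ} (hz : MemLocalRing M z)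
    (hw : MemLocalRing M w) : MemLocalRing M (z * w) := by
  obtain ⟨a1, b1, hb1, rfl⟩ := hz
  obtain ⟨a2, b2, hb2, rfl⟩ := hw
  refine ⟨a1 * a2, b1 * b2,
    fun h => (Ideal.IsPrime.mem_or_mem ‹_› h).elim hb1 hb2, ?_⟩
  have h1 := algInt_coe_ne_zero_of_not_mem hb1
  have h2 := algInt_coe_ne_zero_of_not_mem hb2
  push_cast
  field_simp

theorem memLocalRing_neg {z : ℂ} (hz : MemLocalRing M z) : MemLocalRing M (-z) := by
  obtain ⟨a, b, hb, rfl⟩ := hz
  refine ⟨-a, b, hb, ?_⟩
  push_cast
  ring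

theorem memLocalRing_sub [M.IsPrime] {z w : ℂ} (hz : MemLocalRing M z)
    (hw : MemLocalRing M w) : MemLocalRing M (z - w) := by
  rw [sub_eq_add_neg]
  exact memLocalRing_add hz (memLocalRing_neg hw)

theorem memLocalRing_sum [M.IsPrime] {ι : Type*} (s : Finset ι) (f : ι → ℂ)
    (h : ∀ i ∈ s, MemLocalRing M (f i)) : MemLocalRing M (∑ i ∈ s, f i) := by
  classical
  induction s using Finset.induction_on with
  | empty =>
    rw [Finset.sum_empty]
    exact memLocalRing_zero (Ideal.IsPrime.ne_top ‹_›)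
  | insert i s hi ih =>
    rw [Finset.sum_insert hi]
    exact memLocalRing_add (h i (Finset.mem_insert_self i s))
      (ih (fun j hj => h j (Finset.mem_insert_of_mem hj)))

theorem memLocalRing_prod [M.IsPrime] {ι : Type*} (s : Finset ι) (f : ι → ℂ)
    (h : ∀ i ∈ s, MemLocalRing M (f i)) : MemLocalRing M (∏ i ∈ s, f i) := by
  classical
  induction s using Finset.induction_on with
  | empty =>
    rw [Finset.prod_empty]
    exact memLocalRing_one (Ideal.IsPrime.ne_top ‹_›)
  | insert i s hi ih =>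
    rw [Finset.prod_insert hi]
    exact memLocalRing_mul (h i (Finset.mem_insert_self i s))
      (ih (fun j hj => h j (Finset.mem_insert_of_mem hj)))

theorem memLocalRing_pow [M.IsPrime] {z : ℂ} (hz : MemLocalRing M z) (n : ℕ) :
    MemLocalRing M (z ^ n) := by
  induction n with
  | zero => rw [pow_zero]; exact memLocalRing_one (Ideal.IsPrime.ne_top ‹_›)
  | succ n ih => rw [pow_succ]; exact memLocalRing_mul ih hz

/-- local ring times local ideal is in the local ideal -/
theorem memLocalIdeal_mul_left [M.IsPrime] {z w : ℂ} (hz : MemLocalRing M z)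
    (hw : MemLocalIdeal M w) : MemLocalIdeal M (z * w) := by
  obtain ⟨a1, b1, hb1, rfl⟩ := hz
  obtain ⟨a2, b2, ha2, hb2, rfl⟩ := hw
  refine ⟨a1 * a2, b1 * b2, M.mul_mem_left _ ha2,
    fun h => (Ideal.IsPrime.mem_or_mem ‹_› h).elim hb1 hb2, ?_⟩
  have h1 := algInt_coe_ne_zero_of_not_mem hb1
  have h2 := algInt_coe_ne_zero_of_not_mem hb2
  push_cast
  field_simp

theorem memLocalIdeal_mul_right [M.IsPrime] {z w : ℂ} (hz : MemLocalIdeal M z)
    (hw : MemLocalRing M w) : MemLocalIdeal M (z * w) := by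
  rw [mul_comm]; exact memLocalIdeal_mul_left hw hz

theorem not_memLocalIdeal_one (hM : M ≠ ⊤) [M.IsPrime] : ¬ MemLocalIdeal M 1 := by
  intro h
  have h1 : (1 : AlgInt) ∈ M := by
    apply mem_of_memLocalIdeal
    simpa using h
  exact hM ((Ideal.eq_top_iff_one M).mpr h1)

/-- an element of the local ring outside the local ideal is a unit of the local ring -/
theorem memLocalRing_inv [M.IsPrime] {z : ℂ} (hz : MemLocalRing M z)
    (hz' : ¬ MemLocalIdeal M z) : MemLocalRing M z⁻¹ := by
  obtain ⟨a, b, hb, rfl⟩ := hz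
  have ha : a ∉ M := fun ha => hz' ⟨a, b, ha, hb, rfl⟩
  refine ⟨b, a, ha, ?_⟩
  rw [inv_div]

theorem memLocalRing_div [M.IsPrime] {z w : ℂ} (hz : MemLocalRing M z) (hw : MemLocalRing M w)
    (hw' : ¬ MemLocalIdeal M w) : MemLocalRing M (z / w) := by
  rw [div_eq_mul_inv]
  exact memLocalRing_mul hz (memLocalRing_inv hw hw')

/-- the product of two elements of the local ring outside the local ideal is outside it -/
theorem not_memLocalIdeal_mul [M.IsPrime] {z w : ℂ} (hz : MemLocalRing M z)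
    (hw : MemLocalRing M w) (hz' : ¬ MemLocalIdeal M z) (hw' : ¬ MemLocalIdeal M w) :
    ¬ MemLocalIdeal M (z * w) := by
  intro h
  apply hw'
  have h1 := memLocalIdeal_mul_left (memLocalRing_inv hz hz') h
  have hz0 : z ≠ 0 := by
    rintro rfl
    exact hz' (memLocalIdeal_zero (Ideal.IsPrime.ne_top ‹_›))
  rwa [← mul_assoc, inv_mul_cancel₀ hz0, one_mul] at h1

theorem not_memLocalIdeal_prod [M.IsPrime] {ι : Type*} (s : Finset ι) (f : ι → ℂ)
    (h : ∀ i ∈ s, MemLocalRing M (f i)) (h' : ∀ i ∈ s, ¬ MemLocalIdeal M (f i)) :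
    ¬ MemLocalIdeal M (∏ i ∈ s, f i) := by
  classical
  induction s using Finset.induction_on with
  | empty =>
    rw [Finset.prod_empty]
    exact not_memLocalIdeal_one (Ideal.IsPrime.ne_top ‹_›)
  | insert i s hi ih =>
    rw [Finset.prod_insert hi]
    exact not_memLocalIdeal_mul (h i (Finset.mem_insert_self i s))
      (memLocalRing_prod s f (fun j hj => h j (Finset.mem_insert_of_mem hj)))
      (h' i (Finset.mem_insert_self i s))
      (ih (fun j hj => h j (Finset.mem_insert_of_mem hj))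
        (fun j hj => h' j (Finset.mem_insert_of_mem hj)))

/-- a natural number prime to `p` is a unit of the local ring -/
theorem memLocalRing_inv_natCast {p : ℕ} (hM : IsPModular p M) {n : ℕ} (hn : n.Coprime p) :
    MemLocalRing M ((n : ℂ)⁻¹) := by
  have : M.IsPrime := hM.2.1.isPrime
  exact memLocalRing_inv (memLocalRing_natCast hM.2.1.ne_top n) (not_memLocalIdeal_natCast hM hn)

theorem memLocalIdeal_natCast_p {p : ℕ} (hM : IsPModular p M) : MemLocalIdeal M (p : ℂ) := by
  have := memLocalIdeal_of_mem hM.2.1.ne_top hM.2.2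
  simpa using this

end Cfsg.Agent.Lib.Helper28
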