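import Mathlib
import Cfsg.Prelude.Def_Blocks
import Cfsg.Agent.Lib.Helper4.CharIntegral
import Cfsg.Agent.Lib.Helper28.LocalRingB

set_option autoImplicit false

/-!
# Central characters of class functions and block idempotents (helper28)

`omegaF χ F = (∑ g, F g * χ g) / χ 1` is the value of the central character of `χ` on the
central element `∑ F g • g`.  Multiplicativity on convolution, Fourier inversion,
the values on `blockCoeff B`.
-/

namespace Cfsg.Agent.Lib.Helper28

open Cfsg Cfsg.Agent.Lib.Helper4
open scoped ComplexConjugate Classical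

section Basic

variable {G : Type*} [Group G] [Fintype G]

/-- central character of `χ` evaluated at the function `F` (viewed as `∑ F g • g`) -/
noncomputable def omegaF (χ F : G → ℂ) : ℂ := (∑ g, F g * χ g) / χ 1

theorem omegaF_add (χ F1 F2 : G → ℂ) : omegaF χ (F1 + F2) = omegaF χ F1 + omegaF χ F2 := by
  unfold omegaF
  simp only [Pi.add_apply, add_mul, Finset.sum_add_distrib, add_div]

theorem omegaF_smul (χ : G → ℂ) (c : ℂ) (F : G → ℂ) : omegaF χ (c • F) = c * omegaF χ F := by
  unfold omegaF
  simp only [Pi.smul_apply, smul_eq_mul, mul_assoc, ← Finset.mul_sum, mul_div_assoc]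

theorem omegaF_neg (χ F : G → ℂ) : omegaF χ (-F) = - omegaF χ F := by
  unfold omegaF
  simp only [Pi.neg_apply, neg_mul, Finset.sum_neg_distrib, neg_div]

theorem omegaF_sub (χ F1 F2 : G → ℂ) : omegaF χ (F1 - F2) = omegaF χ F1 - omegaF χ F2 := by
  rw [sub_eq_add_neg, omegaF_add, omegaF_neg, sub_eq_add_neg]

theorem omegaF_zero (χ : G → ℂ) : omegaF χ 0 = 0 := by
  unfold omegaF
  simp

theorem irr_one_ne_zero {χ : G → ℂ} (hχ : IsIrrCharacter G χ) : χ 1 ≠ 0 := by
  obtain ⟨n, ρ, hirr, rfl⟩ := hχ
  rw [Representation.char_one]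
  exact finrank_ne_zero_of_irreducible ρ hirr

theorem omegaF_conv {χ : G → ℂ} (hχ : IsIrrCharacter G χ) (F1 F2 : G → ℂ)
    (h1 : IsClassFunction G F1) (h2 : IsClassFunction G F2) :
    omegaF χ (conv F1 F2) = omegaF χ F1 * omegaF χ F2 := by
  obtain ⟨n, ρ, hirr, rfl⟩ := hχ
  have h := omegaC_conv ρ hirr F1 F2 h1 h2
  unfold omegaC at h
  unfold omegaF
  rw [Representation.char_one]
  exact h

/-- the indicator function of a group element -/
noncomputable def deltaF (x : G) : G → ℂ := fun g => if g = x then 1 else 0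

/-- the indicator function of the conjugacy class of `x` -/
noncomputable def classInd (x : G) : G → ℂ := fun g => if IsConj x g then 1 else 0

theorem isClassFunction_classInd (x : G) : IsClassFunction G (classInd x) := by
  intro g k
  show (if IsConj x (k * g * k⁻¹) then (1:ℂ) else 0) = if IsConj x g then 1 else 0
  have : IsConj x (k * g * k⁻¹) ↔ IsConj x g := by
    have hx : IsConj g (k * g * k⁻¹) := isConj_iff.mpr ⟨k, rfl⟩
    exact ⟨fun h1 => h1.trans hx.symm, fun h1 => h1.trans hx⟩
  simp only [this]

theorem isClassFunction_deltaF_one : IsClassFunction G (deltaF (1 : G)) := by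
  intro g k
  show (if k * g * k⁻¹ = 1 then (1:ℂ) else 0) = if g = 1 then 1 else 0
  have : k * g * k⁻¹ = 1 ↔ g = 1 := by
    constructor
    · intro h
      have : g = k⁻¹ * (k * g * k⁻¹) * k := by group
      rw [this, h]; group
    · rintro rfl; group
  simp only [this]

theorem omegaF_deltaF_one {χ : G → ℂ} (hχ : χ 1 ≠ 0) : omegaF χ (deltaF 1) = 1 := by
  unfold omegaF deltaF
  simp only [ite_mul, one_mul, zero_mul, Finset.sum_ite_eq', Finset.mem_univ, if_true]
  exact div_self hχ

theorem omegaF_classInd {χ : G → ℂ} (hχ : IsClassFunction G χ) (x : G) :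
    omegaF χ (classInd x) = centralChar χ x := by
  unfold omegaF classInd centralChar
  congr 1
  have h3 : ∀ g : G, (if IsConj x g then (1:ℂ) else 0) * χ g =
      if IsConj x g then χ x else 0 := by
    intro g
    by_cases hg : IsConj x g
    · simp only [if_pos hg, one_mul]
      exact (char_eq_of_isConj hχ hg).symm
    · simp only [if_neg hg, zero_mul]
  simp only [h3]
  have hc : (Finset.univ.filter (fun g => IsConj x g)).card =
      (Subgroup.centralizer ({x} : Set G)).index := by
    rw [← ncard_conj_eq_index, Set.ncard_eq_toFinset_card']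
    congr 1
    ext g
    simp
  rw [Finset.sum_ite, Finset.sum_const_zero, add_zero, Finset.sum_const, nsmul_eq_mul, hc]

theorem isClassFunction_add {F1 F2 : G → ℂ} (h1 : IsClassFunction G F1)
    (h2 : IsClassFunction G F2) : IsClassFunction G (F1 + F2) := by
  intro g k
  simp only [Pi.add_apply, h1 g k, h2 g k]

theorem isClassFunction_smul {F : G → ℂ} (c : ℂ) (h : IsClassFunction G F) :
    IsClassFunction G (c • F) := by
  intro g k
  simp only [Pi.smul_apply, h g k]

theorem isClassFunction_sub {F1 F2 : G → ℂ} (h1 : IsClassFunction G F1)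
    (h2 : IsClassFunction G F2) : IsClassFunction G (F1 - F2) := by
  intro g k
  simp only [Pi.sub_apply, h1 g k, h2 g k]

theorem isClassFunction_conv {F1 F2 : G → ℂ} (h1 : IsClassFunction G F1)
    (h2 : IsClassFunction G F2) : IsClassFunction G (conv F1 F2) :=
  isConjInv_conv (f1 := F1) (f2 := F2) h1 h2

/-- the central character value of an irreducible character is an algebraic integer -/
theorem isIntegral_centralChar {χ : G → ℂ} (hχ : IsIrrCharacter G χ) (x : G) :
    IsIntegral ℤ (centralChar χ x) := by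
  obtain ⟨n, ρ, hirr, rfl⟩ := hχ
  have h := class_mul_char_div_degree_isIntegral ρ hirr x
  unfold centralChar
  rw [Representation.char_one]
  convert h using 3

/-- `ω_χ(F) = ∑_K F(x_K) ω_χ(K)`, the sum over the conjugacy classes -/
theorem omegaF_eq_sum_classes {χ : G → ℂ} (hχ : IsClassFunction G χ) (F : G → ℂ)
    (hF : IsClassFunction G F) [Fintype (ConjClasses G)] :
    omegaF χ F = ∑ C : ConjClasses G, F (Quotient.out C) * centralChar χ (Quotient.out C) := by
  unfold omegaF
  have hFχ : IsClassFunction G (fun g => F g * χ g) := by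
    intro g k
    simp only [hF g k, hχ g k]
  rw [sum_eq_sum_classes _ hFχ, Finset.sum_div]
  refine Finset.sum_congr rfl fun C _ => ?_
  unfold centralChar
  ring

theorem omegaF_isIntegral {χ : G → ℂ} (hχ : IsIrrCharacter G χ) (F : G → ℂ)
    (hF : IsClassFunction G F) (hFi : ∀ g, IsIntegral ℤ (F g)) : IsIntegral ℤ (omegaF χ F) := by
  have : Fintype (ConjClasses G) := Fintype.ofFinite _
  rw [omegaF_eq_sum_classes (isClassFunction_of_isIrrCharacter hχ) F hF]
  exact IsIntegral.sum _ fun C _ => (hFi _).mul (isIntegral_centralChar hχ _)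

theorem conv_isIntegral {F1 F2 : G → ℂ} (h1 : ∀ g, IsIntegral ℤ (F1 g))
    (h2 : ∀ g, IsIntegral ℤ (F2 g)) (x : G) : IsIntegral ℤ (conv F1 F2 x) :=
  IsIntegral.sum _ fun g _ => (h1 g).mul (h2 _)

theorem deltaF_isIntegral (x g : G) : IsIntegral ℤ (deltaF x g) := by
  unfold deltaF
  split_ifs
  · exact isIntegral_one
  · exact isIntegral_zero

theorem classInd_isIntegral (x g : G) : IsIntegral ℤ (classInd x g) := by
  unfold classInd
  split_ifs
  · exact isIntegral_one
  · exact isIntegral_zero

/-- Fourier inversion on the centre of the group algebra -/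
theorem fourier_inversion [Fintype (IrrCharacter G)] (F : G → ℂ) (hF : IsClassFunction G F)
    (x : G) :
    F x = (Nat.card G : ℂ)⁻¹ *
      ∑ χ : IrrCharacter G, omegaF (χ : G → ℂ) F * ((χ : G → ℂ) 1 * conj ((χ : G → ℂ) x)) := by
  have h1 : ∀ χ : IrrCharacter G, omegaF (χ : G → ℂ) F * ((χ : G → ℂ) 1 * conj ((χ : G → ℂ) x)) =
      ∑ g, F g * ((χ : G → ℂ) g * conj ((χ : G → ℂ) x)) := by
    intro χ
    unfold omegaF
    have := irr_one_ne_zero χ.2
    have e1 : (∑ g, F g * (χ : G → ℂ) g) / (χ : G → ℂ) 1 *
        ((χ : G → ℂ) 1 * conj ((χ : G → ℂ) x)) =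
        (∑ g, F g * (χ : G → ℂ) g) * conj ((χ : G → ℂ) x) := by
      field_simp
    rw [e1, Finset.sum_mul]
    refine Finset.sum_congr rfl fun g _ => by ring
  simp only [h1]
  rw [Finset.sum_comm]
  simp only [← Finset.mul_sum, column_orthogonality]
  have h2 : ∀ g : G, F g * (if IsConj g x then
      (Nat.card (Subgroup.centralizer ({g} : Set G)) : ℂ) else 0) =
      if IsConj x g then F x * (Nat.card (Subgroup.centralizer ({x} : Set G)) : ℂ) else 0 := by
    intro g
    by_cases hg : IsConj x g
    · rw [if_pos hg, if_pos hg.symm, char_eq_of_isConj hF hg]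
      congr 2
      obtain ⟨c, hc⟩ := isConj_iff.mp hg
      have : Subgroup.centralizer ({g} : Set G) =
          (Subgroup.centralizer ({x} : Set G)).map (MulAut.conj c).toMonoidHom := by
        ext y
        simp only [Subgroup.mem_centralizer_iff, Set.mem_singleton_iff, forall_eq,
          Subgroup.mem_map, MulEquiv.coe_toMonoidHom, MulAut.conj_apply]
        constructor
        · intro hy
          refine ⟨c⁻¹ * y * c, ?_, by group⟩
          rw [← hc] at hy
          have h3 : c⁻¹ * (c * x * c⁻¹ * y) * c = c⁻¹ * (y * (c * x * c⁻¹)) * c := by rw [hy]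
          have h4 : c⁻¹ * (c * x * c⁻¹ * y) * c = x * (c⁻¹ * y * c) := by group
          have h5 : c⁻¹ * (y * (c * x * c⁻¹)) * c = c⁻¹ * y * c * x := by group
          rw [← h4, ← h5, h3]
        · rintro ⟨z, hz, rfl⟩
          rw [← hc]
          have h4 : c * x * c⁻¹ * (c * z * c⁻¹) = c * (x * z) * c⁻¹ := by group
          have h5 : c * z * c⁻¹ * (c * x * c⁻¹) = c * (z * x) * c⁻¹ := by group
          rw [h4, h5, hz]
      rw [this]
      exact Nat.card_congr
        ((MulAut.conj c).subgroupMap (Subgroup.centralizer ({x} : Set G))).toEquiv.symm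
    · rw [if_neg hg, if_neg (fun h => hg h.symm), mul_zero]
  simp only [h2]
  have hc : (Finset.univ.filter (fun g => IsConj x g)).card =
      (Subgroup.centralizer ({x} : Set G)).index := by
    rw [← ncard_conj_eq_index, Set.ncard_eq_toFinset_card']
    congr 1
    ext g
    simp
  rw [Finset.sum_ite, Finset.sum_const_zero, add_zero, Finset.sum_const, nsmul_eq_mul, hc]
  have hG : (Nat.card G : ℂ) ≠ 0 := card_ne_zero_complex
  have hidx := Subgroup.index_mul_card (Subgroup.centralizer ({x} : Set G))
  have hidx' : ((Subgroup.centralizer ({x} : Set G)).index : ℂ) *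
      (Nat.card (Subgroup.centralizer ({x} : Set G)) : ℂ) = (Nat.card G : ℂ) := by
    rw [← Nat.cast_mul, hidx]
  have e2 : ((Subgroup.centralizer ({x} : Set G)).index : ℂ) *
      (F x * (Nat.card (Subgroup.centralizer ({x} : Set G)) : ℂ)) = F x * (Nat.card G : ℂ) := by
    rw [← hidx']; ring
  rw [e2, mul_comm (F x), ← mul_assoc, inv_mul_cancel₀ hG, one_mul]

end Basic

end Cfsg.Agent.Lib.Helper28
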