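import Mathlib
import Cfsg.Prelude.Def_Blocks
import Cfsg.Agent.Lib.Helper28.BlockIdem

set_option autoImplicit false

/-!
# Osima's theorem on block idempotents (helper28)
-/

namespace Cfsg.Agent.Lib.Helper28

open Cfsg Cfsg.Agent.Lib.Helper4
open scoped ComplexConjugate Classical

section Block

variable {G : Type*} [Group G] [Fintype G] {M : Ideal AlgInt}

theorem blockCoeff_eq_sum [Fintype (IrrCharacter G)] (B : Set (IrrCharacter G)) (g : G) :
    blockCoeff B g = (Nat.card G : ℂ)⁻¹ * ∑ χ : IrrCharacter G,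
      if χ ∈ B then (χ : G → ℂ) 1 * conj ((χ : G → ℂ) g) else 0 := by
  unfold blockCoeff
  congr 1
  rw [finsum_mem_def, finsum_eq_sum_of_fintype]
  refine Finset.sum_congr rfl fun χ _ => ?_
  rw [Set.indicator_apply]

theorem isClassFunction_blockCoeff (B : Set (IrrCharacter G)) :
    IsClassFunction G (blockCoeff B) := by
  have : Fintype (IrrCharacter G) := Fintype.ofFinite _
  intro g k
  rw [blockCoeff_eq_sum, blockCoeff_eq_sum]
  congr 1
  refine Finset.sum_congr rfl fun χ _ => ?_
  rw [isClassFunction_of_isIrrCharacter χ.2 g k]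

theorem omegaF_blockCoeff (B : Set (IrrCharacter G)) (ψ : IrrCharacter G) :
    omegaF (ψ : G → ℂ) (blockCoeff B) = if ψ ∈ B then 1 else 0 := by
  have : Fintype (IrrCharacter G) := Fintype.ofFinite _
  have hψ1 := irr_one_ne_zero ψ.2
  unfold omegaF
  have h1 : ∑ g, blockCoeff B g * (ψ : G → ℂ) g =
      ∑ χ : IrrCharacter G, if χ ∈ B then (χ : G → ℂ) 1 * classInner (ψ : G → ℂ) (χ : G → ℂ)
        else 0 := by
    simp only [blockCoeff_eq_sum, Finset.mul_sum, Finset.sum_mul]
    rw [Finset.sum_comm]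
    refine Finset.sum_congr rfl fun χ _ => ?_
    by_cases hχ : χ ∈ B
    · simp only [if_pos hχ]
      unfold classInner
      rw [Finset.mul_sum, Finset.mul_sum]
      refine Finset.sum_congr rfl fun g _ => by ring
    · simp only [if_neg hχ, mul_zero, zero_mul, Finset.sum_const_zero]
  rw [h1]
  simp only [classInner_irr, mul_ite, mul_one, mul_zero]
  by_cases hψ : ψ ∈ B
  · rw [if_pos hψ]
    have : ∀ χ : IrrCharacter G, (if χ ∈ B then if ψ = χ then (χ : G → ℂ) 1 else 0 else 0) =
        if ψ = χ then (ψ : G → ℂ) 1 else 0 := by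
      intro χ
      by_cases h : ψ = χ
      · subst h; simp [hψ]
      · simp [h]
    simp only [this, Finset.sum_ite_eq, Finset.mem_univ, if_true]
    exact div_self hψ1
  · rw [if_neg hψ]
    have : ∀ χ : IrrCharacter G, (if χ ∈ B then if ψ = χ then (χ : G → ℂ) 1 else 0 else 0) =
        0 := by
      intro χ
      by_cases h : ψ = χ
      · subst h; simp [hψ]
      · simp [h]
    simp only [this, Finset.sum_const_zero, zero_div]

theorem sameBlock_refl (hM : M ≠ ⊤) (χ : G → ℂ) : SameBlock M χ χ := by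
  intro g
  rw [sub_self]
  exact memLocalIdeal_zero hM

theorem sameBlock_symm {χ ψ : G → ℂ} (h : SameBlock M χ ψ) : SameBlock M ψ χ := by
  intro g
  have := memLocalIdeal_neg (h g)
  rwa [neg_sub] at this

theorem sameBlock_trans [M.IsPrime] {χ ψ φ : G → ℂ} (h1 : SameBlock M χ ψ)
    (h2 : SameBlock M ψ φ) : SameBlock M χ φ := by
  intro g
  have := memLocalIdeal_add (h1 g) (h2 g)
  rwa [sub_add_sub_cancel] at this

theorem mem_block_iff [M.IsPrime] {B : Set (IrrCharacter G)} (hB : IsPBlock M B)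
    {χ : IrrCharacter G} (hχ : χ ∈ B) (ψ : IrrCharacter G) :
    ψ ∈ B ↔ SameBlock M (χ : G → ℂ) (ψ : G → ℂ) := by
  obtain ⟨χ0, rfl⟩ := hB
  have h0 : SameBlock M (χ0 : G → ℂ) (χ : G → ℂ) := hχ
  constructor
  · intro hψ
    exact sameBlock_trans (sameBlock_symm h0) hψ
  · intro hψ
    exact sameBlock_trans h0 hψ

theorem block_nonempty [M.IsPrime] {B : Set (IrrCharacter G)} (hB : IsPBlock M B) :
    ∃ χ : IrrCharacter G, χ ∈ B := by
  obtain ⟨χ0, rfl⟩ := hB
  exact ⟨χ0, sameBlock_refl (Ideal.IsPrime.ne_top ‹_›) _⟩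

/-- for a class function with values in the local ring, the central characters of two
characters in the same block agree modulo the local ideal -/
theorem omegaF_sub_memLocalIdeal [M.IsPrime] {χ ψ : G → ℂ} (hχ : IsClassFunction G χ)
    (hψ : IsClassFunction G ψ) (h : SameBlock M χ ψ) (F : G → ℂ) (hF : IsClassFunction G F)
    (hFS : ∀ g, MemLocalRing M (F g)) : MemLocalIdeal M (omegaF χ F - omegaF ψ F) := by
  have : Fintype (ConjClasses G) := Fintype.ofFinite _
  rw [omegaF_eq_sum_classes hχ F hF, omegaF_eq_sum_classes hψ F hF, ← Finset.sum_sub_distrib]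
  apply memLocalIdeal_sum
  intro C _
  rw [← mul_sub]
  exact memLocalIdeal_mul_left (hFS _) (h _)

theorem omegaF_memLocalRing [M.IsPrime] {χ : G → ℂ} (hχ : IsIrrCharacter G χ)
    (F : G → ℂ) (hF : IsClassFunction G F)
    (hFS : ∀ g, MemLocalRing M (F g)) : MemLocalRing M (omegaF χ F) := by
  have : Fintype (ConjClasses G) := Fintype.ofFinite _
  rw [omegaF_eq_sum_classes (isClassFunction_of_isIrrCharacter hχ) F hF]
  apply memLocalRing_sum
  intro C _
  exact memLocalRing_mul (hFS _)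
    (memLocalRing_of_isIntegral (Ideal.IsPrime.ne_top ‹_›) (isIntegral_centralChar hχ _))

/-- separation: a finite set of irreducible characters outside the block `B` can be killed by
an integral central element on which `B` is a unit -/
theorem exists_separator [M.IsPrime] {B : Set (IrrCharacter G)} (hB : IsPBlock M B)
    (T : Finset (IrrCharacter G)) (hT : ∀ ψ ∈ T, ψ ∉ B) :
    ∃ a : G → ℂ, IsClassFunction G a ∧ (∀ g, IsIntegral ℤ (a g)) ∧
      (∀ ψ ∈ T, omegaF (ψ : G → ℂ) a = 0) ∧
      ∀ χ ∈ B, ¬ MemLocalIdeal M (omegaF (χ : G → ℂ) a) := by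
  have hMtop : M ≠ ⊤ := Ideal.IsPrime.ne_top ‹_›
  induction T using Finset.induction_on with
  | empty =>
    refine ⟨deltaF 1, isClassFunction_deltaF_one, deltaF_isIntegral 1, by simp, ?_⟩
    intro χ _
    rw [omegaF_deltaF_one (irr_one_ne_zero χ.2)]
    exact not_memLocalIdeal_one hMtop
  | insert ψ T hψT ih =>
    obtain ⟨a, ha1, ha2, ha3, ha4⟩ := ih (fun φ hφ => hT φ (Finset.mem_insert_of_mem hφ))
    have hψB : ψ ∉ B := hT ψ (Finset.mem_insert_self ψ T)
    obtain ⟨χ0, hχ0⟩ := block_nonempty hB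
    have hns : ¬ SameBlock M (χ0 : G → ℂ) (ψ : G → ℂ) := fun h =>
      hψB ((mem_block_iff hB hχ0 ψ).mpr h)
    unfold SameBlock at hns
    push Not at hns
    obtain ⟨g, hg⟩ := hns
    set c : ℂ := centralChar (ψ : G → ℂ) g with hc
    have hcint : IsIntegral ℤ c := isIntegral_centralChar ψ.2 g
    let b : G → ℂ := classInd g - c • deltaF 1
    have hb1 : IsClassFunction G b :=
      isClassFunction_sub (isClassFunction_classInd g)
        (isClassFunction_smul c isClassFunction_deltaF_one)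
    have hb2 : ∀ x, IsIntegral ℤ (b x) := by
      intro x
      show IsIntegral ℤ (classInd g x - c • deltaF 1 x)
      exact (classInd_isIntegral g x).sub (by
        rw [smul_eq_mul]; exact hcint.mul (deltaF_isIntegral 1 x))
    have hb3 : ∀ φ : IrrCharacter G, omegaF (φ : G → ℂ) b = centralChar (φ : G → ℂ) g - c := by
      intro φ
      show omegaF (φ : G → ℂ) (classInd g - c • deltaF 1) = _
      rw [omegaF_sub, omegaF_smul, omegaF_classInd (isClassFunction_of_isIrrCharacter φ.2),
        omegaF_deltaF_one (irr_one_ne_zero φ.2), mul_one]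
    refine ⟨conv a b, isClassFunction_conv ha1 hb1, conv_isIntegral ha2 hb2, ?_, ?_⟩
    · intro φ hφ
      rw [omegaF_conv φ.2 a b ha1 hb1]
      rcases Finset.mem_insert.mp hφ with rfl | hφ
      · rw [hb3, hc, sub_self, mul_zero]
      · rw [ha3 φ hφ, zero_mul]
    · intro χ hχ
      rw [omegaF_conv χ.2 a b ha1 hb1, hb3]
      have h1 : SameBlock M (χ0 : G → ℂ) (χ : G → ℂ) := (mem_block_iff hB hχ0 χ).mp hχ
      have h2 : ¬ MemLocalIdeal M (centralChar (χ : G → ℂ) g - c) := by
        intro h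
        apply hg
        have := memLocalIdeal_add (h1 g) h
        rwa [sub_add_sub_cancel] at this
      exact not_memLocalIdeal_mul
        (memLocalRing_of_isIntegral hMtop (omegaF_isIntegral χ.2 a ha1 ha2))
        (memLocalRing_of_isIntegral hMtop ((isIntegral_centralChar χ.2 g).sub hcint))
        (ha4 χ hχ) h2

/-- polynomial in a central element: for a finite family of scalars `c i`, there is a central
element whose central characters are `∏ i, (ω(a) - c i)` -/
theorem exists_prod_sub {ι : Type*} (U : Finset ι) (c : ι → ℂ) (hc : ∀ i ∈ U, IsIntegral ℤ (c i))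
    (a : G → ℂ) (ha1 : IsClassFunction G a) (ha2 : ∀ g, IsIntegral ℤ (a g)) :
    ∃ F : G → ℂ, IsClassFunction G F ∧ (∀ g, IsIntegral ℤ (F g)) ∧
      ∀ ψ : IrrCharacter G, omegaF (ψ : G → ℂ) F = ∏ i ∈ U, (omegaF (ψ : G → ℂ) a - c i) := by
  induction U using Finset.induction_on with
  | empty =>
    refine ⟨deltaF 1, isClassFunction_deltaF_one, deltaF_isIntegral 1, ?_⟩
    intro ψ
    rw [omegaF_deltaF_one (irr_one_ne_zero ψ.2), Finset.prod_empty]
  | insert i U hi ih =>
    obtain ⟨F, hF1, hF2, hF3⟩ := ih (fun j hj => hc j (Finset.mem_insert_of_mem hj))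
    have hci := hc i (Finset.mem_insert_self i U)
    let b : G → ℂ := a - c i • deltaF 1
    have hb1 : IsClassFunction G b :=
      isClassFunction_sub ha1 (isClassFunction_smul (c i) isClassFunction_deltaF_one)
    have hb2 : ∀ x, IsIntegral ℤ (b x) := by
      intro x
      show IsIntegral ℤ (a x - c i • deltaF 1 x)
      exact (ha2 x).sub (by rw [smul_eq_mul]; exact hci.mul (deltaF_isIntegral 1 x))
    refine ⟨conv b F, isClassFunction_conv hb1 hF1, conv_isIntegral hb2 hF2, ?_⟩
    intro ψ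
    rw [omegaF_conv ψ.2 b F hb1 hF1, hF3, Finset.prod_insert hi]
    congr 1
    show omegaF (ψ : G → ℂ) (a - c i • deltaF 1) = _
    rw [omegaF_sub, omegaF_smul, omegaF_deltaF_one (irr_one_ne_zero ψ.2), mul_one]

/-- **Osima's theorem**, integral form: some algebraic integer `c0 ∉ M` makes
`c0 * blockCoeff B g` an algebraic integer for every `g` -/
theorem osima_integral [M.IsPrime] {B : Set (IrrCharacter G)} (hB : IsPBlock M B) :
    ∃ c0 : ℂ, IsIntegral ℤ c0 ∧ ¬ MemLocalIdeal M c0 ∧
      ∀ g, IsIntegral ℤ (c0 * blockCoeff B g) := by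
  have : Fintype (IrrCharacter G) := Fintype.ofFinite _
  have hMtop : M ≠ ⊤ := Ideal.IsPrime.ne_top ‹_›
  obtain ⟨a, ha1, ha2, ha3, ha4⟩ := exists_separator hB
    (Finset.univ.filter (fun ψ : IrrCharacter G => ψ ∉ B))
    (fun ψ hψ => (Finset.mem_filter.mp hψ).2)
  let U : Finset (IrrCharacter G) := Finset.univ.filter (fun χ => χ ∈ B)
  let v : IrrCharacter G → ℂ := fun χ => omegaF (χ : G → ℂ) a
  have hv : ∀ χ, IsIntegral ℤ (v χ) := fun χ => omegaF_isIntegral χ.2 a ha1 ha2
  obtain ⟨F, hF1, hF2, hF3⟩ := exists_prod_sub U v (fun χ _ => hv χ) a ha1 ha2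
  let c0 : ℂ := ∏ χ ∈ U, (0 - v χ)
  have hc0int : IsIntegral ℤ c0 := IsIntegral.prod _ fun χ _ => isIntegral_zero.sub (hv χ)
  have hc0 : ¬ MemLocalIdeal M c0 := by
    apply not_memLocalIdeal_prod
    · intro χ _
      exact memLocalRing_of_isIntegral hMtop (isIntegral_zero.sub (hv χ))
    · intro χ hχ h
      have hχB : χ ∈ B := (Finset.mem_filter.mp hχ).2
      apply ha4 χ hχB
      have := memLocalIdeal_neg h
      simpa [v] using this
  let Z : G → ℂ := c0 • deltaF 1 - F
  have hZ1 : IsClassFunction G Z :=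
    isClassFunction_sub (isClassFunction_smul c0 isClassFunction_deltaF_one) hF1
  have hZ2 : ∀ x, IsIntegral ℤ (Z x) := by
    intro x
    show IsIntegral ℤ (c0 • deltaF 1 x - F x)
    exact (by rw [smul_eq_mul]; exact hc0int.mul (deltaF_isIntegral 1 x) :
      IsIntegral ℤ (c0 • deltaF 1 x)).sub (hF2 x)
  have hZ3 : ∀ ψ : IrrCharacter G, omegaF (ψ : G → ℂ) Z = if ψ ∈ B then c0 else 0 := by
    intro ψ
    show omegaF (ψ : G → ℂ) (c0 • deltaF 1 - F) = _
    rw [omegaF_sub, omegaF_smul, omegaF_deltaF_one (irr_one_ne_zero ψ.2), mul_one, hF3]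
    by_cases hψ : ψ ∈ B
    · rw [if_pos hψ]
      have : ∏ i ∈ U, (omegaF (ψ : G → ℂ) a - v i) = 0 := by
        apply Finset.prod_eq_zero (i := ψ) (Finset.mem_filter.mpr ⟨Finset.mem_univ _, hψ⟩)
        exact sub_self _
      rw [this, sub_zero]
    · rw [if_neg hψ, ha3 ψ (Finset.mem_filter.mpr ⟨Finset.mem_univ _, hψ⟩), sub_self]
  refine ⟨c0, hc0int, hc0, ?_⟩
  intro g
  have h1 := fourier_inversion Z hZ1 g
  have h2 : c0 * blockCoeff B g = Z g := by
    rw [h1, blockCoeff_eq_sum, ← mul_assoc, mul_comm c0, mul_assoc, Finset.mul_sum]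
    congr 1
    refine Finset.sum_congr rfl fun χ _ => ?_
    rw [hZ3]
    by_cases hχ : χ ∈ B
    · simp only [if_pos hχ]
    · simp only [if_neg hχ, mul_zero, zero_mul]
  rw [h2]
  exact hZ2 g

/-- **Osima's theorem** -/
theorem osima [M.IsPrime] {B : Set (IrrCharacter G)} (hB : IsPBlock M B) (g : G) :
    MemLocalRing M (blockCoeff B g) := by
  obtain ⟨c0, h1, h2, h3⟩ := osima_integral hB
  have hc00 : c0 ≠ 0 := by
    rintro rfl
    exact h2 (memLocalIdeal_zero (Ideal.IsPrime.ne_top ‹_›))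
  refine ⟨⟨c0 * blockCoeff B g, h3 g⟩, ⟨c0, h1⟩, ?_, ?_⟩
  · intro h
    exact h2 (memLocalIdeal_of_mem (Ideal.IsPrime.ne_top ‹_›) h)
  · show c0 * blockCoeff B g / c0 = blockCoeff B g
    field_simp

end Block

end Cfsg.Agent.Lib.Helper28
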