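import Mathlib

set_option autoImplicit false

/-!
# Necklace counting, part A (helper28)
Sums of rotation-invariant functions over tuples.
-/

namespace Cfsg.Agent.Lib.Helper28

open Function

/-- a function invariant under a permutation all of whose orbits (on an invariant finset)
have exactly `n` elements has sum divisible by `n` -/
theorem sum_eq_nsmul_of_minimalPeriod {X : Type*} [DecidableEq X] {N : Type*} [AddCommMonoid N]
    (ρ : Equiv.Perm X) (n : ℕ) (hn : 0 < n) (f : X → N) (hf : ∀ x, f (ρ x) = f x) :
    ∀ (s : Finset X), (∀ x, ρ x ∈ s ↔ x ∈ s) → (∀ x ∈ s, minimalPeriod ρ x = n) →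
      ∃ y : N, ∑ x ∈ s, f x = n • y := by
  intro s
  induction s using Finset.strongInduction with
  | H s ih =>
    intro hs hper
    by_cases hse : s = ∅
    · subst hse
      exact ⟨0, by simp⟩
    obtain ⟨x, hx⟩ := Finset.nonempty_iff_ne_empty.mpr hse
    have hmp : minimalPeriod ρ x = n := hper x hx
    let O : Finset X := (Finset.range n).image (fun k => ρ^[k] x)
    have hiter_mem : ∀ k : ℕ, ρ^[k] x ∈ s := by
      intro k
      induction k with
      | zero => simpa using hx
      | succ k ihk =>
        rw [Function.iterate_succ_apply']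
        exact (hs _).mpr ihk
    have hf_iter : ∀ k : ℕ, f (ρ^[k] x) = f x := by
      intro k
      induction k with
      | zero => rfl
      | succ k ihk => rw [Function.iterate_succ_apply', hf, ihk]
    have hO_mem : ∀ y, y ∈ O ↔ ∃ k : ℕ, ρ^[k] x = y := by
      intro y
      constructor
      · intro hy
        obtain ⟨k, _, hk⟩ := Finset.mem_image.mp hy
        exact ⟨k, hk⟩
      · rintro ⟨k, rfl⟩
        refine Finset.mem_image.mpr ⟨k % n, Finset.mem_range.mpr (Nat.mod_lt _ hn), ?_⟩
        show ρ^[k % n] x = ρ^[k] x
        rw [← hmp]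
        exact iterate_mod_minimalPeriod_eq
    have hOs : O ⊆ s := by
      intro y hy
      obtain ⟨k, rfl⟩ := (hO_mem y).mp hy
      exact hiter_mem k
    have hxO : x ∈ O := (hO_mem x).mpr ⟨0, rfl⟩
    have hOinv : ∀ y, ρ y ∈ O ↔ y ∈ O := by
      intro y
      constructor
      · intro hy
        obtain ⟨k, hk⟩ := (hO_mem _).mp hy
        rcases Nat.eq_zero_or_pos k with rfl | hkpos
        · -- ρ y = x = ρ^[n] x
          have h1 : ρ^[n] x = x := by
            have := isPeriodicPt_minimalPeriod ρ x
            rw [hmp] at this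
            exact this
          obtain ⟨m, rfl⟩ : ∃ m, n = m + 1 := ⟨n - 1, by omega⟩
          rw [Function.iterate_succ_apply'] at h1
          have h2 : ρ (ρ^[m] x) = ρ y := by rw [h1]; exact hk
          exact (hO_mem y).mpr ⟨m, ρ.injective h2⟩
        · obtain ⟨m, rfl⟩ : ∃ m, k = m + 1 := ⟨k - 1, by omega⟩
          rw [Function.iterate_succ_apply'] at hk
          exact (hO_mem y).mpr ⟨m, ρ.injective hk⟩
      · intro hy
        obtain ⟨k, rfl⟩ := (hO_mem y).mp hy
        refine (hO_mem _).mpr ⟨k + 1, ?_⟩
        rw [Function.iterate_succ_apply']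
    have hsumO : ∑ y ∈ O, f y = n • f x := by
      have hinj : Set.InjOn (fun k => ρ^[k] x) (Finset.range n : Set ℕ) := by
        intro a ha b hb hab
        have := iterate_injOn_Iio_minimalPeriod (f := ρ) (x := x)
        rw [hmp] at this
        apply this
        · simpa using ha
        · simpa using hb
        · exact hab
      rw [Finset.sum_image hinj]
      simp only [hf_iter, Finset.sum_const, Finset.card_range]
    have hlt : s \ O ⊂ s := by
      refine Finset.ssubset_iff_subset_ne.mpr ⟨Finset.sdiff_subset, ?_⟩
      intro h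
      have : x ∈ s \ O := by rw [h]; exact hx
      exact (Finset.mem_sdiff.mp this).2 hxO
    obtain ⟨y, hy⟩ := ih (s \ O) hlt
      (by
        intro z
        simp only [Finset.mem_sdiff, hs z, hOinv z])
      (by
        intro z hz
        exact hper z (Finset.mem_sdiff.mp hz).1)
    refine ⟨f x + y, ?_⟩
    rw [← Finset.sum_sdiff hOs, hy, hsumO, smul_add, add_comm]

end Cfsg.Agent.Lib.Helper28
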