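import Mathlib
import Cfsg.Agent.Lib.Helper28.NecklaceA

set_option autoImplicit false

/-!
# Necklace counting, part B (helper28)
Cyclic shifts of tuples; periodic tuples; the rotation sum lemma.
-/

namespace Cfsg.Agent.Lib.Helper28

open Function

variable {I : Type*}

/-- cyclic shift of a tuple by `k` -/
def shiftF {n : ℕ} (hn : 0 < n) (k : ℕ) (t : Fin n → I) : Fin n → I :=
  fun i => t ⟨(i.val + k) % n, Nat.mod_lt _ hn⟩

theorem shiftF_zero {n : ℕ} (hn : 0 < n) (t : Fin n → I) : shiftF hn 0 t = t := by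
  ext i
  unfold shiftF
  congr 1
  apply Fin.ext
  simp [Nat.mod_eq_of_lt i.isLt]

theorem shiftF_shiftF {n : ℕ} (hn : 0 < n) (k l : ℕ) (t : Fin n → I) :
    shiftF hn k (shiftF hn l t) = shiftF hn (k + l) t := by
  ext i
  unfold shiftF
  congr 1
  apply Fin.ext
  simp only [Nat.mod_add_mod, add_assoc]

theorem shiftF_self {n : ℕ} (hn : 0 < n) (t : Fin n → I) : shiftF hn n t = t := by
  ext i
  unfold shiftF
  congr 1
  apply Fin.ext
  simp [Nat.mod_eq_of_lt i.isLt]

/-- the rotation as a permutation of tuples -/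
def rotE {n : ℕ} (hn : 0 < n) : Equiv.Perm (Fin n → I) where
  toFun := shiftF hn 1
  invFun := shiftF hn (n - 1)
  left_inv t := by
    rw [shiftF_shiftF, show n - 1 + 1 = n by omega, shiftF_self]
  right_inv t := by
    rw [shiftF_shiftF, show 1 + (n - 1) = n by omega, shiftF_self]

theorem rotE_apply {n : ℕ} (hn : 0 < n) (t : Fin n → I) : rotE hn t = shiftF hn 1 t := rfl

theorem rotE_iterate {n : ℕ} (hn : 0 < n) (k : ℕ) (t : Fin n → I) :
    (rotE hn)^[k] t = shiftF hn k t := by
  induction k with
  | zero => rw [Function.iterate_zero, id_eq, shiftF_zero]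
  | succ k ih =>
    rw [Function.iterate_succ_apply', ih, rotE_apply, shiftF_shiftF, add_comm]

theorem ofFn_shiftF_one {n : ℕ} (hn : 0 < n) (t : Fin n → I) :
    List.ofFn (shiftF hn 1 t) = (List.ofFn t).rotate 1 := by
  apply List.ext_getElem
  · simp
  · intro i h1 h2
    rw [List.getElem_rotate, List.getElem_ofFn, List.getElem_ofFn]
    unfold shiftF
    congr 1
    apply Fin.ext
    simp

/-- periodic extension of a tuple of length `n'` to length `m * n'` -/
def perF {n' : ℕ} (hn' : 0 < n') (m : ℕ) (s : Fin n' → I) : Fin (m * n') → I :=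
  fun i => s ⟨i.val % n', Nat.mod_lt _ hn'⟩

theorem shiftF_perF {n' : ℕ} (hn' : 0 < n') (m : ℕ) (hmn : 0 < m * n') (s : Fin n' → I) :
    shiftF hmn n' (perF hn' m s) = perF hn' m s := by
  ext i
  unfold shiftF perF
  congr 1
  apply Fin.ext
  show (i.val + n') % (m * n') % n' = i.val % n'
  rw [Nat.mod_mod_of_dvd _ (Dvd.intro_left m rfl), Nat.add_mod_right]

/-- a tuple fixed by the shift by `n'` is the periodic extension of its initial segment -/
theorem eq_perF_of_shiftF {n' : ℕ} (hn' : 0 < n') (m : ℕ) (hmn : 0 < m * n')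
    (t : Fin (m * n') → I) (ht : shiftF hmn n' t = t) :
    t = perF hn' m (fun j : Fin n' => t ⟨j.val, lt_of_lt_of_le j.isLt
      (Nat.le_mul_of_pos_left n' (Nat.pos_of_mul_pos_right hmn))⟩) := by
  have key : ∀ (q r : ℕ) (h1 : r + q * n' < m * n') (h2 : r < m * n'),
      t ⟨r + q * n', h1⟩ = t ⟨r, h2⟩ := by
    intro q
    induction q with
    | zero =>
      intro r h1 h2
      congr 1
      apply Fin.ext
      simp
    | succ q ih =>
      intro r h1 h2
      have h3 : r + q * n' < m * n' := by
        have : r + q * n' ≤ r + (q + 1) * n' := by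
          apply Nat.add_le_add_left
          exact Nat.mul_le_mul_right _ (Nat.le_succ q)
        omega
      rw [← ih r h3 h2]
      have h4 := congrFun ht ⟨r + q * n', h3⟩
      rw [← h4]
      unfold shiftF
      congr 1
      apply Fin.ext
      show r + (q + 1) * n' = (r + q * n' + n') % (m * n')
      have : r + q * n' + n' = r + (q + 1) * n' := by ring
      rw [this, Nat.mod_eq_of_lt h1]
  ext i
  unfold perF
  have h5 : i.val % n' + (i.val / n') * n' = i.val := Nat.mod_add_div' i.val n'
  have h6 := key (i.val / n') (i.val % n') (by rw [h5]; exact i.isLt)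
    (lt_of_lt_of_le (Nat.mod_lt _ hn') (Nat.le_mul_of_pos_left n' (Nat.pos_of_mul_pos_right hmn)))
  show t i = t ⟨i.val % n', _⟩
  rw [← h6]
  congr 1
  apply Fin.ext
  exact h5.symm

theorem perF_restrict {n' : ℕ} (hn' : 0 < n') (m : ℕ) (hm : 0 < m) (s : Fin n' → I) :
    (fun j : Fin n' => perF hn' m s ⟨j.val, lt_of_lt_of_le j.isLt
      (Nat.le_mul_of_pos_left n' hm)⟩) = s := by
  ext j
  unfold perF
  congr 1
  apply Fin.ext
  exact Nat.mod_eq_of_lt j.isLt

/-- the product of a periodic tuple -/
theorem prod_ofFn_perF {Mo : Type*} [Monoid Mo] {n' : ℕ} (hn' : 0 < n') (m : ℕ)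
    (u : Fin n' → Mo) :
    (List.ofFn (perF hn' m u)).prod = ((List.ofFn u).prod) ^ m := by
  rw [List.ofFn_mul]
  have h1 : (fun i : Fin m => List.ofFn fun j : Fin n' =>
      perF hn' m u ⟨i.val * n' + j.val, by
        calc i.val * n' + j.val < (i.val + 1) * n' := by
              rw [Nat.add_mul, Nat.one_mul]; exact Nat.add_lt_add_left j.isLt _
          _ ≤ m * n' := Nat.mul_le_mul_right _ i.isLt⟩) =
      fun _ : Fin m => List.ofFn u := by
    ext1 i
    congr 1
    ext1 j
    unfold perF
    congr 1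
    apply Fin.ext
    show (i.val * n' + j.val) % n' = j.val
    rw [Nat.mul_add_mod_of_lt j.isLt]
  rw [h1, List.ofFn_const, List.prod_flatten, List.map_replicate, List.prod_replicate]

/-- **rotation sum lemma**: for a rotation-invariant function on tuples of length `p * p^k`,
the sum over all tuples is the sum over the `p^k`-periodic ones modulo `p * p^k` -/
theorem sum_rotation_invariant [Fintype I] [DecidableEq I] {N : Type*} [AddCommMonoid N]
    {p : ℕ} (hp : p.Prime) (k : ℕ) (hpos : 0 < p * p ^ k) (hpos' : 0 < p ^ k)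
    (f : (Fin (p * p ^ k) → I) → N) (hf : ∀ t, f (shiftF hpos 1 t) = f t) :
    ∃ y : N, ∑ t, f t = ∑ s : Fin (p ^ k) → I, f (perF hpos' p s) + (p * p ^ k) • y := by
  classical
  let P : Finset (Fin (p * p ^ k) → I) := Finset.univ.filter (fun t => shiftF hpos (p ^ k) t = t)
  have hsplit : ∑ t, f t = ∑ t ∈ P, f t + ∑ t ∈ Finset.univ.filter
      (fun t => ¬ shiftF hpos (p ^ k) t = t), f t :=
    (Finset.sum_filter_add_sum_filter_not Finset.univ _ f).symm
  have hP : ∑ t ∈ P, f t = ∑ s : Fin (p ^ k) → I, f (perF hpos' p s) := by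
    refine Finset.sum_bij' (fun t _ => fun j : Fin (p ^ k) => t ⟨j.val, lt_of_lt_of_le j.isLt
        (Nat.le_mul_of_pos_left _ hp.pos)⟩) (fun s _ => perF hpos' p s) ?_ ?_ ?_ ?_ ?_
    · intro t _; exact Finset.mem_univ _
    · intro s _
      exact Finset.mem_filter.mpr ⟨Finset.mem_univ _, shiftF_perF hpos' p hpos s⟩
    · intro t ht
      exact (eq_perF_of_shiftF hpos' p hpos t (Finset.mem_filter.mp ht).2).symm
    · intro s _
      exact perF_restrict hpos' p hp.pos s
    · intro t ht
      exact congrArg f (eq_perF_of_shiftF hpos' p hpos t (Finset.mem_filter.mp ht).2)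
  have hn_eq : p * p ^ k = p ^ (k + 1) := (pow_succ' p k).symm
  obtain ⟨y, hy⟩ := sum_eq_nsmul_of_minimalPeriod (rotE hpos) (p * p ^ k) hpos f
    (fun t => by rw [rotE_apply]; exact hf t)
    (Finset.univ.filter (fun t => ¬ shiftF hpos (p ^ k) t = t))
    (by
      intro t
      simp only [Finset.mem_filter, Finset.mem_univ, true_and, rotE_apply]
      rw [shiftF_shiftF, add_comm, ← shiftF_shiftF]
      constructor
      · intro h h'
        apply h
        rw [h']
      · intro h h'
        apply h
        have := (rotE hpos).injective (a₁ := shiftF hpos (p ^ k) t) (a₂ := t) h'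
        exact this)
    (by
      intro t ht
      have ht' : ¬ shiftF hpos (p ^ k) t = t := (Finset.mem_filter.mp ht).2
      have hper : IsPeriodicPt (rotE hpos) (p * p ^ k) t := by
        show (rotE hpos)^[p * p ^ k] t = t
        rw [rotE_iterate, shiftF_self]
      have hdvd : minimalPeriod (rotE hpos) t ∣ p ^ (k + 1) :=
        hper.minimalPeriod_dvd.trans (dvd_of_eq hn_eq)
      refine Eq.trans ?_ hn_eq.symm
      obtain ⟨i, hi, hi'⟩ := (Nat.dvd_prime_pow hp).mp hdvd
      rcases Nat.lt_or_ge i (k + 1) with hlt | hge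
      · exfalso
        apply ht'
        have h1 : IsPeriodicPt (rotE hpos) (p ^ k) t := by
          have h2 := isPeriodicPt_minimalPeriod (rotE hpos) t
          rw [hi'] at h2
          exact h2.trans_dvd (pow_dvd_pow p (Nat.lt_succ_iff.mp hlt))
        have h3 : (rotE hpos)^[p ^ k] t = t := h1
        rwa [rotE_iterate] at h3
      · have : i = k + 1 := le_antisymm hi hge
        rw [hi', this])
  refine ⟨y, ?_⟩
  rw [hsplit, hP, hy]

end Cfsg.Agent.Lib.Helper28
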