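import Mathlib
import Cfsg.Agent.Lib.Helper28.NecklaceB

set_option autoImplicit false

/-!
# Necklace counting, part C (helper28)
Tuple sums in a finite group: `p`-adic divisibility of the class coordinates of `p^m`-th powers
in the group algebra on sets containing no `p^e`-th powers.
-/

namespace Cfsg.Agent.Lib.Helper28

open scoped Classical

variable {G : Type*} [Group G] [Fintype G] {R : Type*} [CommRing R]

/-- the sum over `n`-tuples with product in `Y` of the product of the weights -/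
noncomputable def tupleSum (n : ℕ) (a : G → R) (Y : Set G) : R :=
  ∑ t : Fin n → G, if (List.ofFn t).prod ∈ Y then ∏ i, a (t i) else 0

theorem exists_prod_rotate_one (l : List G) : ∃ g : G, (l.rotate 1).prod = g⁻¹ * l.prod * g := by
  cases l with
  | nil => exact ⟨1, by simp⟩
  | cons x l' =>
    refine ⟨x, ?_⟩
    rw [List.rotate_cons_succ, List.rotate_zero, List.prod_append, List.prod_cons,
      List.prod_cons, List.prod_nil]
    group

omit [Group G] [Fintype G] in
theorem prod_shiftF_one {n : ℕ} (hn : 0 < n) (a : G → R) (t : Fin n → G) :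
    ∏ i, a (shiftF hn 1 t i) = ∏ i, a (t i) := by
  rw [← List.prod_ofFn, ← List.prod_ofFn]
  have : (fun i => a (shiftF hn 1 t i)) = shiftF hn 1 (fun i => a (t i)) := rfl
  rw [this, ofFn_shiftF_one]
  exact (List.rotate_perm _ 1).prod_eq

omit [Group G] [Fintype G] in
theorem prod_perF {n' : ℕ} (hn' : 0 < n') (m : ℕ) (a : G → R) (s : Fin n' → G) :
    ∏ i, a (perF hn' m s i) = ∏ j, (a (s j)) ^ m := by
  rw [Finset.prod_pow, ← List.prod_ofFn, ← List.prod_ofFn]
  have : (fun i => a (perF hn' m s i)) = perF hn' m (fun j => a (s j)) := rfl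
  rw [this, prod_ofFn_perF]

/-- one step of the necklace congruence -/
theorem tupleSum_step {p : ℕ} (hp : p.Prime) (k : ℕ) (a : G → R) (Y : Set G)
    (hY : ∀ g y : G, y ∈ Y → g⁻¹ * y * g ∈ Y) :
    ∃ y : R, tupleSum (p * p ^ k) a Y =
      tupleSum (p ^ k) (fun g => a g ^ p) {h | h ^ p ∈ Y} + ((p * p ^ k : ℕ) : R) * y := by
  have hpos' : 0 < p ^ k := pow_pos hp.pos k
  have hpos : 0 < p * p ^ k := Nat.mul_pos hp.pos hpos'
  obtain ⟨y, hy⟩ := sum_rotation_invariant (I := G) (N := R) hp k hpos hpos'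
    (fun t => if (List.ofFn t).prod ∈ Y then ∏ i, a (t i) else 0)
    (by
      intro t
      have h1 : (List.ofFn (shiftF hpos 1 t)).prod ∈ Y ↔ (List.ofFn t).prod ∈ Y := by
        rw [ofFn_shiftF_one]
        obtain ⟨g, hg⟩ := exists_prod_rotate_one (List.ofFn t)
        rw [hg]
        constructor
        · intro h
          have := hY g⁻¹ _ h
          have e : g⁻¹⁻¹ * (g⁻¹ * (List.ofFn t).prod * g) * g⁻¹ = (List.ofFn t).prod := by group
          rwa [e] at this
        · intro h
          exact hY g _ h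
      show (if (List.ofFn (shiftF hpos 1 t)).prod ∈ Y then ∏ i, a (shiftF hpos 1 t i) else 0) =
        if (List.ofFn t).prod ∈ Y then ∏ i, a (t i) else 0
      rw [prod_shiftF_one]
      by_cases h : (List.ofFn t).prod ∈ Y
      · rw [if_pos h, if_pos (h1.mpr h)]
      · rw [if_neg h, if_neg (fun h' => h (h1.mp h'))])
  refine ⟨y, ?_⟩
  unfold tupleSum
  rw [hy, nsmul_eq_mul]
  congr 1
  refine Finset.sum_congr rfl fun s _ => ?_
  rw [prod_ofFn_perF, prod_perF]
  rfl

/-- `p`-adic divisibility of tuple sums over a conjugation-invariant set containing no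
`p^e`-th power -/
theorem tupleSum_dvd {p : ℕ} (hp : p.Prime) (e : ℕ) :
    ∀ (Y : Set G), (∀ g y : G, y ∈ Y → g⁻¹ * y * g ∈ Y) → (∀ h : G, h ^ (p ^ e) ∉ Y) →
      ∀ (d : ℕ) (a : G → R), ∃ y : R, tupleSum (p ^ (e + d)) a Y = (p : R) ^ (d + 1) * y := by
  induction e with
  | zero =>
    intro Y _ hY0 d a
    refine ⟨0, ?_⟩
    unfold tupleSum
    rw [mul_zero]
    apply Finset.sum_eq_zero
    intro t _
    rw [if_neg]
    have := hY0 (List.ofFn t).prod
    simpa using this
  | succ e ih =>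
    intro Y hY hYe d a
    obtain ⟨y1, hy1⟩ := tupleSum_step hp (e + d) a Y hY
    have hY' : ∀ g y : G, y ∈ {h : G | h ^ p ∈ Y} → g⁻¹ * y * g ∈ {h : G | h ^ p ∈ Y} := by
      intro g y hy
      show (g⁻¹ * y * g) ^ p ∈ Y
      have : (g⁻¹ * y * g) ^ p = g⁻¹ * y ^ p * g := by
        have := conj_pow (a := g⁻¹) (b := y) (i := p)
        simpa using this
      rw [this]
      exact hY g _ hy
    have hYe' : ∀ h : G, h ^ (p ^ e) ∉ {h : G | h ^ p ∈ Y} := by
      intro h hh
      apply hYe h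
      have : (h ^ p ^ e) ^ p ∈ Y := hh
      rwa [← pow_mul, ← pow_succ] at this
    obtain ⟨y2, hy2⟩ := ih _ hY' hYe' d (fun g => a g ^ p)
    refine ⟨y2 + (p : R) ^ e * y1, ?_⟩
    have e1 : p ^ (e + 1 + d) = p * p ^ (e + d) := by
      rw [show e + 1 + d = (e + d) + 1 by ring, pow_succ']
    rw [e1, hy1, hy2]
    push_cast
    ring

/-- version with coefficients in a subring -/
theorem tupleSum_dvd_subring {p : ℕ} (hp : p.Prime) (e : ℕ) (T : Subring R)
    (Y : Set G) (hY : ∀ g y : G, y ∈ Y → g⁻¹ * y * g ∈ Y) (hYe : ∀ h : G, h ^ (p ^ e) ∉ Y)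
    (d : ℕ) (a : G → R) (ha : ∀ g, a g ∈ T) :
    ∃ y ∈ T, tupleSum (p ^ (e + d)) a Y = (p : R) ^ (d + 1) * y := by
  obtain ⟨y, hy⟩ := tupleSum_dvd (R := T) hp e Y hY hYe d (fun g => ⟨a g, ha g⟩)
  refine ⟨y, y.2, ?_⟩
  have h1 := congrArg (Subring.subtype T) hy
  unfold tupleSum at h1 ⊢
  rw [map_sum] at h1
  simp only [apply_ite (Subring.subtype T), map_prod, map_zero, map_mul, map_pow,
    map_natCast] at h1
  exact h1

end Cfsg.Agent.Lib.Helper28
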