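import Mathlib
import Cfsg.Agent.Lib.Helper4.CharIntegral
import Cfsg.Agent.Lib.Helper28.NecklaceC

set_option autoImplicit false

/-!
# Powers in the group algebra as tuple sums (helper28)
-/

namespace Cfsg.Agent.Lib.Helper28

open scoped Classical
open Cfsg.Agent.Lib.Helper4

variable {G : Type*} [Group G] [Fintype G] {R : Type*} [CommRing R]

/-- a function on the group as an element of the group algebra -/
noncomputable def toMA (f : G → R) : MonoidAlgebra R G := ∑ g, MonoidAlgebra.single g (f g)

theorem toMA_coeff (f : G → R) (g : G) : (toMA f).coeff g = f g := by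
  unfold toMA
  rw [MonoidAlgebra.coeff_sum, Finsupp.finsetSum_apply]
  simp [MonoidAlgebra.coeff_single, Finsupp.single_apply]

theorem toMA_pow (a : G → R) (n : ℕ) :
    (toMA a) ^ n = ∑ t : Fin n → G, MonoidAlgebra.single (List.ofFn t).prod (∏ i, a (t i)) := by
  induction n with
  | zero =>
    rw [pow_zero, MonoidAlgebra.one_def]
    simp
  | succ n ih =>
    rw [pow_succ', ih]
    conv_lhs => rw [toMA, Finset.sum_mul_sum]
    simp only [MonoidAlgebra.single_mul_single]
    rw [← (Fin.consEquiv (fun _ : Fin (n + 1) => G)).sum_comp, Fintype.sum_prod_type]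
    refine Finset.sum_congr rfl fun g _ => Finset.sum_congr rfl fun t _ => ?_
    have h1 : (Fin.consEquiv (fun _ : Fin (n + 1) => G)) (g, t) = Fin.cons g t := rfl
    rw [h1, List.ofFn_cons, List.prod_cons, Fin.prod_univ_succ]
    simp only [Fin.cons_zero, Fin.cons_succ]

theorem coeff_toMA_pow (a : G → R) (n : ℕ) (y : G) :
    ((toMA a) ^ n).coeff y =
      ∑ t : Fin n → G, if (List.ofFn t).prod = y then ∏ i, a (t i) else 0 := by
  rw [toMA_pow, MonoidAlgebra.coeff_sum, Finsupp.finsetSum_apply]
  refine Finset.sum_congr rfl fun t _ => ?_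
  rw [MonoidAlgebra.coeff_single, Finsupp.single_apply]

theorem sum_coeff_toMA_pow (a : G → R) (n : ℕ) (Y : Set G) :
    ∑ y ∈ Finset.univ.filter (fun y => y ∈ Y), ((toMA a) ^ n).coeff y = tupleSum n a Y := by
  simp only [coeff_toMA_pow]
  rw [Finset.sum_comm]
  unfold tupleSum
  refine Finset.sum_congr rfl fun t _ => ?_
  rw [Finset.sum_ite_eq]
  simp only [Finset.mem_filter, Finset.mem_univ, true_and]

theorem toMA_conv (f g : G → R) : toMA (conv f g) = toMA f * toMA g := by
  apply MonoidAlgebra.coeff_injective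
  ext y
  rw [toMA_coeff, MonoidAlgebra.coeff_mul_apply_left, Finsupp.sum_fintype _ _ (by simp)]
  unfold conv
  refine Finset.sum_congr rfl fun h _ => ?_
  rw [toMA_coeff, toMA_coeff]

theorem toMA_injective : Function.Injective (toMA : (G → R) → MonoidAlgebra R G) := by
  intro f g h
  ext y
  rw [← toMA_coeff f y, ← toMA_coeff g y, h]

theorem commute_toMA_single {f : G → R} (hf : IsConjInv f) (x : G) :
    Commute (toMA f) (MonoidAlgebra.single x (1 : R)) := by
  apply MonoidAlgebra.coeff_injective
  ext y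
  rw [MonoidAlgebra.coeff_mul_single_apply, MonoidAlgebra.coeff_single_mul_apply, toMA_coeff,
    toMA_coeff, mul_one, one_mul]
  have := hf (x⁻¹ * y) x
  rw [← this]
  congr 1
  group

theorem toMA_mul_single (f : G → R) (x : G) :
    toMA f * MonoidAlgebra.single x (1 : R) = toMA (fun g => f (g * x⁻¹)) := by
  apply MonoidAlgebra.coeff_injective
  ext y
  rw [MonoidAlgebra.coeff_mul_single_apply, toMA_coeff, toMA_coeff, mul_one]

/-- if `e` is a central idempotent and `x ^ n = x` then `(e x) ^ n = e x` -/
theorem toMA_shift_pow {e : G → R} (he : IsConjInv e) (hee : conv e e = e) (x : G) (n : ℕ)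
    (hn : 0 < n) (hx : x ^ n = x) :
    (toMA (fun g => e (g * x⁻¹))) ^ n = toMA (fun g => e (g * x⁻¹)) := by
  rw [← toMA_mul_single, (commute_toMA_single he x).mul_pow, MonoidAlgebra.single_pow, hx,
    one_pow]
  congr 1
  have hid : IsIdempotentElem (toMA e) := by
    show toMA e * toMA e = toMA e
    rw [← toMA_conv, hee]
  obtain ⟨m, rfl⟩ : ∃ m, n = m + 1 := ⟨n - 1, by omega⟩
  exact hid.pow_succ_eq m

end Cfsg.Agent.Lib.Helper28
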