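import Mathlib
import Cfsg.Prelude.Def_Blocks
import Cfsg.Agent.Lib.Helper28.LocalRingB

set_option autoImplicit false

/-!
# The intersection of the powers of `p` in the local ring is zero (helper28)
-/

namespace Cfsg.Agent.Lib.Helper28

open Cfsg Polynomial

variable {M : Ideal AlgInt}

/-- a nonzero algebraic integer divides (in the algebraic integers) a nonzero rational
integer -/
theorem exists_int_multiple (a : AlgInt) (ha : a ≠ 0) :
    ∃ (c : ℤ) (w : AlgInt), c ≠ 0 ∧ (c : AlgInt) = w * a := by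
  have hint : IsIntegral ℤ (a : ℂ) := a.2
  obtain ⟨f, hf1, hf2⟩ := hint
  have hf0 : f ≠ 0 := hf1.ne_zero
  obtain ⟨g, hg1, hg2⟩ := exists_eq_pow_rootMultiplicity_mul_and_not_dvd f hf0 0
  simp only [map_zero, sub_zero] at hg1 hg2
  have hac : (a : ℂ) ≠ 0 := fun h => ha (Subtype.ext h)
  have h1 : aeval (a : ℂ) f = 0 := by rw [aeval_def]; exact hf2
  rw [hg1, map_mul, map_pow, aeval_X] at h1
  have h2 : aeval (a : ℂ) g = 0 := by
    rcases mul_eq_zero.mp h1 with h | h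
    · exact absurd (pow_eq_zero_iff (by
        intro h0
        rw [h0, pow_zero] at h
        exact one_ne_zero h) |>.mp h) hac
    · exact h
  have h3 : g.coeff 0 ≠ 0 := fun h => hg2 (X_dvd_iff.mpr h)
  refine ⟨g.coeff 0, - aeval a (divX g), h3, ?_⟩
  apply Subtype.ext
  have h4 := congrArg (aeval (a : ℂ)) (divX_mul_X_add g)
  rw [map_add, map_mul, aeval_X, aeval_C, h2] at h4
  have h5 := aeval_subalgebra_coe (divX g) (integralClosure ℤ ℂ) a
  push_cast
  have h6 : ((algebraMap ℤ ℂ) (g.coeff 0) : ℂ) = ((g.coeff 0 : ℤ) : ℂ) := rfl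
  rw [h6] at h4
  linear_combination h4

/-- the intersection of the ideals `p^N S` of the local ring `S` is zero -/
theorem eq_zero_of_forall_pow_mul {p : ℕ} (hM : IsPModular p M) (v : ℂ)
    (h : ∀ N : ℕ, ∃ y : ℂ, MemLocalRing M y ∧ v = (p : ℂ) ^ N * y) : v = 0 := by
  obtain ⟨hp, hmax, hpM⟩ := hM
  have hprime : M.IsPrime := hmax.isPrime
  by_contra hv
  obtain ⟨y0, ⟨a, b, hb, hab⟩, hy0⟩ := h 0
  rw [pow_zero, one_mul] at hy0
  have hb0 := algInt_coe_ne_zero_of_not_mem hb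
  have ha0 : a ≠ 0 := by
    rintro rfl
    apply hv
    rw [hy0, ← hab]
    simp
  obtain ⟨c, w, hc0, hcw⟩ := exists_int_multiple a ha0
  -- c = p^k * u with p ∤ u
  have hfin : FiniteMultiplicity (p : ℤ) c := by
    rw [Int.finiteMultiplicity_iff]
    refine ⟨?_, hc0⟩
    simpa using hp.ne_one
  obtain ⟨u, hu1, hu2⟩ := hfin.exists_eq_pow_mul_and_not_dvd
  set k := multiplicity (p : ℤ) c with hk
  obtain ⟨y, ⟨a', b', hb', hab'⟩, hy⟩ := h (k + 1)
  have hb'0 := algInt_coe_ne_zero_of_not_mem hb'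
  -- key identity in ℂ
  have hpc : (p : ℂ) ≠ 0 := Nat.cast_ne_zero.mpr hp.ne_zero
  have hid : ((u : AlgInt) * b' : AlgInt) = (p : AlgInt) * (w * b * a') := by
    apply Subtype.ext
    push_cast
    have e1 : ((c : ℤ) : ℂ) = (w : ℂ) * (a : ℂ) := by
      have := congrArg (Subtype.val : AlgInt → ℂ) hcw
      push_cast at this
      exact this
    have e2 : ((c : ℤ) : ℂ) = (p : ℂ) ^ k * (u : ℂ) := by
      have := congrArg (Int.cast : ℤ → ℂ) hu1
      push_cast at this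
      exact this
    have e3 : (a : ℂ) = (b : ℂ) * v := by
      rw [hy0, ← hab]; field_simp
    have e4 : v * (b' : ℂ) = (p : ℂ) ^ (k + 1) * (a' : ℂ) := by
      rw [hy, ← hab']; field_simp
    have e5 : (p : ℂ) ^ k * ((u : ℂ) * (b' : ℂ)) =
        (p : ℂ) ^ k * ((p : ℂ) * ((w : ℂ) * (b : ℂ) * (a' : ℂ))) := by
      calc (p : ℂ) ^ k * ((u : ℂ) * (b' : ℂ)) = ((p : ℂ) ^ k * (u : ℂ)) * (b' : ℂ) := by ring
        _ = (w : ℂ) * (a : ℂ) * (b' : ℂ) := by rw [← e2, e1]
        _ = (w : ℂ) * (b : ℂ) * (v * (b' : ℂ)) := by rw [e3]; ring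
        _ = (w : ℂ) * (b : ℂ) * ((p : ℂ) ^ (k + 1) * (a' : ℂ)) := by rw [e4]
        _ = (p : ℂ) ^ k * ((p : ℂ) * ((w : ℂ) * (b : ℂ) * (a' : ℂ))) := by ring
    exact mul_left_cancel₀ (pow_ne_zero k hpc) e5
  have hmem : (u : AlgInt) * b' ∈ M := by
    rw [hid]
    exact M.mul_mem_right _ hpM
  have huM : (u : AlgInt) ∈ M := (hprime.mem_or_mem hmem).resolve_right hb'
  -- u is prime to p
  have hcop : IsCoprime u (p : ℤ) := by
    rw [isCoprime_comm]
    exact (Nat.prime_iff_prime_int.mp hp).coprime_iff_not_dvd.mpr hu2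
  obtain ⟨r, s, hrs⟩ := hcop
  have h1 : (1 : AlgInt) ∈ M := by
    have h3 : ((r : AlgInt) * (u : AlgInt) + (s : AlgInt) * (p : AlgInt)) = 1 := by
      have := congrArg (Int.cast : ℤ → AlgInt) hrs
      push_cast at this
      exact this
    rw [← h3]
    exact M.add_mem (M.mul_mem_left _ huM) (M.mul_mem_left _ hpM)
  exact hmax.ne_top ((Ideal.eq_top_iff_one M).mpr h1)

end Cfsg.Agent.Lib.Helper28
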