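import Mathlib
import Cfsg.Prelude.Def_Blocks
import Cfsg.Agent.Lib.Helper28.BlockOsima
import Cfsg.Agent.Lib.Helper28.KrullInt
import Cfsg.Agent.Lib.Helper28.GroupAlgPow

set_option autoImplicit false

/-!
# Block idempotents are supported on `p`-regular elements; weak block orthogonality (helper28)
-/

namespace Cfsg.Agent.Lib.Helper28

open Cfsg Cfsg.Agent.Lib.Helper4
open scoped ComplexConjugate Classical

section

variable {G : Type*} [Group G] [Fintype G] {M : Ideal AlgInt}

/-- the local ring as a subring of `ℂ` -/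
def localSubring (M : Ideal AlgInt) [M.IsPrime] : Subring ℂ where
  carrier := {z | MemLocalRing M z}
  mul_mem' := fun ha hb => memLocalRing_mul ha hb
  one_mem' := memLocalRing_one (Ideal.IsPrime.ne_top ‹_›)
  add_mem' := fun ha hb => memLocalRing_add ha hb
  zero_mem' := memLocalRing_zero (Ideal.IsPrime.ne_top ‹_›)
  neg_mem' := fun ha => memLocalRing_neg ha

theorem mem_localSubring [M.IsPrime] (z : ℂ) : z ∈ localSubring M ↔ MemLocalRing M z := Iff.rfl

/-- a class function is determined by its central character values -/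
theorem eq_of_omegaF_eq (F1 F2 : G → ℂ) (h1 : IsClassFunction G F1) (h2 : IsClassFunction G F2)
    (h : ∀ χ : IrrCharacter G, omegaF (χ : G → ℂ) F1 = omegaF (χ : G → ℂ) F2) : F1 = F2 := by
  have : Fintype (IrrCharacter G) := Fintype.ofFinite _
  ext x
  rw [fourier_inversion F1 h1 x, fourier_inversion F2 h2 x]
  congr 1
  refine Finset.sum_congr rfl fun χ _ => ?_
  rw [h χ]

theorem conv_blockCoeff_self (A : Set (IrrCharacter G)) :
    conv (blockCoeff A) (blockCoeff A) = blockCoeff A := by
  apply eq_of_omegaF_eq _ _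
    (isClassFunction_conv (isClassFunction_blockCoeff A) (isClassFunction_blockCoeff A))
    (isClassFunction_blockCoeff A)
  intro χ
  rw [omegaF_conv χ.2 _ _ (isClassFunction_blockCoeff A) (isClassFunction_blockCoeff A),
    omegaF_blockCoeff]
  split_ifs <;> simp

theorem pow_factorization_not_dvd_orderOf {p : ℕ} (hp : p.Prime) (h : G) :
    ¬ p ∣ orderOf (h ^ (p ^ (Nat.card G).factorization p)) := by
  intro hdvd
  have hG0 : Nat.card G ≠ 0 := Nat.card_pos.ne'
  have h1 : (h ^ (p ^ (Nat.card G).factorization p)) ^ (Nat.card G / p ^ (Nat.card G).factorization p)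
      = 1 := by
    rw [← pow_mul, Nat.ordProj_mul_ordCompl_eq_self, pow_card_eq_one']
  have h2 := orderOf_dvd_of_pow_eq_one h1
  exact Nat.not_dvd_ordCompl hp hG0 (hdvd.trans h2)

/-- **`p`-regular support**: if all coefficients of the idempotent of a set `A` of irreducible
characters are local integers then for `x` a `p`-regular element and `Y` a conjugation
invariant set of `p`-singular elements, `∑ y ∈ Y, e_A (y x⁻¹) = 0` -/
theorem sum_blockCoeff_shift_eq_zero {p : ℕ} (hM : IsPModular p M) (A : Set (IrrCharacter G))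
    (hA : ∀ g, MemLocalRing M (blockCoeff A g)) (x : G) (hx : ¬ p ∣ orderOf x) (Y : Set G)
    (hY : ∀ g y : G, y ∈ Y → g⁻¹ * y * g ∈ Y) (hYs : ∀ y ∈ Y, p ∣ orderOf y) :
    ∑ y ∈ Finset.univ.filter (fun y => y ∈ Y), blockCoeff A (y * x⁻¹) = 0 := by
  have hp : p.Prime := hM.1
  have hprime : M.IsPrime := hM.2.1.isPrime
  apply eq_zero_of_forall_pow_mul hM
  intro N
  set e0 := (Nat.card G).factorization p with he0
  have hYe : ∀ h : G, h ^ (p ^ e0) ∉ Y := fun h hh =>
    pow_factorization_not_dvd_orderOf hp h (hYs _ hh)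
  set o := orderOf x with ho
  have hopos : 0 < o := orderOf_pos x
  have hφ : 0 < Nat.totient o := Nat.totient_pos.mpr hopos
  set m := Nat.totient o * (e0 + N) with hm
  have hmge : e0 + N ≤ m := Nat.le_mul_of_pos_left _ hφ
  obtain ⟨d, hd⟩ : ∃ d, m = e0 + d := ⟨m - e0, by omega⟩
  have hdN : N ≤ d + 1 := by omega
  have hxpow : x ^ (p ^ m) = x := by
    have hcop : Nat.Coprime p o := (Nat.Prime.coprime_iff_not_dvd hp).mpr hx
    have h1 : p ^ Nat.totient o ≡ 1 [MOD o] := Nat.ModEq.pow_totient hcop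
    have h2 : p ^ m ≡ 1 [MOD o] := by
      rw [hm, pow_mul]
      have := h1.pow (e0 + N)
      rwa [one_pow] at this
    have h3 : x ^ (p ^ m) = x ^ 1 := pow_eq_pow_iff_modEq.mpr h2
    rwa [pow_one] at h3
  let a : G → ℂ := fun g => blockCoeff A (g * x⁻¹)
  have ha : ∀ g, a g ∈ localSubring M := fun g => hA _
  obtain ⟨y, hyS, hy⟩ := tupleSum_dvd_subring hp e0 (localSubring M) Y hY hYe d a ha
  rw [← hd, ← sum_coeff_toMA_pow,
    toMA_shift_pow (isClassFunction_blockCoeff A) (conv_blockCoeff_self A) x (p ^ m)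
      (pow_pos hp.pos m) hxpow] at hy
  simp only [toMA_coeff] at hy
  refine ⟨(p : ℂ) ^ (d + 1 - N) * y, ?_, ?_⟩
  · exact memLocalRing_mul (memLocalRing_pow (memLocalRing_natCast hM.2.1.ne_top p) _) hyS
  · rw [hy, ← mul_assoc, ← pow_add]
    congr 2
    omega

end

end Cfsg.Agent.Lib.Helper28
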