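import Mathlib
import Cfsg.Prelude.Def_Blocks
import Cfsg.Agent.Lib.Helper28.BlockPReg
import Cfsg.Agent.Lib.Helper26.CharBasic

set_option autoImplicit false

/-!
# Weak block orthogonality (helper28)
-/

namespace Cfsg.Agent.Lib.Helper28

open Cfsg Cfsg.Agent.Lib.Helper4
open scoped ComplexConjugate Classical

section

variable {G : Type*} [Group G] [Fintype G] {M : Ideal AlgInt}

/-- a central element acts by its central character: `χ(z g) = ω_χ(z) χ(g)` -/
theorem sum_mul_char_shift {χ : G → ℂ} (hχ : IsIrrCharacter G χ) (F : G → ℂ)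
    (hF : IsClassFunction G F) (g : G) :
    ∑ h, F h * χ (h * g) = omegaF χ F * χ g := by
  obtain ⟨n, ρ, hirr, rfl⟩ := hχ
  have h1 := opSum_eq_omegaC_smul ρ hirr F hF
  have h2 : LinearMap.trace ℂ _ (opSum ρ F * ρ g) = ∑ h, F h * ρ.character (h * g) := by
    unfold opSum
    rw [Finset.sum_mul, map_sum]
    refine Finset.sum_congr rfl fun h _ => ?_
    rw [smul_mul_assoc, map_smul, smul_eq_mul, ← map_mul]
    rfl
  rw [← h2, h1, smul_mul_assoc, map_smul, smul_eq_mul, Module.End.mul_eq_comp,
    LinearMap.id_comp]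
  congr 1
  unfold omegaC omegaF
  rw [Representation.char_one]

theorem irr_one_conj {χ : G → ℂ} (hχ : IsIrrCharacter G χ) : conj (χ 1) = χ 1 := by
  obtain ⟨n, ρ, hirr, rfl⟩ := hχ
  rw [Representation.char_one]
  simp

/-- **weak block orthogonality**, for a set of characters with locally integral idempotent -/
theorem weak_orthogonality_of_memLocalRing {p : ℕ} (hM : IsPModular p M)
    [Fintype (IrrCharacter G)]
    (A : Set (IrrCharacter G))
    (hA : ∀ g, MemLocalRing M (blockCoeff A g)) (x y : G) (hx : ¬ p ∣ orderOf x)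
    (hy : p ∣ orderOf y) :
    ∑ χ : IrrCharacter G, (if χ ∈ A then (χ : G → ℂ) x * conj ((χ : G → ℂ) y) else 0) = 0 := by
  have h0 := sum_blockCoeff_shift_eq_zero hM A hA x hx {l | IsConj y l}
    (by
      intro g l hl
      exact hl.trans (isConj_iff.mpr ⟨g⁻¹, by group⟩))
    (by
      intro l hl
      obtain ⟨c, rfl⟩ := isConj_iff.mp hl
      have hs : SemiconjBy c y (c * y * c⁻¹) := by
        show c * y = c * y * c⁻¹ * c
        group
      rw [← hs.orderOf_eq]
      exact hy)
  rw [Finset.sum_filter] at h0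
  simp only [Set.mem_setOf_eq] at h0
  have h1 : ∀ l : G, (if IsConj y l then blockCoeff A (l * x⁻¹) else 0) =
      classInd y l * blockCoeff A (l * x⁻¹) := by
    intro l
    unfold classInd
    by_cases hl : IsConj y l
    · rw [if_pos hl, if_pos hl, one_mul]
    · rw [if_neg hl, if_neg hl, zero_mul]
  simp only [h1] at h0
  simp only [blockCoeff_eq_sum, Finset.mul_sum] at h0
  rw [Finset.sum_comm] at h0
  have h2 : ∀ χ : IrrCharacter G, ∑ l, classInd y l * ((Nat.card G : ℂ)⁻¹ *
      (if χ ∈ A then (χ : G → ℂ) 1 * conj ((χ : G → ℂ) (l * x⁻¹)) else 0)) =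
      (Nat.card G : ℂ)⁻¹ * ((Subgroup.centralizer ({y} : Set G)).index : ℂ) *
      (if χ ∈ A then (χ : G → ℂ) x * conj ((χ : G → ℂ) y) else 0) := by
    intro χ
    by_cases hχ : χ ∈ A
    · simp only [if_pos hχ]
      have h3 := sum_mul_char_shift χ.2 (classInd y) (isClassFunction_classInd y) x⁻¹
      rw [omegaF_classInd (isClassFunction_of_isIrrCharacter χ.2)] at h3
      have h4 : ∑ l, classInd y l * conj ((χ : G → ℂ) (l * x⁻¹)) =
          conj (centralChar (χ : G → ℂ) y * (χ : G → ℂ) x⁻¹) := by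
        rw [← h3, map_sum]
        refine Finset.sum_congr rfl fun l _ => ?_
        rw [map_mul]
        congr 1
        unfold classInd
        split_ifs <;> simp
      have h5 : ∑ l, classInd y l * ((Nat.card G : ℂ)⁻¹ *
          ((χ : G → ℂ) 1 * conj ((χ : G → ℂ) (l * x⁻¹)))) =
          (Nat.card G : ℂ)⁻¹ * (χ : G → ℂ) 1 *
          ∑ l, classInd y l * conj ((χ : G → ℂ) (l * x⁻¹)) := by
        rw [Finset.mul_sum]
        refine Finset.sum_congr rfl fun l _ => by ring
      rw [h5, h4, map_mul]
      have h6 : conj ((χ : G → ℂ) x⁻¹) = (χ : G → ℂ) x := by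
        have := Cfsg.Agent.Lib.Helper26.isCharacter_conj_eq_inv
          (Cfsg.Agent.Lib.Helper26.isCharacter_of_isIrrCharacter χ.2) x⁻¹
        rw [this, inv_inv]
      rw [h6]
      unfold centralChar
      rw [map_div₀, map_mul, irr_one_conj χ.2]
      have h7 := irr_one_ne_zero χ.2
      have h8 : conj ((Subgroup.centralizer ({y} : Set G)).index : ℂ) =
          ((Subgroup.centralizer ({y} : Set G)).index : ℂ) := by simp
      rw [h8]
      field_simp
    · simp only [if_neg hχ, mul_zero, Finset.sum_const_zero]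
  simp only [h2] at h0
  rw [← Finset.mul_sum] at h0
  have hG : (Nat.card G : ℂ)⁻¹ ≠ 0 := inv_ne_zero card_ne_zero_complex
  have hidx : ((Subgroup.centralizer ({y} : Set G)).index : ℂ) ≠ 0 := by
    have : (Subgroup.centralizer ({y} : Set G)).index ≠ 0 := Subgroup.index_ne_zero_of_finite
    exact_mod_cast this
  exact (mul_eq_zero.mp h0).resolve_left (mul_ne_zero hG hidx)

end

end Cfsg.Agent.Lib.Helper28
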