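import Mathlib
import Cfsg.Prelude.Def_Characters
import Cfsg.Agent.Lib.Helper7.Gallagher
import Cfsg.Agent.Lib.Helper7.IndTrans
import Cfsg.Agent.Lib.Helper26.IndChar

set_option autoImplicit false

/-!
# The `ℤ`-span of characters induced from `p`-elementary subgroups (helper28)

`elemInd p G` is the additive group generated by the `indFun E φ`, `E ≤ G` a `p`-elementary subgroup
and `φ` a character of `E`.  It is closed under multiplication by characters of `G` and under
induction from subgroups.
-/

namespace Cfsg.Agent.Lib.Helper28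

open Cfsg Cfsg.Agent.Lib.Helper26 Cfsg.Agent.Lib.Helper7

theorem isElementary_of_mulEquiv {p : ℕ} {E E' : Type*} [Group E] [Group E'] (e : E ≃* E')
    (h : IsElementary p E) : IsElementary p E' := by
  obtain ⟨x, hx, hcop, k, hk⟩ := h
  refine ⟨e x, ?_, ?_, k, ?_⟩
  · rw [Subgroup.mem_center_iff] at hx ⊢
    intro y
    obtain ⟨y', rfl⟩ := e.surjective y
    rw [← map_mul, ← map_mul, hx y']
  · rw [MulEquiv.orderOf_eq]; exact hcop
  · have : Subgroup.zpowers (e x) = (Subgroup.zpowers x).map (e : E →* E') := by
      rw [MonoidHom.map_zpowers]; rfl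
    rw [this, Subgroup.index_map_equiv, hk]

section
variable {G : Type*} [Group G] [Fintype G]

/-- the span of the characters induced from `p`-elementary subgroups -/
noncomputable def elemInd (p : ℕ) (G : Type*) [Group G] [Fintype G] : Submodule ℤ (G → ℂ) :=
  Submodule.span ℤ {f | ∃ E : Subgroup G, IsElementary p E ∧ ∃ φ : E → ℂ, IsCharacter E φ ∧
    f = indFun E φ}

theorem indFun_mem_elemInd {p : ℕ} {E : Subgroup G} (hE : IsElementary p E) {φ : E → ℂ}
    (hφ : IsCharacter E φ) : indFun E φ ∈ elemInd p G :=
  Submodule.subset_span ⟨E, hE, φ, hφ, rfl⟩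

theorem elemInd_mul_char {p : ℕ} {f ψ : G → ℂ} (hf : f ∈ elemInd p G) (hψ : IsCharacter G ψ) :
    f * ψ ∈ elemInd p G := by
  unfold elemInd at hf
  induction hf using Submodule.span_induction with
  | mem x hx =>
    obtain ⟨E, hE, φ, hφ, rfl⟩ := hx
    have : Fintype E := Fintype.ofFinite E
    rw [← indFun_mul_restrict E φ ψ (isClassFunction_of_isCharacter hψ)]
    exact indFun_mem_elemInd hE (isCharacter_mul hφ (isCharacter_restrict E hψ))
  | zero => rw [zero_mul]; exact Submodule.zero_mem _
  | add x y hx hy h1 h2 => rw [add_mul]; exact Submodule.add_mem _ h1 h2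
  | smul r x hx h => rw [smul_mul_assoc]; exact Submodule.smul_mem _ _ h

theorem indFun_zsmul (H : Subgroup G) (n : ℤ) (a : H → ℂ) :
    indFun H (n • a) = n • indFun H a := by
  have h1 : n • a = (n : ℂ) • a := by
    funext x; simp
  have h2 : n • indFun H a = (n : ℂ) • indFun H a := by
    funext x; simp
  rw [h1, h2, indFun_smul]

theorem indFun_zero (H : Subgroup G) : indFun H (0 : H → ℂ) = 0 := by
  have := indFun_smul H (0 : ℂ) (0 : H → ℂ)
  simpa using this

/-- induction maps `elemInd p T` into `elemInd p G`. -/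
theorem indFun_mem_elemInd_of_mem {p : ℕ} (T : Subgroup G) [Fintype T] {f : T → ℂ}
    (hf : f ∈ elemInd p T) : indFun T f ∈ elemInd p G := by
  unfold elemInd at hf
  induction hf using Submodule.span_induction with
  | mem x hx =>
    obtain ⟨E, hE, φ, hφ, rfl⟩ := hx
    rw [indFun_trans T E φ]
    refine indFun_mem_elemInd ?_ ?_
    · exact isElementary_of_mulEquiv (E.equivMapOfInjective T.subtype T.subtype_injective) hE
    · exact Cfsg.Agent.Lib.Helper2.isCharacter_comp_hom hφ
        (E.equivMapOfInjective T.subtype T.subtype_injective).symm.toMonoidHom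
  | zero => rw [indFun_zero]; exact Submodule.zero_mem _
  | add x y hx hy h1 h2 => rw [indFun_add]; exact Submodule.add_mem _ h1 h2
  | smul r x hx h => rw [indFun_zsmul]; exact Submodule.smul_mem _ _ h

end

end Cfsg.Agent.Lib.Helper28
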