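import Mathlib
import Cfsg.Prelude.Def_Characters
import Cfsg.Agent.Lib.Helper4.CenterDegree

set_option autoImplicit false

/-!
# The degree of an irreducible representation divides the index of any subgroup acting by scalars
-/

namespace Cfsg.Agent.Lib.Helper28

open Cfsg.Agent.Lib.Helper4

variable {G : Type*} [Group G] [Fintype G]
variable {V : Type*} [AddCommGroup V] [Module ℂ V] [FiniteDimensional ℂ V]

/-- the degree of an irreducible representation divides the index of any subgroup all of whose
elements act as scalars -/
theorem degree_dvd_index_of_scalar (ρ : Representation ℂ G V) (hirr : ρ.IsIrreducible)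
    (A : Subgroup G) (hA : ∀ a ∈ A, ∃ c : ℂ, ρ a = c • LinearMap.id) :
    Module.finrank ℂ V ∣ A.index := by
  classical
  have := hirr
  let N : Subgroup G := MonoidHom.ker ρ
  have hN : N.Normal := MonoidHom.normal_ker ρ
  have : Fintype (G ⧸ N) := Fintype.ofFinite _
  let ρ' : Representation ℂ (G ⧸ N) V := QuotientGroup.lift N ρ (le_refl _)
  have hρ' : ∀ g : G, ρ' (QuotientGroup.mk g) = ρ g := fun g => rfl
  have hirr' : ρ'.IsIrreducible := by
    have hbt : (⊥ : Subrepresentation ρ') ≠ ⊤ := by
      intro h1
      have h2 : (⊥ : Submodule ℂ V) = ⊤ := congrArg Subrepresentation.toSubmodule h1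
      have h3 : (⊥ : Subrepresentation ρ) = ⊤ := Subrepresentation.toSubmodule_injective h2
      exact bot_ne_top h3
    exact { exists_pair_ne := ⟨⊥, ⊤, hbt⟩
            eq_bot_or_eq_top := fun σ => by
              let σ' : Subrepresentation ρ :=
                ⟨σ.toSubmodule, fun g v hv => by
                  rw [← hρ' g]
                  exact σ.apply_mem_toSubmodule _ hv⟩
              rcases eq_bot_or_eq_top σ' with h1 | h1
              · left
                apply Subrepresentation.toSubmodule_injective
                have h2 : σ'.toSubmodule = (⊥ : Subrepresentation ρ).toSubmodule :=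
                  congrArg Subrepresentation.toSubmodule h1
                exact h2
              · right
                apply Subrepresentation.toSubmodule_injective
                have h2 : σ'.toSubmodule = (⊤ : Subrepresentation ρ).toSubmodule :=
                  congrArg Subrepresentation.toSubmodule h1
                exact h2 }
  have hinj' : Function.Injective ρ' := by
    intro a b hab
    obtain ⟨x, rfl⟩ := QuotientGroup.mk_surjective a
    obtain ⟨y, rfl⟩ := QuotientGroup.mk_surjective b
    rw [hρ', hρ'] at hab
    apply QuotientGroup.eq.mpr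
    show x⁻¹ * y ∈ MonoidHom.ker ρ
    rw [MonoidHom.mem_ker, map_mul, ← hab, ← map_mul, inv_mul_cancel, map_one]
  have h1 := degree_dvd_index_center_of_faithful ρ' hirr' hinj'
  have h2 : ((Subgroup.center (G ⧸ N)).comap (QuotientGroup.mk' N)).index =
      (Subgroup.center (G ⧸ N)).index :=
    Subgroup.index_comap_of_surjective _ (QuotientGroup.mk'_surjective N)
  have h3 : A ≤ (Subgroup.center (G ⧸ N)).comap (QuotientGroup.mk' N) := by
    intro a ha
    obtain ⟨c, hc⟩ := hA a ha
    rw [Subgroup.mem_comap, Subgroup.mem_center_iff]
    intro y
    obtain ⟨x, rfl⟩ := QuotientGroup.mk'_surjective N y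
    apply hinj'
    rw [map_mul, map_mul]
    show ρ x * ρ a = ρ a * ρ x
    rw [hc]
    ext v
    simp
  have h4 := Subgroup.index_dvd_of_le h3
  rw [h2] at h4
  exact h1.trans h4

end Cfsg.Agent.Lib.Helper28
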