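import Mathlib
import Cfsg.Prelude.Def_Characters
import Cfsg.Agent.Lib.Helper4.CharOrtho
import Cfsg.Agent.Lib.Helper4.RepEigen
import Cfsg.Agent.Lib.Helper26.CharBasic
import Cfsg.Agent.Lib.Helper26.CharInt
import Cfsg.Agent.Lib.Helper26.IndChar
import Cfsg.Agent.Lib.Helper26.TIInd
import Cfsg.Agent.Lib.Helper26.Clifford
import Cfsg.Agent.Lib.Helper28.ScalarDegree
import Cfsg.Agent.S0893

set_option autoImplicit false

/-!
# Ito's theorem from the Clifford correspondence
-/

namespace Cfsg.Agent.Lib.Helper28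

open Cfsg Cfsg.Agent.Lib.Helper4 Cfsg.Agent.Lib.Helper26
open scoped ComplexConjugate

section Action

variable {G : Type*} [Group G] (H : Subgroup G) [hN : H.Normal]

/-- the (left) conjugation action of `G` on functions on a normal subgroup -/
def conjFunAction : MulAction G (H → ℂ) where
  smul g φ := fun n => φ ⟨g⁻¹ * n * g⁻¹⁻¹, hN.conj_mem n n.2 g⁻¹⟩
  one_smul φ := by
    funext n
    show φ ⟨1⁻¹ * n * 1⁻¹⁻¹, _⟩ = φ n
    congr 1
    apply Subtype.ext
    simp
  mul_smul g h φ := by
    funext n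
    show φ ⟨(g * h)⁻¹ * n * (g * h)⁻¹⁻¹, _⟩ = φ ⟨h⁻¹ * (⟨g⁻¹ * n * g⁻¹⁻¹, _⟩ : H) * h⁻¹⁻¹, _⟩
    congr 1
    apply Subtype.ext
    simp only [mul_inv_rev, inv_inv]
    group

theorem conjFunAction_smul (g : G) (φ : H → ℂ) (n : H) :
    (letI := conjFunAction H; g • φ) n = φ ⟨g⁻¹ * n * g⁻¹⁻¹, hN.conj_mem n n.2 g⁻¹⟩ := rfl

end Action

section Degree

variable {G : Type*} [Group G]

/-- a character vanishing at the identity is zero -/
theorem isCharacter_eq_zero_of_one {X : G → ℂ} (hX : IsCharacter G X) (h1 : X 1 = 0) : X = 0 := by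
  obtain ⟨n, ρ, rfl⟩ := hX
  have hn : n = 0 := by
    have := Representation.char_one ρ
    rw [h1, Module.finrank_fin_fun] at this
    exact_mod_cast this.symm
  subst hn
  funext g
  unfold Representation.character
  have : ρ g = 0 := LinearMap.ext fun v => Subsingleton.elim _ _
  rw [this, map_zero]
  rfl

/-- a degree one character has values of norm one (on a finite group) -/
theorem norm_lin_eq_one [Finite G] {lam : G → ℂ} (h : IsCharacter G lam) (h1 : lam 1 = 1) (a : G) :
    ‖lam a‖ = 1 := by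
  have hpow : ∀ k : ℕ, lam (a ^ k) = lam a ^ k := by
    intro k
    induction k with
    | zero => simp [h1]
    | succ k ih => rw [pow_succ, Cfsg.Agent.S0893.lin_mul lam h h1, ih, pow_succ]
  have h2 : lam a ^ orderOf a = 1 := by rw [← hpow, pow_orderOf_eq_one, h1]
  exact Complex.norm_eq_one_of_pow_eq_one h2 (orderOf_pos a).ne'

end Degree

section Ito

variable {G : Type*} [Group G] [Fintype G]

/-- the core of Ito's theorem, given the Clifford correspondent `ψ` of `χ` -/
theorem ito_core (H : Subgroup G) [hN : H.Normal] [Fintype H]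
    (hH : ∀ a ∈ H, ∀ b ∈ H, a * b = b * a)
    (ϑ : H → ℂ) (hϑ : IsIrrCharacter H ϑ) (T : Subgroup G) [Fintype T]
    (hT : ∀ g : G, g ∈ T ↔ ∀ n : H, ϑ ⟨g * n * g⁻¹, hN.conj_mem (n : G) n.2 g⟩ = ϑ n)
    (hHT : H ≤ T) (χ : G → ℂ) (hχ : IsIrrCharacter G χ)
    (hcon : classInner (fun n : H => χ n) ϑ ≠ 0)
    (ψ : T → ℂ) (hψ : IsIrrCharacter T ψ) (hind : indFun T ψ = χ)
    (he : classInner (fun n : H => ψ ⟨(n : G), hHT n.2⟩) ϑ = classInner (fun n : H => χ n) ϑ)
    (d : ℕ) (hd : χ 1 = d) : d ∣ H.index := by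
  classical
  -- ϑ has degree one
  have hϑchar : IsCharacter H ϑ := isCharacter_of_isIrrCharacter hϑ
  have hϑ1 : ϑ 1 = 1 := by
    obtain ⟨n, σ, hσ, rfl⟩ := hϑ
    have : IsMulCommutative ↥H := ⟨⟨fun a b => Subtype.ext (hH a a.2 b b.2)⟩⟩
    have := hσ
    have h1 := Representation.IsIrreducible.finrank_eq_one_of_isMulCommutative σ
    rw [Representation.char_one, h1, Nat.cast_one]
  -- Clifford
  set e := classInner (fun n : H => χ n) ϑ with he_def
  have hcl := clifford_restrict H hχ hϑ hcon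
  have hcl1 := congrFun hcl 1
  simp only [Function.comp_apply, Pi.smul_apply, Finset.sum_apply, smul_eq_mul] at hcl1
  have hconj1 : ∀ φ ∈ Finset.univ.image (conjFunN H ϑ), φ 1 = 1 := by
    intro φ hφ
    obtain ⟨g, _, rfl⟩ := Finset.mem_image.mp hφ
    unfold conjFunN
    have : (⟨g * ((1 : H) : G) * g⁻¹, hN.conj_mem _ (1 : H).2 g⟩ : H) = 1 := by
      apply Subtype.ext
      simp
    rw [this, hϑ1]
  rw [Finset.sum_congr rfl hconj1, Finset.sum_const, nsmul_eq_mul, mul_one] at hcl1
  have hχ1 : χ 1 = e * ((Finset.univ.image (conjFunN H ϑ)).card : ℂ) := by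
    have : (H.subtype (1 : H)) = (1 : G) := rfl
    rw [← this]
    exact hcl1
  -- the orbit has size `T.index`
  have horbit : (Finset.univ.image (conjFunN H ϑ)).card = T.index := by
    let _ := conjFunAction H
    have hstab : MulAction.stabilizer G ϑ = T := by
      ext g
      rw [MulAction.mem_stabilizer_iff]
      constructor
      · intro h
        have h2 : g⁻¹ ∈ T := by
          rw [hT]
          intro n
          have := congrFun h n
          rw [conjFunAction_smul] at this
          exact this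
        have := inv_mem h2
        rwa [inv_inv] at this
      · intro h
        have h2 : g⁻¹ ∈ T := inv_mem h
        rw [hT] at h2
        funext n
        rw [conjFunAction_smul]
        exact h2 n
    have horb : MulAction.orbit G ϑ = ↑(Finset.univ.image (conjFunN H ϑ)) := by
      ext φ
      rw [MulAction.mem_orbit_iff, Finset.mem_coe, Finset.mem_image]
      constructor
      · rintro ⟨g, rfl⟩
        exact ⟨g⁻¹, Finset.mem_univ _, rfl⟩
      · rintro ⟨g, _, rfl⟩
        refine ⟨g⁻¹, ?_⟩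
        funext n
        rw [conjFunAction_smul]
        unfold conjFunN
        congr 1
        apply Subtype.ext
        simp
    rw [← hstab, MulAction.index_stabilizer, horb, Set.ncard_coe_finset]
  -- degree of the induced character
  have hψchar : IsCharacter T ψ := isCharacter_of_isIrrCharacter hψ
  obtain ⟨m, τ, hτ, hτψ⟩ := hψ
  have hψ1 : ψ 1 = (m : ℂ) := by
    rw [← hτψ, Representation.char_one, Module.finrank_fin_fun]
  have hTidx : (T.index : ℂ) * (Nat.card T : ℂ) = (Fintype.card G : ℂ) := by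
    rw [← Nat.card_eq_fintype_card, ← Subgroup.index_mul_card T]
    push_cast
    ring
  have hTcard : (Nat.card T : ℂ) ≠ 0 := Nat.cast_ne_zero.mpr Nat.card_pos.ne'
  have hχ1' : χ 1 = (T.index : ℂ) * (m : ℂ) := by
    rw [← hind, indFun_one, ← hTidx, hψ1]
    field_simp
  have hidx0 : (T.index : ℂ) ≠ 0 := Nat.cast_ne_zero.mpr Subgroup.index_ne_zero_of_finite
  have hem : e = (m : ℂ) := by
    rw [horbit] at hχ1
    have : (T.index : ℂ) * e = (T.index : ℂ) * (m : ℂ) := by
      rw [← hχ1', hχ1]; ring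
    exact mul_left_cancel₀ hidx0 this
  -- the restriction of ψ to H is m • ϑ
  set ψH : H → ℂ := fun n : H => ψ ⟨(n : G), hHT n.2⟩ with hψH
  have hψHchar : IsCharacter H ψH := by
    have := Cfsg.Agent.Lib.Helper2.isCharacter_comp_hom hψchar (Subgroup.inclusion hHT)
    exact this
  have hX : IsCharacter H (ψH - (m : ℂ) • ϑ) := by
    apply isCharacter_of_nat_coeff
    · intro a b
      have h1 := Cfsg.Agent.Lib.Helper26.isClassFunction_of_isCharacter hψHchar a b
      have h2 := Cfsg.Agent.Lib.Helper26.isClassFunction_of_isCharacter hϑchar a b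
      simp only [Pi.sub_apply, Pi.smul_apply, smul_eq_mul]
      rw [h1, h2]
    · intro μ
      rw [classInner_sub_left, classInner_smul_left]
      by_cases hμ : (μ : H → ℂ) = ϑ
      · refine ⟨0, ?_⟩
        rw [hμ, he, hem]
        have h3 := Cfsg.Agent.Lib.Helper4.classInner_irr (⟨ϑ, hϑ⟩ : IrrCharacter H) ⟨ϑ, hϑ⟩
        rw [if_pos rfl] at h3
        rw [h3]
        simp
      · obtain ⟨k, hk⟩ := classInner_isCharacter_nat hψHchar (isCharacter_of_isIrrCharacter μ.2)
        refine ⟨k, ?_⟩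
        have h3 := Cfsg.Agent.Lib.Helper4.classInner_irr (⟨ϑ, hϑ⟩ : IrrCharacter H) μ
        rw [if_neg (fun h => hμ (congrArg Subtype.val h).symm)] at h3
        rw [hk, h3]
        simp
  have hX0 : ψH - (m : ℂ) • ϑ = 0 := by
    apply isCharacter_eq_zero_of_one hX
    simp only [Pi.sub_apply, Pi.smul_apply, smul_eq_mul, hϑ1, mul_one]
    have : ψH 1 = ψ 1 := rfl
    rw [this, hψ1, sub_self]
  have hψH_eq : ∀ n : H, ψ ⟨(n : G), hHT n.2⟩ = (m : ℂ) * ϑ n := by
    intro n
    have := congrFun hX0 n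
    simp only [Pi.sub_apply, Pi.smul_apply, smul_eq_mul, Pi.zero_apply] at this
    exact sub_eq_zero.mp this
  -- H acts by scalars in τ
  have hscalar : ∀ a ∈ H.subgroupOf T, ∃ c : ℂ, τ a = c • LinearMap.id := by
    intro a ha
    rw [Subgroup.mem_subgroupOf] at ha
    apply (norm_character_eq_finrank_iff τ a).mp
    rw [hτψ, Module.finrank_fin_fun]
    have h1 := hψH_eq ⟨(a : G), ha⟩
    have h2 : (⟨((⟨(a : G), ha⟩ : H) : G), hHT ha⟩ : T) = a := rfl
    rw [h2] at h1
    rw [h1, norm_mul, norm_lin_eq_one hϑchar hϑ1, mul_one, Complex.norm_natCast]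
  have hdvd := degree_dvd_index_of_scalar τ hτ (H.subgroupOf T) hscalar
  rw [Module.finrank_fin_fun] at hdvd
  -- conclusion
  have hdm : d = T.index * m := by
    have : (d : ℂ) = ((T.index * m : ℕ) : ℂ) := by
      rw [← hd, hχ1']; push_cast; ring
    exact_mod_cast this
  rw [hdm, ← Subgroup.relIndex_mul_index hHT, mul_comm]
  exact Nat.mul_dvd_mul_right hdvd _

end Ito

end Cfsg.Agent.Lib.Helper28
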