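import Mathlib
import Cfsg.Prelude.Def_Characters
import Cfsg.Agent.S0873
import Cfsg.Agent.Lib.Helper26.Clifford
import Cfsg.Agent.Lib.Helper26.IndIrr
import Cfsg.Agent.Lib.Helper4.RepEigen
import Cfsg.Agent.Lib.Helper4.BurnsideClass
import Cfsg.Agent.Lib.Helper28.ItoCore

set_option autoImplicit false

/-!
# The invariant case in the Goldschmidt–Isaacs proof of Brauer's theorem (helper28)

`H = C P` with `C` an abelian normal `p'`-subgroup and `P` a `p`-group; an irreducible character
`χ` of `H` lying over an `H`-invariant linear character of `C` and having the trivial character of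
`E ⊇ C_C(P) P` as a constituent of its restriction is trivial.
-/

namespace Cfsg.Agent.Lib.Helper28

open Cfsg Cfsg.Agent.Lib.Helper26 Cfsg.Agent.Lib.Helper4
open scoped ComplexConjugate

theorem eq_one_of_invariant {H : Type*} [Group H] [Fintype H] {p : ℕ} [Fact p.Prime]
    (C : Subgroup H) [hCn : C.Normal] [Fintype C] (hCcomm : ∀ a ∈ C, ∀ b ∈ C, a * b = b * a)
    (hcop : Nat.Coprime (Nat.card C) p) (P : Subgroup H) (hP : IsPGroup p P) (hCP : C ⊔ P = ⊤)
    (E : Subgroup H) [Fintype E] (hPE : P ≤ E)
    (hZE : C ⊓ Subgroup.centralizer (P : Set H) ≤ E)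
    (χ : H → ℂ) (hχ : IsIrrCharacter H χ)
    (hE : classInner (fun _ : E => (1 : ℂ)) (χ ∘ E.subtype) ≠ 0)
    (lam : C → ℂ) (hlam : IsIrrCharacter C lam)
    (hcon : classInner (χ ∘ C.subtype) lam ≠ 0)
    (hinv : ∀ (g : H) (n : C), lam ⟨g * n * g⁻¹, hCn.conj_mem (n : H) n.2 g⟩ = lam n) :
    χ = fun _ => 1 := by
  classical
  have hlamchar : IsCharacter C lam := isCharacter_of_isIrrCharacter hlam
  have hlam1 : lam 1 = 1 := by
    obtain ⟨n, σ, hσ, rfl⟩ := hlam
    have : IsMulCommutative ↥C := ⟨⟨fun a b => Subtype.ext (hCcomm a a.2 b b.2)⟩⟩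
    have := hσ
    have h1 := Representation.IsIrreducible.finrank_eq_one_of_isMulCommutative σ
    rw [Representation.char_one, h1, Nat.cast_one]
  -- Clifford
  have hcl := clifford_restrict C hχ hlam hcon
  have himage : Finset.univ.image (conjFunN C lam) = {lam} := by
    ext ψ
    rw [Finset.mem_image, Finset.mem_singleton]
    constructor
    · rintro ⟨g, _, rfl⟩
      funext n
      exact hinv g n
    · rintro rfl
      refine ⟨1, Finset.mem_univ _, ?_⟩
      funext n
      exact hinv 1 n
  rw [himage, Finset.sum_singleton] at hcl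
  set e := classInner (χ ∘ C.subtype) lam with he
  have hχC : ∀ c : C, χ c = e * lam c := by
    intro c
    have := congrFun hcl c
    simpa using this
  have hχ1 : χ 1 = e := by
    have := hχC 1
    rw [hlam1, mul_one] at this
    exact this
  obtain ⟨n, ρ, hirr, rfl⟩ := hχ
  have hfin : ρ.character 1 = (Module.finrank ℂ (Fin n → ℂ) : ℂ) := Representation.char_one ρ
  -- scalar action of C
  have hscal : ∀ c : C, ρ (c : H) = lam c • (LinearMap.id : (Fin n → ℂ) →ₗ[ℂ] (Fin n → ℂ)) := by
    intro c
    apply rho_eq_smul_of_eigvals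
    apply eigvals_eq_of_character_eq ρ (c : H) (lam c) (norm_lin_eq_one hlamchar hlam1 c)
    rw [hχC c, ← hχ1, hfin, mul_comm]
  -- an E-invariant vector
  have hE' : classInner (ρ.character ∘ E.subtype) (fun _ : E => (1 : ℂ)) ≠ 0 := by
    rw [← classInner_conj_symm]
    intro h
    apply hE
    have := congrArg (starRingEnd ℂ) h
    simpa using this
  let σ : Representation ℂ E (Fin n → ℂ) := ρ.comp E.subtype
  have hσchar : ∀ x : E, σ.character x = ρ.character (x : H) := fun x => rfl
  have hEne : (Nat.card E : ℂ) ≠ 0 := Nat.cast_ne_zero.mpr Nat.card_pos.ne'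
  have : Invertible (Nat.card E : ℂ) := invertibleOfNonzero hEne
  have havg := Representation.card_inv_mul_sum_char_eq_finrank (ρ := σ)
  have hfr : (Module.finrank ℂ (Representation.invariants σ) : ℂ) ≠ 0 := by
    rw [← havg]
    unfold classInner at hE'
    simpa [hσchar] using hE'
  have hne_bot : Representation.invariants σ ≠ ⊥ := by
    intro h
    apply hfr
    rw [h, finrank_bot, Nat.cast_zero]
  obtain ⟨v, hv, hv0⟩ := Submodule.exists_mem_ne_zero_of_ne_bot hne_bot
  have hvE : ∀ x ∈ E, ρ x v = v := by
    intro x hx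
    exact (Representation.mem_invariants σ v).mp hv ⟨x, hx⟩
  -- lam is trivial on Z
  have hker : ∀ c : C, (c : H) ∈ Subgroup.centralizer (P : Set H) → lam c = 1 := by
    intro c hc
    have hcE : (c : H) ∈ E := hZE ⟨c.2, hc⟩
    have h1 := hvE c hcE
    rw [hscal c] at h1
    simp only [LinearMap.smul_apply, LinearMap.id_coe, id_eq] at h1
    have h2 : (lam c - 1) • v = 0 := by rw [sub_smul, h1, one_smul, sub_self]
    rcases smul_eq_zero.mp h2 with h | h
    · exact sub_eq_zero.mp h
    · exact absurd h hv0
  have hlam_one : lam = fun _ => 1 :=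
    Cfsg.Agent.S0873.result p C P hP hcop hCP lam ⟨hlamchar, hlam1⟩ hinv hker
  -- v is fixed by all of H
  let S : Subgroup H :=
    { carrier := {g | ρ g v = v}
      one_mem' := by simp
      mul_mem' := by
        intro a b ha hb
        simp only [Set.mem_setOf_eq] at ha hb ⊢
        rw [map_mul, Module.End.mul_apply, hb, ha]
      inv_mem' := by
        intro a ha
        simp only [Set.mem_setOf_eq] at ha ⊢
        have : ρ a⁻¹ (ρ a v) = v := by
          rw [← Module.End.mul_apply, ← map_mul, inv_mul_cancel, map_one, Module.End.one_apply]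
        rw [ha] at this
        exact this }
  have hCS : C ≤ S := by
    intro c hc
    show ρ c v = v
    have := hscal ⟨c, hc⟩
    rw [hlam_one] at this
    simp only [one_smul] at this
    rw [this]; rfl
  have hPS : P ≤ S := fun u hu => hvE u (hPE hu)
  have hStop : S = ⊤ := by
    rw [eq_top_iff, ← hCP]; exact sup_le hCS hPS
  have hvH : v ∈ Representation.invariants ρ := by
    rw [Representation.mem_invariants]
    intro g
    have : g ∈ S := by rw [hStop]; trivial
    exact this
  have hHne : (Nat.card H : ℂ) ≠ 0 := Nat.cast_ne_zero.mpr Nat.card_pos.ne'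
  have : Invertible (Nat.card H : ℂ) := invertibleOfNonzero hHne
  have havgH := Representation.card_inv_mul_sum_char_eq_finrank (ρ := ρ)
  have hfrH : (Module.finrank ℂ (Representation.invariants ρ) : ℂ) ≠ 0 := by
    rw [Nat.cast_ne_zero]
    intro h
    rw [Submodule.finrank_eq_zero] at h
    rw [h, Submodule.mem_bot] at hvH
    exact hv0 hvH
  apply eq_of_classInner_ne_zero ⟨n, ρ, hirr, rfl⟩ isIrrCharacter_one
  unfold classInner
  rw [← havgH] at hfrH
  simpa using hfrH

end Cfsg.Agent.Lib.Helper28
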