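import Mathlib

set_option autoImplicit false

/-!
# Banaschewski's lemma, local form (helper28)

A multiplicatively closed `ℤ`-submodule `R` of complex functions on a finite set such that for every
point `x` some `f ∈ R` has an integer value at `x` prime to `p`, contains a constant integer
function `m` with `p ∤ m`.
-/

namespace Cfsg.Agent.Lib.Helper28

theorem local_const_mem {S : Type*} [Fintype S] (R : Submodule ℤ (S → ℂ))
    (hmul : ∀ f ∈ R, ∀ g ∈ R, f * g ∈ R) (p : ℕ) (hp : p.Prime)
    (hpt : ∀ x : S, ∃ f ∈ R, ∃ n : ℤ, f x = (n : ℂ) ∧ ¬ (p : ℤ) ∣ n) :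
    ∃ m : ℤ, ¬ (p : ℤ) ∣ m ∧ (fun _ : S => (m : ℂ)) ∈ R := by
  classical
  have hpi : Prime (p : ℤ) := Nat.prime_iff_prime_int.mp hp
  have key : ∀ T : Finset S, ∃ m : ℤ, ¬ (p : ℤ) ∣ m ∧ ∃ F ∈ R, ∀ y ∈ T, F y = (m : ℂ) := by
    intro T
    induction T using Finset.induction_on with
    | empty =>
      refine ⟨1, ?_, 0, R.zero_mem, fun y hy => absurd hy (Finset.notMem_empty y)⟩
      intro h
      exact hpi.not_unit (isUnit_of_dvd_one h)
    | insert x T _ ih =>
      obtain ⟨m, hm, F, hF, hFT⟩ := ih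
      obtain ⟨f, hf, a, hfa, ha⟩ := hpt x
      refine ⟨m * a, ?_, a • F + m • f - F * f, ?_, ?_⟩
      · intro h
        rcases hpi.dvd_or_dvd h with h | h
        · exact hm h
        · exact ha h
      · exact R.sub_mem (R.add_mem (R.smul_mem _ hF) (R.smul_mem _ hf)) (hmul F hF f hf)
      · intro y hy
        have hzero : ((m : ℂ) - F y) * ((a : ℂ) - f y) = 0 := by
          rw [Finset.mem_insert] at hy
          rcases hy with rfl | hy
          · rw [hfa, sub_self, mul_zero]
          · rw [hFT y hy, sub_self, zero_mul]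
        simp only [Pi.sub_apply, Pi.add_apply, Pi.smul_apply, Pi.mul_apply, zsmul_eq_mul,
          Int.cast_mul]
        linear_combination (-1 : ℂ) * hzero
  obtain ⟨m, hm, F, hF, hFT⟩ := key Finset.univ
  refine ⟨m, hm, ?_⟩
  have : F = fun _ : S => (m : ℂ) := funext fun y => hFT y (Finset.mem_univ y)
  rw [← this]; exact hF

end Cfsg.Agent.Lib.Helper28
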