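import Mathlib
import Cfsg.Prelude.Def_Characters
import Cfsg.Agent.S0870
import Cfsg.Agent.Lib.Helper28.Banaschewski

set_option autoImplicit false

/-!
# Quasi-elementary subgroups and the ring of their permutation characters (helper28)
-/

namespace Cfsg.Agent.Lib.Helper28

open Cfsg

variable {G : Type*} [Group G]

/-- `H` is `p`-quasi-elementary: it has a cyclic normal subgroup of order prime to `p` and
`p`-power index. -/
def QE (p : ℕ) (H : Subgroup G) : Prop :=
  ∃ C : Subgroup G, C ≤ H ∧ H ≤ Subgroup.normalizer (C : Set G) ∧ IsCyclic C ∧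
    Nat.Coprime (Nat.card C) p ∧ ∃ k : ℕ, C.relIndex H = p ^ k

theorem QE_of_le [Finite G] {p : ℕ} (hp : p.Prime) {U H : Subgroup G} (hUH : U ≤ H) (hH : QE p H) :
    QE p U := by
  obtain ⟨C, hCH, hHN, hcyc, hcop, k, hk⟩ := hH
  refine ⟨C ⊓ U, inf_le_right, ?_, ?_, ?_, ?_⟩
  · intro u hu
    rw [Subgroup.mem_normalizer_iff]
    intro c
    have hu' := Subgroup.mem_normalizer_iff.mp (hHN (hUH hu)) c
    constructor
    · rintro ⟨hc1, hc2⟩
      exact ⟨hu'.mp hc1, U.mul_mem (U.mul_mem hu hc2) (U.inv_mem hu)⟩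
    · rintro ⟨hc1, hc2⟩
      refine ⟨hu'.mpr hc1, ?_⟩
      have : c = u⁻¹ * (u * c * u⁻¹) * u := by group
      rw [this]
      exact U.mul_mem (U.mul_mem (U.inv_mem hu) hc2) hu
  · exact isCyclic_of_injective (Subgroup.inclusion (inf_le_left : C ⊓ U ≤ C))
      (Subgroup.inclusion_injective _)
  · exact Nat.Coprime.coprime_dvd_left (Subgroup.card_dvd_of_le inf_le_left) hcop
  · rw [Subgroup.inf_relIndex_right]
    have hnorm : (C.subgroupOf H).Normal := by
      rw [← Subgroup.normalizer_eq_top_iff]
      rw [eq_top_iff]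
      intro h _
      rw [Subgroup.mem_normalizer_iff]
      intro c
      have := Subgroup.mem_normalizer_iff.mp (hHN h.2) c.1
      simpa [Subgroup.mem_subgroupOf] using this
    have h1 : (C.subgroupOf H).relIndex (U.subgroupOf H) ∣ (C.subgroupOf H).index :=
      Subgroup.relIndex_dvd_index_of_normal _ _
    rw [Subgroup.relIndex_subgroupOf hUH] at h1
    have h2 : (C.subgroupOf H).index = C.relIndex H := rfl
    rw [h2, hk] at h1
    obtain ⟨j, _, hj⟩ := (Nat.dvd_prime_pow hp).mp h1
    exact ⟨j, hj⟩

variable [Fintype G]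

/-- the `ℤ`-span of the permutation characters on cosets of `p`-quasi-elementary subgroups. -/
noncomputable def permRing (p : ℕ) : Submodule ℤ (G → ℂ) :=
  Submodule.span ℤ {f | ∃ H : Subgroup G, QE p H ∧ f = indFun H (fun _ => (1 : ℂ))}

theorem indFun_one_mem_permRing {p : ℕ} {H : Subgroup G} (hH : QE p H) :
    indFun H (fun _ => (1 : ℂ)) ∈ permRing (G := G) p :=
  Submodule.subset_span ⟨H, hH, rfl⟩

theorem permRing_mul_mem {p : ℕ} (hp : p.Prime) {f g : G → ℂ} (hf : f ∈ permRing (G := G) p)
    (hg : g ∈ permRing (G := G) p) : f * g ∈ permRing (G := G) p := by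
  classical
  unfold permRing at hf hg
  induction hf, hg using Submodule.span_induction₂ with
  | mem_mem x y hx hy =>
    obtain ⟨H, hH, rfl⟩ := hx
    obtain ⟨K, _, rfl⟩ := hy
    obtain ⟨a, ha, hprod⟩ := Cfsg.Agent.S0870.result H K
    rw [hprod]
    refine Submodule.sum_mem _ fun U _ => ?_
    by_cases hU : a U = 0
    · rw [hU, Nat.cast_zero, zero_smul]; exact Submodule.zero_mem _
    · have hUq : QE p U := QE_of_le hp (ha U hU) hH
      have : ((a U : ℂ) • indFun U (fun _ => (1 : ℂ))) = (a U : ℤ) • indFun U (fun _ => (1 : ℂ)) := by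
        funext g
        simp [Pi.smul_apply]
      rw [this]
      exact Submodule.smul_mem _ _ (indFun_one_mem_permRing hUq)
  | zero_left y hy => rw [zero_mul]; exact Submodule.zero_mem _
  | zero_right x hx => rw [mul_zero]; exact Submodule.zero_mem _
  | add_left x y z hx hy hz h1 h2 => rw [add_mul]; exact Submodule.add_mem _ h1 h2
  | add_right x y z hx hy hz h1 h2 => rw [mul_add]; exact Submodule.add_mem _ h1 h2
  | smul_left r x y hx hy h => rw [smul_mul_assoc]; exact Submodule.smul_mem _ _ h
  | smul_right r x y hx hy h => rw [mul_smul_comm]; exact Submodule.smul_mem _ _ h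

/-- explicit coefficients for an element of the span -/
theorem exists_coeff_of_mem_permRing {p : ℕ} {f : G → ℂ} (hf : f ∈ permRing (G := G) p)
    [Fintype (Subgroup G)] :
    ∃ a : Subgroup G → ℤ, (∀ H, a H ≠ 0 → QE p H) ∧
      f = ∑ H : Subgroup G, (a H : ℂ) • indFun H (fun _ => (1 : ℂ)) := by
  classical
  unfold permRing at hf
  induction hf using Submodule.span_induction with
  | mem x hx =>
    obtain ⟨H, hH, rfl⟩ := hx
    refine ⟨fun U => if U = H then 1 else 0, ?_, ?_⟩
    · intro U hU
      by_cases h : U = H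
      · rw [h]; exact hH
      · simp only [if_neg h] at hU; exact absurd rfl hU
    · rw [Finset.sum_eq_single H]
      · simp
      · intro U _ hU; simp [hU]
      · intro h; exact absurd (Finset.mem_univ _) h
  | zero => exact ⟨fun _ => 0, fun H h => absurd rfl h, by simp⟩
  | add x y hx hy h1 h2 =>
    obtain ⟨a, ha, rfl⟩ := h1
    obtain ⟨b, hb, rfl⟩ := h2
    refine ⟨a + b, ?_, ?_⟩
    · intro H hH
      by_contra hq
      apply hH
      have h1 : a H = 0 := by by_contra h; exact hq (ha H h)
      have h2 : b H = 0 := by by_contra h; exact hq (hb H h)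
      simp [h1, h2]
    · rw [← Finset.sum_add_distrib]
      refine Finset.sum_congr rfl fun H _ => ?_
      simp only [Pi.add_apply, Int.cast_add, add_smul]
  | smul r x hx h =>
    obtain ⟨a, ha, rfl⟩ := h
    refine ⟨fun H => r * a H, ?_, ?_⟩
    · intro H hH
      apply ha
      intro h0
      apply hH
      simp [h0]
    · rw [Finset.smul_sum]
      refine Finset.sum_congr rfl fun H _ => ?_
      funext g
      simp only [Pi.smul_apply, zsmul_eq_mul, Int.cast_mul, smul_eq_mul]
      ring

end Cfsg.Agent.Lib.Helper28
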