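import Mathlib
import Cfsg.Prelude.Def_Characters
import Cfsg.Agent.Lib.Helper28.QuasiElem

set_option autoImplicit false

/-!
# Structure of quasi-elementary groups (helper28)
-/

namespace Cfsg.Agent.Lib.Helper28

open Cfsg

/-- a group with a cyclic normal subgroup of order prime to `p` and `p`-power index -/
def QEType (p : ℕ) (H : Type*) [Group H] : Prop :=
  ∃ C : Subgroup H, C.Normal ∧ IsCyclic C ∧ Nat.Coprime (Nat.card C) p ∧ ∃ k : ℕ, C.index = p ^ k

theorem QEType_of_QE {G : Type*} [Group G] {p : ℕ} {T : Subgroup G} (h : QE p T) : QEType p T := by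
  obtain ⟨C, hCT, hTN, hcyc, hcop, k, hk⟩ := h
  refine ⟨C.subgroupOf T, ?_, ?_, ?_, k, hk⟩
  · rw [← Subgroup.normalizer_eq_top_iff, eq_top_iff]
    intro t _
    rw [Subgroup.mem_normalizer_iff]
    intro c
    have := Subgroup.mem_normalizer_iff.mp (hTN t.2) c.1
    simpa [Subgroup.mem_subgroupOf] using this
  · exact isCyclic_of_surjective (Subgroup.subgroupOfEquivOfLe hCT).symm.toMonoidHom
      (Subgroup.subgroupOfEquivOfLe hCT).symm.surjective
  · rw [Nat.card_congr (Subgroup.subgroupOfEquivOfLe hCT).toEquiv]; exact hcop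

theorem QE_top_of_QEType {H : Type*} [Group H] {p : ℕ} (h : QEType p H) :
    QE p (⊤ : Subgroup H) := by
  obtain ⟨C, hCn, hcyc, hcop, k, hk⟩ := h
  refine ⟨C, le_top, ?_, hcyc, hcop, k, ?_⟩
  · rw [Subgroup.normalizer_eq_top_iff.mpr hCn]
  · rw [Subgroup.relIndex_top_right, hk]

theorem QEType_subgroup {H : Type*} [Group H] [Finite H] {p : ℕ} (hp : p.Prime)
    (h : QEType p H) (T : Subgroup H) : QEType p T :=
  QEType_of_QE (QE_of_le hp le_top (QE_top_of_QEType h))

section Structure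

variable {H : Type*} [Group H] [Finite H] {p : ℕ} [hp : Fact p.Prime]

theorem sup_sylow_eq_top (C : Subgroup H) {k : ℕ} (hk : C.index = p ^ k) (P : Sylow p H) :
    C ⊔ (P : Subgroup H) = ⊤ := by
  rw [← Subgroup.index_eq_one]
  have h1 : (C ⊔ (P : Subgroup H)).index ∣ p ^ k := by
    rw [← hk]; exact Subgroup.index_dvd_of_le le_sup_left
  have h2 : (C ⊔ (P : Subgroup H)).index ∣ (P : Subgroup H).index :=
    Subgroup.index_dvd_of_le le_sup_right
  obtain ⟨j, _, hj⟩ := (Nat.dvd_prime_pow hp.out).mp h1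
  rcases Nat.eq_zero_or_pos j with h0 | h0
  · rw [hj, h0, pow_zero]
  · exfalso
    apply P.not_dvd_index
    rw [hj] at h2
    exact (dvd_pow_self p h0.ne').trans h2

theorem inf_pgroup_eq_bot (C : Subgroup H) (hcop : Nat.Coprime (Nat.card C) p) (P : Subgroup H)
    (hP : IsPGroup p P) : C ⊓ P = ⊥ := by
  rw [eq_bot_iff]
  intro x hx
  rw [Subgroup.mem_bot]
  have h1 : orderOf x ∣ Nat.card C := by
    have := orderOf_dvd_natCard (⟨x, hx.1⟩ : C)
    rwa [Subgroup.orderOf_mk] at this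
  obtain ⟨j, hj⟩ := hP ⟨x, hx.2⟩
  have h2 : orderOf x ∣ p ^ j := by
    apply orderOf_dvd_of_pow_eq_one
    have := congrArg Subtype.val hj
    simpa using this
  have h3 : Nat.Coprime (orderOf x) (p ^ j) :=
    Nat.Coprime.coprime_dvd_left h1 (Nat.Coprime.pow_right j hcop)
  have h4 : orderOf x = 1 := Nat.Coprime.eq_one_of_dvd h3 h2
  exact orderOf_eq_one_iff.mp h4

end Structure

end Cfsg.Agent.Lib.Helper28
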