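import Mathlib
import Cfsg.Prelude.Def_Characters
import Cfsg.Agent.Lib.Helper28.QEStruct

set_option autoImplicit false

/-!
# The elementary subgroup `C_C(P) P` of a quasi-elementary group `C P` (helper28)
-/

namespace Cfsg.Agent.Lib.Helper28

open Cfsg

variable {H : Type*} [Group H] [Finite H] {p : ℕ} [hp : Fact p.Prime]

theorem isElementary_centralizer_sup (C : Subgroup H) (hcyc : IsCyclic C)
    (hcop : Nat.Coprime (Nat.card C) p) (P : Subgroup H) (hP : IsPGroup p P)
    (hCP : C ⊔ P = ⊤) :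
    IsElementary p ↥(C ⊓ Subgroup.centralizer (P : Set H) ⊔ P) := by
  classical
  set Z := C ⊓ Subgroup.centralizer (P : Set H) with hZ
  have hZcyc : IsCyclic Z :=
    isCyclic_of_injective (Subgroup.inclusion (inf_le_left : Z ≤ C)) (Subgroup.inclusion_injective _)
  obtain ⟨z0, hz0⟩ := hZcyc.exists_generator
  have hzZ : (z0 : H) ∈ Z := z0.2
  have hgen : ∀ y ∈ Z, ∃ n : ℤ, (z0 : H) ^ n = y := by
    intro y hy
    obtain ⟨n, hn⟩ := Subgroup.mem_zpowers_iff.mp (hz0 ⟨y, hy⟩)
    refine ⟨n, ?_⟩
    have := congrArg Subtype.val hn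
    simpa using this
  -- commutation inside C
  have hCcomm : ∀ a ∈ C, ∀ b ∈ C, a * b = b * a := by
    intro a ha b hb
    have := hcyc
    have h := (IsCyclic.commGroup (α := C)).mul_comm ⟨a, ha⟩ ⟨b, hb⟩
    exact congrArg Subtype.val h
  -- Z is central in H
  have hZcent : ∀ y ∈ Z, ∀ g : H, g * y = y * g := by
    intro y hy g
    have hg : g ∈ C ⊔ P := by rw [hCP]; trivial
    have hle : C ⊔ P ≤ Subgroup.centralizer ({y} : Set H) := by
      apply sup_le
      · intro c hc
        rw [Subgroup.mem_centralizer_singleton_iff]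
        exact hCcomm c hc y hy.1
      · intro u hu
        rw [Subgroup.mem_centralizer_singleton_iff]
        have := Subgroup.mem_centralizer_iff.mp hy.2 u hu
        exact this
    exact Subgroup.mem_centralizer_singleton_iff.mp (hle hg)
  have hZn : Z.Normal := by
    constructor
    intro y hy g
    have : g * y * g⁻¹ = y := by rw [hZcent y hy g]; group
    rw [this]; exact hy
  set E := Z ⊔ P with hE
  have hzE : (z0 : H) ∈ E := Subgroup.mem_sup_left hzZ
  refine ⟨⟨z0, hzE⟩, ?_, ?_, ?_⟩
  · rw [Subgroup.mem_center_iff]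
    intro y
    apply Subtype.ext
    exact hZcent z0 hzZ y
  · have h1 : orderOf (⟨(z0 : H), hzE⟩ : E) = orderOf (z0 : H) := Subgroup.orderOf_mk _ _
    rw [h1]
    have h2 : orderOf (z0 : H) ∣ Nat.card C := by
      have := orderOf_dvd_natCard (⟨(z0 : H), hzZ.1⟩ : C)
      rwa [Subgroup.orderOf_mk] at this
    exact Nat.Coprime.coprime_dvd_left h2 hcop
  · have h1 : Subgroup.zpowers (⟨(z0 : H), hzE⟩ : E) = Z.subgroupOf E := by
      ext y
      rw [Subgroup.mem_subgroupOf, Subgroup.mem_zpowers_iff]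
      constructor
      · rintro ⟨n, rfl⟩
        simp only [Subgroup.coe_zpow]
        exact Z.zpow_mem hzZ n
      · intro hy
        obtain ⟨n, hn⟩ := hgen y hy
        refine ⟨n, ?_⟩
        apply Subtype.ext
        simp only [Subgroup.coe_zpow]
        exact hn
    have h2 : (Z.subgroupOf E).index = Z.relIndex E := rfl
    rw [h1, h2, hE, Subgroup.relIndex_sup_left, ← Subgroup.inf_relIndex_right]
    have h3 : Z ⊓ P = ⊥ := by
      rw [eq_bot_iff, ← inf_pgroup_eq_bot C hcop P hP]
      exact inf_le_inf_right P inf_le_left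
    rw [h3, Subgroup.relIndex_bot_left]
    obtain ⟨j, hj⟩ := IsPGroup.iff_card.mp hP
    exact ⟨j, hj⟩

end Cfsg.Agent.Lib.Helper28
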