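import Mathlib
import Cfsg.Prelude.Def_Characters
import Cfsg.Agent.S0169
import Cfsg.Agent.Lib.Helper28.BrauerIndA
import Cfsg.Agent.Lib.Helper28.QEElem
import Cfsg.Agent.Lib.Helper28.InvCase

set_option autoImplicit false

/-!
# The trivial character of a quasi-elementary group is an integer combination of characters
induced from elementary subgroups (Isaacs 8.10) (helper28)
-/

universe u

namespace Cfsg.Agent.Lib.Helper28

open Cfsg Cfsg.Agent.Lib.Helper26 Cfsg.Agent.Lib.Helper4 Cfsg.Agent.Lib.Helper7

theorem isCharacter_one' {G : Type*} [Group G] : IsCharacter G (fun _ => (1 : ℂ)) :=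
  isCharacter_of_isIrrCharacter isIrrCharacter_one

theorem one_mem_elemInd_aux (p : ℕ) [hp : Fact p.Prime] :
    ∀ (n : ℕ) (H : Type u) [Group H] [Fintype H], Fintype.card H = n → QEType p H →
      (fun _ : H => (1 : ℂ)) ∈ elemInd p H := by
  intro n
  induction n using Nat.strong_induction_on with
  | _ n ih =>
  intro H _ _ hcard hQE
  classical
  obtain ⟨C, hCn, hcyc, hcop, k, hk⟩ := id hQE
  obtain ⟨P⟩ : Nonempty (Sylow p H) := inferInstance
  have hPp : IsPGroup p (P : Subgroup H) := P.isPGroup'
  have hCP : C ⊔ (P : Subgroup H) = ⊤ := sup_sylow_eq_top C hk P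
  have hCcomm : ∀ a ∈ C, ∀ b ∈ C, a * b = b * a := by
    intro a ha b hb
    have h := (IsCyclic.commGroup (α := C)).mul_comm ⟨a, ha⟩ ⟨b, hb⟩
    exact congrArg Subtype.val h
  set E : Subgroup H := C ⊓ Subgroup.centralizer ((P : Subgroup H) : Set H) ⊔ (P : Subgroup H)
    with hEdef
  have : Fintype E := Fintype.ofFinite E
  have : Fintype C := Fintype.ofFinite C
  have : Fintype (IrrCharacter H) := Fintype.ofFinite _
  have hEel : IsElementary p E := isElementary_centralizer_sup C hcyc hcop P hPp hCP
  have hPE : (P : Subgroup H) ≤ E := le_sup_right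
  have hZE : C ⊓ Subgroup.centralizer ((P : Subgroup H) : Set H) ≤ E := le_sup_left
  set π : H → ℂ := indFun E (fun _ => (1 : ℂ)) with hπ
  have hπmem : π ∈ elemInd p H := indFun_mem_elemInd hEel isCharacter_one'
  have hπchar : IsCharacter H π := isCharacter_indFun E isCharacter_one'
  have hπcf : IsClassFunction H π := Cfsg.Agent.Lib.Helper26.isClassFunction_of_isCharacter hπchar
  -- the claim
  have claim : ∀ μ : IrrCharacter H, (μ : H → ℂ) ≠ (fun _ => 1) →
      classInner π (μ : H → ℂ) ≠ 0 → (μ : H → ℂ) ∈ elemInd p H := by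
    intro μ hne hμ
    obtain ⟨χ, hχ⟩ := μ
    simp only at hne hμ ⊢
    have hχcf : IsClassFunction H χ := Cfsg.Agent.Lib.Helper26.isClassFunction_of_isIrrCharacter hχ
    have hEχ : classInner (fun _ : E => (1 : ℂ)) (χ ∘ E.subtype) ≠ 0 := by
      rwa [← classInner_indFun_left' E _ χ hχcf]
    obtain ⟨lam, hlam, hcon⟩ := Cfsg.Agent.S0169.exists_constituent C χ hχ
    set T := Cfsg.Agent.S0169.inertia C lam with hTdef
    have : Fintype T := Fintype.ofFinite T
    have hCT : C ≤ T := Cfsg.Agent.S0169.le_inertia C lam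
      (Cfsg.Agent.Lib.Helper26.isClassFunction_of_isIrrCharacter hlam)
    obtain ⟨ψ, hψ, hind, -⟩ := Cfsg.Agent.S0854.result C lam hlam T
      (Cfsg.Agent.S0169.mem_inertia C lam) hCT χ hχ hcon
    by_cases hT : T = ⊤
    · exfalso
      apply hne
      apply eq_one_of_invariant C hCcomm hcop P hPp hCP E hPE hZE χ hχ hEχ lam hlam hcon
      intro g n
      have hg : g ∈ T := by rw [hT]; trivial
      exact (Cfsg.Agent.S0169.mem_inertia C lam g).mp hg n
    · have hlt : Fintype.card T < n := by
        by_contra hge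
        apply hT
        apply Subgroup.eq_top_of_le_card
        rw [Nat.card_eq_fintype_card, Nat.card_eq_fintype_card, hcard]
        omega
      have h1T := ih (Fintype.card T) hlt T rfl (QEType_subgroup hp.out hQE T)
      have hψmem : ψ ∈ elemInd p T := by
        have := elemInd_mul_char h1T (isCharacter_of_isIrrCharacter hψ)
        have h2 : (fun _ : T => (1 : ℂ)) * ψ = ψ := by
          funext x; simp
        rwa [h2] at this
      rw [← hind]
      exact indFun_mem_elemInd_of_mem T hψmem
  -- assemble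
  let μ1 : IrrCharacter H := ⟨fun _ => 1, isIrrCharacter_one⟩
  have h11 : classInner π (μ1 : H → ℂ) = 1 := by
    show classInner (indFun E (fun _ => (1 : ℂ))) (fun _ => (1 : ℂ)) = 1
    rw [classInner_indFun_left' E _ _ (Cfsg.Agent.Lib.Helper26.isClassFunction_of_isCharacter
      isCharacter_one')]
    have := Cfsg.Agent.Lib.Helper4.classInner_irr
      (⟨fun _ => 1, isIrrCharacter_one⟩ : IrrCharacter E) ⟨fun _ => 1, isIrrCharacter_one⟩
    rw [if_pos rfl] at this
    exact this
  have hexp := classFunction_expansion π hπcf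
  rw [← Finset.add_sum_erase Finset.univ _ (Finset.mem_univ μ1), h11, one_smul] at hexp
  have h1 : (fun _ : H => (1 : ℂ)) = π - ∑ μ ∈ Finset.univ.erase μ1,
      classInner π (μ : H → ℂ) • (μ : H → ℂ) := by
    rw [eq_sub_iff_add_eq]
    exact hexp.symm
  rw [h1]
  refine Submodule.sub_mem _ hπmem (Submodule.sum_mem _ fun μ hμ => ?_)
  obtain ⟨m, hm⟩ := classInner_isCharacter_nat hπchar (isCharacter_of_isIrrCharacter μ.2)
  by_cases hm0 : m = 0
  · rw [hm, hm0, Nat.cast_zero, zero_smul]; exact Submodule.zero_mem _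
  · have hne : (μ : H → ℂ) ≠ fun _ => 1 := by
      intro h
      apply (Finset.mem_erase.mp hμ).1
      exact Subtype.ext h
    have hμmem := claim μ hne (by rw [hm]; exact Nat.cast_ne_zero.mpr hm0)
    have : ((m : ℂ) • (μ : H → ℂ)) = (m : ℤ) • (μ : H → ℂ) := by
      funext g; simp
    rw [hm, this]
    exact Submodule.smul_mem _ _ hμmem

theorem one_mem_elemInd (p : ℕ) [Fact p.Prime] (H : Type u) [Group H] [Fintype H]
    (h : QEType p H) : (fun _ : H => (1 : ℂ)) ∈ elemInd p H :=
  one_mem_elemInd_aux p _ H rfl h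

end Cfsg.Agent.Lib.Helper28
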