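import Mathlib
import Cfsg.Prelude.Def_Characters
import Cfsg.Agent.S0872
import Cfsg.Agent.Lib.Helper28.BrauerIndB

set_option autoImplicit false

/-!
# `m · 1_G` is an integer combination of characters induced from `p`-elementary subgroups (helper28)
-/

namespace Cfsg.Agent.Lib.Helper28

open Cfsg Cfsg.Agent.Lib.Helper26

variable {G : Type*} [Group G] [Fintype G]

theorem permRing_le_elemInd (p : ℕ) [Fact p.Prime] : permRing (G := G) p ≤ elemInd p G := by
  classical
  unfold permRing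
  rw [Submodule.span_le]
  rintro f ⟨H, hH, rfl⟩
  have : Fintype H := Fintype.ofFinite H
  exact indFun_mem_elemInd_of_mem H (one_mem_elemInd p H (QEType_of_QE hH))

theorem const_mem_elemInd (p : ℕ) (hp : p.Prime) :
    ∃ m : ℤ, ¬ (p : ℤ) ∣ m ∧ (fun _ : G => (m : ℂ)) ∈ elemInd p G := by
  have : Fact p.Prime := ⟨hp⟩
  obtain ⟨m, hm, hmem⟩ := Cfsg.Agent.S0872.const_mem_permRing (G := G) p hp
  exact ⟨m, hm, permRing_le_elemInd p hmem⟩

/-- list form of membership in `elemInd` -/
theorem exists_list_of_mem_elemInd {p : ℕ} {f : G → ℂ} (hf : f ∈ elemInd p G) :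
    ∃ l : List ((E : Subgroup G) × ((E → ℂ) × ℤ)),
      (∀ t ∈ l, IsElementary p t.1 ∧ IsCharacter t.1 t.2.1) ∧
      f = (l.map fun t => (t.2.2 : ℂ) • indFun t.1 t.2.1).sum := by
  unfold elemInd at hf
  induction hf using Submodule.span_induction with
  | mem x hx =>
    obtain ⟨E, hE, φ, hφ, rfl⟩ := hx
    refine ⟨[⟨E, (φ, 1)⟩], ?_, ?_⟩
    · intro t ht
      rw [List.mem_singleton] at ht
      subst ht
      exact ⟨hE, hφ⟩
    · simp
  | zero => exact ⟨[], by simp, by simp⟩
  | add x y hx hy h1 h2 =>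
    obtain ⟨l1, hl1, rfl⟩ := h1
    obtain ⟨l2, hl2, rfl⟩ := h2
    refine ⟨l1 ++ l2, ?_, ?_⟩
    · intro t ht
      rcases List.mem_append.mp ht with h | h
      · exact hl1 t h
      · exact hl2 t h
    · rw [List.map_append, List.sum_append]
  | smul r x hx h =>
    obtain ⟨l, hl, rfl⟩ := h
    refine ⟨l.map (fun t => ⟨t.1, (t.2.1, r * t.2.2)⟩), ?_, ?_⟩
    · intro t ht
      obtain ⟨t', ht', rfl⟩ := List.mem_map.mp ht
      exact hl t' ht'
    · rw [List.map_map, List.smul_sum, List.map_map]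
      congr 1
      apply List.map_congr_left
      intro t _
      show r • ((t.2.2 : ℂ) • indFun t.1 t.2.1) = ((r * t.2.2 : ℤ) : ℂ) • indFun t.1 t.2.1
      rw [Int.cast_mul, mul_smul]
      exact (Int.cast_smul_eq_zsmul ℂ r _).symm

end Cfsg.Agent.Lib.Helper28
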