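import Mathlib
import Cfsg.Prelude.Def_Characters
import Cfsg.Agent.Lib.Helper28.BrauerIndC

set_option autoImplicit false

/-!
# `1_G` is an integer combination of characters induced from elementary subgroups (helper28)
-/

namespace Cfsg.Agent.Lib.Helper28

open Cfsg Cfsg.Agent.Lib.Helper26 Cfsg.Agent.Lib.Helper7

variable {G : Type*} [Group G] [Fintype G]

/-- the span of the characters induced from elementary subgroups (all primes) -/
noncomputable def elemIndAll (G : Type*) [Group G] [Fintype G] : Submodule ℤ (G → ℂ) :=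
  Submodule.span ℤ {f | ∃ p : ℕ, p.Prime ∧ ∃ E : Subgroup G, IsElementary p E ∧
    ∃ φ : E → ℂ, IsCharacter E φ ∧ f = indFun E φ}

theorem elemInd_le_elemIndAll {p : ℕ} (hp : p.Prime) : elemInd p G ≤ elemIndAll G := by
  unfold elemInd elemIndAll
  apply Submodule.span_mono
  rintro f ⟨E, hE, φ, hφ, rfl⟩
  exact ⟨p, hp, E, hE, φ, hφ, rfl⟩

theorem one_mem_elemIndAll : (fun _ : G => (1 : ℂ)) ∈ elemIndAll G := by
  -- the ideal of integers `m` with `m · 1 ∈ elemIndAll G`
  let I : Ideal ℤ :=
    { carrier := {m | (fun _ : G => (m : ℂ)) ∈ elemIndAll G}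
      add_mem' := by
        intro a b ha hb
        simp only [Set.mem_setOf_eq] at ha hb ⊢
        have : (fun _ : G => ((a + b : ℤ) : ℂ)) = (fun _ : G => (a : ℂ)) + fun _ : G => (b : ℂ) := by
          funext g; simp
        rw [this]; exact Submodule.add_mem _ ha hb
      zero_mem' := by
        simp only [Set.mem_setOf_eq]
        have : (fun _ : G => ((0 : ℤ) : ℂ)) = 0 := by funext g; simp
        rw [this]; exact Submodule.zero_mem _
      smul_mem' := by
        intro r a ha
        simp only [Set.mem_setOf_eq] at ha ⊢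
        have : (fun _ : G => ((r • a : ℤ) : ℂ)) = r • fun _ : G => (a : ℂ) := by
          funext g; simp
        rw [this]; exact Submodule.smul_mem _ _ ha }
  have hI : ∀ m : ℤ, m ∈ I ↔ (fun _ : G => (m : ℂ)) ∈ elemIndAll G := fun m => Iff.rfl
  obtain ⟨d, hd⟩ := (IsPrincipalIdealRing.principal I).principal
  have hdvd : ∀ m ∈ I, d ∣ m := by
    intro m hm
    rw [hd] at hm
    exact Ideal.mem_span_singleton.mp hm
  have hunit : IsUnit d := by
    by_contra hnu
    have hnat : d.natAbs ≠ 1 := by
      intro h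
      exact hnu (Int.isUnit_iff_natAbs_eq.mpr h)
    obtain ⟨p, hp, hpd⟩ := Nat.exists_prime_and_dvd hnat
    obtain ⟨m, hm, hmem⟩ := const_mem_elemInd (G := G) p hp
    have h1 : d ∣ m := hdvd m ((hI m).mpr (elemInd_le_elemIndAll hp hmem))
    apply hm
    have h2 : (p : ℤ) ∣ d := by
      rw [← Int.natAbs_dvd_natAbs, Int.natAbs_natCast]; exact hpd
    exact h2.trans h1
  have h1 : (1 : ℤ) ∈ I := by
    rw [hd, Ideal.mem_span_singleton]
    exact hunit.dvd
  have := (hI 1).mp h1
  simpa using this

/-- list form of membership in `elemIndAll` -/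
theorem exists_list_of_mem_elemIndAll {f : G → ℂ} (hf : f ∈ elemIndAll G) :
    ∃ l : List ((E : Subgroup G) × ((E → ℂ) × ℤ)),
      (∀ t ∈ l, (∃ p : ℕ, p.Prime ∧ IsElementary p t.1) ∧ IsCharacter t.1 t.2.1) ∧
      f = (l.map fun t => (t.2.2 : ℂ) • indFun t.1 t.2.1).sum := by
  unfold elemIndAll at hf
  induction hf using Submodule.span_induction with
  | mem x hx =>
    obtain ⟨p, hp, E, hE, φ, hφ, rfl⟩ := hx
    refine ⟨[⟨E, (φ, 1)⟩], ?_, ?_⟩
    · intro t ht
      rw [List.mem_singleton] at ht
      subst ht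
      exact ⟨⟨p, hp, hE⟩, hφ⟩
    · simp
  | zero => exact ⟨[], by simp, by simp⟩
  | add x y hx hy h1 h2 =>
    obtain ⟨l1, hl1, rfl⟩ := h1
    obtain ⟨l2, hl2, rfl⟩ := h2
    refine ⟨l1 ++ l2, ?_, ?_⟩
    · intro t ht
      rcases List.mem_append.mp ht with h | h
      · exact hl1 t h
      · exact hl2 t h
    · rw [List.map_append, List.sum_append]
  | smul r x hx h =>
    obtain ⟨l, hl, rfl⟩ := h
    refine ⟨l.map (fun t => ⟨t.1, (t.2.1, r * t.2.2)⟩), ?_, ?_⟩
    · intro t ht
      obtain ⟨t', ht', rfl⟩ := List.mem_map.mp ht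
      exact hl t' ht'
    · rw [List.map_map, List.smul_sum, List.map_map]
      congr 1
      apply List.map_congr_left
      intro t _
      show r • ((t.2.2 : ℂ) • indFun t.1 t.2.1) = ((r * t.2.2 : ℤ) : ℂ) • indFun t.1 t.2.1
      rw [Int.cast_mul, mul_smul]
      exact (Int.cast_smul_eq_zsmul ℂ r _).symm

theorem isGeneralizedCharacter_mul_char {G : Type*} [Group G] [Fintype G] {α φ : G → ℂ}
    (hα : IsGeneralizedCharacter G α) (hφ : IsCharacter G φ) :
    IsGeneralizedCharacter G (φ * α) := by
  obtain ⟨a, b, ha, hb, rfl⟩ := hα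
  rw [mul_sub]
  exact ⟨_, _, isCharacter_mul hφ ha, isCharacter_mul hφ hb, rfl⟩

/-- **Brauer's characterization of characters** -/
theorem brauer_characterization (θ : G → ℂ) (hθ : IsClassFunction G θ)
    (hE : ∀ (E : Subgroup G) (p : ℕ), p.Prime → IsElementary p E →
      IsGeneralizedCharacter E (fun e : E => θ e)) : IsGeneralizedCharacter G θ := by
  classical
  obtain ⟨l, hl, hsum⟩ := exists_list_of_mem_elemIndAll (one_mem_elemIndAll (G := G))
  have h1 : θ = (fun _ : G => (1 : ℂ)) * θ := by funext g; simp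
  rw [h1, hsum, ← List.sum_map_mul_right]
  -- each term is a generalized character
  have key : ∀ (l : List ((E : Subgroup G) × ((E → ℂ) × ℤ))),
      (∀ t ∈ l, (∃ p : ℕ, p.Prime ∧ IsElementary p t.1) ∧ IsCharacter t.1 t.2.1) →
      IsGeneralizedCharacter G
        (l.map fun t => (t.2.2 : ℂ) • indFun t.1 t.2.1 * θ).sum := by
    intro l
    induction l with
    | nil => intro _; simpa using isGeneralizedCharacter_zero
    | cons t l ih =>
      intro hl
      rw [List.map_cons, List.sum_cons]
      apply isGeneralizedCharacter_add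
      · obtain ⟨⟨p, hp, hEl⟩, hφ⟩ := hl t List.mem_cons_self
        have : Fintype t.1 := Fintype.ofFinite _
        have h2 : (t.2.2 : ℂ) • indFun t.1 t.2.1 * θ
            = t.2.2 • indFun t.1 (t.2.1 * fun e : t.1 => θ e) := by
          rw [indFun_mul_restrict t.1 t.2.1 θ hθ, smul_mul_assoc, Int.cast_smul_eq_zsmul]
        rw [h2]
        apply isGeneralizedCharacter_zsmul
        apply isGeneralizedCharacter_indFun
        exact isGeneralizedCharacter_mul_char (hE t.1 p hp hEl) hφ
      · exact ih (fun t' ht' => hl t' (List.mem_cons_of_mem _ ht'))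
  exact key l hl

end Cfsg.Agent.Lib.Helper28
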