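import Mathlib
import Cfsg.Prelude.Def_Characters

set_option autoImplicit false

/-!
# The `p`-regular elements of an elementary group (helper28)

An elementary group has a normal subgroup `Q` of order prime to `p` and index a power `p ^ a`
of `p`, all of whose elements have centralizers of order divisible by `p ^ a`.
-/

namespace Cfsg.Agent.Lib.Helper28

open Cfsg

theorem exists_pRegular_subgroup {E : Type*} [Group E] [Finite E] {q : ℕ} (hq : q.Prime)
    (hE : IsElementary q E) {p : ℕ} (hp : p.Prime) :
    ∃ (Q : Subgroup E) (a : ℕ), Q.Normal ∧ Q.index = p ^ a ∧ (Nat.card Q).Coprime p ∧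
      ∀ x ∈ Q, p ^ a ∣ Nat.card (Subgroup.centralizer ({x} : Set E)) := by
  classical
  have : Fact p.Prime := ⟨hp⟩
  obtain ⟨c, hc, hcop, k, hk⟩ := hE
  have hCcent : Subgroup.zpowers c ≤ Subgroup.center E := by
    rw [Subgroup.zpowers_le]; exact hc
  have hCn : (Subgroup.zpowers c).Normal := by
    constructor
    intro y hy g
    have := Subgroup.mem_center_iff.mp (hCcent hy) g
    have e : g * y * g⁻¹ = y := by rw [this]; group
    rw [e]; exact hy
  by_cases hqp : q = p
  · subst hqp
    refine ⟨Subgroup.zpowers c, k, hCn, hk, ?_, ?_⟩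
    · rw [Nat.card_zpowers]; exact hcop
    · intro x hx
      have hxc : x ∈ Subgroup.center E := hCcent hx
      have htop : Subgroup.centralizer ({x} : Set E) = ⊤ := by
        rw [eq_top_iff]
        intro g _
        rw [Subgroup.mem_centralizer_iff]
        intro y hy
        rw [Set.mem_singleton_iff] at hy
        subst hy
        exact (Subgroup.mem_center_iff.mp hxc g).symm
      rw [htop, Subgroup.card_top, ← Subgroup.card_mul_index (Subgroup.zpowers c), hk]
      exact dvd_mul_left _ _
  · -- the Sylow `p`-subgroup is central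
    obtain ⟨P⟩ : Nonempty (Sylow p E) := inferInstance
    have hPC : (P : Subgroup E) ≤ Subgroup.zpowers c := by
      intro y hy
      obtain ⟨j, hj⟩ := (IsPGroup.iff_orderOf.mp P.2) ⟨y, hy⟩
      have hj' : orderOf y = p ^ j := by
        rw [← hj]; exact (Subgroup.orderOf_coe (⟨y, hy⟩ : (P : Subgroup E)))
      have h1 : ((y : E) : E ⧸ Subgroup.zpowers c) ^ (p ^ j) = 1 := by
        rw [← QuotientGroup.mk_pow, ← hj', pow_orderOf_eq_one]; rfl
      have h2 : ((y : E) : E ⧸ Subgroup.zpowers c) ^ (q ^ k) = 1 := by
        have : Nat.card (E ⧸ Subgroup.zpowers c) = q ^ k := by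
          rw [← Subgroup.index_eq_card]; exact hk
        rw [← this]
        exact pow_card_eq_one'
      have h3 : orderOf ((y : E) : E ⧸ Subgroup.zpowers c) ∣ Nat.gcd (p ^ j) (q ^ k) :=
        Nat.dvd_gcd (orderOf_dvd_of_pow_eq_one h1) (orderOf_dvd_of_pow_eq_one h2)
      have h4 : Nat.gcd (p ^ j) (q ^ k) = 1 := by
        apply Nat.Coprime.pow
        exact (Nat.coprime_primes hp hq).mpr (Ne.symm hqp)
      rw [h4, Nat.dvd_one, orderOf_eq_one_iff] at h3
      exact (QuotientGroup.eq_one_iff y).mp h3
    have hPcent : (P : Subgroup E) ≤ Subgroup.center E := hPC.trans hCcent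
    have hP : Subgroup.normalizer (P : Set E) ≤ Subgroup.centralizer (P : Set E) := by
      intro g _
      rw [Subgroup.mem_centralizer_iff]
      intro y hy
      exact (Subgroup.mem_center_iff.mp (hPcent hy) g).symm
    have hcompl := MonoidHom.ker_transferSylow_isComplement' P hP
    obtain ⟨a, ha⟩ := (IsPGroup.iff_card.mp P.2)
    refine ⟨(MonoidHom.transferSylow P hP).ker, a, inferInstance, ?_, ?_, ?_⟩
    · rw [hcompl.symm.index_eq_card]; exact ha
    · rw [← hcompl.index_eq_card]
      exact Nat.Coprime.symm ((Nat.Prime.coprime_iff_not_dvd hp).mpr P.not_dvd_index)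
    · intro x _
      rw [← ha]
      apply Subgroup.card_dvd_of_le
      intro y hy
      rw [Subgroup.mem_centralizer_iff]
      intro z hz
      rw [Set.mem_singleton_iff] at hz
      subst hz
      exact Subgroup.mem_center_iff.mp (hPcent hy) z

end Cfsg.Agent.Lib.Helper28
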