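import Mathlib
import Cfsg.Prelude.Def_Characters
import Cfsg.Agent.Lib.Helper28.ElemPReg
import Cfsg.Agent.Lib.Helper28.BrauerIndD
import Cfsg.Agent.Lib.Helper4.CharIntegral
import Cfsg.Agent.Lib.Helper4.CenterDegree
import Cfsg.Agent.Lib.Helper26.CharInt

set_option autoImplicit false

/-!
# Characters of `p`-defect zero vanish on `p`-singular elements (helper28)
-/

namespace Cfsg.Agent.Lib.Helper28

open Cfsg Cfsg.Agent.Lib.Helper26 Cfsg.Agent.Lib.Helper4
open scoped ComplexConjugate

variable {G : Type*} [Group G] [Fintype G]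
variable {V : Type*} [AddCommGroup V] [Module ℂ V] [FiniteDimensional ℂ V]

/-- the `p`-regular part of a function -/
noncomputable def pRegPart (p : ℕ) (χ : G → ℂ) : G → ℂ :=
  fun g => if (orderOf g).Coprime p then χ g else 0

omit [Fintype G] in
theorem isClassFunction_pRegPart (p : ℕ) {χ : G → ℂ} (hχ : IsClassFunction G χ) :
    IsClassFunction G (pRegPart p χ) := by
  intro g k
  unfold pRegPart
  have h1 : orderOf (k * g * k⁻¹) = orderOf g := (MulAut.conj k).orderOf_eq g
  rw [h1, hχ g k]

/-- integrality of `b χ(x) / p ^ a` when `p ^ a` divides the centralizer order -/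
theorem isIntegral_scaled_char (ρ : Representation ℂ G V) (hirr : ρ.IsIrreducible)
    {b : ℕ} (hb : Module.finrank ℂ V * b = Nat.card G) (x : G) {pa : ℕ} (hpa : pa ≠ 0)
    (hdvd : pa ∣ Nat.card (Subgroup.centralizer ({x} : Set G))) :
    IsIntegral ℤ ((b : ℂ) * ρ.character x / (pa : ℂ)) := by
  classical
  obtain ⟨m, hm⟩ := hdvd
  have h1 := class_mul_char_div_degree_isIntegral ρ hirr x
  have hd := finrank_ne_zero_of_irreducible ρ hirr
  have h2 : Nat.card (Subgroup.centralizer ({x} : Set G)) *
      (Subgroup.centralizer ({x} : Set G)).index = Nat.card G := Subgroup.card_mul_index _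
  rw [hm, ← hb] at h2
  have h3 : ((pa : ℂ) * (m : ℂ)) * ((Subgroup.centralizer ({x} : Set G)).index : ℂ)
      = (Module.finrank ℂ V : ℂ) * (b : ℂ) := by exact_mod_cast h2
  have hpaC : (pa : ℂ) ≠ 0 := by exact_mod_cast hpa
  have h4 : (b : ℂ) * ρ.character x / (pa : ℂ) = (m : ℂ) *
      (((Subgroup.centralizer ({x} : Set G)).index : ℂ) * ρ.character x /
        (Module.finrank ℂ V : ℂ)) := by
    field_simp
    linear_combination (-ρ.character x) * h3
  rw [h4]
  exact IsIntegral.mul (isIntegral_natCast _) h1

/-- membership in the `p`-regular subgroup `Q` -/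
theorem coprime_orderOf_iff_mem {E : Type*} [Group E] [Finite E] {p : ℕ} (hp : p.Prime)
    (Q : Subgroup E) [Q.Normal] (a : ℕ) (hidx : Q.index = p ^ a)
    (hQcop : (Nat.card Q).Coprime p) (e : E) : (orderOf e).Coprime p ↔ e ∈ Q := by
  constructor
  · intro h
    have h1 : ((e : E) : E ⧸ Q) ^ (orderOf e) = 1 := by
      rw [← QuotientGroup.mk_pow, pow_orderOf_eq_one]; rfl
    have h2 : ((e : E) : E ⧸ Q) ^ (p ^ a) = 1 := by
      have : Nat.card (E ⧸ Q) = p ^ a := by
        rw [← Subgroup.index_eq_card]; exact hidx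
      rw [← this]
      exact pow_card_eq_one'
    have h3 : orderOf ((e : E) : E ⧸ Q) ∣ Nat.gcd (orderOf e) (p ^ a) :=
      Nat.dvd_gcd (orderOf_dvd_of_pow_eq_one h1) (orderOf_dvd_of_pow_eq_one h2)
    have h4 : Nat.gcd (orderOf e) (p ^ a) = 1 := Nat.Coprime.pow_right a h
    rw [h4, Nat.dvd_one, orderOf_eq_one_iff] at h3
    exact (QuotientGroup.eq_one_iff e).mp h3
  · intro he
    have h1 : orderOf (⟨e, he⟩ : Q) ∣ Nat.card Q := orderOf_dvd_natCard _
    rw [Subgroup.orderOf_mk] at h1
    exact Nat.Coprime.coprime_dvd_left h1 hQcop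

theorem pRegPart_restrict_isGeneralizedCharacter (ρ : Representation ℂ G V)
    (hirr : ρ.IsIrreducible) {p : ℕ} (hp : p.Prime) {b : ℕ}
    (hb : Module.finrank ℂ V * b = Nat.card G) (hbp : b.Coprime p)
    (E : Subgroup G) (Q : Subgroup E) (a : ℕ) (hQn : Q.Normal) (hidx : Q.index = p ^ a)
    (hQcop : (Nat.card Q).Coprime p)
    (hcent : ∀ x ∈ Q, p ^ a ∣ Nat.card (Subgroup.centralizer ({x} : Set E))) :
    IsGeneralizedCharacter E (fun e : E => pRegPart p ρ.character e) := by
  classical
  have : Fintype E := Fintype.ofFinite E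
  have : Fintype Q := Fintype.ofFinite Q
  have hχc : IsCharacter G ρ.character := isCharacter_of_rep ρ
  have hχcl : IsClassFunction G ρ.character := Helper26.isClassFunction_of_isCharacter hχc
  apply isGeneralizedCharacter_of_int_coeff
  · intro e k
    exact isClassFunction_pRegPart p hχcl (e : G) (k : G)
  · intro ψ
    have hψc : IsCharacter E (ψ : E → ℂ) := isCharacter_of_isIrrCharacter ψ.2
    obtain ⟨T, hT⟩ : ∃ T : ℂ,
        T = ∑ x : Q, ρ.character ((x : E) : G) * conj ((ψ : E → ℂ) (x : E)) := ⟨_, rfl⟩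
    have hsum : ∑ e : E, pRegPart p ρ.character (e : G) * conj ((ψ : E → ℂ) e) = T := by
      have h1 : ∀ e : E, pRegPart p ρ.character (e : G) * conj ((ψ : E → ℂ) e) =
          if e ∈ Q then ρ.character (e : G) * conj ((ψ : E → ℂ) e) else 0 := by
        intro e
        unfold pRegPart
        rw [Subgroup.orderOf_coe]
        by_cases he : e ∈ Q
        · rw [if_pos he, if_pos ((coprime_orderOf_iff_mem hp Q a hidx hQcop e).mpr he)]
        · rw [if_neg he,
            if_neg (fun h => he ((coprime_orderOf_iff_mem hp Q a hidx hQcop e).mp h)), zero_mul]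
      rw [Finset.sum_congr rfl (fun e _ => h1 e), ← Finset.sum_filter, hT]
      refine Finset.sum_subtype (Finset.univ.filter (· ∈ Q)) (fun e => by simp) _
    obtain ⟨N, hN⟩ := classInner_isCharacter_nat
      (isCharacter_restrict Q (isCharacter_restrict E hχc)) (isCharacter_restrict Q hψc)
    have hQ0 : (Nat.card Q : ℂ) ≠ 0 := by exact_mod_cast Nat.card_pos.ne'
    have hTN : T = (Nat.card Q : ℂ) * N := by
      unfold classInner at hN
      rw [← hN, ← mul_assoc, mul_inv_cancel₀ hQ0, one_mul, hT]
      rfl
    have hpa : p ^ a ≠ 0 := pow_ne_zero _ hp.ne_zero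
    have hint : IsIntegral ℤ ((b : ℂ) * T / ((p ^ a : ℕ) : ℂ)) := by
      rw [hT, Finset.mul_sum, Finset.sum_div]
      apply IsIntegral.sum
      intro x _
      have hle : (Subgroup.centralizer ({(x : E)} : Set E)).map E.subtype ≤
          Subgroup.centralizer ({((x : E) : G)} : Set G) := by
        rintro _ ⟨y, hy, rfl⟩
        rw [SetLike.mem_coe, Subgroup.mem_centralizer_iff] at hy
        rw [Subgroup.mem_centralizer_iff]
        intro z hz
        rw [Set.mem_singleton_iff] at hz
        subst hz
        have := hy (x : E) rfl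
        exact congrArg Subtype.val this
      have hdvd := Subgroup.card_dvd_of_le hle
      rw [Subgroup.card_map_of_injective E.subtype_injective] at hdvd
      have h1 := isIntegral_scaled_char ρ hirr hb ((x : E) : G) hpa ((hcent x x.2).trans hdvd)
      have h2 : IsIntegral ℤ (conj ((ψ : E → ℂ) (x : E))) := by
        apply map_isIntegral_int
        obtain ⟨n, τ, _, hτψ⟩ := ψ.2
        rw [← hτψ]
        exact character_isIntegral τ (x : E)
      have h3 : (b : ℂ) * (ρ.character ((x : E) : G) * conj ((ψ : E → ℂ) (x : E))) /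
          ((p ^ a : ℕ) : ℂ) = (b : ℂ) * ρ.character ((x : E) : G) / ((p ^ a : ℕ) : ℂ) *
            conj ((ψ : E → ℂ) (x : E)) := by ring
      rw [h3]
      exact h1.mul h2
    have hdvd : p ^ a ∣ b * Nat.card Q * N := by
      apply dvd_of_isIntegral_div _ _ hpa
      have : ((b * Nat.card Q * N : ℕ) : ℂ) = (b : ℂ) * T := by
        rw [hTN]; push_cast; ring
      rw [this]
      exact hint
    have hcop : (p ^ a).Coprime (b * Nat.card Q) :=
      Nat.Coprime.pow_left a (Nat.Coprime.mul_right hbp.symm hQcop.symm)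
    have hdvd' : p ^ a ∣ N := by
      rw [mul_comm] at hdvd
      exact hcop.dvd_of_dvd_mul_right hdvd
    obtain ⟨N', rfl⟩ := hdvd'
    refine ⟨(N' : ℤ), ?_⟩
    unfold classInner
    rw [hsum, hTN]
    have hE : (Nat.card E : ℂ) = (Nat.card Q : ℂ) * ((p ^ a : ℕ) : ℂ) := by
      rw [← Subgroup.card_mul_index Q, hidx]; push_cast; ring
    have hpaC : ((p ^ a : ℕ) : ℂ) ≠ 0 := by exact_mod_cast hpa
    rw [hE]
    have hpC : (p : ℂ) ^ a ≠ 0 := pow_ne_zero _ (by exact_mod_cast hp.ne_zero)
    push_cast
    field_simp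

/-- the `p`-regular part of a character of `p`-defect zero is a generalized character -/
theorem pRegPart_isGeneralizedCharacter (ρ : Representation ℂ G V)
    (hirr : ρ.IsIrreducible) {p : ℕ} (hp : p.Prime) {b : ℕ}
    (hb : Module.finrank ℂ V * b = Nat.card G) (hbp : b.Coprime p) :
    IsGeneralizedCharacter G (pRegPart p ρ.character) := by
  have hχc : IsCharacter G ρ.character := isCharacter_of_rep ρ
  have hχcl : IsClassFunction G ρ.character := Helper26.isClassFunction_of_isCharacter hχc
  apply brauer_characterization _ (isClassFunction_pRegPart p hχcl)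
  intro E q hq hE
  obtain ⟨Q, a, hQn, hidx, hQcop, hcent⟩ := exists_pRegular_subgroup hq hE hp
  exact pRegPart_restrict_isGeneralizedCharacter ρ hirr hp hb hbp E Q a hQn hidx hQcop hcent

/-- **Characters of `p`-defect zero vanish on `p`-singular elements.** -/
theorem defect_zero_vanish (ρ : Representation ℂ G V) (hirr : ρ.IsIrreducible) {p : ℕ}
    (hp : p.Prime) {b : ℕ} (hb : Module.finrank ℂ V * b = Nat.card G) (hbp : b.Coprime p)
    (x : G) (hx : p ∣ orderOf x) : ρ.character x = 0 := by
  classical
  have hχi : IsIrrCharacter G ρ.character := isIrrCharacter_of_irreducible ρ hirr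
  have hχc : IsCharacter G ρ.character := isCharacter_of_rep ρ
  have hθ := pRegPart_isGeneralizedCharacter ρ hirr hp hb hbp
  obtain ⟨k, hk⟩ := classInner_generalized_int hθ (isGeneralizedCharacter_of_isCharacter hχc)
  have h1 : classInner ρ.character ρ.character = 1 := by
    have := classInner_irr (⟨ρ.character, hχi⟩ : IrrCharacter G) ⟨ρ.character, hχi⟩
    simpa using this
  obtain ⟨A, hA⟩ : ∃ A : ℝ, A = ∑ g : G,
      if (orderOf g).Coprime p then Complex.normSq (ρ.character g) else 0 := ⟨_, rfl⟩
  obtain ⟨S, hS⟩ : ∃ S : ℝ, S = ∑ g : G, Complex.normSq (ρ.character g) := ⟨_, rfl⟩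
  have hcard : (Nat.card G : ℝ) ≠ 0 := by exact_mod_cast Nat.card_pos.ne'
  have hcardC : (Nat.card G : ℂ) ≠ 0 := by exact_mod_cast Nat.card_pos.ne'
  have hkA : (k : ℝ) * Nat.card G = A := by
    unfold classInner at hk
    have h2 : ∑ g : G, pRegPart p ρ.character g * conj (ρ.character g) = ((A : ℝ) : ℂ) := by
      rw [hA, Complex.ofReal_sum]
      apply Finset.sum_congr rfl
      intro g _
      unfold pRegPart
      by_cases hg : (orderOf g).Coprime p
      · rw [if_pos hg, if_pos hg, Complex.mul_conj]
      · rw [if_neg hg, if_neg hg, zero_mul, Complex.ofReal_zero]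
    rw [h2] at hk
    have h3 : ((A : ℝ) : ℂ) = (k : ℂ) * (Nat.card G : ℂ) := by
      rw [← hk]; field_simp
    have h4 : ((A : ℝ) : ℂ) = (((k : ℝ) * (Nat.card G : ℝ) : ℝ) : ℂ) := by
      rw [h3]; push_cast; rfl
    exact (Complex.ofReal_injective h4).symm
  have hSG : (Nat.card G : ℝ) = S := by
    unfold classInner at h1
    have h2 : ∑ g : G, ρ.character g * conj (ρ.character g) = ((S : ℝ) : ℂ) := by
      rw [hS, Complex.ofReal_sum]
      apply Finset.sum_congr rfl
      intro g _
      rw [Complex.mul_conj]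
    rw [h2] at h1
    have h3 : ((S : ℝ) : ℂ) = (Nat.card G : ℂ) := by
      have := h1
      field_simp at this
      exact this
    have h4 : ((S : ℝ) : ℂ) = (((Nat.card G : ℝ) : ℝ) : ℂ) := by
      rw [h3]; push_cast; rfl
    exact (Complex.ofReal_injective h4).symm
  have hAS : A ≤ S := by
    rw [hA, hS]
    apply Finset.sum_le_sum
    intro g _
    split_ifs
    · exact le_refl _
    · exact Complex.normSq_nonneg _
  have hApos : 0 < A := by
    have h1ne : ρ.character 1 ≠ 0 := by
      rw [Representation.char_one]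
      exact_mod_cast finrank_ne_zero_of_irreducible ρ hirr
    have h2 : 0 < Complex.normSq (ρ.character 1) := Complex.normSq_pos.mpr h1ne
    have h3 : Complex.normSq (ρ.character 1) ≤ A := by
      rw [hA]
      have h4 : (if (orderOf (1 : G)).Coprime p then Complex.normSq (ρ.character 1) else 0)
          = Complex.normSq (ρ.character 1) := by
        rw [if_pos]; rw [orderOf_one]; exact Nat.coprime_one_left p
      rw [← h4]
      exact Finset.single_le_sum (f := fun g : G =>
        if (orderOf g).Coprime p then Complex.normSq (ρ.character g) else 0)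
        (fun g _ => by
          show 0 ≤ if (orderOf g).Coprime p then Complex.normSq (ρ.character g) else 0
          split_ifs
          · exact Complex.normSq_nonneg _
          · exact le_refl _) (Finset.mem_univ (1 : G))
    linarith
  have hcardpos : (0 : ℝ) < Nat.card G := by exact_mod_cast Nat.card_pos
  have hk1 : k = 1 := by
    have hkpos : (0 : ℝ) < k := by
      by_contra hneg
      push_neg at hneg
      have : (k : ℝ) * Nat.card G ≤ 0 := mul_nonpos_of_nonpos_of_nonneg hneg hcardpos.le
      linarith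
    have hkle : (k : ℝ) ≤ 1 := by
      by_contra hgt
      push_neg at hgt
      have : (1 : ℝ) * Nat.card G < (k : ℝ) * Nat.card G := by
        exact mul_lt_mul_of_pos_right hgt hcardpos
      linarith
    have h5 : 0 < k := by exact_mod_cast hkpos
    have h6 : k ≤ 1 := by exact_mod_cast hkle
    omega
  have hAeqS : A = S := by
    rw [← hkA, hk1, ← hSG]; simp
  -- the difference is a sum of nonnegative terms
  have hdiff : ∑ g : G, (if (orderOf g).Coprime p then 0 else Complex.normSq (ρ.character g))
      = 0 := by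
    have h7 : ∑ g : G, (if (orderOf g).Coprime p then 0 else Complex.normSq (ρ.character g))
        = S - A := by
      rw [hS, hA, ← Finset.sum_sub_distrib]
      apply Finset.sum_congr rfl
      intro g _
      split_ifs <;> simp
    rw [h7, hAeqS, sub_self]
  have hterm := (Finset.sum_eq_zero_iff_of_nonneg (fun g _ => by
    show 0 ≤ if (orderOf g).Coprime p then 0 else Complex.normSq (ρ.character g)
    split_ifs
    · exact le_refl _
    · exact Complex.normSq_nonneg _)).mp hdiff x (Finset.mem_univ x)
  have hnc : ¬ (orderOf x).Coprime p := by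
    intro hc
    exact (Nat.Prime.coprime_iff_not_dvd hp).mp hc.symm hx
  rw [if_neg hnc] at hterm
  exact Complex.normSq_eq_zero.mp hterm

end Cfsg.Agent.Lib.Helper28
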