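import Mathlib
import Cfsg.Prelude.Def_Characters
import Cfsg.Prelude.Def_Blocks
import Cfsg.Agent.Lib.Helper28.DefectZero

set_option autoImplicit false

/-!
# `p ^ (a - b) χ` on `p`-regular elements is a generalized character (helper28)
-/

namespace Cfsg.Agent.Lib.Helper28

open Cfsg Cfsg.Agent.Lib.Helper26 Cfsg.Agent.Lib.Helper4
open scoped ComplexConjugate

variable {G : Type*} [Group G] [Fintype G]
variable {V : Type*} [AddCommGroup V] [Module ℂ V] [FiniteDimensional ℂ V]

/-- the inner products of the restriction of the `p`-regular part to an elementary subgroup -/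
theorem pRegPart_restrict_classInner (ρ : Representation ℂ G V)
    (hirr : ρ.IsIrreducible) {p : ℕ} (hp : p.Prime) {b : ℕ}
    (hb : Module.finrank ℂ V * b = Nat.card G)
    (E : Subgroup G) [Fintype E] (Q : Subgroup E) (a : ℕ) (hQn : Q.Normal)
    (hidx : Q.index = p ^ a) (hQcop : (Nat.card Q).Coprime p)
    (hcent : ∀ x ∈ Q, p ^ a ∣ Nat.card (Subgroup.centralizer ({x} : Set E)))
    (ψ : IrrCharacter E) :
    ∃ N : ℕ, classInner (fun e : E => pRegPart p ρ.character e) (ψ : E → ℂ) =
      (N : ℂ) / ((p ^ a : ℕ) : ℂ) ∧ p ^ a ∣ b * Nat.card Q * N := by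
  classical
  have : Fintype Q := Fintype.ofFinite Q
  have hχc : IsCharacter G ρ.character := isCharacter_of_rep ρ
  have hψc : IsCharacter E (ψ : E → ℂ) := isCharacter_of_isIrrCharacter ψ.2
  obtain ⟨T, hT⟩ : ∃ T : ℂ,
      T = ∑ x : Q, ρ.character ((x : E) : G) * conj ((ψ : E → ℂ) (x : E)) := ⟨_, rfl⟩
  have hsum : ∑ e : E, pRegPart p ρ.character (e : G) * conj ((ψ : E → ℂ) e) = T := by
    have h1 : ∀ e : E, pRegPart p ρ.character (e : G) * conj ((ψ : E → ℂ) e) =
        if e ∈ Q then ρ.character (e : G) * conj ((ψ : E → ℂ) e) else 0 := by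
      intro e
      unfold pRegPart
      rw [Subgroup.orderOf_coe]
      by_cases he : e ∈ Q
      · rw [if_pos he, if_pos ((coprime_orderOf_iff_mem hp Q a hidx hQcop e).mpr he)]
      · rw [if_neg he,
          if_neg (fun h => he ((coprime_orderOf_iff_mem hp Q a hidx hQcop e).mp h)), zero_mul]
    rw [Finset.sum_congr rfl (fun e _ => h1 e), ← Finset.sum_filter, hT]
    refine Finset.sum_subtype (Finset.univ.filter (· ∈ Q)) (fun e => by simp) _
  obtain ⟨N, hN⟩ := classInner_isCharacter_nat
    (isCharacter_restrict Q (isCharacter_restrict E hχc)) (isCharacter_restrict Q hψc)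
  have hQ0 : (Nat.card Q : ℂ) ≠ 0 := by exact_mod_cast Nat.card_pos.ne'
  have hTN : T = (Nat.card Q : ℂ) * N := by
    unfold classInner at hN
    rw [← hN, ← mul_assoc, mul_inv_cancel₀ hQ0, one_mul, hT]
    rfl
  have hpa : p ^ a ≠ 0 := pow_ne_zero _ hp.ne_zero
  have hint : IsIntegral ℤ ((b : ℂ) * T / ((p ^ a : ℕ) : ℂ)) := by
    rw [hT, Finset.mul_sum, Finset.sum_div]
    apply IsIntegral.sum
    intro x _
    have hle : (Subgroup.centralizer ({(x : E)} : Set E)).map E.subtype ≤
        Subgroup.centralizer ({((x : E) : G)} : Set G) := by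
      rintro _ ⟨y, hy, rfl⟩
      rw [SetLike.mem_coe, Subgroup.mem_centralizer_iff] at hy
      rw [Subgroup.mem_centralizer_iff]
      intro z hz
      rw [Set.mem_singleton_iff] at hz
      subst hz
      have := hy (x : E) rfl
      exact congrArg Subtype.val this
    have hdvd := Subgroup.card_dvd_of_le hle
    rw [Subgroup.card_map_of_injective E.subtype_injective] at hdvd
    have h1 := isIntegral_scaled_char ρ hirr hb ((x : E) : G) hpa ((hcent x x.2).trans hdvd)
    have h2 : IsIntegral ℤ (conj ((ψ : E → ℂ) (x : E))) := by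
      apply map_isIntegral_int
      obtain ⟨n, τ, _, hτψ⟩ := ψ.2
      rw [← hτψ]
      exact character_isIntegral τ (x : E)
    have h3 : (b : ℂ) * (ρ.character ((x : E) : G) * conj ((ψ : E → ℂ) (x : E))) /
        ((p ^ a : ℕ) : ℂ) = (b : ℂ) * ρ.character ((x : E) : G) / ((p ^ a : ℕ) : ℂ) *
          conj ((ψ : E → ℂ) (x : E)) := by ring
    rw [h3]
    exact h1.mul h2
  refine ⟨N, ?_, ?_⟩
  · unfold classInner
    rw [hsum, hTN]
    have hE : (Nat.card E : ℂ) = (Nat.card Q : ℂ) * ((p ^ a : ℕ) : ℂ) := by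
      rw [← Subgroup.card_mul_index Q, hidx]; push_cast; ring
    have hpaC : ((p ^ a : ℕ) : ℂ) ≠ 0 := by exact_mod_cast hpa
    rw [hE]
    field_simp
  · apply dvd_of_isIntegral_div _ _ hpa
    have : ((b * Nat.card Q * N : ℕ) : ℂ) = (b : ℂ) * T := by
      rw [hTN]; push_cast; ring
    rw [this]
    exact hint

/-- `pk · χ` on `p`-regular elements is a generalized character when `|G| / χ(1) = pk · b'`
with `b'` prime to `p`. -/
theorem scaled_pRegPart_isGeneralizedCharacter (ρ : Representation ℂ G V)
    (hirr : ρ.IsIrreducible) {p : ℕ} (hp : p.Prime) {pk b' : ℕ}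
    (hb : Module.finrank ℂ V * (pk * b') = Nat.card G) (hbp : b'.Coprime p) :
    IsGeneralizedCharacter G (fun g => (pk : ℂ) * pRegPart p ρ.character g) := by
  classical
  have hχc : IsCharacter G ρ.character := isCharacter_of_rep ρ
  have hχcl : IsClassFunction G ρ.character := Helper26.isClassFunction_of_isCharacter hχc
  have hcl : IsClassFunction G (fun g => (pk : ℂ) * pRegPart p ρ.character g) := by
    intro g k
    show (pk : ℂ) * pRegPart p ρ.character (k * g * k⁻¹) = (pk : ℂ) * pRegPart p ρ.character g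
    rw [isClassFunction_pRegPart p hχcl g k]
  apply brauer_characterization _ hcl
  intro E q hq hE
  have : Fintype E := Fintype.ofFinite E
  obtain ⟨Q, a, hQn, hidx, hQcop, hcent⟩ := exists_pRegular_subgroup hq hE hp
  apply isGeneralizedCharacter_of_int_coeff
  · intro e k
    exact hcl (e : G) (k : G)
  · intro ψ
    obtain ⟨N, hN, hdvd⟩ := pRegPart_restrict_classInner ρ hirr hp hb E Q a hQn hidx hQcop
      hcent ψ
    have hcop : (p ^ a).Coprime (b' * Nat.card Q) :=
      Nat.Coprime.pow_left a (Nat.Coprime.mul_right hbp.symm hQcop.symm)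
    have hdvd' : p ^ a ∣ pk * N := by
      have h1 : pk * b' * Nat.card Q * N = (pk * N) * (b' * Nat.card Q) := by ring
      rw [h1] at hdvd
      exact hcop.dvd_of_dvd_mul_right hdvd
    obtain ⟨N', hN'⟩ := hdvd'
    refine ⟨(N' : ℤ), ?_⟩
    have h2 : classInner (fun e : E => (pk : ℂ) * pRegPart p ρ.character (e : G)) (ψ : E → ℂ)
        = (pk : ℂ) * classInner (fun e : E => pRegPart p ρ.character (e : G)) (ψ : E → ℂ) := by
      unfold classInner
      have h5 : ∑ g : E, (fun e : E => (pk : ℂ) * pRegPart p ρ.character (e : G)) g *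
            conj ((ψ : E → ℂ) g) =
          (pk : ℂ) * ∑ g : E, (fun e : E => pRegPart p ρ.character (e : G)) g *
            conj ((ψ : E → ℂ) g) := by
        rw [Finset.mul_sum]
        apply Finset.sum_congr rfl
        intro e _
        show (pk : ℂ) * pRegPart p ρ.character (e : G) * conj ((ψ : E → ℂ) e) =
          (pk : ℂ) * (pRegPart p ρ.character (e : G) * conj ((ψ : E → ℂ) e))
        ring
      rw [h5]
      ring
    rw [h2, hN]
    have hpaC : ((p ^ a : ℕ) : ℂ) ≠ 0 := by
      exact_mod_cast pow_ne_zero a hp.ne_zero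
    have h3 : (pk : ℂ) * (N : ℂ) = ((p ^ a : ℕ) : ℂ) * (N' : ℂ) := by exact_mod_cast hN'
    rw [← mul_div_assoc, h3, mul_div_assoc, mul_comm, div_mul_cancel₀ _ hpaC]
    simp

omit [Fintype G] in
theorem charDegree_character {n : ℕ} (ρ : Representation ℂ G (Fin n → ℂ)) :
    charDegree ρ.character = n := by
  unfold charDegree
  rw [Representation.char_one, Module.finrank_fin_fun]
  simp

/-- `p ^ (a - b) χ` on `p`-regular elements is a generalized character, where `p ^ a` and
`p ^ b` are the `p`-parts of `|G|` and `χ 1`. -/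
theorem irr_pPart_isGeneralizedCharacter {p : ℕ} (hp : p.Prime) (χ : IrrCharacter G) :
    IsGeneralizedCharacter G (fun x : G => if p ∣ orderOf x then (0 : ℂ) else
      ((p ^ ((Nat.card G).factorization p -
        (charDegree (χ : G → ℂ)).factorization p) : ℕ) : ℂ) * (χ : G → ℂ) x) := by
  classical
  obtain ⟨n, ρ, hirr, hρχ⟩ := χ.2
  have hn : n ≠ 0 := by
    have := finrank_ne_zero_of_irreducible ρ hirr
    rw [Module.finrank_fin_fun] at this
    exact_mod_cast this
  obtain ⟨b0, hb0⟩ := degree_dvd_card ρ hirr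
  rw [Module.finrank_fin_fun] at hb0
  have hb0ne : b0 ≠ 0 := by
    rintro rfl
    rw [mul_zero] at hb0
    exact Nat.card_pos.ne' hb0
  have hdeg : charDegree (χ : G → ℂ) = n := by rw [← hρχ]; exact charDegree_character ρ
  have hexp : (Nat.card G).factorization p - (charDegree (χ : G → ℂ)).factorization p =
      b0.factorization p := by
    rw [hdeg, hb0, Nat.factorization_mul hn hb0ne, Finsupp.add_apply]
    omega
  have hsplit : Module.finrank ℂ (Fin n → ℂ) *
      (p ^ (b0.factorization p) * (b0 / p ^ (b0.factorization p))) = Nat.card G := by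
    rw [Module.finrank_fin_fun, Nat.ordProj_mul_ordCompl_eq_self b0 p, hb0]
  have hcop : (b0 / p ^ (b0.factorization p)).Coprime p :=
    (Nat.coprime_ordCompl hp hb0ne).symm
  have h := scaled_pRegPart_isGeneralizedCharacter ρ hirr hp hsplit hcop
  rw [hexp, ← hρχ]
  convert h using 1
  funext x
  unfold pRegPart
  by_cases hx : p ∣ orderOf x
  · rw [if_pos hx, if_neg, mul_zero]
    intro hc
    exact (Nat.Prime.coprime_iff_not_dvd hp).mp hc.symm hx
  · rw [if_neg hx, if_pos ((Nat.Prime.coprime_iff_not_dvd hp).mpr hx).symm]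

/-- a generalized character vanishing on the `p`-singular elements has degree divisible by the
`p`-part of the group order -/
theorem degree_of_vanish_pSingular {p : ℕ} [hp : Fact p.Prime] {η : G → ℂ}
    (hη : IsGeneralizedCharacter G η) (hvan : ∀ x : G, p ∣ orderOf x → η x = 0) :
    ∃ k : ℤ, η 1 = ((p ^ (Nat.card G).factorization p : ℕ) : ℂ) * (k : ℂ) := by
  classical
  obtain ⟨P⟩ : Nonempty (Sylow p G) := inferInstance
  have : Fintype (P : Subgroup G) := Fintype.ofFinite _
  have h1 := isGeneralizedCharacter_restrict (P : Subgroup G) hη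
  obtain ⟨k, hk⟩ := classInner_generalized_int h1
    (isGeneralizedCharacter_of_isCharacter (isCharacter_one' (G := (P : Subgroup G))))
  refine ⟨k, ?_⟩
  unfold classInner at hk
  have hsum : ∑ g : (P : Subgroup G), η (g : G) * conj ((1 : ℂ)) = η 1 := by
    rw [Finset.sum_eq_single (1 : (P : Subgroup G))]
    · simp
    · intro x _ hx
      have hx1 : p ∣ orderOf (x : G) := by
        obtain ⟨j, hj⟩ := (IsPGroup.iff_orderOf.mp P.2) x
        rw [Subgroup.orderOf_coe, hj]
        have hj0 : j ≠ 0 := by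
          rintro rfl
          rw [pow_zero, orderOf_eq_one_iff] at hj
          exact hx hj
        exact dvd_pow_self p hj0
      rw [hvan _ hx1, zero_mul]
    · intro h; exact absurd (Finset.mem_univ _) h
  have hsum' : ∑ g : (P : Subgroup G), (η ∘ (P : Subgroup G).subtype) g *
      conj ((fun _ : (P : Subgroup G) => (1 : ℂ)) g) = η 1 := hsum
  rw [hsum', Sylow.card_eq_multiplicity] at hk
  have hne : ((p ^ (Nat.card G).factorization p : ℕ) : ℂ) ≠ 0 := by
    exact_mod_cast pow_ne_zero _ hp.out.ne_zero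
  rw [← hk, ← mul_assoc, mul_inv_cancel₀ hne, one_mul]

end Cfsg.Agent.Lib.Helper28
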