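import Mathlib
import Cfsg.Prelude.Def_Blocks
import Cfsg.Agent.Lib.Helper28.BlockWeakOrth
import Cfsg.Agent.Lib.Helper28.DefectGen
import Cfsg.Agent.Lib.Helper26.GenChar

set_option autoImplicit false

/-!
# Defect classes and defects of blocks, part A (helper28)
-/

namespace Cfsg.Agent.Lib.Helper28

open Cfsg Cfsg.Agent.Lib.Helper4 Cfsg.Agent.Lib.Helper26
open scoped ComplexConjugate Classical

section

variable {G : Type*} [Group G] [Fintype G] {M : Ideal AlgInt}

/-- the idempotent of a set of characters with locally integral coefficients vanishes at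
`p`-singular elements -/
theorem blockCoeff_eq_zero_of_pSingular {p : ℕ} (hM : IsPModular p M) (A : Set (IrrCharacter G))
    (hA : ∀ g, MemLocalRing M (blockCoeff A g)) (y : G) (hy : p ∣ orderOf y) :
    blockCoeff A y = 0 := by
  have : Fintype (IrrCharacter G) := Fintype.ofFinite _
  have h := weak_orthogonality_of_memLocalRing hM A hA 1 y (by simp [hM.1.ne_one]) hy
  rw [blockCoeff_eq_sum, h, mul_zero]

theorem isClassFunction_deltaF_of_mem_center {z : G} (hz : z ∈ Subgroup.center G) :
    IsClassFunction G (deltaF z) := by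
  intro g k
  show (if k * g * k⁻¹ = z then (1:ℂ) else 0) = if g = z then 1 else 0
  have : k * g * k⁻¹ = z ↔ g = z := by
    have hc := Subgroup.mem_center_iff.mp hz
    constructor
    · intro h
      have : g = k⁻¹ * (k * g * k⁻¹) * k := by group
      rw [this, h, mul_assoc, ← hc k, ← mul_assoc, inv_mul_cancel, one_mul]
    · rintro rfl
      rw [hc k, mul_assoc, mul_inv_cancel, mul_one]
  simp only [this]

/-- a central element acts by a scalar which is an algebraic integer -/
theorem char_mul_central {χ : G → ℂ} (hχ : IsIrrCharacter G χ) {z : G}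
    (hz : z ∈ Subgroup.center G) :
    ∃ c : ℂ, IsIntegral ℤ c ∧ ∀ u : G, χ (u * z) = c * χ u := by
  have hcl := isClassFunction_deltaF_of_mem_center hz
  refine ⟨omegaF χ (deltaF z), omegaF_isIntegral hχ _ hcl (deltaF_isIntegral z), ?_⟩
  intro u
  have h := sum_mul_char_shift hχ (deltaF z) hcl u
  rw [← h]
  unfold deltaF
  simp only [ite_mul, one_mul, zero_mul, Finset.sum_ite_eq', Finset.mem_univ, if_true]
  rw [(Subgroup.mem_center_iff.mp hz) u]

/-- averaging a character over the coset `Q z` of a subgroup by a central element gives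
`|Q|` times an algebraic integer -/
theorem exists_isIntegral_sum_shift {z : G} (hz : z ∈ Subgroup.center G) (Q : Subgroup G)
    {ξ : G → ℂ} (hξ : IsCharacter G ξ) :
    ∃ c : ℂ, IsIntegral ℤ c ∧ ∑ u : Q, ξ ((u : G) * z) = (Nat.card Q : ℂ) * c := by
  have : Fintype (IrrCharacter G) := Fintype.ofFinite _
  have hgen := isGeneralizedCharacter_of_isCharacter hξ
  obtain ⟨m, hm⟩ := exists_int_coeff hgen
  have hexp := genChar_expansion hgen m hm
  have hτ : ∀ τ : IrrCharacter G, ∃ c : ℂ, IsIntegral ℤ c ∧
      ∑ u : Q, (τ : G → ℂ) ((u : G) * z) = (Nat.card Q : ℂ) * c := by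
    intro τ
    obtain ⟨c, hc1, hc2⟩ := char_mul_central τ.2 hz
    have h1 := isGeneralizedCharacter_restrict Q
      (isGeneralizedCharacter_of_isCharacter (isCharacter_of_isIrrCharacter τ.2))
    obtain ⟨k, hk⟩ := classInner_generalized_int h1
      (isGeneralizedCharacter_of_isCharacter (isCharacter_one' (G := Q)))
    unfold classInner at hk
    have hQ0 : (Nat.card Q : ℂ) ≠ 0 := Nat.cast_ne_zero.mpr Nat.card_pos.ne'
    have hsum : ∑ u : Q, (τ : G → ℂ) (u : G) = (Nat.card Q : ℂ) * (k : ℂ) := by
      rw [← hk, ← mul_assoc, mul_inv_cancel₀ hQ0, one_mul]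
      refine Finset.sum_congr rfl fun u _ => ?_
      simp
    have hkint : IsIntegral ℤ (k : ℂ) := by
      have h := isIntegral_algebraMap (R := ℤ) (A := ℂ) (x := k)
      simpa using h
    refine ⟨c * (k : ℂ), hc1.mul hkint, ?_⟩
    simp only [hc2]
    rw [← Finset.mul_sum, hsum]
    ring
  choose c hc1 hc2 using hτ
  refine ⟨∑ τ : IrrCharacter G, (m τ : ℂ) * c τ, ?_, ?_⟩
  · refine IsIntegral.sum _ fun τ _ => IsIntegral.mul ?_ (hc1 τ)
    have h := isIntegral_algebraMap (R := ℤ) (A := ℂ) (x := m τ)
    simpa using h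
  · have h2 : ∀ u : Q, ξ ((u : G) * z) =
        ∑ τ : IrrCharacter G, (m τ : ℂ) * (τ : G → ℂ) ((u : G) * z) := by
      intro u
      conv_lhs => rw [hexp]
      rw [Finset.sum_apply]
      refine Finset.sum_congr rfl fun τ _ => ?_
      simp
    simp only [h2]
    rw [Finset.sum_comm, Finset.mul_sum]
    refine Finset.sum_congr rfl fun τ _ => ?_
    rw [← Finset.mul_sum, hc2 τ]
    ring

end

end Cfsg.Agent.Lib.Helper28
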