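import Mathlib
import Cfsg.Prelude.Def_Blocks
import Cfsg.Agent.Lib.Helper28.BlockDefectA

set_option autoImplicit false

/-!
# Defect classes and defects of blocks, part B (helper28)
The order of a defect group is `p ^ (defect of the block)`.
-/

namespace Cfsg.Agent.Lib.Helper28

open Cfsg Cfsg.Agent.Lib.Helper4 Cfsg.Agent.Lib.Helper26
open scoped ComplexConjugate Classical

section

variable {G : Type*} [Group G] [Fintype G] {M : Ideal AlgInt}

theorem irr_degree_nat {χ : G → ℂ} (hχ : IsIrrCharacter G χ) :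
    charDegree χ ≠ 0 ∧ χ 1 = (charDegree χ : ℂ) ∧ charDegree χ ∣ Nat.card G := by
  obtain ⟨n, ρ, hirr, rfl⟩ := hχ
  have hn : n ≠ 0 := by
    have := finrank_ne_zero_of_irreducible ρ hirr
    rw [Module.finrank_fin_fun] at this
    exact_mod_cast this
  have hdeg : charDegree ρ.character = n := charDegree_character ρ
  have hdvd := degree_dvd_card ρ hirr
  rw [Module.finrank_fin_fun] at hdvd
  refine ⟨by rw [hdeg]; exact hn, ?_, by rw [hdeg]; exact hdvd⟩
  rw [hdeg, Representation.char_one, Module.finrank_fin_fun]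

/-- if the central character of `χ` at `g` is not in the local ideal then the `p`-part of the
class size of `g` divides the degree of `χ` -/
theorem factorization_index_le_of_centralChar {p : ℕ} (hM : IsPModular p M) {χ : G → ℂ}
    (hχ : IsIrrCharacter G χ) (g : G) (h : ¬ MemLocalIdeal M (centralChar χ g)) :
    ((Subgroup.centralizer ({g} : Set G)).index).factorization p ≤
      (charDegree χ).factorization p := by
  have hp : p.Prime := hM.1
  have hprime : M.IsPrime := hM.2.1.isPrime
  have hMtop : M ≠ ⊤ := hM.2.1.ne_top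
  obtain ⟨hn0, hχ1, -⟩ := irr_degree_nat hχ
  set n := charDegree χ with hn
  set idx := (Subgroup.centralizer ({g} : Set G)).index with hidx
  have hidx0 : idx ≠ 0 := Subgroup.index_ne_zero_of_finite
  by_contra hlt
  rw [not_le] at hlt
  set b := n.factorization p with hb
  set k := idx.factorization p with hk
  obtain ⟨j, hj⟩ : ∃ j, k = b + 1 + j := ⟨k - b - 1, by omega⟩
  have hnsplit : p ^ b * (n / p ^ b) = n := Nat.ordProj_mul_ordCompl_eq_self n p
  have hisplit : p ^ k * (idx / p ^ k) = idx := Nat.ordProj_mul_ordCompl_eq_self idx p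
  set s := n / p ^ b with hs
  set r := idx / p ^ k with hr
  have hscop : s.Coprime p := (Nat.coprime_ordCompl hp hn0).symm
  have hω : centralChar χ g * (n : ℂ) = (idx : ℂ) * χ g := by
    have hn' : (n : ℂ) ≠ 0 := Nat.cast_ne_zero.mpr hn0
    show ((Subgroup.centralizer ({g} : Set G)).index : ℂ) * χ g / χ 1 * (n : ℂ) = _
    rw [hχ1, div_mul_cancel₀ _ hn']
  have hpc : (p : ℂ) ≠ 0 := Nat.cast_ne_zero.mpr hp.ne_zero
  have hkey : centralChar χ g * (s : ℂ) = (p : ℂ) * ((p : ℂ) ^ j * (r : ℂ) * χ g) := by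
    have h1 : (n : ℂ) = (p : ℂ) ^ b * (s : ℂ) := by rw [← hnsplit]; push_cast; ring
    have h2 : (idx : ℂ) = (p : ℂ) ^ k * (r : ℂ) := by rw [← hisplit]; push_cast; ring
    rw [h1, h2, hj] at hω
    have h3 : (p : ℂ) ^ b * (centralChar χ g * (s : ℂ)) =
        (p : ℂ) ^ b * ((p : ℂ) * ((p : ℂ) ^ j * (r : ℂ) * χ g)) := by
      rw [pow_add, pow_add, pow_one] at hω
      linear_combination hω
    exact mul_left_cancel₀ (pow_ne_zero b hpc) h3
  have hχg : IsIntegral ℤ (χ g) := by
    obtain ⟨m, ρ, hirr, rfl⟩ := hχ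
    exact character_isIntegral ρ g
  have hmem : MemLocalIdeal M (centralChar χ g * (s : ℂ)) := by
    rw [hkey]
    apply memLocalIdeal_mul_right (memLocalIdeal_natCast_p hM)
    apply memLocalRing_of_isIntegral hMtop
    have hpi : IsIntegral ℤ (p : ℂ) := by
      have h := isIntegral_algebraMap (R := ℤ) (A := ℂ) (x := (p : ℤ))
      simpa using h
    have hri : IsIntegral ℤ (r : ℂ) := by
      have h := isIntegral_algebraMap (R := ℤ) (A := ℂ) (x := (r : ℤ))
      simpa using h
    exact ((hpi.pow j).mul hri).mul hχg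
  exact not_memLocalIdeal_mul
    (memLocalRing_of_isIntegral hMtop (isIntegral_centralChar hχ g))
    (memLocalRing_natCast hMtop s) h (not_memLocalIdeal_natCast hM hscop) hmem

end

end Cfsg.Agent.Lib.Helper28
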