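import Mathlib
import Cfsg.Prelude.Def_Blocks
import Cfsg.Agent.Lib.Helper28.BlockDefectB

set_option autoImplicit false

/-!
# Defect classes and defects of blocks, part C (helper28)
The order of a defect group is `p ^ (defect of the block)`.
-/

namespace Cfsg.Agent.Lib.Helper28

open Cfsg Cfsg.Agent.Lib.Helper4 Cfsg.Agent.Lib.Helper26
open scoped ComplexConjugate Classical

section

variable {G : Type*} [Group G] [Fintype G] {M : Ideal AlgInt}

theorem defectClass_pRegular {p : ℕ} (hM : IsPModular p M) {B : Set (IrrCharacter G)}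
    (hB : IsPBlock M B) {g : G} (hg : IsDefectClass M B g) : ¬ p ∣ orderOf g := by
  have hprime : M.IsPrime := hM.2.1.isPrime
  intro hdvd
  apply hg.2.1
  rw [blockCoeff_eq_zero_of_pSingular hM B (fun x => osima hB x) g hdvd]
  exact memLocalIdeal_zero hM.2.1.ne_top

/-- for a defect class `g` of the block `B`, the `p`-part of the class size of `g` is the
smallest `p`-part of a degree in `B` -/
theorem defectClass_index_factorization {p : ℕ} (hM : IsPModular p M) {B : Set (IrrCharacter G)}
    (hB : IsPBlock M B) {g : G} (hg : IsDefectClass M B g) :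
    sInf ((fun χ : IrrCharacter G => (charDegree (χ : G → ℂ)).factorization p) '' B) =
      ((Subgroup.centralizer ({g} : Set G)).index).factorization p := by
  have : Fintype (IrrCharacter G) := Fintype.ofFinite _
  have hp : p.Prime := hM.1
  haveI : Fact p.Prime := ⟨hp⟩
  have hprime : M.IsPrime := hM.2.1.isPrime
  have hMtop : M ≠ ⊤ := hM.2.1.ne_top
  have hnat : ∀ n : ℕ, IsIntegral ℤ (n : ℂ) := fun n => by
    have h := isIntegral_algebraMap (R := ℤ) (A := ℂ) (x := (n : ℤ))
    simpa using h
  obtain ⟨hg1, hg2, hg3⟩ := hg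
  set S := (fun χ : IrrCharacter G => (charDegree (χ : G → ℂ)).factorization p) '' B with hS
  obtain ⟨χ0, hχ0⟩ := block_nonempty hB
  have hSne : S.Nonempty := ⟨_, Set.mem_image_of_mem _ hχ0⟩
  set C := Subgroup.centralizer ({g} : Set G) with hC
  set k := C.index.factorization p with hk
  have hlow : ∀ s ∈ S, k ≤ s := by
    rintro s ⟨χ, hχ, rfl⟩
    exact factorization_index_le_of_centralChar hM χ.2 g (hg3 χ hχ)
  apply le_antisymm _ (le_csInf hSne hlow)
  by_contra hlt
  rw [not_le] at hlt
  set b := sInf S with hb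
  obtain ⟨j, hj⟩ : ∃ j, b = k + 1 + j := ⟨b - k - 1, by omega⟩
  have hbχ : ∀ χ ∈ B, p ^ b ∣ charDegree (χ : G → ℂ) := by
    intro χ hχ
    have h1 : b ≤ (charDegree (χ : G → ℂ)).factorization p :=
      Nat.sInf_le (Set.mem_image_of_mem _ hχ)
    exact (pow_dvd_pow p h1).trans (Nat.ordProj_dvd _ p)
  have hgreg : ¬ p ∣ orderOf g := defectClass_pRegular hM hB ⟨hg1, hg2, hg3⟩
  -- the centralizer as a group, with g central
  have hgC : g ∈ C := by
    rw [hC, Subgroup.mem_centralizer_iff]
    intro h hh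
    rw [Set.mem_singleton_iff] at hh
    rw [hh]
  let zC : C := ⟨g, hgC⟩
  have hzC : zC ∈ Subgroup.center C := by
    rw [Subgroup.mem_center_iff]
    intro y
    apply Subtype.ext
    have := (Subgroup.mem_centralizer_iff.mp y.2) g (Set.mem_singleton g)
    show (y : G) * g = g * (y : G)
    exact this.symm
  obtain ⟨P⟩ : Nonempty (Sylow p C) := by
    have : Fact p.Prime := ⟨hp⟩
    exact inferInstance
  set Q : Subgroup C := (P : Subgroup C) with hQ
  -- integrality of the shifted sums
  have hint : ∀ χ : IrrCharacter G, ∃ c : ℂ, IsIntegral ℤ c ∧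
      ∑ u : Q, (χ : G → ℂ) (((u : C) : G) * g) = (Nat.card Q : ℂ) * c := by
    intro χ
    have h1 := isCharacter_restrict C (isCharacter_of_isIrrCharacter χ.2)
    obtain ⟨c, hc1, hc2⟩ := exists_isIntegral_sum_shift hzC Q h1
    exact ⟨c, hc1, hc2⟩
  choose c hc1 hc2 using hint
  -- vanishing of the block sum on p-singular elements
  have hvan : ∀ u : Q, u ≠ 1 →
      ∑ χ : IrrCharacter G, (if χ ∈ B then (χ : G → ℂ) 1 *
        conj ((χ : G → ℂ) (((u : C) : G) * g)) else 0) = 0 := by
    intro u hu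
    apply weak_orthogonality_of_memLocalRing hM B (fun x => osima hB x) 1 _
      (by simp [hp.ne_one])
    -- u g is p-singular
    have hcomm : Commute (((u : C) : G)) g := by
      have := (Subgroup.mem_centralizer_iff.mp (u : C).2) g (Set.mem_singleton g)
      exact this.symm
    obtain ⟨i, hi⟩ := (IsPGroup.iff_orderOf.mp P.2) u
    have hi0 : i ≠ 0 := by
      rintro rfl
      rw [pow_zero, orderOf_eq_one_iff] at hi
      exact hu hi
    have hou : orderOf (((u : C) : G)) = p ^ i := by
      rw [← hi, Subgroup.orderOf_coe, Subgroup.orderOf_coe]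
    have hcop : Nat.Coprime (orderOf (((u : C) : G))) (orderOf g) := by
      rw [hou]
      exact Nat.Coprime.pow_left i ((Nat.Prime.coprime_iff_not_dvd hp).mpr hgreg)
    rw [hcomm.orderOf_mul_eq_mul_orderOf_of_coprime hcop, hou]
    exact Dvd.dvd.mul_right (dvd_pow_self p hi0) _
  -- compute the double sum in two ways
  have hG0 : (Nat.card G : ℂ) ≠ 0 := card_ne_zero_complex
  have hdouble1 : ∑ u : Q, ∑ χ : IrrCharacter G, (if χ ∈ B then (χ : G → ℂ) 1 *
        conj ((χ : G → ℂ) (((u : C) : G) * g)) else 0) =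
      (Nat.card G : ℂ) * blockCoeff B g := by
    rw [Finset.sum_eq_single (1 : Q)]
    · rw [blockCoeff_eq_sum, ← mul_assoc, mul_inv_cancel₀ hG0, one_mul]
      refine Finset.sum_congr rfl fun χ _ => ?_
      simp
    · intro u _ hu
      exact hvan u hu
    · intro h
      exact absurd (Finset.mem_univ _) h
  -- degrees
  have hdeg : ∀ χ : IrrCharacter G, (χ : G → ℂ) 1 = (charDegree (χ : G → ℂ) : ℂ) :=
    fun χ => (irr_degree_nat χ.2).2.1
  have hdouble2 : ∑ u : Q, ∑ χ : IrrCharacter G, (if χ ∈ B then (χ : G → ℂ) 1 *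
        conj ((χ : G → ℂ) (((u : C) : G) * g)) else 0) =
      (p : ℂ) ^ b * (Nat.card Q : ℂ) * ∑ χ : IrrCharacter G,
        (if χ ∈ B then ((charDegree (χ : G → ℂ) / p ^ b : ℕ) : ℂ) * conj (c χ) else 0) := by
    rw [Finset.sum_comm, Finset.mul_sum]
    refine Finset.sum_congr rfl fun χ _ => ?_
    by_cases hχ : χ ∈ B
    · simp only [if_pos hχ]
      rw [← Finset.mul_sum, ← map_sum, hc2 χ, map_mul, Complex.conj_natCast, hdeg χ]
      obtain ⟨t, ht⟩ := hbχ χ hχ
      have hpb : 0 < p ^ b := pow_pos hp.pos b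
      have : charDegree (χ : G → ℂ) / p ^ b = t := by
        rw [ht, Nat.mul_div_cancel_left _ hpb]
      rw [this, ht]
      push_cast
      ring
    · simp only [if_neg hχ, Finset.sum_const_zero, mul_zero]
  set c' : ℂ := ∑ χ : IrrCharacter G,
        (if χ ∈ B then ((charDegree (χ : G → ℂ) / p ^ b : ℕ) : ℂ) * conj (c χ) else 0) with hc'
  have hc'int : IsIntegral ℤ c' := by
    refine IsIntegral.sum _ fun χ _ => ?_
    split_ifs
    · refine IsIntegral.mul ?_ ?_
      · exact hnat _
      · have := (hc1 χ).map (Complex.conjAe.restrictScalars ℤ).toAlgHom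
        simpa using this
    · exact isIntegral_zero
  -- the orders
  have hQcard : Nat.card Q = p ^ (Nat.card C).factorization p := by
    have : Fact p.Prime := ⟨hp⟩
    exact P.card_eq_multiplicity
  have hCsplit : p ^ (Nat.card C).factorization p * (Nat.card C / p ^ (Nat.card C).factorization p)
      = Nat.card C := Nat.ordProj_mul_ordCompl_eq_self _ p
  have hC0 : Nat.card C ≠ 0 := Nat.card_pos.ne'
  have hidx0 : C.index ≠ 0 := Subgroup.index_ne_zero_of_finite
  have hisplit : p ^ k * (C.index / p ^ k) = C.index := Nat.ordProj_mul_ordCompl_eq_self _ p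
  set r := C.index / p ^ k with hr
  set r' := Nat.card C / p ^ (Nat.card C).factorization p with hr'
  have hrcop : r.Coprime p := (Nat.coprime_ordCompl hp hidx0).symm
  have hr'cop : r'.Coprime p := (Nat.coprime_ordCompl hp hC0).symm
  have hGsplit : (Nat.card G : ℂ) = (p : ℂ) ^ k * (r : ℂ) * ((Nat.card Q : ℂ) * (r' : ℂ)) := by
    rw [← C.index_mul_card, ← hisplit, ← hCsplit, hQcard]
    push_cast
    ring
  have hpc : (p : ℂ) ≠ 0 := Nat.cast_ne_zero.mpr hp.ne_zero
  have hQ0 : (Nat.card Q : ℂ) ≠ 0 := Nat.cast_ne_zero.mpr Nat.card_pos.ne'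
  have hrr'cop : (r * r').Coprime p := Nat.Coprime.mul_left hrcop hr'cop
  have hrr'0 : ((r * r' : ℕ) : ℂ) ≠ 0 := by
    apply Nat.cast_ne_zero.mpr
    intro h0
    rw [h0] at hrr'cop
    simp at hrr'cop
    exact hp.ne_one hrr'cop
  have hfinal : blockCoeff B g = (p : ℂ) * ((p : ℂ) ^ j * c' * ((r * r' : ℕ) : ℂ)⁻¹) := by
    have h1 := hdouble1.symm.trans hdouble2
    rw [hGsplit, hj] at h1
    have h2 : ((p : ℂ) ^ k * (Nat.card Q : ℂ)) * (((r * r' : ℕ) : ℂ) * blockCoeff B g) =
        ((p : ℂ) ^ k * (Nat.card Q : ℂ)) * ((p : ℂ) * ((p : ℂ) ^ j * c')) := by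
      push_cast
      rw [pow_add, pow_add, pow_one] at h1
      linear_combination h1
    have h3 := mul_left_cancel₀ (mul_ne_zero (pow_ne_zero k hpc) hQ0) h2
    field_simp
    linear_combination h3
  apply hg2
  rw [hfinal]
  apply memLocalIdeal_mul_right (memLocalIdeal_natCast_p hM)
  apply memLocalRing_mul
  · apply memLocalRing_of_isIntegral hMtop
    have hpi : IsIntegral ℤ (p : ℂ) := by
      have h := isIntegral_algebraMap (R := ℤ) (A := ℂ) (x := (p : ℤ))
      simpa using h
    exact (hpi.pow j).mul hc'int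
  · exact memLocalRing_inv_natCast hM hrr'cop

end

end Cfsg.Agent.Lib.Helper28
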