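import Mathlib
import Cfsg.Prelude.Def_Blocks
import Cfsg.Agent.Lib.Helper28.BlockDefectD

set_option autoImplicit false

/-!
# Counting blocks against classes (helper28)
-/

namespace Cfsg.Agent.Lib.Helper28

open Cfsg Cfsg.Agent.Lib.Helper4 Cfsg.Agent.Lib.Helper26
open scoped ComplexConjugate Classical

section

variable {G : Type*} [Group G] [Fintype G] {M : Ideal AlgInt}

/-- a block is the block of each of its members -/
theorem block_eq_blockOf [M.IsPrime] {B : Set (IrrCharacter G)} (hB : IsPBlock M B)
    {χ : IrrCharacter G} (hχ : χ ∈ B) : B = blockOf M (χ : G → ℂ) := by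
  ext ψ
  exact mem_block_iff hB hχ ψ

theorem block_eq_of_mem [M.IsPrime] {B B' : Set (IrrCharacter G)} (hB : IsPBlock M B)
    (hB' : IsPBlock M B') {χ : IrrCharacter G} (hχ : χ ∈ B) (hχ' : χ ∈ B') : B = B' := by
  rw [block_eq_blockOf hB hχ, block_eq_blockOf hB' hχ']

theorem sum_subtype_eq_sum_ite {α : Type*} [Fintype α] (Q : α → Prop) [Fintype {a // Q a}]
    (f : α → ℂ) : ∑ j : {a // Q a}, f j.1 = ∑ a, if Q a then f a else 0 := by
  rw [← Finset.sum_filter]
  exact (Finset.sum_subtype (Finset.univ.filter Q) (by simp) f).symm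

/-- truncation of the class expansion of `ω_χ(e_B)` -/
theorem omegaF_blockCoeff_trunc [M.IsPrime] [Fintype (ConjClasses G)]
    (B : Set (IrrCharacter G)) (χ : IrrCharacter G)
    (P : G → Prop)
    (hvan : ∀ x : G, ¬ P x →
      MemLocalIdeal M (blockCoeff B x * centralChar (χ : G → ℂ) x)) :
    MemLocalIdeal M ((if χ ∈ B then (1 : ℂ) else 0) -
      ∑ C : ConjClasses G, if P (Quotient.out C) then
        blockCoeff B (Quotient.out C) * centralChar (χ : G → ℂ) (Quotient.out C) else 0) := by
  rw [← omegaF_blockCoeff B χ,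
    omegaF_eq_sum_classes (Helper4.isClassFunction_of_isIrrCharacter χ.2) _
      (isClassFunction_blockCoeff B),
    ← Finset.sum_sub_distrib]
  apply memLocalIdeal_sum
  intro C _
  by_cases hC : P (Quotient.out C)
  · rw [if_pos hC, sub_self]
    exact memLocalIdeal_zero (Ideal.IsPrime.ne_top ‹_›)
  · rw [if_neg hC, sub_zero]
    exact hvan _ hC

/-- **counting lemma**: a family of blocks whose idempotents and central characters are
"supported" modulo the local ideal on the classes satisfying `P` has at most as many members as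
there are such classes -/
theorem card_blocks_le_card_classes {p : ℕ} (hM : IsPModular p M)
    (Bs : Set (Set (IrrCharacter G)))
    (hBs : ∀ B ∈ Bs, IsPBlock M B) (P : G → Prop)
    (hvan : ∀ B ∈ Bs, ∀ B' ∈ Bs, ∀ χ ∈ B, ∀ x : G, ¬ P x →
      MemLocalIdeal M (blockCoeff B' x * centralChar (χ : IrrCharacter G) x)) :
    Nat.card Bs ≤ Nat.card {C : ConjClasses G // P (Quotient.out C)} := by
  have : Fintype (ConjClasses G) := Fintype.ofFinite _
  have : Fintype (IrrCharacter G) := Fintype.ofFinite _
  have hmax : M.IsMaximal := hM.2.1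
  have hprime : M.IsPrime := hmax.isPrime
  have hMtop : M ≠ ⊤ := hmax.ne_top
  let _ : Field (AlgInt ⧸ M) := Ideal.Quotient.field M
  have : Fintype Bs := Fintype.ofFinite _
  have : Fintype {C : ConjClasses G // P (Quotient.out C)} := Fintype.ofFinite _
  rw [Nat.card_eq_fintype_card, Nat.card_eq_fintype_card]
  -- choices
  have hχ : ∀ i : Bs, ∃ χ : IrrCharacter G, χ ∈ (i : Set (IrrCharacter G)) :=
    fun i => block_nonempty (hBs i i.2)
  choose χ hχmem using hχ
  have hc : ∀ i : Bs, ∃ c0 : ℂ, IsIntegral ℤ c0 ∧ ¬ MemLocalIdeal M c0 ∧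
      ∀ g, IsIntegral ℤ (c0 * blockCoeff (i : Set (IrrCharacter G)) g) :=
    fun i => osima_integral (hBs i i.2)
  choose c hc1 hc2 hc3 using hc
  let Λ : Matrix Bs {C : ConjClasses G // P (Quotient.out C)} (AlgInt ⧸ M) := fun i j =>
    Ideal.Quotient.mk M ⟨centralChar (χ i : G → ℂ) (Quotient.out j.1),
      isIntegral_centralChar (χ i).2 _⟩
  let E : Matrix {C : ConjClasses G // P (Quotient.out C)} Bs (AlgInt ⧸ M) := fun j i =>
    Ideal.Quotient.mk M ⟨c i * blockCoeff (i : Set (IrrCharacter G)) (Quotient.out j.1),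
      hc3 i _⟩
  let w : Bs → (AlgInt ⧸ M) := fun i => Ideal.Quotient.mk M ⟨c i, hc1 i⟩
  have hw : ∀ i, w i ≠ 0 := by
    intro i h
    have : (⟨c i, hc1 i⟩ : AlgInt) ∈ M := Ideal.Quotient.eq_zero_iff_mem.mp h
    exact hc2 i (memLocalIdeal_of_mem hMtop this)
  have hprod : Λ * E = Matrix.diagonal w := by
    ext i i'
    rw [Matrix.mul_apply, Matrix.diagonal_apply]
    simp only [Λ, E, ← map_mul, ← map_sum]
    have htr := omegaF_blockCoeff_trunc (M := M) (i' : Set (IrrCharacter G)) (χ i) P
      (hvan i i.2 i' i'.2 (χ i) (hχmem i))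
    have hmem : χ i ∈ (i' : Set (IrrCharacter G)) ↔ i = i' := by
      constructor
      · intro h
        apply Subtype.ext
        exact block_eq_of_mem (hBs i i.2) (hBs i' i'.2) (hχmem i) h
      · rintro rfl
        exact hχmem i
    -- the difference lies in M
    have hkey : MemLocalIdeal M (c i' * ((if i = i' then (1 : ℂ) else 0) -
        ∑ C : ConjClasses G, if P (Quotient.out C) then
          blockCoeff (i' : Set (IrrCharacter G)) (Quotient.out C) *
            centralChar (χ i : G → ℂ) (Quotient.out C) else 0)) := by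
      apply memLocalIdeal_mul_left (memLocalRing_of_isIntegral hMtop (hc1 i'))
      convert htr using 3
      simp only [hmem]
    by_cases hii : i = i'
    · rw [if_pos hii]
      show _ = Ideal.Quotient.mk M ⟨c i, hc1 i⟩
      rw [eq_comm, Ideal.Quotient.eq]
      apply mem_of_memLocalIdeal
      rw [if_pos hii] at hkey
      convert hkey using 1
      subst hii
      push_cast
      rw [mul_sub, mul_one, Finset.mul_sum]
      congr 1
      rw [sum_subtype_eq_sum_ite (fun C : ConjClasses G => P (Quotient.out C))
        (fun C => centralChar (χ i : G → ℂ) (Quotient.out C) *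
          (c i * blockCoeff (i : Set (IrrCharacter G)) (Quotient.out C)))]
      refine Finset.sum_congr rfl fun C _ => ?_
      split_ifs
      · ring
      · ring
    · rw [if_neg hii]
      rw [← map_zero (Ideal.Quotient.mk M), Ideal.Quotient.eq]
      apply mem_of_memLocalIdeal
      rw [if_neg hii] at hkey
      have hneg := memLocalIdeal_neg hkey
      convert hneg using 1
      push_cast
      rw [zero_sub, mul_neg, neg_neg, sub_zero, Finset.mul_sum]
      rw [sum_subtype_eq_sum_ite (fun C : ConjClasses G => P (Quotient.out C))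
        (fun C => centralChar (χ i : G → ℂ) (Quotient.out C) *
          (c i' * blockCoeff (i' : Set (IrrCharacter G)) (Quotient.out C)))]
      refine Finset.sum_congr rfl fun C _ => ?_
      split_ifs
      · ring
      · ring
  have h1 : (Matrix.diagonal w).rank = Fintype.card Bs := by
    rw [Matrix.rank_diagonal]
    apply Fintype.card_congr
    exact (Equiv.subtypeUnivEquiv hw)
  calc Fintype.card Bs = (Λ * E).rank := by rw [hprod, h1]
    _ ≤ Λ.rank := Matrix.rank_mul_le_left Λ E
    _ ≤ Fintype.card {C : ConjClasses G // P (Quotient.out C)} := Matrix.rank_le_card_width Λ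

end

end Cfsg.Agent.Lib.Helper28
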