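import Mathlib
import Cfsg.Prelude.Def_Blocks
import Cfsg.Agent.Lib.Helper28.BlockWeakOrth

set_option autoImplicit false

/-!
# Characters in different blocks are orthogonal on `p`-regular elements (helper28)
-/

namespace Cfsg.Agent.Lib.Helper28

open Cfsg Cfsg.Agent.Lib.Helper4
open scoped ComplexConjugate Classical

section

variable {G : Type*} [Group G] [Fintype G] {M : Ideal AlgInt}

theorem sum_irr_mul_conj (φ ψ : IrrCharacter G) :
    ∑ x, (φ : G → ℂ) x * conj ((ψ : G → ℂ) x) = if φ = ψ then (Nat.card G : ℂ) else 0 := by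
  have h := classInner_irr φ ψ
  unfold classInner at h
  have hG : (Nat.card G : ℂ) ≠ 0 := card_ne_zero_complex
  by_cases hφ : φ = ψ
  · rw [if_pos hφ] at h ⊢
    field_simp at h
    exact h
  · rw [if_neg hφ] at h ⊢
    exact (mul_eq_zero.mp h).resolve_left (inv_ne_zero hG)

/-- irreducible characters in different blocks are orthogonal over the `p`-regular elements -/
theorem preg_orthogonality {p : ℕ} (hM : IsPModular p M) (χ ψ : IrrCharacter G)
    (h : ¬ SameBlock M (χ : G → ℂ) (ψ : G → ℂ)) :
    ∑ x : G, (if p ∣ orderOf x then 0 else (χ : G → ℂ) x * conj ((ψ : G → ℂ) x)) = 0 := by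
  have : Fintype (IrrCharacter G) := Fintype.ofFinite _
  have hprime : M.IsPrime := hM.2.1.isPrime
  have hMtop : M ≠ ⊤ := hM.2.1.ne_top
  let B : Set (IrrCharacter G) := blockOf M (χ : G → ℂ)
  have hB : IsPBlock M B := ⟨χ, rfl⟩
  have hχB : χ ∈ B := sameBlock_refl hMtop _
  have hψB : ψ ∉ B := h
  let U : G → G → ℂ := fun x y =>
    ∑ φ : IrrCharacter G, if φ ∈ B then (φ : G → ℂ) x * conj ((φ : G → ℂ) y) else 0
  have hU1 : ∀ x y : G, ¬ p ∣ orderOf x → p ∣ orderOf y → U x y = 0 := fun x y hx hy =>
    weak_orthogonality_of_memLocalRing hM B (fun g => osima hB g) x y hx hy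
  have hU2 : ∀ x y : G, p ∣ orderOf x → ¬ p ∣ orderOf y → U x y = 0 := by
    intro x y hx hy
    have h1 := hU1 y x hy hx
    have h2 : U x y = conj (U y x) := by
      show (∑ φ : IrrCharacter G, if φ ∈ B then (φ : G → ℂ) x * conj ((φ : G → ℂ) y) else 0) =
        conj (∑ φ : IrrCharacter G, if φ ∈ B then (φ : G → ℂ) y * conj ((φ : G → ℂ) x) else 0)
      rw [map_sum]
      refine Finset.sum_congr rfl fun φ _ => ?_
      split_ifs
      · rw [map_mul, Complex.conj_conj, mul_comm]
      · simp
    rw [h2, h1, map_zero]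
  -- reproducing property
  have hrep : ∀ x : G, (χ : G → ℂ) x = (Nat.card G : ℂ)⁻¹ * ∑ y, U x y * (χ : G → ℂ) y := by
    intro x
    have h1 : ∑ y, U x y * (χ : G → ℂ) y =
        ∑ φ : IrrCharacter G, if φ ∈ B then (φ : G → ℂ) x *
          ∑ y, (χ : G → ℂ) y * conj ((φ : G → ℂ) y) else 0 := by
      simp only [U, Finset.sum_mul]
      rw [Finset.sum_comm]
      refine Finset.sum_congr rfl fun φ _ => ?_
      split_ifs
      · rw [Finset.mul_sum]
        refine Finset.sum_congr rfl fun y _ => by ring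
      · simp
    rw [h1]
    simp only [sum_irr_mul_conj]
    have h2 : ∀ φ : IrrCharacter G, (if φ ∈ B then (φ : G → ℂ) x *
        (if χ = φ then (Nat.card G : ℂ) else 0) else 0) =
        if χ = φ then (χ : G → ℂ) x * (Nat.card G : ℂ) else 0 := by
      intro φ
      by_cases hφ : χ = φ
      · subst hφ
        simp [hχB]
      · simp [hφ]
    simp only [h2, Finset.sum_ite_eq, Finset.mem_univ, if_true]
    have hG : (Nat.card G : ℂ) ≠ 0 := card_ne_zero_complex
    field_simp
  -- second identity
  have hkill : ∀ y : G, ∑ x, U x y * conj ((ψ : G → ℂ) x) = 0 := by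
    intro y
    have h1 : ∑ x, U x y * conj ((ψ : G → ℂ) x) =
        ∑ φ : IrrCharacter G, if φ ∈ B then conj ((φ : G → ℂ) y) *
          ∑ x, (φ : G → ℂ) x * conj ((ψ : G → ℂ) x) else 0 := by
      simp only [U, Finset.sum_mul]
      rw [Finset.sum_comm]
      refine Finset.sum_congr rfl fun φ _ => ?_
      split_ifs
      · rw [Finset.mul_sum]
        refine Finset.sum_congr rfl fun y _ => by ring
      · simp
    rw [h1]
    apply Finset.sum_eq_zero
    intro φ _
    split_ifs with hφ
    · rw [sum_irr_mul_conj, if_neg, mul_zero]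
      rintro rfl
      exact hψB hφ
    · rfl
  -- combine
  have hstep : ∀ x : G, (if p ∣ orderOf x then 0 else (χ : G → ℂ) x * conj ((ψ : G → ℂ) x)) =
      (Nat.card G : ℂ)⁻¹ * ∑ y, (if p ∣ orderOf y then 0 else
        (χ : G → ℂ) y * ((if p ∣ orderOf x then 0 else U x y * conj ((ψ : G → ℂ) x)))) := by
    intro x
    by_cases hx : p ∣ orderOf x
    · simp [hx]
    · simp only [if_neg hx]
      rw [hrep x, mul_assoc, Finset.sum_mul]
      congr 1
      refine Finset.sum_congr rfl fun y _ => ?_
      by_cases hy : p ∣ orderOf y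
      · rw [if_pos hy, hU1 x y hx hy, zero_mul, zero_mul]
      · rw [if_neg hy]; ring
  simp only [hstep]
  rw [← Finset.mul_sum, Finset.sum_comm]
  have hinner : ∀ y : G, ∑ x, (if p ∣ orderOf y then 0 else
      (χ : G → ℂ) y * ((if p ∣ orderOf x then 0 else U x y * conj ((ψ : G → ℂ) x)))) = 0 := by
    intro y
    by_cases hy : p ∣ orderOf y
    · simp [hy]
    · simp only [if_neg hy]
      rw [← Finset.mul_sum]
      have : ∑ x, (if p ∣ orderOf x then 0 else U x y * conj ((ψ : G → ℂ) x)) =
          ∑ x, U x y * conj ((ψ : G → ℂ) x) := by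
        refine Finset.sum_congr rfl fun x _ => ?_
        by_cases hx : p ∣ orderOf x
        · rw [if_pos hx, hU2 x y hx hy, zero_mul]
        · rw [if_neg hx]
      rw [this, hkill y, mul_zero]
  simp only [hinner, Finset.sum_const_zero, mul_zero]

end

end Cfsg.Agent.Lib.Helper28
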