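import Mathlib
import Cfsg.Prelude.Def_Blocks
import Cfsg.Agent.Lib.Helper28.BlockCount

set_option autoImplicit false

/-!
# Counting blocks against classes, part B (helper28)
Defect inequalities in terms of `blockDefect`; class-invariant predicates.
-/

namespace Cfsg.Agent.Lib.Helper28

open Cfsg Cfsg.Agent.Lib.Helper4 Cfsg.Agent.Lib.Helper26
open scoped ComplexConjugate Classical

section

variable {G : Type*} [Group G] [Fintype G] {M : Ideal AlgInt}

omit [Fintype G] in
theorem card_centralizer_conj [Finite G] (g k : G) :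
    Nat.card (Subgroup.centralizer ({k * g * k⁻¹} : Set G)) =
      Nat.card (Subgroup.centralizer ({g} : Set G)) := by
  have : Subgroup.centralizer ({k * g * k⁻¹} : Set G) =
      (Subgroup.centralizer ({g} : Set G)).map (MulAut.conj k).toMonoidHom := by
    ext y
    simp only [Subgroup.mem_centralizer_iff, Set.mem_singleton_iff, forall_eq,
      Subgroup.mem_map, MulEquiv.coe_toMonoidHom, MulAut.conj_apply]
    constructor
    · intro hy
      refine ⟨k⁻¹ * y * k, ?_, by group⟩
      have h3 : k⁻¹ * (k * g * k⁻¹ * y) * k = k⁻¹ * (y * (k * g * k⁻¹)) * k := by rw [hy]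
      have h4 : k⁻¹ * (k * g * k⁻¹ * y) * k = g * (k⁻¹ * y * k) := by group
      have h5 : k⁻¹ * (y * (k * g * k⁻¹)) * k = k⁻¹ * y * k * g := by group
      rw [← h4, ← h5, h3]
    · rintro ⟨z, hz, rfl⟩
      have h4 : k * g * k⁻¹ * (k * z * k⁻¹) = k * (g * z) * k⁻¹ := by group
      have h5 : k * z * k⁻¹ * (k * g * k⁻¹) = k * (z * g) * k⁻¹ := by group
      rw [h4, h5, hz]
  rw [this]
  exact Nat.card_congr
    ((MulAut.conj k).subgroupMap (Subgroup.centralizer ({g} : Set G))).toEquiv.symm

omit [Fintype G] in
theorem orderOf_conj' (g k : G) : orderOf (k * g * k⁻¹) = orderOf g := by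
  have hs : SemiconjBy k g (k * g * k⁻¹) := by
    show k * g = k * g * k⁻¹ * k
    group
  exact (hs.orderOf_eq).symm

/-- transfer of a class-invariant predicate between a class and its chosen representative -/
theorem exists_mk_iff_out (P : G → Prop) (hP : ∀ g k : G, P (k * g * k⁻¹) ↔ P g)
    (C : ConjClasses G) : (∃ g : G, ConjClasses.mk g = C ∧ P g) ↔ P (Quotient.out C) := by
  constructor
  · rintro ⟨g, rfl, hg⟩
    have h1 : ConjClasses.mk (Quotient.out (ConjClasses.mk g)) = ConjClasses.mk g :=
      Quotient.out_eq _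
    rw [ConjClasses.mk_eq_mk_iff_isConj] at h1
    obtain ⟨c, hc⟩ := isConj_iff.mp h1.symm
    rw [← hc]
    exact (hP g c).mpr hg
  · intro h
    exact ⟨Quotient.out C, Quotient.out_eq C, h⟩

theorem factorization_card_eq {p : ℕ} (g : G) :
    (Nat.card G).factorization p =
      (Subgroup.centralizer ({g} : Set G)).index.factorization p +
        (Nat.card (Subgroup.centralizer ({g} : Set G))).factorization p := by
  have hC0 : Nat.card (Subgroup.centralizer ({g} : Set G)) ≠ 0 := Nat.card_pos.ne'
  have hidx0 : (Subgroup.centralizer ({g} : Set G)).index ≠ 0 := Subgroup.index_ne_zero_of_finite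
  rw [← (Subgroup.centralizer ({g} : Set G)).index_mul_card,
    Nat.factorization_mul hidx0 hC0, Finsupp.add_apply]

/-- if the central character of a member of `B` at `g` is a unit then the defect of the class
of `g` is at least the defect of `B` -/
theorem blockDefect_le_of_centralChar {p : ℕ} (hM : IsPModular p M) {B : Set (IrrCharacter G)}
    (hB : IsPBlock M B) {g : G} {χ : IrrCharacter G} (hχ : χ ∈ B)
    (hg : ¬ MemLocalIdeal M (centralChar (χ : G → ℂ) g)) :
    blockDefect p B ≤ (Nat.card (Subgroup.centralizer ({g} : Set G))).factorization p := by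
  have hprime : M.IsPrime := hM.2.1.isPrime
  have hg3 : ∀ χ' ∈ B, ¬ MemLocalIdeal M (centralChar (χ' : G → ℂ) g) := by
    intro χ' hχ' h
    apply hg
    have h1 : SameBlock M (χ : G → ℂ) (χ' : G → ℂ) := (mem_block_iff hB hχ χ').mp hχ'
    have := memLocalIdeal_add (h1 g) h
    rwa [sub_add_cancel] at this
  have h1 := index_factorization_le_sInf hM hB hg3
  have h2 := factorization_card_eq (p := p) g
  unfold blockDefect
  omega

/-- if the idempotent coefficient of `B` at `g` is a unit then the defect of the class of `g`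
is at most the defect of `B` -/
theorem le_blockDefect_of_blockCoeff {p : ℕ} (hM : IsPModular p M) {B : Set (IrrCharacter G)}
    (hB : IsPBlock M B) {g : G} (hg : ¬ MemLocalIdeal M (blockCoeff B g)) :
    (Nat.card (Subgroup.centralizer ({g} : Set G))).factorization p ≤ blockDefect p B := by
  have h1 := sInf_le_index_factorization hM hB hg
  have h2 := factorization_card_eq (p := p) g
  unfold blockDefect
  omega

/-- the product `e_{B'}(x) ω_χ(x)` lies in the local ideal unless `x` is `p`-regular with
`d(B) ≤ d(x) ≤ d(B')` (`χ ∈ B`) -/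
theorem blockCoeff_mul_centralChar_memLocalIdeal {p : ℕ} (hM : IsPModular p M)
    {B B' : Set (IrrCharacter G)} (hB : IsPBlock M B) (hB' : IsPBlock M B')
    {χ : IrrCharacter G} (hχ : χ ∈ B) (x : G)
    (hx : p ∣ orderOf x ∨
      (Nat.card (Subgroup.centralizer ({x} : Set G))).factorization p < blockDefect p B ∨
      blockDefect p B' < (Nat.card (Subgroup.centralizer ({x} : Set G))).factorization p) :
    MemLocalIdeal M (blockCoeff B' x * centralChar (χ : G → ℂ) x) := by
  have hprime : M.IsPrime := hM.2.1.isPrime
  have hMtop : M ≠ ⊤ := hM.2.1.ne_top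
  rcases hx with hx | hx | hx
  · rw [blockCoeff_eq_zero_of_pSingular hM B' (fun y => osima hB' y) x hx, zero_mul]
    exact memLocalIdeal_zero hMtop
  · apply memLocalIdeal_mul_left (osima hB' x)
    by_contra h
    have := blockDefect_le_of_centralChar hM hB hχ h
    omega
  · apply memLocalIdeal_mul_right _
      (memLocalRing_of_isIntegral hMtop (isIntegral_centralChar χ.2 x))
    by_contra h
    have := le_blockDefect_of_blockCoeff hM hB' h
    omega

end

end Cfsg.Agent.Lib.Helper28
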