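import Mathlib
import Cfsg.Prelude.Def_Blocks
import Cfsg.Agent.Lib.Helper28.BlockCountB
import Cfsg.Agent.Lib.Helper4.BurnsideClass

set_option autoImplicit false

/-!
# Defect classes: conjugation invariance, existence; the principal block (helper28)
-/

namespace Cfsg.Agent.Lib.Helper28

open Cfsg Cfsg.Agent.Lib.Helper4 Cfsg.Agent.Lib.Helper26
open scoped ComplexConjugate Classical

section

variable {G : Type*} [Group G] [Fintype G] {M : Ideal AlgInt}

theorem index_centralizer_conj (g k : G) :
    (Subgroup.centralizer ({k * g * k⁻¹} : Set G)).index =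
      (Subgroup.centralizer ({g} : Set G)).index := by
  have h1 := (Subgroup.centralizer ({k * g * k⁻¹} : Set G)).index_mul_card
  have h2 := (Subgroup.centralizer ({g} : Set G)).index_mul_card
  rw [card_centralizer_conj] at h1
  have hpos : 0 < Nat.card (Subgroup.centralizer ({g} : Set G)) := Nat.card_pos
  exact Nat.eq_of_mul_eq_mul_right hpos (h1.trans h2.symm)

theorem centralChar_conj {χ : G → ℂ} (hχ : IsClassFunction G χ) (g k : G) :
    centralChar χ (k * g * k⁻¹) = centralChar χ g := by
  unfold centralChar
  rw [index_centralizer_conj, hχ g k]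

theorem isDefectClass_conj {B : Set (IrrCharacter G)} {g : G} (hg : IsDefectClass M B g)
    (k : G) : IsDefectClass M B (k * g * k⁻¹) := by
  obtain ⟨h1, h2, h3⟩ := hg
  have hcl := isClassFunction_blockCoeff B g k
  refine ⟨by rw [hcl]; exact h1, by rw [hcl]; exact h2, ?_⟩
  intro χ hχ
  rw [centralChar_conj (Helper4.isClassFunction_of_isIrrCharacter χ.2)]
  exact h3 χ hχ

/-- every block has a defect class -/
theorem exists_defectClass {p : ℕ} (hM : IsPModular p M) {B : Set (IrrCharacter G)}
    (hB : IsPBlock M B) : ∃ g : G, IsDefectClass M B g := by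
  have : Fintype (ConjClasses G) := Fintype.ofFinite _
  have : M.IsPrime := hM.2.1.isPrime
  have hMtop : M ≠ ⊤ := hM.2.1.ne_top
  obtain ⟨χ0, hχ0⟩ := block_nonempty hB
  have hcl0 := Helper4.isClassFunction_of_isIrrCharacter χ0.2
  have h1 : omegaF (χ0 : G → ℂ) (blockCoeff B) = 1 := by
    rw [omegaF_blockCoeff, if_pos hχ0]
  rw [omegaF_eq_sum_classes hcl0 _ (isClassFunction_blockCoeff B)] at h1
  have h2 : ∃ C : ConjClasses G, ¬ MemLocalIdeal M
      (blockCoeff B (Quotient.out C) * centralChar (χ0 : G → ℂ) (Quotient.out C)) := by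
    by_contra hcon
    push Not at hcon
    have := memLocalIdeal_sum Finset.univ
      (fun C : ConjClasses G =>
        blockCoeff B (Quotient.out C) * centralChar (χ0 : G → ℂ) (Quotient.out C))
      (fun C _ => hcon C)
    rw [h1] at this
    exact not_memLocalIdeal_one hMtop this
  obtain ⟨C, hC⟩ := h2
  refine ⟨Quotient.out C, osima hB _, ?_, ?_⟩
  · intro h
    apply hC
    exact memLocalIdeal_mul_right h
      (memLocalRing_of_isIntegral hMtop (isIntegral_centralChar χ0.2 _))
  · intro χ hχ h
    apply hC
    apply memLocalIdeal_mul_left (osima hB _)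
    have h3 : SameBlock M (χ0 : G → ℂ) (χ : G → ℂ) := (mem_block_iff hB hχ0 χ).mp hχ
    have := memLocalIdeal_add (h3 (Quotient.out C)) h
    rwa [sub_add_cancel] at this

/-- the trivial character as an irreducible character -/
noncomputable def trivIrr (G : Type*) [Group G] : IrrCharacter G :=
  ⟨fun _ => 1, isIrrCharacter_one⟩

omit [Fintype G] in
theorem isPBlock_principalBlock : IsPBlock M (principalBlock M G) := ⟨trivIrr G, rfl⟩

omit [Fintype G] in
theorem trivIrr_mem_principalBlock (hM : M ≠ ⊤) : trivIrr G ∈ principalBlock M G := by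
  show SameBlock M (fun _ : G => (1 : ℂ)) (fun _ : G => (1 : ℂ))
  intro g
  rw [sub_self]
  exact memLocalIdeal_zero hM

omit [Fintype G] in
theorem blockDefect_principalBlock {p : ℕ} (hM : IsPModular p M) :
    blockDefect p (principalBlock M G) = (Nat.card G).factorization p := by
  unfold blockDefect
  have h0 : sInf ((fun χ : IrrCharacter G => (charDegree (χ : G → ℂ)).factorization p) ''
      principalBlock M G) = 0 := by
    apply Nat.eq_zero_of_le_zero
    apply Nat.sInf_le
    refine ⟨trivIrr G, trivIrr_mem_principalBlock hM.2.1.ne_top, ?_⟩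
    show (charDegree (fun _ : G => (1 : ℂ))).factorization p = 0
    unfold charDegree
    simp
  rw [h0, Nat.sub_zero]

end

end Cfsg.Agent.Lib.Helper28
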