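import Mathlib
import Cfsg.Agent.Lib.Helper28.BlockOsima
import Cfsg.Agent.Lib.Helper28.BlockPReg

set_option autoImplicit false

/-!
# Unit factors of block idempotents and `p`-group orbit sums (helper28)
-/

namespace Cfsg.Agent.Lib.Helper28

open Cfsg Cfsg.Agent.Lib.Helper4
open scoped ComplexConjugate Classical

section

variable {G : Type*} [Group G] [Fintype G] {M : Ideal AlgInt}

theorem conv_memLocalRing [M.IsPrime] {F1 F2 : G → ℂ} (h1 : ∀ g, MemLocalRing M (F1 g))
    (h2 : ∀ g, MemLocalRing M (F2 g)) (x : G) : MemLocalRing M (conv F1 F2 x) :=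
  memLocalRing_sum _ _ fun g _ => memLocalRing_mul (h1 g) (h2 _)

theorem deltaF_memLocalRing [M.IsPrime] (x g : G) : MemLocalRing M (deltaF x g) :=
  memLocalRing_of_isIntegral (Ideal.IsPrime.ne_top ‹_›) (deltaF_isIntegral x g)

theorem classInd_memLocalRing [M.IsPrime] (x g : G) : MemLocalRing M (classInd x g) :=
  memLocalRing_of_isIntegral (Ideal.IsPrime.ne_top ‹_›) (classInd_isIntegral x g)

theorem isClassFunction_zero : IsClassFunction G (0 : G → ℂ) := fun _ _ => rfl

/-- the induction behind `exists_unit_factor` -/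
theorem exists_partial_inverse [M.IsPrime] (a : G → ℂ) (ha1 : IsClassFunction G a)
    (ha2 : ∀ g, MemLocalRing M (a g)) (U : Finset (IrrCharacter G))
    (hU : ∀ χ ∈ U, ¬ MemLocalIdeal M (omegaF (χ : G → ℂ) a)) :
    ∃ y Pf : G → ℂ, IsClassFunction G y ∧ IsClassFunction G Pf ∧
      (∀ g, MemLocalRing M (y g)) ∧ (∀ g, MemLocalRing M (Pf g)) ∧
      (∀ ψ : IrrCharacter G, omegaF (ψ : G → ℂ) Pf =
        ∏ χ ∈ U, (1 - omegaF (ψ : G → ℂ) a * (omegaF (χ : G → ℂ) a)⁻¹)) ∧
      ∀ ψ : IrrCharacter G, omegaF (ψ : G → ℂ) a * omegaF (ψ : G → ℂ) y =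
        1 - omegaF (ψ : G → ℂ) Pf := by
  have hMtop : M ≠ ⊤ := Ideal.IsPrime.ne_top ‹_›
  induction U using Finset.induction_on with
  | empty =>
    refine ⟨0, deltaF 1, isClassFunction_zero, isClassFunction_deltaF_one,
      fun g => memLocalRing_zero hMtop, fun g => deltaF_memLocalRing 1 g, ?_, ?_⟩
    · intro ψ
      rw [omegaF_deltaF_one (irr_one_ne_zero ψ.2), Finset.prod_empty]
    · intro ψ
      rw [omegaF_deltaF_one (irr_one_ne_zero ψ.2), omegaF_zero, mul_zero, sub_self]
  | insert i U hi ih =>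
    obtain ⟨y, Pf, hy1, hP1, hy2, hP2, hP3, hy3⟩ :=
      ih (fun χ hχ => hU χ (Finset.mem_insert_of_mem hχ))
    have hui := hU i (Finset.mem_insert_self i U)
    obtain ⟨u, hu⟩ : ∃ u : ℂ, u = (omegaF (i : G → ℂ) a)⁻¹ := ⟨_, rfl⟩
    have huR : MemLocalRing M u := by
      rw [hu]
      exact memLocalRing_inv (omegaF_memLocalRing i.2 a ha1 ha2) hui
    let b : G → ℂ := deltaF 1 - u • a
    have hb1 : IsClassFunction G b :=
      isClassFunction_sub isClassFunction_deltaF_one (isClassFunction_smul u ha1)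
    have hb2 : ∀ g, MemLocalRing M (b g) := by
      intro g
      show MemLocalRing M (deltaF 1 g - u • a g)
      exact memLocalRing_sub (deltaF_memLocalRing 1 g)
        (by rw [smul_eq_mul]; exact memLocalRing_mul huR (ha2 g))
    have hb3 : ∀ ψ : IrrCharacter G, omegaF (ψ : G → ℂ) b =
        1 - omegaF (ψ : G → ℂ) a * (omegaF (i : G → ℂ) a)⁻¹ := by
      intro ψ
      show omegaF (ψ : G → ℂ) (deltaF 1 - u • a) = _
      rw [omegaF_sub, omegaF_smul, omegaF_deltaF_one (irr_one_ne_zero ψ.2), hu, mul_comm]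
    have hPf' : ∀ ψ : IrrCharacter G, omegaF (ψ : G → ℂ) (conv Pf b) =
        ∏ χ ∈ insert i U, (1 - omegaF (ψ : G → ℂ) a * (omegaF (χ : G → ℂ) a)⁻¹) := by
      intro ψ
      rw [omegaF_conv ψ.2 Pf b hP1 hb1, hP3, hb3, Finset.prod_insert hi, mul_comm]
    refine ⟨y + u • Pf, conv Pf b, isClassFunction_add hy1 (isClassFunction_smul u hP1),
      isClassFunction_conv hP1 hb1, ?_, conv_memLocalRing hP2 hb2, hPf', ?_⟩
    · intro g
      show MemLocalRing M (y g + u • Pf g)
      exact memLocalRing_add (hy2 g) (by rw [smul_eq_mul]; exact memLocalRing_mul huR (hP2 g))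
    · intro ψ
      rw [omegaF_add, omegaF_smul, mul_add, hy3, omegaF_conv ψ.2 Pf b hP1 hb1, hb3, hu]
      ring

/-- **unit factor**: if the central characters of the block `B` are units on the central element
`a`, the block idempotent is a multiple `a * Y` of `a` with `Y` central with local coefficients -/
theorem exists_unit_factor [M.IsPrime] {B : Set (IrrCharacter G)} (hB : IsPBlock M B)
    (a : G → ℂ) (ha1 : IsClassFunction G a) (ha2 : ∀ g, MemLocalRing M (a g))
    (hu : ∀ χ ∈ B, ¬ MemLocalIdeal M (omegaF (χ : G → ℂ) a)) :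
    ∃ Y : G → ℂ, IsClassFunction G Y ∧ (∀ g, MemLocalRing M (Y g)) ∧
      conv a Y = blockCoeff B := by
  have : Fintype (IrrCharacter G) := Fintype.ofFinite _
  have hMtop : M ≠ ⊤ := Ideal.IsPrime.ne_top ‹_›
  obtain ⟨y, Pf, hy1, hP1, hy2, hP2, hP3, hy3⟩ := exists_partial_inverse a ha1 ha2
    (Finset.univ.filter (fun χ : IrrCharacter G => χ ∈ B))
    (fun χ hχ => hu χ (Finset.mem_filter.mp hχ).2)
  have hcl := isClassFunction_blockCoeff B
  refine ⟨conv (blockCoeff B) y, isClassFunction_conv hcl hy1,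
    conv_memLocalRing (fun g => osima hB g) hy2, ?_⟩
  apply eq_of_omegaF_eq _ _ (isClassFunction_conv ha1 (isClassFunction_conv hcl hy1)) hcl
  intro ψ
  rw [omegaF_conv ψ.2 _ _ ha1 (isClassFunction_conv hcl hy1), omegaF_conv ψ.2 _ _ hcl hy1,
    omegaF_blockCoeff]
  by_cases hψ : ψ ∈ B
  · rw [if_pos hψ, one_mul, hy3, hP3]
    have hne : omegaF (ψ : G → ℂ) a ≠ 0 := by
      intro h0
      apply hu ψ hψ
      rw [h0]
      exact memLocalIdeal_zero hMtop
    rw [Finset.prod_eq_zero (i := ψ) (Finset.mem_filter.mpr ⟨Finset.mem_univ _, hψ⟩)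
      (by rw [mul_inv_cancel₀ hne, sub_self]), sub_zero]
  · rw [if_neg hψ, zero_mul, mul_zero]

end

section Orbit

variable {M : Ideal AlgInt}

/-- the sum of an invariant function with local values over a finite set on which a `p`-group
acts without fixed points lies in the local ideal -/
theorem sum_memLocalIdeal_of_pgroup_action {p : ℕ} (hM : IsPModular p M)
    {P X : Type*} [Group P] [Fintype X] [MulAction P X] (hP : IsPGroup p P)
    (f : X → ℂ) (hf : ∀ (t : P) (x : X), f (t • x) = f x) (hR : ∀ x, MemLocalRing M (f x))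
    (hfix : ∀ x : X, ∃ t : P, t • x ≠ x) : MemLocalIdeal M (∑ x, f x) := by
  have : M.IsPrime := hM.2.1.isPrime
  haveI : Fact p.Prime := ⟨hM.1⟩
  have h1 : ∑ x, f x = ∑ b ∈ Finset.univ.image f,
      (Finset.univ.filter (fun x => f x = b)).card • b := by
    have := Finset.sum_comp (s := (Finset.univ : Finset X)) (f := fun b : ℂ => b) (g := f)
    simpa using this
  rw [h1]
  apply memLocalIdeal_sum
  intro b hb
  obtain ⟨x0, -, hx0⟩ := Finset.mem_image.mp hb
  have hbR : MemLocalRing M b := hx0 ▸ hR x0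
  let S : SubMulAction P X :=
    { carrier := {x | f x = b}
      smul_mem' := fun t x hx => by
        show f (t • x) = b
        rw [hf]; exact hx }
  have hcard : Nat.card S = (Finset.univ.filter (fun x => f x = b)).card := by
    rw [Nat.card_eq_fintype_card, Fintype.card_subtype]
    rfl
  have hmod := hP.card_modEq_card_fixedPoints (α := S)
  have hempty : IsEmpty (MulAction.fixedPoints P S) := by
    constructor
    rintro ⟨⟨x, hx⟩, hfx⟩
    obtain ⟨t, ht⟩ := hfix x
    apply ht
    have := hfx t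
    exact congrArg Subtype.val this
  have h0 : Nat.card (MulAction.fixedPoints P S) = 0 := Nat.card_of_isEmpty
  rw [h0] at hmod
  have hdvd : p ∣ (Finset.univ.filter (fun x => f x = b)).card := by
    rw [← hcard]
    exact (Nat.modEq_zero_iff_dvd).mp hmod
  obtain ⟨k, hk⟩ := hdvd
  rw [hk, nsmul_eq_mul]
  push_cast
  rw [mul_assoc]
  exact memLocalIdeal_mul_right (memLocalIdeal_natCast_p hM)
    (memLocalRing_mul (memLocalRing_natCast hM.2.1.ne_top k) hbR)

end Orbit

end Cfsg.Agent.Lib.Helper28
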