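import Mathlib
import Cfsg.Agent.Lib.Helper28.BrauerA
import Cfsg.Agent.Lib.Helper28.BlockDefectE

set_option autoImplicit false

/-!
# The min–max theorem for defect classes (helper28)
-/

namespace Cfsg.Agent.Lib.Helper28

open Cfsg Cfsg.Agent.Lib.Helper4
open scoped ComplexConjugate Classical

section

variable {G : Type*} [Group G] [Fintype G] {M : Ideal AlgInt}

/-- conjugation action of a subgroup on a conjugacy class -/
noncomputable def conjClassAction (g : G) (Q : Subgroup G) :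
    MulAction Q {x : G // IsConj g x} where
  smul t x := ⟨(t : G) * x.1 * (t : G)⁻¹,
    x.2.trans (isConj_iff.mpr ⟨(t : G), rfl⟩)⟩
  one_smul x := by
    apply Subtype.ext
    show ((1 : Q) : G) * x.1 * ((1 : Q) : G)⁻¹ = x.1
    simp
  mul_smul s t x := by
    apply Subtype.ext
    show ((s * t : Q) : G) * x.1 * ((s * t : Q) : G)⁻¹ =
      (s : G) * ((t : G) * x.1 * (t : G)⁻¹) * (s : G)⁻¹
    rw [Subgroup.coe_mul]
    group

/-- **key lemma of the min–max theorem**: if the central characters of `B` are units at the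
class of `g` and the idempotent coefficient of `B` at `h` is a unit, then every `p`-subgroup
centralizing `h` centralizes some conjugate of `g`. -/
theorem exists_conj_centralized {p : ℕ} (hM : IsPModular p M) {B : Set (IrrCharacter G)}
    (hB : IsPBlock M B) (g h : G)
    (hg : ∀ χ ∈ B, ¬ MemLocalIdeal M (centralChar (χ : G → ℂ) g))
    (hh : ¬ MemLocalIdeal M (blockCoeff B h))
    (Q : Subgroup G) (hQ : IsPGroup p Q) (hQh : ∀ t ∈ Q, t * h = h * t) :
    ∃ x : G, IsConj g x ∧ ∀ t ∈ Q, t * x = x * t := by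
  have : M.IsPrime := hM.2.1.isPrime
  by_contra hcon
  push Not at hcon
  apply hh
  obtain ⟨Y, hY1, hY2, hY3⟩ := exists_unit_factor hB (classInd g) (isClassFunction_classInd g)
    (fun x => classInd_memLocalRing g x) (fun χ hχ => by
      rw [omegaF_classInd (Helper4.isClassFunction_of_isIrrCharacter χ.2)]
      exact hg χ hχ)
  rw [← hY3]
  have h1 : conv (classInd g) Y h = ∑ x : {x : G // IsConj g x}, Y (x.1⁻¹ * h) := by
    show ∑ x : G, classInd g x * Y (x⁻¹ * h) = _
    rw [sum_subtype_eq_sum_ite (fun x : G => IsConj g x) (fun x => Y (x⁻¹ * h))]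
    refine Finset.sum_congr rfl fun x _ => ?_
    unfold classInd
    by_cases hx : IsConj g x
    · rw [if_pos hx, if_pos hx, one_mul]
    · rw [if_neg hx, if_neg hx, zero_mul]
  rw [h1]
  letI := conjClassAction g Q
  apply sum_memLocalIdeal_of_pgroup_action hM hQ
  · intro t x
    show Y (((t : G) * x.1 * (t : G)⁻¹)⁻¹ * h) = Y (x.1⁻¹ * h)
    have ht := hQh t t.2
    have h2 : ((t : G) * x.1 * (t : G)⁻¹)⁻¹ * h = (t : G) * (x.1⁻¹ * h) * (t : G)⁻¹ := by
      have h3 : h = (t : G) * h * (t : G)⁻¹ := by rw [ht]; group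
      conv_lhs => rw [h3]
      group
    rw [h2, hY1]
  · intro x
    exact hY2 _
  · intro x
    obtain ⟨t, ht, hne⟩ := hcon x.1 x.2
    refine ⟨⟨t, ht⟩, fun heq => hne ?_⟩
    have h2 : t * x.1 * t⁻¹ = x.1 := congrArg Subtype.val heq
    calc t * x.1 = t * x.1 * t⁻¹ * t := by group
      _ = x.1 * t := by rw [h2]

end

section Sylow

variable {G : Type*} [Group G] [Finite G]

/-- a `p`-subgroup centralizing a conjugate of `g` lies in a conjugate of any Sylow
`p`-subgroup of the centralizer of `g` -/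
theorem le_conj_sylow_of_centralizes {p : ℕ} [Fact p.Prime] (g : G)
    (D : Sylow p (Subgroup.centralizer ({g} : Set G))) (Q : Subgroup G) (hQ : IsPGroup p Q)
    (c : G) (hQc : ∀ t ∈ Q, t * (c * g * c⁻¹) = (c * g * c⁻¹) * t) :
    ∃ y : G, Q ≤ ((D : Subgroup (Subgroup.centralizer ({g} : Set G))).map
      (Subgroup.centralizer ({g} : Set G)).subtype).map (MulAut.conj y).toMonoidHom := by
  have hmemC : ∀ t ∈ Q, c⁻¹ * t * c ∈ Subgroup.centralizer ({g} : Set G) := by
    intro t ht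
    rw [Subgroup.mem_centralizer_iff]
    intro y hy
    rw [Set.mem_singleton_iff] at hy
    subst hy
    have h1 := hQc t ht
    calc y * (c⁻¹ * t * c) = c⁻¹ * ((c * y * c⁻¹) * t) * c := by group
      _ = c⁻¹ * (t * (c * y * c⁻¹)) * c := by rw [h1]
      _ = c⁻¹ * t * c * y := by group
  -- the `p`-subgroup of `C`
  have hQ2 : IsPGroup p ((Q.map (MulAut.conj c⁻¹).toMonoidHom).subgroupOf
      (Subgroup.centralizer ({g} : Set G))) := (hQ.map _).comap_subtype
  obtain ⟨S, hS⟩ := hQ2.exists_le_sylow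
  obtain ⟨z, hz⟩ := MulAction.exists_smul_eq (Subgroup.centralizer ({g} : Set G)) D S
  refine ⟨c * (z : G), ?_⟩
  intro t ht
  have h1 : (⟨c⁻¹ * t * c, hmemC t ht⟩ : Subgroup.centralizer ({g} : Set G)) ∈
      (Q.map (MulAut.conj c⁻¹).toMonoidHom).subgroupOf (Subgroup.centralizer ({g} : Set G)) := by
    rw [Subgroup.mem_subgroupOf]
    refine ⟨t, ht, ?_⟩
    show c⁻¹ * t * c⁻¹⁻¹ = c⁻¹ * t * c
    rw [inv_inv]
  have h2 : (⟨c⁻¹ * t * c, hmemC t ht⟩ : Subgroup.centralizer ({g} : Set G)) ∈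
      (S : Subgroup (Subgroup.centralizer ({g} : Set G))) := hS h1
  rw [← hz, Sylow.coe_subgroup_smul, Subgroup.mem_pointwise_smul_iff_inv_smul_mem] at h2
  have h3 : (MulAut.conj z)⁻¹ •
      (⟨c⁻¹ * t * c, hmemC t ht⟩ : Subgroup.centralizer ({g} : Set G)) =
      z⁻¹ * ⟨c⁻¹ * t * c, hmemC t ht⟩ * z := by
    rw [MulAut.smul_def, MulAut.conj_inv_apply]
  rw [h3] at h2
  refine ⟨(z : G)⁻¹ * (c⁻¹ * t * c) * (z : G),
    ⟨z⁻¹ * ⟨c⁻¹ * t * c, hmemC t ht⟩ * z, h2, rfl⟩, ?_⟩
  show c * (z : G) * ((z : G)⁻¹ * (c⁻¹ * t * c) * (z : G)) * (c * (z : G))⁻¹ = t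
  group

omit [Finite G] in
/-- a `p`-subgroup of the centralizer of `h` lies in a Sylow `p`-subgroup of it -/
theorem exists_sylow_centralizer_ge {p : ℕ} [Fact p.Prime] (h : G) (Q : Subgroup G)
    (hQ : IsPGroup p Q) (hQh : ∀ t ∈ Q, t * h = h * t) :
    ∃ S : Sylow p (Subgroup.centralizer ({h} : Set G)),
      Q ≤ (S : Subgroup (Subgroup.centralizer ({h} : Set G))).map
        (Subgroup.centralizer ({h} : Set G)).subtype := by
  have hQC : Q ≤ Subgroup.centralizer ({h} : Set G) := by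
    intro t ht
    rw [Subgroup.mem_centralizer_iff]
    intro y hy
    rw [Set.mem_singleton_iff] at hy
    subst hy
    exact (hQh t ht).symm
  have hQ2 : IsPGroup p (Q.subgroupOf (Subgroup.centralizer ({h} : Set G))) := hQ.comap_subtype
  obtain ⟨S, hS⟩ := hQ2.exists_le_sylow
  refine ⟨S, fun t ht => ?_⟩
  refine ⟨⟨t, hQC ht⟩, hS ?_, rfl⟩
  rw [Subgroup.mem_subgroupOf]
  exact ht

end Sylow

end Cfsg.Agent.Lib.Helper28
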