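import Mathlib
import Cfsg.Prelude.Def_BlockRank
import Cfsg.Agent.Lib.Helper28.BlockOrthPReg
import Cfsg.Agent.Lib.Helper28.BlockOsima
import Cfsg.Agent.Lib.Helper28.DefectGen
import Cfsg.Agent.Lib.Helper26.GenChar
import Cfsg.Agent.Lib.Helper26.IndChar

set_option autoImplicit false

/-!
# The `p`-regular parts of the characters of a block (helper28)
-/

namespace Cfsg.Agent.Lib.Helper28

open Cfsg Cfsg.Agent.Lib.Helper4 Cfsg.Agent.Lib.Helper26
open scoped ComplexConjugate Classical

section

variable {G : Type*} [Group G]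

theorem pRegularPart_apply (p : ℕ) (χ : G → ℂ) (g : G) :
    pRegularPart p χ g = if p ∣ orderOf g then 0 else χ g := by
  unfold pRegularPart IsPRegular
  by_cases h : p ∣ orderOf g
  · rw [if_pos h, if_neg (not_not.mpr h)]
  · rw [if_neg h, if_pos h]

theorem pRegularPart_of_dvd {p : ℕ} (χ : G → ℂ) {g : G} (h : p ∣ orderOf g) :
    pRegularPart p χ g = 0 := by
  rw [pRegularPart_apply, if_pos h]

theorem pRegularPart_of_not_dvd {p : ℕ} (χ : G → ℂ) {g : G} (h : ¬ p ∣ orderOf g) :
    pRegularPart p χ g = χ g := by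
  rw [pRegularPart_apply, if_neg h]

theorem pRegularPart_add (p : ℕ) (χ ψ : G → ℂ) :
    pRegularPart p (χ + ψ) = pRegularPart p χ + pRegularPart p ψ := by
  funext g
  simp only [pRegularPart_apply, Pi.add_apply]
  split_ifs <;> simp

theorem pRegularPart_smul (p : ℕ) (c : ℂ) (χ : G → ℂ) :
    pRegularPart p (c • χ) = c • pRegularPart p χ := by
  funext g
  simp only [pRegularPart_apply, Pi.smul_apply, smul_eq_mul]
  split_ifs <;> simp

theorem pRegularPart_zero (p : ℕ) : pRegularPart p (0 : G → ℂ) = 0 := by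
  funext g
  simp only [pRegularPart_apply, Pi.zero_apply]
  split_ifs <;> rfl

theorem pRegularPart_sum (p : ℕ) {ι : Type*} (s : Finset ι) (f : ι → G → ℂ) :
    pRegularPart p (∑ i ∈ s, f i) = ∑ i ∈ s, pRegularPart p (f i) := by
  induction s using Finset.induction_on with
  | empty => simp [pRegularPart_zero]
  | insert i s hi ih => rw [Finset.sum_insert hi, Finset.sum_insert hi, pRegularPart_add, ih]

theorem pRegularPart_idem (p : ℕ) (χ : G → ℂ) :
    pRegularPart p (pRegularPart p χ) = pRegularPart p χ := by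
  funext g
  simp only [pRegularPart_apply]
  split_ifs <;> rfl

/-- the `p`-regular part as a linear map -/
noncomputable def pRegLin (G : Type*) [Group G] (p : ℕ) : (G → ℂ) →ₗ[ℂ] (G → ℂ) where
  toFun := pRegularPart p
  map_add' := pRegularPart_add p
  map_smul' := fun c χ => by rw [pRegularPart_smul]; rfl

theorem pRegLin_apply (p : ℕ) (χ : G → ℂ) : pRegLin G p χ = pRegularPart p χ := rfl

theorem isClassFunction_pRegularPart (p : ℕ) {χ : G → ℂ} (hχ : IsClassFunction G χ) :
    IsClassFunction G (pRegularPart p χ) := by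
  intro g k
  have ho : orderOf (k * g * k⁻¹) = orderOf g := by
    have hs : SemiconjBy k g (k * g * k⁻¹) := by
      show k * g = k * g * k⁻¹ * k
      group
    exact (hs.orderOf_eq).symm
  rw [pRegularPart_apply, pRegularPart_apply, ho, hχ g k]

end

section Fin

variable {G : Type*} [Group G] [Fintype G] {M : Ideal AlgInt}

/-- block orthogonality on `p`-regular elements, via `pRegularPart` -/
theorem classInner_pRegularPart_eq_zero {p : ℕ} (hM : IsPModular p M) (χ ψ : IrrCharacter G)
    (h : ¬ SameBlock M (χ : G → ℂ) (ψ : G → ℂ)) :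
    classInner (pRegularPart p (χ : G → ℂ)) (ψ : G → ℂ) = 0 := by
  unfold classInner
  have := preg_orthogonality hM χ ψ h
  have h2 : ∑ g : G, pRegularPart p (χ : G → ℂ) g * conj ((ψ : G → ℂ) g) =
      ∑ x : G, (if p ∣ orderOf x then 0 else (χ : G → ℂ) x * conj ((ψ : G → ℂ) x)) := by
    refine Finset.sum_congr rfl fun g _ => ?_
    rw [pRegularPart_apply]
    split_ifs <;> simp
  rw [h2, this, mul_zero]

omit [Fintype G] in
theorem sub_factorization_le_blockDefect {p : ℕ} {B : Set (IrrCharacter G)} {χ : IrrCharacter G}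
    (hχ : χ ∈ B) :
    (Nat.card G).factorization p - (charDegree (χ : G → ℂ)).factorization p ≤
      blockDefect p B := by
  unfold blockDefect
  have : sInf ((fun χ : IrrCharacter G => (charDegree (χ : G → ℂ)).factorization p) '' B) ≤
      (charDegree (χ : G → ℂ)).factorization p := Nat.sInf_le ⟨χ, hχ, rfl⟩
  omega

/-- `p ^ d · χ°` is a generalized character for `χ` in a set of defect `d` -/
theorem isGeneralizedCharacter_pow_blockDefect_pRegularPart {p : ℕ} (hp : p.Prime)
    {B : Set (IrrCharacter G)} {χ : IrrCharacter G} (hχ : χ ∈ B) :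
    IsGeneralizedCharacter G
      (fun g => (p ^ blockDefect p B : ℂ) * pRegularPart p (χ : G → ℂ) g) := by
  have h1 := irr_pPart_isGeneralizedCharacter hp χ
  have hle := sub_factorization_le_blockDefect (p := p) hχ
  obtain ⟨e, he⟩ := Nat.exists_eq_add_of_le hle
  have h2 := isGeneralizedCharacter_nsmul h1 (p ^ e)
  convert h2 using 1
  funext g
  rw [Pi.smul_apply, pRegularPart_apply, he]
  split_ifs
  · simp
  · rw [nsmul_eq_mul]
    push_cast
    ring

end Fin

end Cfsg.Agent.Lib.Helper28
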