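import Mathlib
import Cfsg.Agent.Lib.Helper28.BlockRankA
import Cfsg.Agent.Lib.Helper26.CharBasic
import Cfsg.Agent.Lib.Helper26.CharInt

set_option autoImplicit false

/-!
# `p ^ d · χ°` stays in the `ℤ`-span of the block (helper28)
-/

namespace Cfsg.Agent.Lib.Helper28

open Cfsg Cfsg.Agent.Lib.Helper4 Cfsg.Agent.Lib.Helper26
open scoped ComplexConjugate Classical

variable {G : Type*} [Group G] [Fintype G] {M : Ideal AlgInt}

theorem finsum_mem_eq_sum_ite {ι : Type*} [Fintype ι] (B : Set ι) (f : ι → ℂ) :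
    ∑ᶠ ψ ∈ B, f ψ = ∑ ψ : ι, if ψ ∈ B then f ψ else 0 := by
  rw [finsum_mem_def, finsum_eq_sum_of_fintype]
  refine Finset.sum_congr rfl fun χ _ => ?_
  rw [Set.indicator_apply]

/-- the inner product of `θ°` (`θ` a combination of members of `B`) with a character outside
the block vanishes -/
theorem classInner_pRegularPart_comb_eq_zero [Fintype (IrrCharacter G)] {p : ℕ}
    (hM : IsPModular p M) {B : Set (IrrCharacter G)} (hB : IsPBlock M B)
    (n : IrrCharacter G → ℂ) (φ : IrrCharacter G) (hφ : φ ∉ B) :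
    classInner (pRegularPart p
      (∑ ψ : IrrCharacter G, if ψ ∈ B then n ψ • (ψ : G → ℂ) else 0)) (φ : G → ℂ) = 0 := by
  have : M.IsPrime := hM.2.1.isPrime
  rw [pRegularPart_sum, classInner_sum_left]
  apply Finset.sum_eq_zero
  intro ψ _
  by_cases hψ : ψ ∈ B
  · rw [if_pos hψ, pRegularPart_smul, classInner_smul_left,
      classInner_pRegularPart_eq_zero hM ψ φ (fun h => hφ ((mem_block_iff hB hψ φ).mpr h)),
      mul_zero]
  · rw [if_neg hψ, pRegularPart_zero, classInner_zero_left]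

/-- Brauer: `p ^ d θ°` is a `ℤ`-combination of the members of `B` for every `ℤ`-combination
`θ` of members of the block `B` of defect `d`. -/
theorem pow_defect_pRegularPart_mem_span [Fintype (IrrCharacter G)] {p : ℕ}
    (hM : IsPModular p M) {B : Set (IrrCharacter G)} (hB : IsPBlock M B)
    (n : IrrCharacter G → ℤ) :
    ∃ m : IrrCharacter G → ℤ, ∀ g : G,
      (p ^ blockDefect p B : ℂ) * pRegularPart p
        (∑ ψ : IrrCharacter G, if ψ ∈ B then (n ψ : ℂ) • (ψ : G → ℂ) else 0) g =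
      ∑ φ : IrrCharacter G, if φ ∈ B then (m φ : ℂ) * (φ : G → ℂ) g else 0 := by
  have hp : p.Prime := hM.1
  obtain ⟨θ, hθ⟩ : ∃ θ : G → ℂ, θ = (p ^ blockDefect p B : ℂ) • pRegularPart p
      (∑ ψ : IrrCharacter G, if ψ ∈ B then (n ψ : ℂ) • (ψ : G → ℂ) else 0) := ⟨_, rfl⟩
  have hθ2 : θ = ∑ ψ : IrrCharacter G, if ψ ∈ B then
      n ψ • (fun g => (p ^ blockDefect p B : ℂ) * pRegularPart p (ψ : G → ℂ) g) else 0 := by
    rw [hθ, pRegularPart_sum, Finset.smul_sum]
    refine Finset.sum_congr rfl fun ψ _ => ?_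
    by_cases hψ : ψ ∈ B
    · rw [if_pos hψ, if_pos hψ, pRegularPart_smul]
      funext g
      simp only [Pi.smul_apply, smul_eq_mul, zsmul_eq_mul]
      ring
    · rw [if_neg hψ, if_neg hψ, pRegularPart_zero, smul_zero]
  have hgen : IsGeneralizedCharacter G θ := by
    rw [hθ2]
    apply isGeneralizedCharacter_sum
    intro ψ _
    by_cases hψ : ψ ∈ B
    · rw [if_pos hψ]
      exact isGeneralizedCharacter_zsmul
        (isGeneralizedCharacter_pow_blockDefect_pRegularPart hp hψ) _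
    · rw [if_neg hψ]
      exact isGeneralizedCharacter_zero
  obtain ⟨c, hc⟩ := exists_int_coeff hgen
  have hexp := genChar_expansion hgen c hc
  refine ⟨c, fun g => ?_⟩
  have h1 : (p ^ blockDefect p B : ℂ) * pRegularPart p
        (∑ ψ : IrrCharacter G, if ψ ∈ B then (n ψ : ℂ) • (ψ : G → ℂ) else 0) g = θ g := by
    rw [hθ]; rfl
  rw [h1, hexp, Finset.sum_apply]
  refine Finset.sum_congr rfl fun φ _ => ?_
  by_cases hφ : φ ∈ B
  · rw [if_pos hφ]; rfl
  · rw [if_neg hφ]
    have h0 : classInner θ (φ : G → ℂ) = 0 := by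
      rw [hθ, classInner_smul_left, classInner_pRegularPart_comb_eq_zero hM hB _ φ hφ, mul_zero]
    have hc0 : (c φ : ℂ) = 0 := by rw [← hc φ, h0]
    rw [hc0, zero_smul]; rfl

end Cfsg.Agent.Lib.Helper28
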