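import Mathlib
import Cfsg.Agent.Lib.Helper28.BrauerA
import Cfsg.Agent.Lib.Helper28.BlockCount

set_option autoImplicit false

/-!
# The Brauer map `Br_P` on class functions (helper28)

`brMap P H a` restricts the class function `a` of `G` to `C_G(P)` and extends it by zero to
`H`, where `C_G(P) ≤ H ≤ N_G(P)`.  It is multiplicative modulo the local ideal.
-/

namespace Cfsg.Agent.Lib.Helper28

open Cfsg Cfsg.Agent.Lib.Helper4
open scoped ComplexConjugate Classical

section Group

variable {G : Type*} [Group G]

theorem conj_mem_centralizer_of_mem (P : Subgroup G) {k : G}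
    (hk : k ∈ Subgroup.normalizer (P : Set G)) {h : G}
    (hh : h ∈ Subgroup.centralizer (P : Set G)) :
    k * h * k⁻¹ ∈ Subgroup.centralizer (P : Set G) := by
  rw [Subgroup.mem_centralizer_iff] at hh ⊢
  intro t ht
  have h1 : k⁻¹ * t * k ∈ P := (Subgroup.mem_set_normalizer_iff''.mp hk t).mp ht
  have h2 := hh _ h1
  calc t * (k * h * k⁻¹) = k * ((k⁻¹ * t * k) * h) * k⁻¹ := by group
    _ = k * (h * (k⁻¹ * t * k)) * k⁻¹ := by rw [h2]
    _ = k * h * k⁻¹ * t := by group

theorem conj_mem_centralizer_iff (P : Subgroup G) {k : G}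
    (hk : k ∈ Subgroup.normalizer (P : Set G)) (h : G) :
    k * h * k⁻¹ ∈ Subgroup.centralizer (P : Set G) ↔ h ∈ Subgroup.centralizer (P : Set G) := by
  constructor
  · intro hh
    have := conj_mem_centralizer_of_mem P (Subgroup.inv_mem _ hk) hh
    have h2 : k⁻¹ * (k * h * k⁻¹) * k⁻¹⁻¹ = h := by group
    rwa [h2] at this
  · exact conj_mem_centralizer_of_mem P hk

/-- the Brauer map on functions -/
noncomputable def brMap (P H : Subgroup G) (a : G → ℂ) : H → ℂ :=
  fun h => if (h : G) ∈ Subgroup.centralizer (P : Set G) then a h else 0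

/-- restriction of functions -/
def resMap (H : Subgroup G) (a : G → ℂ) : H → ℂ := fun h => a h

theorem brMap_of_mem (P H : Subgroup G) (a : G → ℂ) {h : H}
    (hh : (h : G) ∈ Subgroup.centralizer (P : Set G)) : brMap P H a h = a h := by
  unfold brMap; rw [if_pos hh]

theorem brMap_of_not_mem (P H : Subgroup G) (a : G → ℂ) {h : H}
    (hh : (h : G) ∉ Subgroup.centralizer (P : Set G)) : brMap P H a h = 0 := by
  unfold brMap; rw [if_neg hh]

theorem isClassFunction_brMap (P H : Subgroup G) (hHN : H ≤ Subgroup.normalizer (P : Set G))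
    {a : G → ℂ} (ha : IsClassFunction G a) : IsClassFunction H (brMap P H a) := by
  intro h k
  unfold brMap
  have h1 : ((k * h * k⁻¹ : H) : G) = (k : G) * (h : G) * (k : G)⁻¹ := by simp
  rw [h1, ha (h : G) (k : G)]
  have h2 := conj_mem_centralizer_iff P (hHN k.2) (h : G)
  by_cases hh : (h : G) ∈ Subgroup.centralizer (P : Set G)
  · rw [if_pos hh, if_pos (h2.mpr hh)]
  · rw [if_neg hh, if_neg (fun hc => hh (h2.mp hc))]

theorem isClassFunction_resMap (H : Subgroup G) {a : G → ℂ} (ha : IsClassFunction G a) :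
    IsClassFunction H (resMap H a) := by
  intro h k
  unfold resMap
  have h1 : ((k * h * k⁻¹ : H) : G) = (k : G) * (h : G) * (k : G)⁻¹ := by simp
  rw [h1, ha (h : G) (k : G)]

theorem brMap_zero (P H : Subgroup G) : brMap P H (0 : G → ℂ) = 0 := by
  funext h
  unfold brMap
  split_ifs <;> rfl

theorem brMap_sub (P H : Subgroup G) (a b : G → ℂ) :
    brMap P H (a - b) = brMap P H a - brMap P H b := by
  funext h
  unfold brMap
  simp only [Pi.sub_apply]
  split_ifs <;> simp

theorem brMap_smul (P H : Subgroup G) (c : ℂ) (a : G → ℂ) :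
    brMap P H (c • a) = c • brMap P H a := by
  funext h
  unfold brMap
  simp only [Pi.smul_apply, smul_eq_mul]
  split_ifs <;> simp

end Group

section Fin

variable {G : Type*} [Group G] [Fintype G] {M : Ideal AlgInt}

theorem brMap_deltaF_one (P H : Subgroup G) [Fintype H] :
    brMap P H (deltaF (1 : G)) = deltaF (1 : H) := by
  funext h
  unfold brMap deltaF
  by_cases hh : h = 1
  · subst hh
    simp
  · have : (h : G) ≠ 1 := fun hc => hh (Subtype.ext hc)
    rw [if_neg this, if_neg hh]
    split_ifs <;> rfl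

omit [Fintype G] in
theorem brMap_memLocalRing [M.IsPrime] (P H : Subgroup G) {a : G → ℂ}
    (ha : ∀ g, MemLocalRing M (a g)) (h : H) : MemLocalRing M (brMap P H a h) := by
  unfold brMap
  split_ifs
  · exact ha _
  · exact memLocalRing_zero (Ideal.IsPrime.ne_top ‹_›)

/-- conjugation action of `P` on the complement of its centralizer -/
noncomputable def conjComplAction (P : Subgroup G) :
    MulAction P {x : G // x ∉ Subgroup.centralizer (P : Set G)} where
  smul t x := ⟨(t : G) * x.1 * (t : G)⁻¹, fun hc =>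
    x.2 ((conj_mem_centralizer_iff P (Subgroup.le_normalizer t.2) x.1).mp hc)⟩
  one_smul x := by
    apply Subtype.ext
    show ((1 : P) : G) * x.1 * ((1 : P) : G)⁻¹ = x.1
    simp
  mul_smul s t x := by
    apply Subtype.ext
    show ((s * t : P) : G) * x.1 * ((s * t : P) : G)⁻¹ =
      (s : G) * ((t : G) * x.1 * (t : G)⁻¹) * (s : G)⁻¹
    rw [Subgroup.coe_mul]
    group

/-- a sum over a subgroup as a sum over the group -/
theorem sum_subgroup_eq_sum_ite (H : Subgroup G) [Fintype H] (f : G → ℂ) :
    ∑ x : H, f x = ∑ x : G, if x ∈ H then f x else 0 :=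
  sum_subtype_eq_sum_ite (fun x : G => x ∈ H) f

/-- **the Brauer map is multiplicative modulo the local ideal** -/
theorem brMap_conv_sub_memLocalIdeal {p : ℕ} (hM : IsPModular p M) (P H : Subgroup G)
    [Fintype H] (hP : IsPGroup p P) (hCH : Subgroup.centralizer (P : Set G) ≤ H)
    (a b : G → ℂ) (ha1 : IsClassFunction G a) (hb1 : IsClassFunction G b)
    (ha2 : ∀ g, MemLocalRing M (a g)) (hb2 : ∀ g, MemLocalRing M (b g)) (h : H) :
    MemLocalIdeal M (brMap P H (conv a b) h - conv (brMap P H a) (brMap P H b) h) := by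
  have hprime : M.IsPrime := hM.2.1.isPrime
  have hMtop : M ≠ ⊤ := hM.2.1.ne_top
  by_cases hh : (h : G) ∈ Subgroup.centralizer (P : Set G)
  · rw [brMap_of_mem P H _ hh]
    have h1 : conv (brMap P H a) (brMap P H b) h =
        ∑ x : G, if x ∈ Subgroup.centralizer (P : Set G) then a x * b (x⁻¹ * (h : G)) else 0 := by
      show ∑ x : H, brMap P H a x * brMap P H b (x⁻¹ * h) = _
      have h2 : ∀ x : H, brMap P H a x * brMap P H b (x⁻¹ * h) =
          (fun y : G => if y ∈ Subgroup.centralizer (P : Set G) then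
            a y * b (y⁻¹ * (h : G)) else 0) (x : G) := by
        intro x
        show _ = if (x : G) ∈ Subgroup.centralizer (P : Set G) then
            a x * b ((x : G)⁻¹ * (h : G)) else 0
        by_cases hx : (x : G) ∈ Subgroup.centralizer (P : Set G)
        · have hxh : ((x⁻¹ * h : H) : G) ∈ Subgroup.centralizer (P : Set G) := by
            have : ((x⁻¹ * h : H) : G) = (x : G)⁻¹ * (h : G) := by simp
            rw [this]
            exact Subgroup.mul_mem _ (Subgroup.inv_mem _ hx) hh
          rw [if_pos hx, brMap_of_mem P H _ hx, brMap_of_mem P H _ hxh]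
          simp
        · rw [if_neg hx, brMap_of_not_mem P H _ hx, zero_mul]
      rw [Finset.sum_congr rfl (fun x _ => h2 x), sum_subgroup_eq_sum_ite H
        (fun y : G => if y ∈ Subgroup.centralizer (P : Set G) then
            a y * b (y⁻¹ * (h : G)) else 0)]
      refine Finset.sum_congr rfl fun x _ => ?_
      by_cases hx : x ∈ Subgroup.centralizer (P : Set G)
      · rw [if_pos (hCH hx)]
      · rw [if_neg hx]
        split_ifs <;> rfl
    have h3 : conv a b (h : G) - conv (brMap P H a) (brMap P H b) h =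
        ∑ x : {x : G // x ∉ Subgroup.centralizer (P : Set G)}, a x.1 * b (x.1⁻¹ * (h : G)) := by
      rw [h1, sum_subtype_eq_sum_ite (fun x : G => x ∉ Subgroup.centralizer (P : Set G))
        (fun x => a x * b (x⁻¹ * (h : G)))]
      show ∑ x : G, a x * b (x⁻¹ * (h : G)) - _ = _
      rw [← Finset.sum_sub_distrib]
      refine Finset.sum_congr rfl fun x _ => ?_
      by_cases hx : x ∈ Subgroup.centralizer (P : Set G)
      · rw [if_pos hx, if_neg (not_not.mpr hx), sub_self]
      · rw [if_neg hx, if_pos hx, sub_zero]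
    rw [h3]
    letI := conjComplAction P
    apply sum_memLocalIdeal_of_pgroup_action hM hP
    · intro t x
      show a ((t : G) * x.1 * (t : G)⁻¹) * b (((t : G) * x.1 * (t : G)⁻¹)⁻¹ * (h : G)) =
        a x.1 * b (x.1⁻¹ * (h : G))
      have ht : (t : G) * (h : G) = (h : G) * (t : G) := by
        rw [Subgroup.mem_centralizer_iff] at hh
        exact hh _ t.2
      have h4 : ((t : G) * x.1 * (t : G)⁻¹)⁻¹ * (h : G) =
          (t : G) * (x.1⁻¹ * (h : G)) * (t : G)⁻¹ := by
        have h5 : (h : G) = (t : G) * (h : G) * (t : G)⁻¹ := by rw [ht]; group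
        conv_lhs => rw [h5]
        group
      rw [h4, ha1, hb1]
    · intro x
      exact memLocalRing_mul (ha2 _) (hb2 _)
    · intro x
      by_contra hcon
      push Not at hcon
      apply x.2
      rw [Subgroup.mem_centralizer_iff]
      intro t ht
      have h6 : (⟨t, ht⟩ : P) • x = x := hcon ⟨t, ht⟩
      have h7 : t * x.1 * t⁻¹ = x.1 := congrArg Subtype.val h6
      calc t * x.1 = t * x.1 * t⁻¹ * t := by group
        _ = x.1 * t := by rw [h7]
  · rw [brMap_of_not_mem P H _ hh]
    have h1 : conv (brMap P H a) (brMap P H b) h = 0 := by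
      show ∑ x : H, brMap P H a x * brMap P H b (x⁻¹ * h) = 0
      apply Finset.sum_eq_zero
      intro x _
      by_cases hx : (x : G) ∈ Subgroup.centralizer (P : Set G)
      · have hxh : ((x⁻¹ * h : H) : G) ∉ Subgroup.centralizer (P : Set G) := by
          intro hc
          apply hh
          have : (h : G) = (x : G) * ((x⁻¹ * h : H) : G) := by simp
          rw [this]
          exact Subgroup.mul_mem _ hx hc
        rw [brMap_of_not_mem P H _ hxh, mul_zero]
      · rw [brMap_of_not_mem P H _ hx, zero_mul]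
    rw [h1, sub_zero]
    exact memLocalIdeal_zero hMtop

end Fin

end Cfsg.Agent.Lib.Helper28
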