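import Mathlib
import Cfsg.Agent.Lib.Helper28.BrauerE
import Cfsg.Agent.Lib.Helper4.BlockNilp

set_option autoImplicit false

/-!
# Central characters composed with the Brauer map (helper28)
-/

namespace Cfsg.Agent.Lib.Helper28

open Cfsg Cfsg.Agent.Lib.Helper4
open scoped ComplexConjugate Classical

section One

variable {G : Type*} [Group G] [Fintype G] {M : Ideal AlgInt}

/-- a central element with coefficients in the local ideal has central character values in the
local ideal -/
theorem omegaF_memLocalIdeal_of_forall [M.IsPrime] {χ : G → ℂ} (hχ : IsIrrCharacter G χ)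
    (F : G → ℂ) (hF : IsClassFunction G F) (hFJ : ∀ g, MemLocalIdeal M (F g)) :
    MemLocalIdeal M (omegaF χ F) := by
  have : Fintype (ConjClasses G) := Fintype.ofFinite _
  rw [omegaF_eq_sum_classes (Helper4.isClassFunction_of_isIrrCharacter hχ) F hF]
  apply memLocalIdeal_sum
  intro C _
  exact memLocalIdeal_mul_right (hFJ _)
    (memLocalRing_of_isIntegral (Ideal.IsPrime.ne_top ‹_›) (isIntegral_centralChar hχ _))

/-- a central element with local coefficients vanishing on the centralizer of a normal
`p`-subgroup has central character values in the local ideal -/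
theorem omegaF_memLocalIdeal_of_support {p : ℕ} [Fact p.Prime] (hM : IsPModular p M)
    (Q : Subgroup G) [Q.Normal] (hQ : IsPGroup p Q) {χ : G → ℂ} (hχ : IsIrrCharacter G χ)
    (F : G → ℂ) (hF : IsClassFunction G F) (hFR : ∀ g, MemLocalRing M (F g))
    (hsupp : ∀ g ∈ Subgroup.centralizer (Q : Set G), F g = 0) :
    MemLocalIdeal M (omegaF χ F) := by
  have hprime : M.IsPrime := hM.2.1.isPrime
  have : Fintype (ConjClasses G) := Fintype.ofFinite _
  rw [omegaF_eq_sum_classes (Helper4.isClassFunction_of_isIrrCharacter hχ) F hF]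
  apply memLocalIdeal_sum
  intro C _
  by_cases hC : Quotient.out C ∈ Subgroup.centralizer (Q : Set G)
  · rw [hsupp _ hC, zero_mul]
    exact memLocalIdeal_zero hM.2.1.ne_top
  · exact memLocalIdeal_mul_left (hFR _)
      (centralChar_memLocalIdeal_of_not_centralizer hM Q hQ hχ _ hC)

/-- **multiplicative functionals are central characters**: a functional on the central elements
with local coefficients which is unital, compatible with subtraction of scalars and
multiplicative modulo the local ideal agrees modulo the local ideal with the central character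
of some irreducible character. -/
theorem exists_irr_of_multiplicative [M.IsPrime] (lam : (G → ℂ) → ℂ)
    (h0 : MemLocalIdeal M (lam 0))
    (hsub : ∀ (a : G → ℂ) (c : ℂ), lam (a - c • deltaF 1) = lam a - c)
    (hone : lam (deltaF 1) = 1)
    (hmul : ∀ a b : G → ℂ, IsClassFunction G a → IsClassFunction G b →
      (∀ g, MemLocalRing M (a g)) → (∀ g, MemLocalRing M (b g)) →
      MemLocalIdeal M (lam (conv a b) - lam a * lam b))
    (hR : ∀ a : G → ℂ, IsClassFunction G a → (∀ g, MemLocalRing M (a g)) →
      MemLocalRing M (lam a)) :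
    ∃ χ : IrrCharacter G, ∀ a : G → ℂ, IsClassFunction G a → (∀ g, MemLocalRing M (a g)) →
      MemLocalIdeal M (lam a - omegaF (χ : G → ℂ) a) := by
  have : Fintype (IrrCharacter G) := Fintype.ofFinite _
  have hMtop : M ≠ ⊤ := Ideal.IsPrime.ne_top ‹_›
  by_contra hcon
  push Not at hcon
  choose a ha1 ha2 ha3 using hcon
  -- the product over a finset of characters
  have key : ∀ U : Finset (IrrCharacter G), ∃ z : G → ℂ, IsClassFunction G z ∧
      (∀ g, MemLocalRing M (z g)) ∧
      (∀ ψ : IrrCharacter G, omegaF (ψ : G → ℂ) z =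
        ∏ χ ∈ U, (omegaF (ψ : G → ℂ) (a χ) - omegaF (χ : G → ℂ) (a χ))) ∧
      MemLocalIdeal M (lam z - ∏ χ ∈ U, (lam (a χ) - omegaF (χ : G → ℂ) (a χ))) := by
    intro U
    induction U using Finset.induction_on with
    | empty =>
      refine ⟨deltaF 1, isClassFunction_deltaF_one, fun g => deltaF_memLocalRing 1 g, ?_, ?_⟩
      · intro ψ
        rw [omegaF_deltaF_one (irr_one_ne_zero ψ.2), Finset.prod_empty]
      · rw [hone, Finset.prod_empty, sub_self]
        exact memLocalIdeal_zero hMtop
    | insert i U hi ih =>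
      obtain ⟨z, hz1, hz2, hz3, hz4⟩ := ih
      obtain ⟨c, hc⟩ : ∃ c : ℂ, c = omegaF (i : G → ℂ) (a i) := ⟨_, rfl⟩
      have hcR : MemLocalRing M c := hc ▸ omegaF_memLocalRing i.2 (a i) (ha1 i) (ha2 i)
      let b : G → ℂ := a i - c • deltaF 1
      have hb1 : IsClassFunction G b :=
        isClassFunction_sub (ha1 i) (isClassFunction_smul c isClassFunction_deltaF_one)
      have hb2 : ∀ g, MemLocalRing M (b g) := by
        intro g
        show MemLocalRing M (a i g - c • deltaF 1 g)
        exact memLocalRing_sub (ha2 i g)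
          (by rw [smul_eq_mul]; exact memLocalRing_mul hcR (deltaF_memLocalRing 1 g))
      have hb3 : ∀ ψ : IrrCharacter G, omegaF (ψ : G → ℂ) b = omegaF (ψ : G → ℂ) (a i) - c := by
        intro ψ
        show omegaF (ψ : G → ℂ) (a i - c • deltaF 1) = _
        rw [omegaF_sub, omegaF_smul, omegaF_deltaF_one (irr_one_ne_zero ψ.2), mul_one]
      have hb4 : lam b = lam (a i) - c := hsub (a i) c
      refine ⟨conv b z, isClassFunction_conv hb1 hz1, conv_memLocalRing hb2 hz2, ?_, ?_⟩
      · intro ψ
        rw [omegaF_conv ψ.2 b z hb1 hz1, hz3, hb3, Finset.prod_insert hi, hc]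
      · rw [Finset.prod_insert hi, ← hc, ← hb4]
        have e1 := hmul b z hb1 hz1 hb2 hz2
        have e2 : MemLocalIdeal M (lam b * (lam z -
            ∏ χ ∈ U, (lam (a χ) - omegaF (χ : G → ℂ) (a χ)))) :=
          memLocalIdeal_mul_left (hR b hb1 hb2) hz4
        have := memLocalIdeal_add e1 e2
        convert this using 1
        ring
  obtain ⟨z, hz1, hz2, hz3, hz4⟩ := key Finset.univ
  have hz0 : z = 0 := by
    apply eq_of_omegaF_eq z 0 hz1 isClassFunction_zero
    intro ψ
    rw [hz3, omegaF_zero]
    apply Finset.prod_eq_zero (i := ψ) (Finset.mem_univ _)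
    rw [sub_self]
  rw [hz0] at hz4
  have hprod : MemLocalIdeal M (∏ χ : IrrCharacter G,
      (lam (a χ) - omegaF (χ : G → ℂ) (a χ))) := by
    have := memLocalIdeal_sub h0 hz4
    rwa [sub_sub_cancel] at this
  have hnot : ¬ MemLocalIdeal M (∏ χ : IrrCharacter G,
      (lam (a χ) - omegaF (χ : G → ℂ) (a χ))) := by
    apply not_memLocalIdeal_prod
    · intro χ _
      exact memLocalRing_sub (hR (a χ) (ha1 χ) (ha2 χ))
        (omegaF_memLocalRing χ.2 (a χ) (ha1 χ) (ha2 χ))
    · intro χ _
      exact ha3 χ
  exact hnot hprod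

end One

end Cfsg.Agent.Lib.Helper28
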