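import Mathlib
import Cfsg.Agent.Lib.Helper28.BrauerF
import Cfsg.Agent.Lib.Helper28.BlockRankB

set_option autoImplicit false

/-!
# Induced blocks through the Brauer map (helper28)

For `P·C_G(P) ≤ H ≤ N_G(P)` every block of `H` induces a block of `G`.
-/

namespace Cfsg.Agent.Lib.Helper28

open Cfsg Cfsg.Agent.Lib.Helper4
open scoped ComplexConjugate Classical

variable {G : Type*} [Group G] [Fintype G] {M : Ideal AlgInt}

theorem inducedCentralChar_eq_omegaF (H : Subgroup G) [Fintype H] (ξ : H → ℂ) (g : G) :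
    inducedCentralChar H ξ g = omegaF ξ (resMap H (classInd g)) := by
  unfold inducedCentralChar omegaF
  rw [finsum_mem_eq_sum_ite, Finset.sum_div]
  refine Finset.sum_congr rfl fun h _ => ?_
  unfold resMap classInd
  by_cases hh : IsConj g (h : G)
  · rw [if_pos hh, if_pos (show h ∈ {h : H | IsConj g (h : G)} from hh), one_mul]
  · rw [if_neg hh, if_neg (show h ∉ {h : H | IsConj g (h : G)} from hh), zero_mul, zero_div]

theorem brauerCentralChar_eq_omegaF (P H : Subgroup G) [Fintype H] (ξ : H → ℂ) (g : G) :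
    brauerCentralChar P H ξ g = omegaF ξ (brMap P H (classInd g)) := by
  unfold brauerCentralChar omegaF
  rw [finsum_mem_eq_sum_ite, Finset.sum_div]
  refine Finset.sum_congr rfl fun h _ => ?_
  unfold brMap classInd
  by_cases hc : (h : G) ∈ Subgroup.centralizer (P : Set G)
  · by_cases hh : IsConj g (h : G)
    · rw [if_pos hc, if_pos hh, if_pos (show h ∈ {h : H | IsConj g (h : G) ∧
        (h : G) ∈ Subgroup.centralizer (P : Set G)} from ⟨hh, hc⟩), one_mul]
    · rw [if_pos hc, if_neg hh, if_neg (show h ∉ {h : H | IsConj g (h : G) ∧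
        (h : G) ∈ Subgroup.centralizer (P : Set G)} from fun h1 => hh h1.1), zero_mul, zero_div]
  · rw [if_neg hc, if_neg (show h ∉ {h : H | IsConj g (h : G) ∧
        (h : G) ∈ Subgroup.centralizer (P : Set G)} from fun h1 => hc h1.2), zero_mul, zero_div]

/-- the central character of `ξ` cannot distinguish restriction from the Brauer map -/
theorem omegaF_resMap_sub_brMap_memLocalIdeal {p : ℕ} [Fact p.Prime] (hM : IsPModular p M)
    (P H : Subgroup G) [Fintype H] (hP : IsPGroup p P) (hPH : P ≤ H)
    (hHN : H ≤ Subgroup.normalizer (P : Set G)) {ξ : H → ℂ} (hξ : IsIrrCharacter H ξ)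
    (a : G → ℂ) (ha1 : IsClassFunction G a) (ha2 : ∀ g, MemLocalRing M (a g)) :
    MemLocalIdeal M (omegaF ξ (resMap H a) - omegaF ξ (brMap P H a)) := by
  have hprime : M.IsPrime := hM.2.1.isPrime
  rw [← omegaF_sub]
  haveI : (P.subgroupOf H).Normal := Subgroup.normal_subgroupOf_of_le_normalizer hHN
  have hP' : IsPGroup p (P.subgroupOf H) := hP.comap_subtype
  apply omegaF_memLocalIdeal_of_support hM (P.subgroupOf H) hP' hξ
  · exact isClassFunction_sub (isClassFunction_resMap H ha1) (isClassFunction_brMap P H hHN ha1)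
  · intro h
    show MemLocalRing M (resMap H a h - brMap P H a h)
    exact memLocalRing_sub (ha2 _) (brMap_memLocalRing P H ha2 h)
  · intro h hh
    have hc : (h : G) ∈ Subgroup.centralizer (P : Set G) := by
      rw [Subgroup.mem_centralizer_iff] at hh ⊢
      intro t ht
      have h1 := hh ⟨t, hPH ht⟩ (by
        show (⟨t, hPH ht⟩ : H) ∈ P.subgroupOf H
        rw [Subgroup.mem_subgroupOf]
        exact ht)
      have := congrArg Subtype.val h1
      simpa using this
    show resMap H a h - brMap P H a h = 0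
    rw [brMap_of_mem P H a hc]
    unfold resMap
    rw [sub_self]

theorem inducedCentralChar_sub_brauerCentralChar {p : ℕ} [Fact p.Prime] (hM : IsPModular p M)
    (P H : Subgroup G) [Fintype H] (hP : IsPGroup p P) (hPH : P ≤ H)
    (hHN : H ≤ Subgroup.normalizer (P : Set G)) {ξ : H → ℂ} (hξ : IsIrrCharacter H ξ) (g : G) :
    MemLocalIdeal M (inducedCentralChar H ξ g - brauerCentralChar P H ξ g) := by
  have hprime : M.IsPrime := hM.2.1.isPrime
  rw [inducedCentralChar_eq_omegaF, brauerCentralChar_eq_omegaF]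
  exact omegaF_resMap_sub_brMap_memLocalIdeal hM P H hP hPH hHN hξ (classInd g)
    (isClassFunction_classInd g) (fun x => classInd_memLocalRing g x)

/-- the central character of `ξ ∈ Irr(H)` composed with the Brauer map is the central
character of some irreducible character of `G`, modulo the local ideal -/
theorem exists_irr_brauer {p : ℕ} [Fact p.Prime] (hM : IsPModular p M)
    (P H : Subgroup G) [Fintype H] (hP : IsPGroup p P)
    (hCH : Subgroup.centralizer (P : Set G) ≤ H)
    (hHN : H ≤ Subgroup.normalizer (P : Set G)) {ξ : H → ℂ} (hξ : IsIrrCharacter H ξ) :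
    ∃ χ : IrrCharacter G, ∀ a : G → ℂ, IsClassFunction G a → (∀ g, MemLocalRing M (a g)) →
      MemLocalIdeal M (omegaF ξ (brMap P H a) - omegaF (χ : G → ℂ) a) := by
  have hprime : M.IsPrime := hM.2.1.isPrime
  have hMtop : M ≠ ⊤ := hM.2.1.ne_top
  apply exists_irr_of_multiplicative (fun a => omegaF ξ (brMap P H a))
  · show MemLocalIdeal M (omegaF ξ (brMap P H 0))
    rw [brMap_zero, omegaF_zero]
    exact memLocalIdeal_zero hMtop
  · intro a c
    show omegaF ξ (brMap P H (a - c • deltaF 1)) = omegaF ξ (brMap P H a) - c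
    rw [brMap_sub, brMap_smul, brMap_deltaF_one, omegaF_sub, omegaF_smul,
      omegaF_deltaF_one (irr_one_ne_zero hξ), mul_one]
  · show omegaF ξ (brMap P H (deltaF 1)) = 1
    rw [brMap_deltaF_one, omegaF_deltaF_one (irr_one_ne_zero hξ)]
  · intro a b ha1 hb1 ha2 hb2
    show MemLocalIdeal M (omegaF ξ (brMap P H (conv a b)) -
      omegaF ξ (brMap P H a) * omegaF ξ (brMap P H b))
    rw [← omegaF_conv hξ _ _ (isClassFunction_brMap P H hHN ha1)
      (isClassFunction_brMap P H hHN hb1), ← omegaF_sub]
    apply omegaF_memLocalIdeal_of_forall hξ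
    · exact isClassFunction_sub (isClassFunction_brMap P H hHN (isClassFunction_conv ha1 hb1))
        (isClassFunction_conv (isClassFunction_brMap P H hHN ha1)
          (isClassFunction_brMap P H hHN hb1))
    · intro h
      exact brMap_conv_sub_memLocalIdeal hM P H hP hCH a b ha1 hb1 ha2 hb2 h
  · intro a ha1 ha2
    exact omegaF_memLocalRing hξ _ (isClassFunction_brMap P H hHN ha1)
      (fun h => brMap_memLocalRing P H ha2 h)

/-- **the induced block is defined** for `P·C_G(P) ≤ H ≤ N_G(P)` -/
theorem exists_induced_block {p : ℕ} [Fact p.Prime] (hM : IsPModular p M)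
    (P H : Subgroup G) [Fintype H] (hP : IsPGroup p P) (hPH : P ≤ H)
    (hCH : Subgroup.centralizer (P : Set G) ≤ H)
    (hHN : H ≤ Subgroup.normalizer (P : Set G)) {b : Set (IrrCharacter H)}
    (hb : IsPBlock M b) : ∃ B : Set (IrrCharacter G), IsInducedBlock M H b B := by
  have hprime : M.IsPrime := hM.2.1.isPrime
  have hMtop : M ≠ ⊤ := hM.2.1.ne_top
  obtain ⟨ξ, hξ⟩ := block_nonempty hb
  obtain ⟨χ, hχ⟩ := exists_irr_brauer hM P H hP hCH hHN ξ.2
  refine ⟨blockOf M (χ : G → ℂ), hb, ⟨χ, rfl⟩, ?_⟩
  intro ξ' hξ' χ' hχ' g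
  have hcl := isClassFunction_classInd g
  have hR : ∀ x, MemLocalRing M (classInd g x) := fun x => classInd_memLocalRing g x
  -- chain of congruences
  have e1 := inducedCentralChar_sub_brauerCentralChar hM P H hP hPH hHN ξ'.2 g
  have e2 : MemLocalIdeal M (brauerCentralChar P H (ξ' : H → ℂ) g -
      brauerCentralChar P H (ξ : H → ℂ) g) := by
    rw [brauerCentralChar_eq_omegaF, brauerCentralChar_eq_omegaF]
    have hsb : SameBlock M (ξ' : H → ℂ) (ξ : H → ℂ) :=
      sameBlock_symm ((mem_block_iff hb hξ ξ').mp hξ')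
    exact omegaF_sub_memLocalIdeal (Helper4.isClassFunction_of_isIrrCharacter ξ'.2)
      (Helper4.isClassFunction_of_isIrrCharacter ξ.2) hsb _
      (isClassFunction_brMap P H hHN hcl) (fun h => brMap_memLocalRing P H hR h)
  have e3 : MemLocalIdeal M (brauerCentralChar P H (ξ : H → ℂ) g -
      centralChar (χ : G → ℂ) g) := by
    rw [brauerCentralChar_eq_omegaF,
      ← omegaF_classInd (Helper4.isClassFunction_of_isIrrCharacter χ.2) g]
    exact hχ _ hcl hR
  have e4 : MemLocalIdeal M (centralChar (χ : G → ℂ) g - centralChar (χ' : G → ℂ) g) := hχ' g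
  have := memLocalIdeal_add (memLocalIdeal_add (memLocalIdeal_add e1 e2) e3) e4
  convert this using 1
  ring

end Cfsg.Agent.Lib.Helper28
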