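import Mathlib
import Cfsg.Agent.Lib.Helper28.BrauerG
import Cfsg.Agent.Lib.Helper28.BrauerB

set_option autoImplicit false

/-!
# Induced blocks and defect groups (helper28)
-/

namespace Cfsg.Agent.Lib.Helper28

open Cfsg Cfsg.Agent.Lib.Helper4
open scoped ComplexConjugate Classical

variable {G : Type*} [Group G] [Fintype G] {M : Ideal AlgInt}

/-- class expansion of the central character of `ξ ∈ Irr(H)` on a restricted class function -/
theorem omegaF_resMap_eq_sum_classes (H : Subgroup G) [Fintype H] (ξ : H → ℂ) (a : G → ℂ)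
    (ha : IsClassFunction G a) [Fintype (ConjClasses G)] :
    omegaF ξ (resMap H a) = ∑ C : ConjClasses G,
      a (Quotient.out C) * inducedCentralChar H ξ (Quotient.out C) := by
  unfold omegaF
  rw [← Finset.sum_fiberwise Finset.univ (fun h : H => ConjClasses.mk (h : G))
    (fun h => resMap H a h * ξ h), Finset.sum_div]
  refine Finset.sum_congr rfl fun C _ => ?_
  have hC : ConjClasses.mk (Quotient.out C) = C := Quotient.out_eq C
  have h1 : ∀ h ∈ Finset.univ.filter (fun h : H => ConjClasses.mk (h : G) = C),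
      resMap H a h * ξ h = a (Quotient.out C) * ξ h := by
    intro h hh
    rw [Finset.mem_filter] at hh
    unfold resMap
    congr 1
    apply char_eq_of_isConj ha
    rw [← ConjClasses.mk_eq_mk_iff_isConj, hh.2, hC]
  rw [Finset.sum_congr rfl h1, ← Finset.mul_sum, mul_div_assoc]
  congr 1
  unfold inducedCentralChar
  rw [finsum_mem_eq_sum_ite, Finset.sum_div, Finset.sum_filter]
  refine Finset.sum_congr rfl fun h _ => ?_
  have hiff : ConjClasses.mk (h : G) = C ↔ h ∈ {h : H | IsConj (Quotient.out C) (h : G)} := by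
    show _ ↔ IsConj (Quotient.out C) (h : G)
    rw [← ConjClasses.mk_eq_mk_iff_isConj, hC]
    exact eq_comm
  by_cases hh : ConjClasses.mk (h : G) = C
  · rw [if_pos hh, if_pos (hiff.mp hh)]
  · rw [if_neg hh, if_neg (fun hc => hh (hiff.mpr hc))]

/-- an induced block relation extends from class sums to all central elements with local
coefficients -/
theorem omegaF_resMap_sub_of_induced [M.IsPrime] (H : Subgroup G) [Fintype H]
    {b : Set (IrrCharacter H)} {B : Set (IrrCharacter G)} (hind : IsInducedBlock M H b B)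
    {ξ : IrrCharacter H} (hξ : ξ ∈ b) {χ : IrrCharacter G} (hχ : χ ∈ B) (a : G → ℂ)
    (ha1 : IsClassFunction G a) (ha2 : ∀ g, MemLocalRing M (a g)) :
    MemLocalIdeal M (omegaF (ξ : H → ℂ) (resMap H a) - omegaF (χ : G → ℂ) a) := by
  have : Fintype (ConjClasses G) := Fintype.ofFinite _
  rw [omegaF_resMap_eq_sum_classes H _ a ha1,
    omegaF_eq_sum_classes (Helper4.isClassFunction_of_isIrrCharacter χ.2) a ha1,
    ← Finset.sum_sub_distrib]
  apply memLocalIdeal_sum
  intro C _
  rw [← mul_sub]
  exact memLocalIdeal_mul_left (ha2 _) (hind.2.2 ξ hξ χ hχ _)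

/-- **defect groups of induced blocks**: if `b` induces `B`, every `p`-subgroup of `H` lying in
the centralizer (in `H`) of a defect class of `b` lies in a defect group of `B` -/
theorem exists_defectGroup_ge_of_induced {p : ℕ} [Fact p.Prime] (hM : IsPModular p M)
    (H : Subgroup G) [Fintype H] {b : Set (IrrCharacter H)} {B : Set (IrrCharacter G)}
    (hb : IsPBlock M b) (hB : IsPBlock M B) (hind : IsInducedBlock M H b B)
    (D : Subgroup H) (hD : IsDefectGroup p M b D) :
    ∃ E : Subgroup G, IsDefectGroup p M B E ∧ D.map H.subtype ≤ E := by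
  have hprime : M.IsPrime := hM.2.1.isPrime
  have hMtop : M ≠ ⊤ := hM.2.1.ne_top
  have : Fintype (ConjClasses H) := Fintype.ofFinite _
  obtain ⟨h0, ⟨hh1, hh2, hh3⟩, P0, rfl⟩ := hD
  obtain ⟨ξ, hξ⟩ := block_nonempty hb
  obtain ⟨χ, hχ⟩ := block_nonempty hB
  -- `ω_ξ(Res e_B) ≡ 1`
  have hcl := isClassFunction_blockCoeff B
  have hR : ∀ g, MemLocalRing M (blockCoeff B g) := fun g => osima hB g
  have e1 := omegaF_resMap_sub_of_induced H hind hξ hχ (blockCoeff B) hcl hR
  rw [omegaF_blockCoeff, if_pos hχ] at e1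
  have hnot : ¬ MemLocalIdeal M (omegaF (ξ : H → ℂ) (resMap H (blockCoeff B))) := by
    intro hmem
    apply not_memLocalIdeal_one hMtop (M := M)
    have := memLocalIdeal_sub hmem e1
    rwa [sub_sub_cancel] at this
  rw [omegaF_eq_sum_classes (Helper4.isClassFunction_of_isIrrCharacter ξ.2) _
    (isClassFunction_resMap H hcl)] at hnot
  -- a class of `H` where both factors are units
  obtain ⟨L, hL⟩ : ∃ L : ConjClasses H, ¬ MemLocalIdeal M
      (resMap H (blockCoeff B) (Quotient.out L) * centralChar (ξ : H → ℂ) (Quotient.out L)) := by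
    by_contra hcon
    push Not at hcon
    exact hnot (memLocalIdeal_sum _ _ fun L _ => hcon L)
  obtain ⟨y, hy⟩ : ∃ y : H, y = Quotient.out L := ⟨_, rfl⟩
  rw [← hy] at hL
  have hy1 : ¬ MemLocalIdeal M (blockCoeff B (y : G)) := by
    intro hmem
    apply hL
    exact memLocalIdeal_mul_right hmem (memLocalRing_of_isIntegral hMtop
      (isIntegral_centralChar ξ.2 _))
  have hy2 : ¬ MemLocalIdeal M (centralChar (ξ : H → ℂ) y) := by
    intro hmem
    apply hL
    exact memLocalIdeal_mul_left (hR _) hmem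
  have hy2' : ∀ ξ' ∈ b, ¬ MemLocalIdeal M (centralChar (ξ' : H → ℂ) y) := by
    intro ξ' hξ' hmem
    apply hy2
    have hsb := (mem_block_iff hb hξ ξ').mp hξ' y
    have := memLocalIdeal_add hsb hmem
    rwa [sub_add_cancel] at this
  -- min–max in `H`: the defect group of `b` centralizes a conjugate of `y`
  have hD' : IsPGroup p ((P0 : Subgroup (Subgroup.centralizer ({h0} : Set H))).map
      (Subgroup.centralizer ({h0} : Set H)).subtype) := P0.2.map _
  have hcent : ∀ t ∈ (P0 : Subgroup (Subgroup.centralizer ({h0} : Set H))).map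
      (Subgroup.centralizer ({h0} : Set H)).subtype, t * h0 = h0 * t := by
    rintro t ⟨t', _, rfl⟩
    have := t'.2
    rw [Subgroup.mem_centralizer_iff] at this
    exact (this h0 rfl).symm
  obtain ⟨y', hy', hy'c⟩ := exists_conj_centralized hM hb y h0 hy2' hh2 _ hD' hcent
  -- `e_B(y') = e_B(y)`
  have hy'1 : ¬ MemLocalIdeal M (blockCoeff B (y' : G)) := by
    obtain ⟨c, hc⟩ := isConj_iff.mp hy'
    rw [← hc]
    have h1 : ((c * y * c⁻¹ : H) : G) = (c : G) * (y : G) * (c : G)⁻¹ := by simp
    rw [h1, hcl]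
    exact hy1
  -- min–max in `G`
  obtain ⟨g0, hg0⟩ := exists_defectClass hM hB
  have hQ : IsPGroup p (((P0 : Subgroup (Subgroup.centralizer ({h0} : Set H))).map
      (Subgroup.centralizer ({h0} : Set H)).subtype).map H.subtype) := hD'.map _
  have hQc : ∀ t ∈ ((P0 : Subgroup (Subgroup.centralizer ({h0} : Set H))).map
      (Subgroup.centralizer ({h0} : Set H)).subtype).map H.subtype,
      t * (y' : G) = (y' : G) * t := by
    rintro t ⟨t', ht', rfl⟩
    have := hy'c t' ht'
    have h2 := congrArg Subtype.val this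
    simpa using h2
  obtain ⟨x, hx, hxc⟩ := exists_conj_centralized hM hB g0 (y' : G) hg0.2.2 hy'1 _ hQ hQc
  obtain ⟨c', hc'⟩ := isConj_iff.mp hx
  have hxd : IsDefectClass M B x := hc' ▸ isDefectClass_conj hg0 c'
  obtain ⟨S, hS⟩ := exists_sylow_centralizer_ge x _ hQ hxc
  exact ⟨_, ⟨x, hxd, S, rfl⟩, hS⟩

end Cfsg.Agent.Lib.Helper28
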