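import Mathlib
import Cfsg.Agent.Lib.Helper28.BrauerF

set_option autoImplicit false

/-!
# Central elements all of whose central characters lie in the local ideal (helper28)
-/

namespace Cfsg.Agent.Lib.Helper28

open Cfsg Cfsg.Agent.Lib.Helper4
open scoped ComplexConjugate Classical

variable {G : Type*} [Group G] [Fintype G] {M : Ideal AlgInt}

theorem conv_deltaF_one (w : G → ℂ) : conv w (deltaF 1) = w := by
  funext x
  show ∑ g, w g * deltaF 1 (g⁻¹ * x) = w x
  rw [Finset.sum_eq_single x]
  · unfold deltaF
    rw [if_pos (by group), mul_one]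
  · intro g _ hg
    unfold deltaF
    rw [if_neg, mul_zero]
    intro h
    apply hg
    have : x = g * (g⁻¹ * x) := by group
    rw [this, h, mul_one]
  · intro h; exact absurd (Finset.mem_univ _) h

theorem convPow_memLocalRing [M.IsPrime] {w : G → ℂ} (hw : ∀ g, MemLocalRing M (w g)) (n : ℕ) :
    ∀ g, MemLocalRing M (convPow w n g) := by
  induction n with
  | zero => exact fun g => deltaF_memLocalRing 1 g
  | succ n ih => exact fun g => conv_memLocalRing hw ih g

theorem conv_memLocalIdeal_right [M.IsPrime] {F1 F2 : G → ℂ} (h1 : ∀ g, MemLocalRing M (F1 g))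
    (h2 : ∀ g, MemLocalIdeal M (F2 g)) (x : G) : MemLocalIdeal M (conv F1 F2 x) :=
  memLocalIdeal_sum _ _ fun g _ => memLocalIdeal_mul_left (h1 g) (h2 _)

/-- a central element with local coefficients all of whose central characters lie in the local
ideal has a power with coefficients in the local ideal -/
theorem exists_convPow_memLocalIdeal [M.IsPrime] (w : G → ℂ) (hw1 : IsClassFunction G w)
    (hw2 : ∀ g, MemLocalRing M (w g))
    (hw3 : ∀ ψ : IrrCharacter G, MemLocalIdeal M (omegaF (ψ : G → ℂ) w)) :
    ∃ n : ℕ, ∀ g, MemLocalIdeal M (convPow w n g) := by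
  have : Fintype (IrrCharacter G) := Fintype.ofFinite _
  have hMtop : M ≠ ⊤ := Ideal.IsPrime.ne_top ‹_›
  have key : ∀ U : Finset (IrrCharacter G), ∃ r : G → ℂ, IsClassFunction G r ∧
      (∀ g, MemLocalIdeal M (r g)) ∧ ∀ ψ : IrrCharacter G,
        ∏ χ ∈ U, (omegaF (ψ : G → ℂ) w - omegaF (χ : G → ℂ) w) =
          omegaF (ψ : G → ℂ) w ^ U.card + omegaF (ψ : G → ℂ) r := by
    intro U
    induction U using Finset.induction_on with
    | empty =>
      refine ⟨0, isClassFunction_zero, fun g => memLocalIdeal_zero hMtop, fun ψ => ?_⟩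
      rw [Finset.prod_empty, Finset.card_empty, pow_zero, omegaF_zero, add_zero]
    | insert i U hi ih =>
      obtain ⟨r, hr1, hr2, hr3⟩ := ih
      obtain ⟨c, hc⟩ : ∃ c : ℂ, c = omegaF (i : G → ℂ) w := ⟨_, rfl⟩
      have hcJ : MemLocalIdeal M c := hc ▸ hw3 i
      have hpow1 := isClassFunction_convPow hw1 U.card
      refine ⟨conv w r - c • convPow w U.card - c • r,
        isClassFunction_sub (isClassFunction_sub (isClassFunction_conv hw1 hr1)
          (isClassFunction_smul c hpow1)) (isClassFunction_smul c hr1), ?_, ?_⟩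
      · intro g
        show MemLocalIdeal M (conv w r g - c • convPow w U.card g - c • r g)
        refine memLocalIdeal_sub (memLocalIdeal_sub (conv_memLocalIdeal_right hw2 hr2 g) ?_) ?_
        · rw [smul_eq_mul]
          exact memLocalIdeal_mul_right hcJ (convPow_memLocalRing hw2 _ g)
        · rw [smul_eq_mul]
          exact memLocalIdeal_mul_right hcJ (memLocalRing_of_memLocalIdeal (hr2 g))
      · intro ψ
        rw [Finset.prod_insert hi, hr3 ψ, Finset.card_insert_of_notMem hi, omegaF_sub,
          omegaF_sub, omegaF_smul, omegaF_smul, omegaF_conv ψ.2 w r hw1 hr1,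
          omegaF_convPow ψ.2 hw1, ← hc]
        ring
  obtain ⟨r, hr1, hr2, hr3⟩ := key Finset.univ
  refine ⟨(Finset.univ : Finset (IrrCharacter G)).card, ?_⟩
  have heq : convPow w (Finset.univ : Finset (IrrCharacter G)).card = -r := by
    apply eq_of_omegaF_eq _ _ (isClassFunction_convPow hw1 _)
    · intro g k
      show -r (k * g * k⁻¹) = -r g
      rw [hr1 g k]
    · intro ψ
      rw [omegaF_convPow ψ.2 hw1, omegaF_neg]
      have h0 : ∏ χ : IrrCharacter G, (omegaF (ψ : G → ℂ) w - omegaF (χ : G → ℂ) w) = 0 :=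
        Finset.prod_eq_zero (i := ψ) (Finset.mem_univ _) (sub_self _)
      have := hr3 ψ
      rw [h0] at this
      linear_combination -this
  intro g
  rw [heq]
  exact memLocalIdeal_neg (hr2 g)

/-- an idempotent modulo the local ideal all of whose central characters lie in the local ideal
has all coefficients in the local ideal -/
theorem memLocalIdeal_of_idem_of_omegaF [M.IsPrime] (w : G → ℂ) (hw1 : IsClassFunction G w)
    (hw2 : ∀ g, MemLocalRing M (w g))
    (hidem : ∀ g, MemLocalIdeal M (conv w w g - w g))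
    (hw3 : ∀ ψ : IrrCharacter G, MemLocalIdeal M (omegaF (ψ : G → ℂ) w)) :
    ∀ g, MemLocalIdeal M (w g) := by
  have hMtop : M ≠ ⊤ := Ideal.IsPrime.ne_top ‹_›
  have hpow : ∀ n : ℕ, ∀ g, MemLocalIdeal M (convPow w (n + 1) g - w g) := by
    intro n
    induction n with
    | zero =>
      intro g
      show MemLocalIdeal M (conv w (deltaF 1) g - w g)
      rw [conv_deltaF_one, sub_self]
      exact memLocalIdeal_zero hMtop
    | succ n ih =>
      intro g
      have h1 : convPow w (n + 1 + 1) g - w g =
          conv w (fun x => convPow w (n + 1) x - w x) g + (conv w w g - w g) := by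
        show conv w (convPow w (n + 1)) g - w g = _
        unfold conv
        rw [add_sub, ← Finset.sum_add_distrib]
        congr 1
        refine Finset.sum_congr rfl fun x _ => ?_
        ring
      rw [h1]
      exact memLocalIdeal_add (conv_memLocalIdeal_right hw2 ih g) (hidem g)
  obtain ⟨n, hn⟩ := exists_convPow_memLocalIdeal w hw1 hw2 hw3
  intro g
  cases n with
  | zero =>
    -- `δ_1` has coefficients in the local ideal: impossible
    exfalso
    have := hn 1
    apply not_memLocalIdeal_one hMtop (M := M)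
    have h1 : convPow w 0 (1 : G) = 1 := by
      show deltaF 1 (1 : G) = 1
      unfold deltaF
      rw [if_pos rfl]
    rwa [h1] at this
  | succ n =>
    have := memLocalIdeal_sub (hn g) (hpow n g)
    rwa [sub_sub_cancel] at this

/-- if `ω_ξ(F)` is a unit, some class has both `F` and `ω_ξ` units -/
theorem exists_class_of_omegaF_not_memLocalIdeal [M.IsPrime] {ξ : G → ℂ}
    (hξ : IsIrrCharacter G ξ) (F : G → ℂ) (hF1 : IsClassFunction G F)
    (hF2 : ∀ g, MemLocalRing M (F g)) (h : ¬ MemLocalIdeal M (omegaF ξ F)) :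
    ∃ y : G, ¬ MemLocalIdeal M (F y) ∧ ¬ MemLocalIdeal M (centralChar ξ y) := by
  have : Fintype (ConjClasses G) := Fintype.ofFinite _
  have hMtop : M ≠ ⊤ := Ideal.IsPrime.ne_top ‹_›
  rw [omegaF_eq_sum_classes (Helper4.isClassFunction_of_isIrrCharacter hξ) F hF1] at h
  obtain ⟨L, hL⟩ : ∃ L : ConjClasses G, ¬ MemLocalIdeal M
      (F (Quotient.out L) * centralChar ξ (Quotient.out L)) := by
    by_contra hcon
    push Not at hcon
    exact h (memLocalIdeal_sum _ _ fun L _ => hcon L)
  refine ⟨Quotient.out L, fun hmem => hL ?_, fun hmem => hL ?_⟩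
  · exact memLocalIdeal_mul_right hmem (memLocalRing_of_isIntegral hMtop
      (isIntegral_centralChar hξ _))
  · exact memLocalIdeal_mul_left (hF2 _) hmem

end Cfsg.Agent.Lib.Helper28
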