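import Mathlib
import Cfsg.Agent.Lib.Helper28.BrauerI
import Cfsg.Agent.Lib.Helper28.BrauerH
import Cfsg.Agent.Lib.Helper16.PCore

set_option autoImplicit false

/-!
# The Brauer map on block idempotents; defect groups are radical (helper28)
-/

namespace Cfsg.Agent.Lib.Helper28

open Cfsg Cfsg.Agent.Lib.Helper4
open scoped ComplexConjugate Classical

variable {G : Type*} [Group G] [Fintype G] {M : Ideal AlgInt}

/-- `Br_P(e_S)` is an idempotent modulo the local ideal, for `S` with local `e_S` -/
theorem brMap_blockCoeff_idem {p : ℕ} (hM : IsPModular p M) (P H : Subgroup G) [Fintype H]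
    (hP : IsPGroup p P) (hCH : Subgroup.centralizer (P : Set G) ≤ H)
    (S : Set (IrrCharacter G)) (hS : ∀ g, MemLocalRing M (blockCoeff S g)) (h : H) :
    MemLocalIdeal M (conv (brMap P H (blockCoeff S)) (brMap P H (blockCoeff S)) h -
      brMap P H (blockCoeff S) h) := by
  have hcl := isClassFunction_blockCoeff S
  have := brMap_conv_sub_memLocalIdeal hM P H hP hCH _ _ hcl hcl hS hS h
  rw [conv_blockCoeff_self] at this
  have h2 := memLocalIdeal_neg this
  rwa [neg_sub] at h2

/-- if `e_B` is a unit at some element of `C_G(P)`, some irreducible character `ξ` of `H` has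
`ω_ξ(Br_P(e_B))` a unit, at a class of `H` inside `C_G(P)` where `e_B` and `ω_ξ` are units -/
theorem exists_irr_brMap_blockCoeff {p : ℕ} (hM : IsPModular p M) (P H : Subgroup G)
    [Fintype H] (hP : IsPGroup p P) (hCH : Subgroup.centralizer (P : Set G) ≤ H)
    (hHN : H ≤ Subgroup.normalizer (P : Set G))
    (S : Set (IrrCharacter G)) (hS : ∀ g, MemLocalRing M (blockCoeff S g)) (c : G)
    (hc : c ∈ Subgroup.centralizer (P : Set G)) (hcB : ¬ MemLocalIdeal M (blockCoeff S c)) :
    ∃ (ξ : IrrCharacter H) (y : H), ¬ MemLocalIdeal M (omegaF (ξ : H → ℂ)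
        (brMap P H (blockCoeff S))) ∧ (y : G) ∈ Subgroup.centralizer (P : Set G) ∧
      ¬ MemLocalIdeal M (blockCoeff S (y : G)) ∧
      ¬ MemLocalIdeal M (centralChar (ξ : H → ℂ) y) := by
  have hprime : M.IsPrime := hM.2.1.isPrime
  have hMtop : M ≠ ⊤ := hM.2.1.ne_top
  have hcl := isClassFunction_blockCoeff S
  have hw1 := isClassFunction_brMap P H hHN hcl
  have hw2 : ∀ h : H, MemLocalRing M (brMap P H (blockCoeff S) h) :=
    fun h => brMap_memLocalRing P H hS h
  obtain ⟨ξ, hξ⟩ : ∃ ξ : IrrCharacter H,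
      ¬ MemLocalIdeal M (omegaF (ξ : H → ℂ) (brMap P H (blockCoeff S))) := by
    by_contra hcon
    push Not at hcon
    have := memLocalIdeal_of_idem_of_omegaF _ hw1 hw2
      (brMap_blockCoeff_idem hM P H hP hCH S hS) hcon ⟨c, hCH hc⟩
    rw [brMap_of_mem P H _ (show ((⟨c, hCH hc⟩ : H) : G) ∈ _ from hc)] at this
    exact hcB this
  obtain ⟨y, hy1, hy2⟩ := exists_class_of_omegaF_not_memLocalIdeal ξ.2 _ hw1 hw2 hξ
  have hyc : (y : G) ∈ Subgroup.centralizer (P : Set G) := by
    by_contra hcon
    apply hy1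
    rw [brMap_of_not_mem P H _ hcon]
    exact memLocalIdeal_zero hMtop
  rw [brMap_of_mem P H _ hyc] at hy1
  exact ⟨ξ, y, hξ, hyc, hy1, hy2⟩

/-- **defect groups are radical**: `O_p(N_G(D)) = D` -/
theorem pCore_normalizer_defectGroup {p : ℕ} [Fact p.Prime] (hM : IsPModular p M)
    {B : Set (IrrCharacter G)} (hB : IsPBlock M B) (D : Subgroup G)
    (hD : IsDefectGroup p M B D) :
    (pCore p (Subgroup.normalizer (D : Set G))).map (Subgroup.normalizer (D : Set G)).subtype =
      D := by
  have hprime : M.IsPrime := hM.2.1.isPrime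
  have hMtop : M ≠ ⊤ := hM.2.1.ne_top
  have : Fintype (Subgroup.normalizer (D : Set G)) := Fintype.ofFinite _
  obtain ⟨g0, hg0, P0, hDP0⟩ := hD
  have hDp : IsPGroup p D := by rw [hDP0]; exact P0.2.map _
  have hg0c : g0 ∈ Subgroup.centralizer (D : Set G) := by
    rw [Subgroup.mem_centralizer_iff]
    intro t ht
    rw [hDP0] at ht
    obtain ⟨t', _, rfl⟩ := ht
    have := t'.2
    rw [Subgroup.mem_centralizer_iff] at this
    exact (this g0 rfl).symm
  obtain ⟨ξ, y, -, hyc, hy1, hy2⟩ := exists_irr_brMap_blockCoeff hM D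
    (Subgroup.normalizer (D : Set G)) hDp (Subgroup.centralizer_le_normalizer _) le_rfl B
    (fun g => osima hB g) g0 hg0c hg0.2.1
  -- the `p`-core of the normalizer centralizes `y`
  haveI : (pCore p (Subgroup.normalizer (D : Set G))).Normal := Helper16.pCore_normal p _
  have hOp : IsPGroup p (pCore p (Subgroup.normalizer (D : Set G))) :=
    Helper16.pCore_isPGroup p _
  have hyO : y ∈ Subgroup.centralizer
      ((pCore p (Subgroup.normalizer (D : Set G)) :
        Subgroup (Subgroup.normalizer (D : Set G))) : Set (Subgroup.normalizer (D : Set G))) := by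
    by_contra hcon
    exact hy2 (centralChar_memLocalIdeal_of_not_centralizer hM _ hOp ξ.2 y hcon)
  have hQ : IsPGroup p ((pCore p (Subgroup.normalizer (D : Set G))).map
      (Subgroup.normalizer (D : Set G)).subtype) := hOp.map _
  have hQy : ∀ t ∈ (pCore p (Subgroup.normalizer (D : Set G))).map
      (Subgroup.normalizer (D : Set G)).subtype, t * (y : G) = (y : G) * t := by
    rintro t ⟨t', ht', rfl⟩
    rw [Subgroup.mem_centralizer_iff] at hyO
    have := hyO t' ht'
    have h2 := congrArg Subtype.val this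
    simpa using h2
  obtain ⟨x, hx, hxc⟩ := exists_conj_centralized hM hB g0 (y : G) hg0.2.2 hy1 _ hQ hQy
  obtain ⟨c', hc'⟩ := isConj_iff.mp hx
  subst hc'
  obtain ⟨y0, hy0⟩ := le_conj_sylow_of_centralizes g0 P0 _ hQ c' hxc
  rw [← hDP0] at hy0
  -- `D ≤ O_p(N_G(D))`
  have hDle : D ≤ (pCore p (Subgroup.normalizer (D : Set G))).map
      (Subgroup.normalizer (D : Set G)).subtype := by
    have hn : (D.subgroupOf (Subgroup.normalizer (D : Set G))).Normal :=
      Subgroup.normal_subgroupOf_of_le_normalizer le_rfl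
    have hp' : IsPGroup p (D.subgroupOf (Subgroup.normalizer (D : Set G))) := hDp.comap_subtype
    have hle := Helper16.le_pCore hn hp'
    intro t ht
    refine ⟨⟨t, Subgroup.le_normalizer ht⟩, hle ?_, rfl⟩
    rw [Subgroup.mem_subgroupOf]
    exact ht
  have hcard : Nat.card ((pCore p (Subgroup.normalizer (D : Set G))).map
      (Subgroup.normalizer (D : Set G)).subtype) ≤ Nat.card D := by
    have h1 := Subgroup.card_le_of_le hy0
    have h2 : Nat.card (D.map (MulAut.conj y0).toMonoidHom) = Nat.card D :=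
      Subgroup.card_map_of_injective (MulAut.conj y0).injective
    rwa [h2] at h1
  exact (Subgroup.eq_of_le_of_card_ge hDle hcard).symm

end Cfsg.Agent.Lib.Helper28
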