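import Mathlib
import Cfsg.Agent.Lib.Helper28.BrauerJ
import Cfsg.Agent.S0912

set_option autoImplicit false

/-!
# Which blocks are induced from `P·C_G(P) ≤ H ≤ N_G(P)` (helper28)
-/

namespace Cfsg.Agent.Lib.Helper28

open Cfsg Cfsg.Agent.Lib.Helper4
open scoped ComplexConjugate Classical

variable {G : Type*} [Group G] [Fintype G] {M : Ideal AlgInt}

/-- if `ω_ξ ∘ Br_P ≡ ω_χ`, the block of `ξ` induces the block of `χ` -/
theorem isInducedBlock_of_brauer {p : ℕ} [Fact p.Prime] (hM : IsPModular p M)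
    (P H : Subgroup G) [Fintype H] (hP : IsPGroup p P) (hPH : P ≤ H)
    (hHN : H ≤ Subgroup.normalizer (P : Set G)) {b : Set (IrrCharacter H)}
    (hb : IsPBlock M b) {ξ : IrrCharacter H} (hξ : ξ ∈ b) (χ : IrrCharacter G)
    (hχ : ∀ a : G → ℂ, IsClassFunction G a → (∀ g, MemLocalRing M (a g)) →
      MemLocalIdeal M (omegaF (ξ : H → ℂ) (brMap P H a) - omegaF (χ : G → ℂ) a)) :
    IsInducedBlock M H b (blockOf M (χ : G → ℂ)) := by
  have hprime : M.IsPrime := hM.2.1.isPrime
  have hMtop : M ≠ ⊤ := hM.2.1.ne_top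
  refine ⟨hb, ⟨χ, rfl⟩, ?_⟩
  intro ξ' hξ' χ' hχ' g
  have hcl := isClassFunction_classInd g
  have hR : ∀ x, MemLocalRing M (classInd g x) := fun x => classInd_memLocalRing g x
  have e1 := inducedCentralChar_sub_brauerCentralChar hM P H hP hPH hHN ξ'.2 g
  have e2 : MemLocalIdeal M (brauerCentralChar P H (ξ' : H → ℂ) g -
      brauerCentralChar P H (ξ : H → ℂ) g) := by
    rw [brauerCentralChar_eq_omegaF, brauerCentralChar_eq_omegaF]
    have hsb : SameBlock M (ξ' : H → ℂ) (ξ : H → ℂ) :=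
      sameBlock_symm ((mem_block_iff hb hξ ξ').mp hξ')
    exact omegaF_sub_memLocalIdeal (Helper4.isClassFunction_of_isIrrCharacter ξ'.2)
      (Helper4.isClassFunction_of_isIrrCharacter ξ.2) hsb _
      (isClassFunction_brMap P H hHN hcl) (fun h => brMap_memLocalRing P H hR h)
  have e3 : MemLocalIdeal M (brauerCentralChar P H (ξ : H → ℂ) g -
      centralChar (χ : G → ℂ) g) := by
    rw [brauerCentralChar_eq_omegaF,
      ← omegaF_classInd (Helper4.isClassFunction_of_isIrrCharacter χ.2) g]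
    exact hχ _ hcl hR
  have e4 : MemLocalIdeal M (centralChar (χ : G → ℂ) g - centralChar (χ' : G → ℂ) g) := hχ' g
  have := memLocalIdeal_add (memLocalIdeal_add (memLocalIdeal_add e1 e2) e3) e4
  convert this using 1
  ring

/-- if `ω_ξ(Br_P(e_B))` is a unit then the block of `ξ` induces `B` -/
theorem isInducedBlock_of_omegaF_brMap {p : ℕ} [Fact p.Prime] (hM : IsPModular p M)
    (P H : Subgroup G) [Fintype H] (hP : IsPGroup p P) (hPH : P ≤ H)
    (hCH : Subgroup.centralizer (P : Set G) ≤ H)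
    (hHN : H ≤ Subgroup.normalizer (P : Set G)) {B : Set (IrrCharacter G)}
    (hB : IsPBlock M B) (ξ : IrrCharacter H)
    (hξ : ¬ MemLocalIdeal M (omegaF (ξ : H → ℂ) (brMap P H (blockCoeff B)))) :
    IsInducedBlock M H (blockOf M (ξ : H → ℂ)) B := by
  have hprime : M.IsPrime := hM.2.1.isPrime
  have hMtop : M ≠ ⊤ := hM.2.1.ne_top
  obtain ⟨χ, hχ⟩ := exists_irr_brauer hM P H hP hCH hHN ξ.2
  have hχB : χ ∈ B := by
    by_contra hcon
    apply hξ
    have := hχ (blockCoeff B) (isClassFunction_blockCoeff B) (fun g => osima hB g)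
    rwa [omegaF_blockCoeff, if_neg hcon, sub_zero] at this
  have h1 := isInducedBlock_of_brauer hM P H hP hPH hHN (b := blockOf M (ξ : H → ℂ))
    ⟨ξ, rfl⟩ (sameBlock_refl hMtop _) χ hχ
  rwa [← block_eq_blockOf hB hχB] at h1

/-- conversely, if `b` induces `B` then `ω_ξ(Br_P(e_B)) ≡ 1` for `ξ ∈ b` -/
theorem omegaF_brMap_blockCoeff_of_induced {p : ℕ} [Fact p.Prime] (hM : IsPModular p M)
    (P H : Subgroup G) [Fintype H] (hP : IsPGroup p P) (hPH : P ≤ H)
    (hHN : H ≤ Subgroup.normalizer (P : Set G)) {b : Set (IrrCharacter H)}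
    {B : Set (IrrCharacter G)} (hB : IsPBlock M B) (hind : IsInducedBlock M H b B)
    {ξ : IrrCharacter H} (hξ : ξ ∈ b) (S : Set (IrrCharacter G))
    (hS : ∀ g, MemLocalRing M (blockCoeff S g)) (χ : IrrCharacter G) (hχ : χ ∈ B) :
    MemLocalIdeal M (omegaF (ξ : H → ℂ) (brMap P H (blockCoeff S)) -
      (if χ ∈ S then 1 else 0)) := by
  have hprime : M.IsPrime := hM.2.1.isPrime
  have hcl := isClassFunction_blockCoeff S
  have e1 := omegaF_resMap_sub_of_induced H hind hξ hχ (blockCoeff S) hcl hS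
  rw [omegaF_blockCoeff] at e1
  have e2 := omegaF_resMap_sub_brMap_memLocalIdeal hM P H hP hPH hHN ξ.2 (blockCoeff S) hcl hS
  have := memLocalIdeal_sub e1 e2
  convert this using 1
  ring

/-- **blocks induced from `H`** are those whose defect groups contain a conjugate of `P` -/
theorem exists_induced_iff {p : ℕ} [Fact p.Prime] (hM : IsPModular p M)
    (P H : Subgroup G) [Fintype H] (hP : IsPGroup p P) (hPH : P ≤ H)
    (hCH : Subgroup.centralizer (P : Set G) ≤ H)
    (hHN : H ≤ Subgroup.normalizer (P : Set G)) {B : Set (IrrCharacter G)}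
    (hB : IsPBlock M B) :
    (∃ b : Set (IrrCharacter H), IsInducedBlock M H b B) ↔
      ∃ D : Subgroup G, IsDefectGroup p M B D ∧ ∃ x : G,
        P.map (MulAut.conj x).toMonoidHom ≤ D := by
  have hprime : M.IsPrime := hM.2.1.isPrime
  have hMtop : M ≠ ⊤ := hM.2.1.ne_top
  constructor
  · rintro ⟨b, hind⟩
    have hb : IsPBlock M b := hind.1
    obtain ⟨h0, hh0⟩ := exists_defectClass hM hb
    obtain ⟨P1⟩ : Nonempty (Sylow p (Subgroup.centralizer ({h0} : Set H))) := inferInstance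
    have hDb : IsDefectGroup p M b ((P1 : Subgroup (Subgroup.centralizer ({h0} : Set H))).map
        (Subgroup.centralizer ({h0} : Set H)).subtype) := ⟨h0, hh0, P1, rfl⟩
    obtain ⟨E, hE, hle⟩ := exists_defectGroup_ge_of_induced hM H hb hB hind _ hDb
    refine ⟨E, hE, 1, ?_⟩
    have h912 := Cfsg.Agent.S0912.result p M hM b hb _ hDb
    have hn : (P.subgroupOf H).Normal := Subgroup.normal_subgroupOf_of_le_normalizer hHN
    have hp' : IsPGroup p (P.subgroupOf H) := hP.comap_subtype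
    have hle2 := (Helper16.le_pCore hn hp').trans h912
    rintro _ ⟨t, ht, rfl⟩
    have h1 : (⟨t, hPH ht⟩ : H) ∈ P.subgroupOf H := by
      rw [Subgroup.mem_subgroupOf]; exact ht
    have h2 := hle ⟨⟨t, hPH ht⟩, hle2 h1, rfl⟩
    simpa using h2
  · rintro ⟨D, ⟨g0, hg0, P0, rfl⟩, x, hx⟩
    have hc : x⁻¹ * g0 * x ∈ Subgroup.centralizer (P : Set G) := by
      rw [Subgroup.mem_centralizer_iff]
      intro t ht
      have h1 : x * t * x⁻¹ ∈ (P0 : Subgroup (Subgroup.centralizer ({g0} : Set G))).map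
          (Subgroup.centralizer ({g0} : Set G)).subtype := hx ⟨t, ht, rfl⟩
      obtain ⟨d, _, hd⟩ := h1
      have hd2 := d.2
      rw [Subgroup.mem_centralizer_iff] at hd2
      have h2 : g0 * (x * t * x⁻¹) = (x * t * x⁻¹) * g0 := by
        rw [← hd]
        exact hd2 g0 rfl
      calc t * (x⁻¹ * g0 * x) = x⁻¹ * ((x * t * x⁻¹) * g0) * x := by group
        _ = x⁻¹ * (g0 * (x * t * x⁻¹)) * x := by rw [h2]
        _ = x⁻¹ * g0 * x * t := by group
    have hcB : ¬ MemLocalIdeal M (blockCoeff B (x⁻¹ * g0 * x)) := by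
      have := isClassFunction_blockCoeff B g0 x⁻¹
      rw [inv_inv] at this
      rw [this]
      exact hg0.2.1
    obtain ⟨ξ, y, hξ, -, -, -⟩ := exists_irr_brMap_blockCoeff hM P H hP hCH hHN B
      (fun g => osima hB g) _ hc hcB
    exact ⟨_, isInducedBlock_of_omegaF_brMap hM P H hP hPH hCH hHN hB ξ hξ⟩

end Cfsg.Agent.Lib.Helper28
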