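import Mathlib
import Cfsg.Agent.Lib.Helper28.BrauerB

set_option autoImplicit false

/-!
# Sylow bookkeeping for the First Main Theorem (helper28)
-/

namespace Cfsg.Agent.Lib.Helper28

open Cfsg

variable {G : Type*} [Group G] [Finite G]

/-- normalizers grow in `p`-groups: if every `p`-subgroup between `D` and `S` normalizing `D`
lies in `D`, then `S ≤ D` -/
theorem le_of_normalizer_condition {p : ℕ} [Fact p.Prime] (D S : Subgroup G)
    (hS : IsPGroup p S) (hDS : D ≤ S)
    (hmax : ∀ Q : Subgroup G, IsPGroup p Q → D ≤ Q → Q ≤ S →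
      Q ≤ Subgroup.normalizer (D : Set G) → Q ≤ D) : S ≤ D := by
  by_contra hcon
  have hne : D.subgroupOf S ≠ ⊤ := fun h => hcon (Subgroup.subgroupOf_eq_top.mp h)
  haveI : Group.IsNilpotent S := hS.isNilpotent
  have hnc : NormalizerCondition S := normalizerCondition_of_isNilpotent
  have hlt := hnc (D.subgroupOf S) (lt_top_iff_ne_top.mpr hne)
  obtain ⟨s, hs1, hs2⟩ := SetLike.exists_of_lt hlt
  have hQle : (Subgroup.normalizer ((D.subgroupOf S : Subgroup S) : Set S)).map S.subtype ≤ S := by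
    rintro _ ⟨q, _, rfl⟩
    exact q.2
  have hQD := hmax ((Subgroup.normalizer ((D.subgroupOf S : Subgroup S) : Set S)).map S.subtype)
    (hS.to_le hQle) (by
      intro t ht
      refine ⟨⟨t, hDS ht⟩, Subgroup.le_normalizer ?_, rfl⟩
      rw [Subgroup.mem_subgroupOf]
      exact ht) hQle (by
      rintro _ ⟨q, hq, rfl⟩
      rw [Subgroup.mem_set_normalizer_iff]
      intro t
      rw [SetLike.mem_coe, Subgroup.mem_set_normalizer_iff] at hq
      show t ∈ D ↔ (q : G) * t * (q : G)⁻¹ ∈ D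
      constructor
      · intro ht
        have h1 := (hq ⟨t, hDS ht⟩).mp (by
          show (⟨t, hDS ht⟩ : S) ∈ D.subgroupOf S
          rw [Subgroup.mem_subgroupOf]; exact ht)
        have h2 : (q * ⟨t, hDS ht⟩ * q⁻¹ : S) ∈ D.subgroupOf S := h1
        rw [Subgroup.mem_subgroupOf] at h2
        simpa using h2
      · intro ht
        have htS : t ∈ S := by
          have h3 : t = (q : G)⁻¹ * ((q : G) * t * (q : G)⁻¹) * (q : G) := by group
          rw [h3]
          exact S.mul_mem (S.mul_mem (S.inv_mem q.2) (hDS ht)) q.2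
        have h1 := (hq ⟨t, htS⟩).mpr (by
          show (q * ⟨t, htS⟩ * q⁻¹ : S) ∈ D.subgroupOf S
          rw [Subgroup.mem_subgroupOf]
          simpa using ht)
        have h2 : (⟨t, htS⟩ : S) ∈ D.subgroupOf S := h1
        rw [Subgroup.mem_subgroupOf] at h2
        exact h2)
  apply hs2
  rw [Subgroup.mem_subgroupOf]
  exact hQD ⟨s, hs1, rfl⟩

/-- refined form of `le_conj_sylow_of_centralizes` -/
theorem le_conj_sylow_of_centralizes' {p : ℕ} [Fact p.Prime] (g : G)
    (D : Sylow p (Subgroup.centralizer ({g} : Set G))) (Q : Subgroup G) (hQ : IsPGroup p Q)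
    (c : G) (hQc : ∀ t ∈ Q, t * (c * g * c⁻¹) = (c * g * c⁻¹) * t) :
    ∃ z ∈ Subgroup.centralizer ({g} : Set G),
      Q ≤ ((D : Subgroup (Subgroup.centralizer ({g} : Set G))).map
        (Subgroup.centralizer ({g} : Set G)).subtype).map (MulAut.conj (c * z)).toMonoidHom := by
  have hmemC : ∀ t ∈ Q, c⁻¹ * t * c ∈ Subgroup.centralizer ({g} : Set G) := by
    intro t ht
    rw [Subgroup.mem_centralizer_iff]
    intro y hy
    rw [Set.mem_singleton_iff] at hy
    subst hy
    have h1 := hQc t ht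
    calc y * (c⁻¹ * t * c) = c⁻¹ * ((c * y * c⁻¹) * t) * c := by group
      _ = c⁻¹ * (t * (c * y * c⁻¹)) * c := by rw [h1]
      _ = c⁻¹ * t * c * y := by group
  have hQ2 : IsPGroup p ((Q.map (MulAut.conj c⁻¹).toMonoidHom).subgroupOf
      (Subgroup.centralizer ({g} : Set G))) := (hQ.map _).comap_subtype
  obtain ⟨S, hS⟩ := hQ2.exists_le_sylow
  obtain ⟨z, hz⟩ := MulAction.exists_smul_eq (Subgroup.centralizer ({g} : Set G)) D S
  refine ⟨(z : G), z.2, ?_⟩
  intro t ht
  have h1 : (⟨c⁻¹ * t * c, hmemC t ht⟩ : Subgroup.centralizer ({g} : Set G)) ∈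
      (Q.map (MulAut.conj c⁻¹).toMonoidHom).subgroupOf (Subgroup.centralizer ({g} : Set G)) := by
    rw [Subgroup.mem_subgroupOf]
    refine ⟨t, ht, ?_⟩
    show c⁻¹ * t * c⁻¹⁻¹ = c⁻¹ * t * c
    rw [inv_inv]
  have h2 : (⟨c⁻¹ * t * c, hmemC t ht⟩ : Subgroup.centralizer ({g} : Set G)) ∈
      (S : Subgroup (Subgroup.centralizer ({g} : Set G))) := hS h1
  rw [← hz, Sylow.coe_subgroup_smul, Subgroup.mem_pointwise_smul_iff_inv_smul_mem] at h2
  have h3 : (MulAut.conj z)⁻¹ •
      (⟨c⁻¹ * t * c, hmemC t ht⟩ : Subgroup.centralizer ({g} : Set G)) =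
      z⁻¹ * ⟨c⁻¹ * t * c, hmemC t ht⟩ * z := by
    rw [MulAut.smul_def, MulAut.conj_inv_apply]
  rw [h3] at h2
  refine ⟨(z : G)⁻¹ * (c⁻¹ * t * c) * (z : G),
    ⟨z⁻¹ * ⟨c⁻¹ * t * c, hmemC t ht⟩ * z, h2, rfl⟩, ?_⟩
  show c * (z : G) * ((z : G)⁻¹ * (c⁻¹ * t * c) * (z : G)) * (c * (z : G))⁻¹ = t
  group

/-- **fusion of centralizing conjugates is controlled by the normalizer** (Sylow argument):
if `D` is a Sylow `p`-subgroup of `C_G(y)` and a conjugate `c y c⁻¹` is centralized by `D`, then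
`c y c⁻¹` is conjugate to `y` by an element of `N_G(D)` -/
theorem exists_normalizer_conj {p : ℕ} [Fact p.Prime] (y : G)
    (D0 : Sylow p (Subgroup.centralizer ({y} : Set G))) (c : G)
    (hc : ∀ t ∈ (D0 : Subgroup (Subgroup.centralizer ({y} : Set G))).map
      (Subgroup.centralizer ({y} : Set G)).subtype, t * (c * y * c⁻¹) = (c * y * c⁻¹) * t) :
    ∃ n ∈ Subgroup.normalizer (((D0 : Subgroup (Subgroup.centralizer ({y} : Set G))).map
      (Subgroup.centralizer ({y} : Set G)).subtype : Subgroup G) : Set G),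
      n * y * n⁻¹ = c * y * c⁻¹ := by
  obtain ⟨z, hz, hle⟩ := le_conj_sylow_of_centralizes' y D0 _ (D0.2.map _) c hc
  have heq := Subgroup.eq_of_le_of_card_ge hle (by
    rw [Subgroup.card_map_of_injective (MulAut.conj (c * z)).injective])
  refine ⟨c * z, ?_, ?_⟩
  · rw [Subgroup.mem_set_normalizer_iff]
    intro t
    constructor
    · intro ht
      rw [SetLike.mem_coe] at ht ⊢
      rw [heq]
      exact ⟨t, ht, rfl⟩
    · intro ht
      rw [SetLike.mem_coe] at ht ⊢
      rw [heq] at ht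
      obtain ⟨t', ht', he⟩ := ht
      have he' : c * z * t' * (c * z)⁻¹ = c * z * t * (c * z)⁻¹ := he
      have : t' = t := by
        have h1 : t' = (c * z)⁻¹ * (c * z * t' * (c * z)⁻¹) * (c * z) := by group
        rw [h1, he']
        group
      rw [← this]
      exact ht'
  · rw [Subgroup.mem_centralizer_iff] at hz
    have h1 := hz y rfl
    calc c * z * y * (c * z)⁻¹ = c * (z * y) * z⁻¹ * c⁻¹ := by group
      _ = c * (y * z) * z⁻¹ * c⁻¹ := by rw [h1]
      _ = c * y * c⁻¹ := by group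

end Cfsg.Agent.Lib.Helper28
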