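import Mathlib
import Cfsg.Agent.Lib.Helper28.BrauerK
import Cfsg.Agent.Lib.Helper28.BrauerL

set_option autoImplicit false

/-!
# Towards the First Main Theorem: classes with defect group `D` (helper28)
-/

namespace Cfsg.Agent.Lib.Helper28

open Cfsg Cfsg.Agent.Lib.Helper4
open scoped ComplexConjugate Classical

section Grp

variable {G : Type*} [Group G] [Finite G]

/-- a `p`-subgroup `D` centralizing `y` which is maximal among the `p`-subgroups centralizing
`y` and normalizing `D` is a Sylow `p`-subgroup of `C_G(y)` -/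
theorem exists_sylow_eq_of_max {p : ℕ} [Fact p.Prime] (D : Subgroup G) (hD : IsPGroup p D)
    (y : G) (hcent : ∀ t ∈ D, t * y = y * t)
    (hmax : ∀ Q : Subgroup G, IsPGroup p Q → D ≤ Q → (∀ t ∈ Q, t * y = y * t) →
      Q ≤ Subgroup.normalizer (D : Set G) → Q ≤ D) :
    ∃ S0 : Sylow p (Subgroup.centralizer ({y} : Set G)),
      D = (S0 : Subgroup (Subgroup.centralizer ({y} : Set G))).map
        (Subgroup.centralizer ({y} : Set G)).subtype := by
  obtain ⟨S0, hS0⟩ := exists_sylow_centralizer_ge y D hD hcent
  refine ⟨S0, le_antisymm hS0 ?_⟩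
  apply le_of_normalizer_condition D _ (S0.2.map _) hS0
  intro Q hQ hDQ hQS hQN
  apply hmax Q hQ hDQ _ hQN
  intro t ht
  obtain ⟨t', _, rfl⟩ := hQS ht
  have := t'.2
  rw [Subgroup.mem_centralizer_iff] at this
  exact (this y rfl).symm

end Grp

section Main

variable {G : Type*} [Group G] [Fintype G] {M : Ideal AlgInt}

/-- the Brauer map sends the class sum of an element `y ∈ N_G(D)` having `D` as a Sylow
`p`-subgroup of its centralizer to the class sum of `y` in `N_G(D)` -/
theorem brMap_classInd_eq {p : ℕ} [Fact p.Prime] (D : Subgroup G)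
    [Fintype (Subgroup.normalizer (D : Set G))] (y : Subgroup.normalizer (D : Set G))
    (D0 : Sylow p (Subgroup.centralizer ({(y : G)} : Set G)))
    (hD : D = (D0 : Subgroup (Subgroup.centralizer ({(y : G)} : Set G))).map
      (Subgroup.centralizer ({(y : G)} : Set G)).subtype) :
    brMap D (Subgroup.normalizer (D : Set G)) (classInd (y : G)) = classInd y := by
  have hyD : (y : G) ∈ Subgroup.centralizer (D : Set G) := by
    rw [Subgroup.mem_centralizer_iff]
    intro t ht
    rw [hD] at ht
    obtain ⟨t', _, rfl⟩ := ht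
    have := t'.2
    rw [Subgroup.mem_centralizer_iff] at this
    exact (this (y : G) rfl).symm
  funext h
  unfold brMap classInd
  by_cases hc : (h : G) ∈ Subgroup.centralizer (D : Set G)
  · rw [if_pos hc]
    have hiff : IsConj (y : G) (h : G) ↔ IsConj y h := by
      constructor
      · intro hconj
        obtain ⟨c, hc'⟩ := isConj_iff.mp hconj
        have hcent : ∀ t ∈ (D0 : Subgroup (Subgroup.centralizer ({(y : G)} : Set G))).map
            (Subgroup.centralizer ({(y : G)} : Set G)).subtype,
            t * (c * (y : G) * c⁻¹) = (c * (y : G) * c⁻¹) * t := by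
          intro t ht
          rw [← hD] at ht
          rw [hc']
          rw [Subgroup.mem_centralizer_iff] at hc
          exact hc t ht
        obtain ⟨n, hn, hny⟩ := exists_normalizer_conj (y : G) D0 c hcent
        rw [← hD] at hn
        refine isConj_iff.mpr ⟨⟨n, hn⟩, Subtype.ext ?_⟩
        show n * (y : G) * n⁻¹ = (h : G)
        rw [hny, hc']
      · intro hconj
        obtain ⟨n, hn⟩ := isConj_iff.mp hconj
        refine isConj_iff.mpr ⟨(n : G), ?_⟩
        have := congrArg Subtype.val hn
        simpa using this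
    by_cases hh : IsConj y h
    · rw [if_pos hh, if_pos (hiff.mpr hh)]
    · rw [if_neg hh, if_neg (fun hc' => hh (hiff.mp hc'))]
  · rw [if_neg hc, if_neg]
    intro hconj
    apply hc
    obtain ⟨n, hn⟩ := isConj_iff.mp hconj
    have h1 : (h : G) = (n : G) * (y : G) * (n : G)⁻¹ := by
      have := congrArg Subtype.val hn
      simpa using this.symm
    rw [h1]
    exact conj_mem_centralizer_of_mem D n.2 hyD

/-- for a block `b` of `N_G(D)` inducing `B`, central characters agree at the elements having
`D` as a Sylow `p`-subgroup of their centralizer -/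
theorem centralChar_sub_of_induced {p : ℕ} [Fact p.Prime] (hM : IsPModular p M)
    (D : Subgroup G) (hDp : IsPGroup p D) [Fintype (Subgroup.normalizer (D : Set G))]
    {b : Set (IrrCharacter (Subgroup.normalizer (D : Set G)))} {B : Set (IrrCharacter G)}
    (hind : IsInducedBlock M (Subgroup.normalizer (D : Set G)) b B)
    {ξ : IrrCharacter (Subgroup.normalizer (D : Set G))} (hξ : ξ ∈ b)
    {χ : IrrCharacter G} (hχ : χ ∈ B) (y : Subgroup.normalizer (D : Set G))
    (D0 : Sylow p (Subgroup.centralizer ({(y : G)} : Set G)))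
    (hD : D = (D0 : Subgroup (Subgroup.centralizer ({(y : G)} : Set G))).map
      (Subgroup.centralizer ({(y : G)} : Set G)).subtype) :
    MemLocalIdeal M (centralChar (ξ : Subgroup.normalizer (D : Set G) → ℂ) y -
      centralChar (χ : G → ℂ) (y : G)) := by
  have hprime : M.IsPrime := hM.2.1.isPrime
  have e1 := hind.2.2 ξ hξ χ hχ (y : G)
  have e2 := inducedCentralChar_sub_brauerCentralChar hM D (Subgroup.normalizer (D : Set G))
    hDp Subgroup.le_normalizer le_rfl ξ.2 (y : G)
  rw [brauerCentralChar_eq_omegaF, brMap_classInd_eq D y D0 hD,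
    omegaF_classInd (Helper4.isClassFunction_of_isIrrCharacter ξ.2)] at e2
  have := memLocalIdeal_sub e1 e2
  convert this using 1
  ring

/-- defect groups of `B` have order `p ^ d(B)` -/
theorem card_defectGroup {p : ℕ} [Fact p.Prime] (hM : IsPModular p M)
    {B : Set (IrrCharacter G)} (hB : IsPBlock M B) {E : Subgroup G}
    (hE : IsDefectGroup p M B E) : Nat.card E = p ^ blockDefect p B := by
  have hprime : M.IsPrime := hM.2.1.isPrime
  obtain ⟨g0, hg0, P0, rfl⟩ := hE
  obtain ⟨χ, hχ⟩ := block_nonempty hB
  have h1 := blockDefect_le_of_centralChar hM hB hχ (hg0.2.2 χ hχ)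
  have h2 := le_blockDefect_of_blockCoeff hM hB hg0.2.1
  rw [Subgroup.card_map_of_injective (Subgroup.subtype_injective _), P0.card_eq_multiplicity,
    le_antisymm h2 h1]

end Main

end Cfsg.Agent.Lib.Helper28
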