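import Mathlib
import Cfsg.Agent.Lib.Helper28.BrauerM
import Cfsg.Agent.Lib.Helper4.BlockCentralizer

set_option autoImplicit false

/-!
# Brauer's First Main Theorem (helper28)
-/

namespace Cfsg.Agent.Lib.Helper28

open Cfsg Cfsg.Agent.Lib.Helper4
open scoped ComplexConjugate Classical

variable {G : Type*} [Group G] [Fintype G] {M : Ideal AlgInt}

/-- in a block `b` of `N = N_G(D)`: if every `p`-subgroup of `N` centralizing `y ∈ N` lies in
`D`, and `D` centralizes `y`, then `D` is a Sylow `p`-subgroup of `C_G(y)` -/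
theorem exists_sylow_eq_of_forall_le {p : ℕ} [Fact p.Prime] (D : Subgroup G)
    (hDp : IsPGroup p D) (y : Subgroup.normalizer (D : Set G))
    (hcent : ∀ t ∈ D, t * (y : G) = (y : G) * t)
    (hall : ∀ Q : Subgroup (Subgroup.normalizer (D : Set G)), IsPGroup p Q →
      (∀ t ∈ Q, t * y = y * t) → Q ≤ D.subgroupOf (Subgroup.normalizer (D : Set G))) :
    ∃ S0 : Sylow p (Subgroup.centralizer ({(y : G)} : Set G)),
      D = (S0 : Subgroup (Subgroup.centralizer ({(y : G)} : Set G))).map
        (Subgroup.centralizer ({(y : G)} : Set G)).subtype := by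
  apply exists_sylow_eq_of_max D hDp (y : G) hcent
  intro Q hQ _ hQy hQN t ht
  have h1 := hall (Q.subgroupOf (Subgroup.normalizer (D : Set G))) hQ.comap_subtype (by
    intro u hu
    rw [Subgroup.mem_subgroupOf] at hu
    apply Subtype.ext
    have := hQy (u : G) hu
    simpa using this)
  have h2 : (⟨t, hQN ht⟩ : Subgroup.normalizer (D : Set G)) ∈
      D.subgroupOf (Subgroup.normalizer (D : Set G)) := h1 (by
    rw [Subgroup.mem_subgroupOf]; exact ht)
  rw [Subgroup.mem_subgroupOf] at h2
  exact h2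

/-- **First Main Theorem, part (i)**: a block of `N_G(D)` with defect group `D` induces a block
with defect group `D` -/
theorem defectGroup_of_induced_from_normalizer {p : ℕ} [Fact p.Prime] (hM : IsPModular p M)
    (D : Subgroup G) (hDp : IsPGroup p D) [Fintype (Subgroup.normalizer (D : Set G))]
    {b : Set (IrrCharacter (Subgroup.normalizer (D : Set G)))} {B : Set (IrrCharacter G)}
    (hb : IsPBlock M b) (hB : IsPBlock M B)
    (hDb : IsDefectGroup p M b (D.subgroupOf (Subgroup.normalizer (D : Set G))))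
    (hind : IsInducedBlock M (Subgroup.normalizer (D : Set G)) b B) :
    IsDefectGroup p M B D := by
  have hprime : M.IsPrime := hM.2.1.isPrime
  have hMtop : M ≠ ⊤ := hM.2.1.ne_top
  obtain ⟨E', hE', hle⟩ := exists_defectGroup_ge_of_induced hM _ hb hB hind _ hDb
  rw [Subgroup.map_subgroupOf_eq_of_le Subgroup.le_normalizer] at hle
  obtain ⟨h0, hh0, P1, hP1⟩ := hDb
  obtain ⟨ξ, hξ⟩ := block_nonempty hb
  -- `D` centralizes `h0`
  have hcent : ∀ t ∈ D, t * (h0 : G) = (h0 : G) * t := by
    intro t ht
    have h1 : (⟨t, Subgroup.le_normalizer ht⟩ : Subgroup.normalizer (D : Set G)) ∈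
        D.subgroupOf (Subgroup.normalizer (D : Set G)) := by
      rw [Subgroup.mem_subgroupOf]; exact ht
    rw [hP1] at h1
    obtain ⟨u, _, hu⟩ := h1
    have hu2 := u.2
    rw [Subgroup.mem_centralizer_iff] at hu2
    have h3 := hu2 h0 rfl
    have h4 : (u : Subgroup.normalizer (D : Set G)) = ⟨t, Subgroup.le_normalizer ht⟩ := hu
    rw [h4] at h3
    have := congrArg Subtype.val h3
    simpa using this.symm
  -- every `p`-subgroup of `N` centralizing `h0` lies in `D`
  have hall : ∀ Q : Subgroup (Subgroup.normalizer (D : Set G)), IsPGroup p Q →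
      (∀ t ∈ Q, t * h0 = h0 * t) → Q ≤ D.subgroupOf (Subgroup.normalizer (D : Set G)) := by
    intro Q hQ hQc
    obtain ⟨x, hx, hxc⟩ := exists_conj_centralized hM hb h0 h0 hh0.2.2 hh0.2.1 Q hQ hQc
    obtain ⟨c, hc⟩ := isConj_iff.mp hx
    subst hc
    obtain ⟨z, hz⟩ := le_conj_sylow_of_centralizes h0 P1 Q hQ c hxc
    rw [← hP1] at hz
    intro t ht
    obtain ⟨d, hd, hdt⟩ := hz ht
    have hn : (D.subgroupOf (Subgroup.normalizer (D : Set G))).Normal :=
      Subgroup.normal_subgroupOf_of_le_normalizer le_rfl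
    have hdt' : z * d * z⁻¹ = t := hdt
    rw [← hdt']
    exact hn.conj_mem d hd z
  obtain ⟨S0, hS0⟩ := exists_sylow_eq_of_forall_le D hDp h0 hcent hall
  -- central characters of `B` are units at `h0`
  have hunit : ∀ χ ∈ B, ¬ MemLocalIdeal M (centralChar (χ : G → ℂ) (h0 : G)) := by
    intro χ hχ hmem
    apply hh0.2.2 ξ hξ
    have := memLocalIdeal_add (centralChar_sub_of_induced hM D hDp hind hξ hχ h0 S0 hS0) hmem
    rwa [sub_add_cancel] at this
  -- hence `|E'| ≤ |D|`
  obtain ⟨g0, hg0, P0, hP0⟩ := hE'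
  have hE'p : IsPGroup p E' := by rw [hP0]; exact P0.2.map _
  have hE'c : ∀ t ∈ E', t * g0 = g0 * t := by
    intro t ht
    rw [hP0] at ht
    obtain ⟨t', _, rfl⟩ := ht
    have := t'.2
    rw [Subgroup.mem_centralizer_iff] at this
    exact (this g0 rfl).symm
  obtain ⟨x, hx, hxc⟩ := exists_conj_centralized hM hB (h0 : G) g0 hunit hg0.2.1 E' hE'p hE'c
  obtain ⟨c, hc⟩ := isConj_iff.mp hx
  subst hc
  obtain ⟨z, hz⟩ := le_conj_sylow_of_centralizes (h0 : G) S0 E' hE'p c hxc
  rw [← hS0] at hz
  have hcard : Nat.card E' ≤ Nat.card D := by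
    have h1 := Subgroup.card_le_of_le hz
    have h2 : Nat.card (D.map (MulAut.conj z).toMonoidHom) = Nat.card D :=
      Subgroup.card_map_of_injective (MulAut.conj z).injective
    rwa [h2] at h1
  have heq : D = E' := Subgroup.eq_of_le_of_card_ge hle hcard
  rw [heq]
  exact ⟨g0, hg0, P0, hP0⟩

/-- **First Main Theorem, part (ii-a)**: a block of `N_G(D)` inducing a block with defect
group `D` has defect group `D` -/
theorem defectGroup_of_inducing {p : ℕ} [Fact p.Prime] (hM : IsPModular p M)
    (D : Subgroup G) (hDp : IsPGroup p D) [Fintype (Subgroup.normalizer (D : Set G))]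
    {b : Set (IrrCharacter (Subgroup.normalizer (D : Set G)))} {B : Set (IrrCharacter G)}
    (hb : IsPBlock M b) (hB : IsPBlock M B) (hDB : IsDefectGroup p M B D)
    (hind : IsInducedBlock M (Subgroup.normalizer (D : Set G)) b B) :
    IsDefectGroup p M b (D.subgroupOf (Subgroup.normalizer (D : Set G))) := by
  have hprime : M.IsPrime := hM.2.1.isPrime
  obtain ⟨h0, hh0⟩ := exists_defectClass hM hb
  obtain ⟨P1⟩ : Nonempty (Sylow p (Subgroup.centralizer ({h0} : Set
    (Subgroup.normalizer (D : Set G))))) := inferInstance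
  have hDb : IsDefectGroup p M b ((P1 : Subgroup (Subgroup.centralizer ({h0} : Set
      (Subgroup.normalizer (D : Set G))))).map (Subgroup.centralizer ({h0} : Set
      (Subgroup.normalizer (D : Set G)))).subtype) := ⟨h0, hh0, P1, rfl⟩
  have h912 := Cfsg.Agent.S0912.result p M hM b hb _ hDb
  have hn : (D.subgroupOf (Subgroup.normalizer (D : Set G))).Normal :=
    Subgroup.normal_subgroupOf_of_le_normalizer le_rfl
  have hp' : IsPGroup p (D.subgroupOf (Subgroup.normalizer (D : Set G))) := hDp.comap_subtype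
  have hle2 := (Helper16.le_pCore hn hp').trans h912
  obtain ⟨E, hE, hle⟩ := exists_defectGroup_ge_of_induced hM _ hb hB hind _ hDb
  have hc1 := card_defectGroup hM hB hE
  have hc2 := card_defectGroup hM hB hDB
  have hcard : Nat.card ((P1 : Subgroup (Subgroup.centralizer ({h0} : Set
      (Subgroup.normalizer (D : Set G))))).map (Subgroup.centralizer ({h0} : Set
      (Subgroup.normalizer (D : Set G)))).subtype) ≤
      Nat.card (D.subgroupOf (Subgroup.normalizer (D : Set G))) := by
    have h1 := Subgroup.card_le_of_le hle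
    rw [Subgroup.card_map_of_injective (Subgroup.subtype_injective _), hc1, ← hc2] at h1
    rwa [Nat.card_congr (Subgroup.subgroupOfEquivOfLe
      (Subgroup.le_normalizer (H := D))).toEquiv]
  have heq := Subgroup.eq_of_le_of_card_ge hle2 hcard
  rw [heq]
  exact hDb

/-- **First Main Theorem, part (ii-b)**: a block with defect group `D` is induced from
`N_G(D)` -/
theorem exists_inducing_block {p : ℕ} [Fact p.Prime] (hM : IsPModular p M)
    (D : Subgroup G) (hDp : IsPGroup p D) [Fintype (Subgroup.normalizer (D : Set G))]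
    {B : Set (IrrCharacter G)} (hB : IsPBlock M B) (hDB : IsDefectGroup p M B D) :
    ∃ b : Set (IrrCharacter (Subgroup.normalizer (D : Set G))),
      IsInducedBlock M (Subgroup.normalizer (D : Set G)) b B := by
  have hprime : M.IsPrime := hM.2.1.isPrime
  obtain ⟨g0, hg0, P0, hDP0⟩ := hDB
  have hg0c : g0 ∈ Subgroup.centralizer (D : Set G) := by
    rw [Subgroup.mem_centralizer_iff]
    intro t ht
    rw [hDP0] at ht
    obtain ⟨t', _, rfl⟩ := ht
    have := t'.2
    rw [Subgroup.mem_centralizer_iff] at this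
    exact (this g0 rfl).symm
  obtain ⟨ξ, y, hξ, -, -, -⟩ := exists_irr_brMap_blockCoeff hM D
    (Subgroup.normalizer (D : Set G)) hDp (Subgroup.centralizer_le_normalizer _) le_rfl B
    (fun g => osima hB g) g0 hg0c hg0.2.1
  exact ⟨_, isInducedBlock_of_omegaF_brMap hM D _ hDp Subgroup.le_normalizer
    (Subgroup.centralizer_le_normalizer _) le_rfl hB ξ hξ⟩

end Cfsg.Agent.Lib.Helper28
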