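import Mathlib
import Cfsg.Agent.Lib.Helper28.BrauerN

set_option autoImplicit false

/-!
# Brauer's First Main Theorem: uniqueness (helper28)
-/

namespace Cfsg.Agent.Lib.Helper28

open Cfsg Cfsg.Agent.Lib.Helper4
open scoped ComplexConjugate Classical

variable {G : Type*} [Group G] [Fintype G] {M : Ideal AlgInt}

/-- **First Main Theorem, uniqueness**: two blocks of `N_G(D)` with defect group `D` inducing
the same block of `G` coincide -/
theorem inducing_block_unique {p : ℕ} [Fact p.Prime] (hM : IsPModular p M)
    (D : Subgroup G) (hDp : IsPGroup p D) [Fintype (Subgroup.normalizer (D : Set G))]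
    {b1 b2 : Set (IrrCharacter (Subgroup.normalizer (D : Set G)))} {B : Set (IrrCharacter G)}
    (hb1 : IsPBlock M b1) (hb2 : IsPBlock M b2) (hB : IsPBlock M B)
    (hDb1 : IsDefectGroup p M b1 (D.subgroupOf (Subgroup.normalizer (D : Set G))))
    (hind1 : IsInducedBlock M (Subgroup.normalizer (D : Set G)) b1 B)
    (hind2 : IsInducedBlock M (Subgroup.normalizer (D : Set G)) b2 B) : b1 = b2 := by
  have hprime : M.IsPrime := hM.2.1.isPrime
  have hMtop : M ≠ ⊤ := hM.2.1.ne_top
  have : Fintype (ConjClasses (Subgroup.normalizer (D : Set G))) := Fintype.ofFinite _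
  obtain ⟨ξ1, hξ1⟩ := block_nonempty hb1
  obtain ⟨ξ2, hξ2⟩ := block_nonempty hb2
  obtain ⟨χ, hχ⟩ := block_nonempty hB
  have hn : (D.subgroupOf (Subgroup.normalizer (D : Set G))).Normal :=
    Subgroup.normal_subgroupOf_of_le_normalizer le_rfl
  have hp' : IsPGroup p (D.subgroupOf (Subgroup.normalizer (D : Set G))) := hDp.comap_subtype
  obtain ⟨h1, hh1, P1, hP1⟩ := hDb1
  have hcl1 := Helper4.isClassFunction_of_isIrrCharacter ξ1.2
  have hcl2 := Helper4.isClassFunction_of_isIrrCharacter ξ2.2
  -- termwise congruence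
  have key : ∀ y : Subgroup.normalizer (D : Set G), MemLocalIdeal M (blockCoeff b1 y *
      (centralChar (ξ2 : Subgroup.normalizer (D : Set G) → ℂ) y -
        centralChar (ξ1 : Subgroup.normalizer (D : Set G) → ℂ) y)) := by
    intro y
    have hRdiff : MemLocalRing M (centralChar (ξ2 : Subgroup.normalizer (D : Set G) → ℂ) y -
        centralChar (ξ1 : Subgroup.normalizer (D : Set G) → ℂ) y) :=
      memLocalRing_sub (memLocalRing_of_isIntegral hMtop (isIntegral_centralChar ξ2.2 _))
        (memLocalRing_of_isIntegral hMtop (isIntegral_centralChar ξ1.2 _))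
    by_cases hy : MemLocalIdeal M (blockCoeff b1 y)
    · exact memLocalIdeal_mul_right hy hRdiff
    · apply memLocalIdeal_mul_left (osima hb1 y)
      -- `y` centralizes `D`
      have hyc : y ∈ Subgroup.centralizer
          ((D.subgroupOf (Subgroup.normalizer (D : Set G)) :
            Subgroup (Subgroup.normalizer (D : Set G))) : Set (Subgroup.normalizer (D : Set G))) := by
        by_contra hcon
        apply hy
        rw [blockCoeff_eq_zero_of_not_mem_centralizer hM _ hp' hb1 y hcon]
        exact memLocalIdeal_zero hMtop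
      have hcent : ∀ t ∈ D, t * (y : G) = (y : G) * t := by
        intro t ht
        rw [Subgroup.mem_centralizer_iff] at hyc
        have h3 := hyc ⟨t, Subgroup.le_normalizer ht⟩ (by
          show (⟨t, Subgroup.le_normalizer ht⟩ : Subgroup.normalizer (D : Set G)) ∈
            D.subgroupOf (Subgroup.normalizer (D : Set G))
          rw [Subgroup.mem_subgroupOf]; exact ht)
        have := congrArg Subtype.val h3
        simpa using this
      have hall : ∀ Q : Subgroup (Subgroup.normalizer (D : Set G)), IsPGroup p Q →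
          (∀ t ∈ Q, t * y = y * t) → Q ≤ D.subgroupOf (Subgroup.normalizer (D : Set G)) := by
        intro Q hQ hQc
        obtain ⟨x, hx, hxc⟩ := exists_conj_centralized hM hb1 h1 y hh1.2.2 hy Q hQ hQc
        obtain ⟨c, hc⟩ := isConj_iff.mp hx
        subst hc
        obtain ⟨z, hz⟩ := le_conj_sylow_of_centralizes h1 P1 Q hQ c hxc
        rw [← hP1] at hz
        intro t ht
        obtain ⟨d, hd, hdt⟩ := hz ht
        have hdt' : z * d * z⁻¹ = t := hdt
        rw [← hdt']
        exact hn.conj_mem d hd z
      obtain ⟨S0, hS0⟩ := exists_sylow_eq_of_forall_le D hDp y hcent hall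
      have e1 := centralChar_sub_of_induced hM D hDp hind1 hξ1 hχ y S0 hS0
      have e2 := centralChar_sub_of_induced hM D hDp hind2 hξ2 hχ y S0 hS0
      have := memLocalIdeal_sub e2 e1
      convert this using 1
      ring
  -- sum over the classes
  have hsum : MemLocalIdeal M (omegaF (ξ2 : Subgroup.normalizer (D : Set G) → ℂ) (blockCoeff b1) -
      omegaF (ξ1 : Subgroup.normalizer (D : Set G) → ℂ) (blockCoeff b1)) := by
    rw [omegaF_eq_sum_classes hcl2 _ (isClassFunction_blockCoeff b1),
      omegaF_eq_sum_classes hcl1 _ (isClassFunction_blockCoeff b1), ← Finset.sum_sub_distrib]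
    apply memLocalIdeal_sum
    intro L _
    rw [← mul_sub]
    exact key _
  rw [omegaF_blockCoeff, omegaF_blockCoeff, if_pos hξ1] at hsum
  have hξ2b1 : ξ2 ∈ b1 := by
    by_contra hcon
    rw [if_neg hcon, zero_sub] at hsum
    apply not_memLocalIdeal_one hMtop (M := M)
    have := memLocalIdeal_neg hsum
    rwa [neg_neg] at this
  exact block_eq_of_mem hb1 hb2 hξ2b1 hξ2

end Cfsg.Agent.Lib.Helper28
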