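import Mathlib
import Cfsg.Agent.Lib.Helper28.BrauerO
import Cfsg.Agent.Lib.Helper28.DefectZero
import Cfsg.Agent.Lib.Helper4.BlockQuot
import Cfsg.Agent.Lib.Helper4.Deflate

set_option autoImplicit false

/-!
# Classes on which a block with normal defect group does not vanish (helper28)
-/

namespace Cfsg.Agent.Lib.Helper28

open Cfsg Cfsg.Agent.Lib.Helper4
open scoped ComplexConjugate Classical

variable {G : Type*} [Group G] [Fintype G] {M : Ideal AlgInt}

/-- if the block `b` has the normal `p`-subgroup `Q` as a defect group and its central character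
is a unit at `x`, then the image of `x` in `G ⧸ Q` is `p`-regular -/
theorem pRegular_mk_of_centralChar {p : ℕ} [Fact p.Prime] (hM : IsPModular p M)
    (Q : Subgroup G) [Q.Normal] (hQ : IsPGroup p Q) {b : Set (IrrCharacter G)}
    (hb : IsPBlock M b) (hDb : IsDefectGroup p M b Q) (x : G) {ξ : IrrCharacter G} (hξ : ξ ∈ b)
    (hx : ¬ MemLocalIdeal M (centralChar (ξ : G → ℂ) x)) :
    ¬ p ∣ orderOf (QuotientGroup.mk x : G ⧸ Q) := by
  have hprime : M.IsPrime := hM.2.1.isPrime
  have hMtop : M ≠ ⊤ := hM.2.1.ne_top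
  have hp : p.Prime := hM.1
  have : Fintype Q := Fintype.ofFinite _
  have : Fintype (G ⧸ Q) := Fintype.ofFinite _
  obtain ⟨θ, hθ, hθQ⟩ := exists_mem_block_trivial_on Q hM hQ hb
  obtain ⟨ψ, hψ⟩ := exists_deflate_irr Q θ hθQ
  -- `θ x ≠ 0`
  have hθx : (θ : G → ℂ) x ≠ 0 := by
    intro h0
    apply hx
    have hsb := (mem_block_iff hb hξ θ).mp hθ x
    have h1 : centralChar (θ : G → ℂ) x = 0 := by
      unfold centralChar
      rw [h0, mul_zero, zero_div]
    rw [h1, sub_zero] at hsb
    exact hsb
  intro hdvd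
  apply hθx
  rw [← hψ x]
  -- `ψ` has defect zero
  obtain ⟨n, ρ, hirr, hρ⟩ := ψ.2
  rw [← hρ]
  obtain ⟨b0, hb0⟩ := degree_dvd_card ρ hirr
  rw [Module.finrank_fin_fun] at hb0
  have hn : n ≠ 0 := by
    have := finrank_ne_zero_of_irreducible ρ hirr
    rw [Module.finrank_fin_fun] at this
    exact_mod_cast this
  have hb0ne : b0 ≠ 0 := by
    rintro rfl
    rw [mul_zero] at hb0
    exact Nat.card_pos.ne' hb0
  -- degree of `θ` is `n`
  have hdeg : charDegree (θ : G → ℂ) = n := by
    have h1 : (θ : G → ℂ) 1 = (n : ℂ) := by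
      have := hψ 1
      rw [← this, ← hρ]
      have h2 : ((1 : G) : G ⧸ Q) = 1 := rfl
      rw [h2, Representation.char_one, Module.finrank_fin_fun]
    unfold charDegree
    rw [h1]
    simp
  -- valuations
  have hle := sub_factorization_le_blockDefect (p := p) hθ
  have hcardQ := card_defectGroup hM hb hDb
  have hidx : Nat.card G = Nat.card Q * Nat.card (G ⧸ Q) := by
    rw [← Subgroup.index_eq_card, mul_comm]
    exact (Subgroup.index_mul_card Q).symm
  have hfac : (Nat.card G).factorization p = blockDefect p b + (n * b0).factorization p := by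
    rw [hidx, Nat.factorization_mul Nat.card_pos.ne' Nat.card_pos.ne', Finsupp.add_apply, hcardQ,
      hp.factorization_pow, Finsupp.single_eq_same, hb0]
  rw [Nat.factorization_mul hn hb0ne, Finsupp.add_apply] at hfac
  rw [hdeg] at hle
  have hb0p : b0.factorization p = 0 := by omega
  have hcop : b0.Coprime p := by
    rw [Nat.coprime_comm, Nat.Prime.coprime_iff_not_dvd hp]
    intro hpb
    have := (hp.dvd_iff_one_le_factorization hb0ne).mp hpb
    omega
  have hb0' : Module.finrank ℂ (Fin n → ℂ) * b0 = Nat.card (G ⧸ Q) := by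
    rw [Module.finrank_fin_fun]; exact hb0.symm
  exact defect_zero_vanish ρ hirr hp hb0' hcop _ hdvd

end Cfsg.Agent.Lib.Helper28
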