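import Mathlib
import Cfsg.Agent.Lib.Helper28.BrauerP

set_option autoImplicit false

/-!
# Classes with nonzero central character meet `C_G(D)` with `p`-part in `Z(D)` (helper28)
-/

namespace Cfsg.Agent.Lib.Helper28

open Cfsg Cfsg.Agent.Lib.Helper4
open scoped ComplexConjugate Classical

section Grp

variable {G : Type*} [Group G]

/-- the `p`-part is a power of the element -/
theorem exists_pow_eq_of_isPPart [Finite G] {p : ℕ} (hp : p.Prime) {x z : G}
    (h : IsPPart p x z) : ∃ i : ℕ, x ^ i = z := by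
  obtain ⟨y, hzy, hcomm, ⟨k, hk⟩, hy⟩ := h
  obtain ⟨m, hm⟩ : ∃ m, m = orderOf y := ⟨_, rfl⟩
  have hm0 : 0 < m := hm ▸ orderOf_pos y
  have hcop : Nat.Coprime m (p ^ k) := by
    apply Nat.Coprime.pow_right
    rw [hm]
    exact ((Nat.Prime.coprime_iff_not_dvd hp).mpr hy).symm
  -- `m * u ≡ 1 mod p ^ k`
  obtain ⟨u, hu⟩ : ∃ u : ℕ, m * u ≡ 1 [MOD p ^ k] := by
    by_cases hk1 : p ^ k = 1
    · exact ⟨0, by rw [hk1]; exact Nat.modEq_one⟩
    · have hk2 : 1 < p ^ k := by
        have := pow_pos hp.pos k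
        omega
      obtain ⟨u, -, hu⟩ := Nat.exists_mul_mod_eq_one_of_coprime hcop hk2
      refine ⟨u, ?_⟩
      unfold Nat.ModEq
      rw [hu, Nat.mod_eq_of_lt hk2]
  refine ⟨m * u, ?_⟩
  rw [← hzy, hcomm.mul_pow, pow_mul y, hm, pow_orderOf_eq_one, one_pow, mul_one]
  have h1 : z ^ (orderOf y * u) = z ^ 1 := by
    rw [pow_eq_pow_iff_modEq, hk, ← hm]
    exact hu
  rw [h1, pow_one]

end Grp

section Main

variable {G : Type*} [Group G] [Fintype G] {M : Ideal AlgInt}

/-- **S0929**: a class on which the central character of a block with defect group `P` is a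
unit contains an element of `C_G(P)` whose `p`-part lies in `Z(P)` -/
theorem exists_conj_centralizer_pPart {p : ℕ} [Fact p.Prime] (hM : IsPModular p M)
    {B : Set (IrrCharacter G)} (hB : IsPBlock M B) (P : Subgroup G)
    (hP : IsDefectGroup p M B P) (g : G)
    (hg : ∃ χ ∈ B, ¬ MemLocalIdeal M (centralChar (χ : G → ℂ) g)) :
    ∃ x : G, IsConj g x ∧ x ∈ Subgroup.centralizer (P : Set G) ∧
      ∀ z : G, IsPPart p x z → z ∈ P ∧ ∀ w ∈ P, z * w = w * z := by
  have hprime : M.IsPrime := hM.2.1.isPrime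
  have hMtop : M ≠ ⊤ := hM.2.1.ne_top
  have hp : p.Prime := hM.1
  have : Fintype (Subgroup.normalizer (P : Set G)) := Fintype.ofFinite _
  have hPp : IsPGroup p P := by
    obtain ⟨g0, _, P0, rfl⟩ := hP
    exact P0.2.map _
  obtain ⟨χ, hχ, hχg⟩ := hg
  obtain ⟨b, hind⟩ := exists_inducing_block hM P hPp hB hP
  have hb : IsPBlock M b := hind.1
  have hDb := defectGroup_of_inducing hM P hPp hb hB hP hind
  obtain ⟨ξ, hξ⟩ := block_nonempty hb
  -- `ω_ξ(Br_P(K_g))` is a unit
  have e1 := hind.2.2 ξ hξ χ hχ g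
  have e2 := inducedCentralChar_sub_brauerCentralChar hM P (Subgroup.normalizer (P : Set G))
    hPp Subgroup.le_normalizer le_rfl ξ.2 g
  have hunit : ¬ MemLocalIdeal M (omegaF (ξ : Subgroup.normalizer (P : Set G) → ℂ)
      (brMap P (Subgroup.normalizer (P : Set G)) (classInd g))) := by
    rw [← brauerCentralChar_eq_omegaF]
    intro hmem
    apply hχg
    have := memLocalIdeal_sub (memLocalIdeal_add e2 hmem) e1
    convert this using 1
    ring
  obtain ⟨y, hy1, hy2⟩ := exists_class_of_omegaF_not_memLocalIdeal ξ.2 _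
    (isClassFunction_brMap P _ le_rfl (isClassFunction_classInd g))
    (fun h => brMap_memLocalRing P _ (fun x => classInd_memLocalRing g x) h) hunit
  have hyc : (y : G) ∈ Subgroup.centralizer (P : Set G) := by
    by_contra hcon
    apply hy1
    rw [brMap_of_not_mem P _ _ hcon]
    exact memLocalIdeal_zero hMtop
  have hyg : IsConj g (y : G) := by
    by_contra hcon
    apply hy1
    rw [brMap_of_mem P _ _ hyc]
    unfold classInd
    rw [if_neg hcon]
    exact memLocalIdeal_zero hMtop
  have hn : (P.subgroupOf (Subgroup.normalizer (P : Set G))).Normal :=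
    Subgroup.normal_subgroupOf_of_le_normalizer le_rfl
  have hp' : IsPGroup p (P.subgroupOf (Subgroup.normalizer (P : Set G))) := hPp.comap_subtype
  have hreg := pRegular_mk_of_centralChar hM (P.subgroupOf (Subgroup.normalizer (P : Set G)))
    hp' hb hDb y hξ hy2
  refine ⟨(y : G), hyg, hyc, ?_⟩
  intro z hz
  obtain ⟨i, hi⟩ := exists_pow_eq_of_isPPart hp hz
  have hzc : z ∈ Subgroup.centralizer (P : Set G) := by
    rw [← hi]
    exact Subgroup.pow_mem _ hyc i
  have hzcomm : ∀ w ∈ P, z * w = w * z := by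
    intro w hw
    rw [Subgroup.mem_centralizer_iff] at hzc
    exact (hzc w hw).symm
  refine ⟨?_, hzcomm⟩
  -- `z ∈ P`: its image in `N ⧸ P` is a `p`-element and a power of a `p`-regular element
  obtain ⟨y', -, -, ⟨k, hk⟩, -⟩ := hz
  have hzN : z ∈ Subgroup.normalizer (P : Set G) := Subgroup.centralizer_le_normalizer _ hzc
  have hzy : (⟨z, hzN⟩ : Subgroup.normalizer (P : Set G)) = y ^ i := by
    apply Subtype.ext
    rw [Subgroup.coe_pow]
    exact hi.symm
  have h1 : orderOf (QuotientGroup.mk (⟨z, hzN⟩ : Subgroup.normalizer (P : Set G)) :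
      Subgroup.normalizer (P : Set G) ⧸ P.subgroupOf (Subgroup.normalizer (P : Set G))) ∣
      orderOf (QuotientGroup.mk y :
        Subgroup.normalizer (P : Set G) ⧸ P.subgroupOf (Subgroup.normalizer (P : Set G))) := by
    rw [hzy, QuotientGroup.mk_pow]
    exact orderOf_pow_dvd i
  have h2 : orderOf (QuotientGroup.mk (⟨z, hzN⟩ : Subgroup.normalizer (P : Set G)) :
      Subgroup.normalizer (P : Set G) ⧸ P.subgroupOf (Subgroup.normalizer (P : Set G))) ∣
      p ^ k := by
    apply orderOf_dvd_of_pow_eq_one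
    rw [← QuotientGroup.mk_pow]
    have h3 : (⟨z, hzN⟩ : Subgroup.normalizer (P : Set G)) ^ p ^ k = 1 := by
      apply Subtype.ext
      rw [Subgroup.coe_pow]
      show z ^ p ^ k = 1
      rw [← hk]
      exact pow_orderOf_eq_one z
    rw [h3]
    rfl
  have hcop : Nat.Coprime (orderOf (QuotientGroup.mk y :
        Subgroup.normalizer (P : Set G) ⧸ P.subgroupOf (Subgroup.normalizer (P : Set G))))
      (p ^ k) := by
    apply Nat.Coprime.pow_right
    exact ((Nat.Prime.coprime_iff_not_dvd hp).mpr hreg).symm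
  have h4 : orderOf (QuotientGroup.mk (⟨z, hzN⟩ : Subgroup.normalizer (P : Set G)) :
      Subgroup.normalizer (P : Set G) ⧸ P.subgroupOf (Subgroup.normalizer (P : Set G))) = 1 :=
    Nat.eq_one_of_dvd_coprimes hcop h1 h2
  rw [orderOf_eq_one_iff, QuotientGroup.eq_one_iff, Subgroup.mem_subgroupOf] at h4
  exact h4

end Main

end Cfsg.Agent.Lib.Helper28
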