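import Mathlib
import Cfsg.Agent.Lib.Helper28.BrauerB
import Cfsg.Agent.Lib.Helper28.BlockDefectC
import Cfsg.Agent.Lib.Helper4.RepEigen

set_option autoImplicit false

/-!
# Character values at `x * y`, `x` a `p`-element commuting with the `p`-regular `y` (helper28)
-/

namespace Cfsg.Agent.Lib.Helper28

open Cfsg Cfsg.Agent.Lib.Helper4
open scoped ComplexConjugate Classical

section Roots

variable {M : Ideal AlgInt}

/-- roots of unity of order dividing `p ^ k * m` are congruent to their `j`-th powers modulo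
the local ideal when `j ≡ 1 mod m` -/
theorem memLocalIdeal_root_pow_sub {p : ℕ} (hM : IsPModular p M) (μ : ℂ) (k m t : ℕ)
    (hμ : μ ^ (p ^ k * m) = 1) (hm : 0 < m) :
    MemLocalIdeal M (μ ^ (1 + m * t) - μ) := by
  obtain ⟨hp, hmax, hpM⟩ := hM
  haveI : Fact p.Prime := ⟨hp⟩
  have hμint : IsIntegral ℤ μ := by
    apply IsIntegral.of_pow (n := p ^ k * m) (Nat.mul_pos (pow_pos hp.pos k) hm)
    rw [hμ]
    exact isIntegral_one
  let a : AlgInt := ⟨μ, hμint⟩
  haveI : M.IsMaximal := hmax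
  letI : Field (AlgInt ⧸ M) := Ideal.Quotient.field M
  have hchar : CharP (AlgInt ⧸ M) p := by
    rw [CharP.charP_iff_prime_eq_zero hp]
    have h1 : ((p : AlgInt) : AlgInt ⧸ M) = 0 := Ideal.Quotient.eq_zero_iff_mem.mpr hpM
    simpa using h1
  let q : AlgInt →+* AlgInt ⧸ M := Ideal.Quotient.mk M
  have ha : a ^ (p ^ k * m) = 1 := by
    apply Subtype.ext
    show μ ^ (p ^ k * m) = 1
    exact hμ
  have h1 : (q a ^ m - 1) ^ p ^ k = 0 := by
    rw [sub_pow_char_pow, one_pow, ← pow_mul, mul_comm, ← map_pow, ha, map_one, sub_self]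
  have h2 : q a ^ m = 1 := by
    have := pow_eq_zero_iff (pow_ne_zero k hp.ne_zero) |>.mp h1
    exact sub_eq_zero.mp this
  have h3 : q (a ^ (1 + m * t) - a) = 0 := by
    rw [map_sub, map_pow, pow_add, pow_mul, h2, one_pow, pow_one, mul_one, sub_self]
  have h4 : a ^ (1 + m * t) - a ∈ M := Ideal.Quotient.eq_zero_iff_mem.mp h3
  have := memLocalIdeal_of_mem hmax.ne_top h4
  simpa [a] using this

end Roots

section Rep

variable {G : Type*} [Group G] [Fintype G] {M : Ideal AlgInt}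
variable {V : Type*} [AddCommGroup V] [Module ℂ V] [FiniteDimensional ℂ V]

/-- the character at a power of `g` through the eigenvalues of `ρ g` -/
theorem character_pow_eq_sum (ρ : Representation ℂ G V) (g : G) (j : ℕ) :
    ρ.character (g ^ j) = ∑ μ ∈ eigvals ρ g, μ ^ j * (eigmult ρ g μ : ℂ) := by
  have := trace_eq_sum_of_eigen (ρ g) (ρ (g ^ j)) (rho_iSup_eigenspace ρ g) (fun μ => μ ^ j)
    (fun μ v hv => by
      rw [map_pow]
      have h1 : ρ g v = μ • v := Module.End.mem_eigenspace_iff.mp hv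
      induction j with
      | zero => simp
      | succ n ih =>
        rw [pow_succ, Module.End.mul_apply, h1, map_smul, ih, smul_smul, pow_succ, mul_comm])
  exact this

/-- `χ(x y) ≡ χ(y)` for a `p`-element `x` commuting with the `p`-regular element `y` -/
theorem character_mul_pElement_sub {p : ℕ} (hM : IsPModular p M) (ρ : Representation ℂ G V)
    (x y : G) (hxy : Commute x y) (k : ℕ) (hx : x ^ p ^ k = 1) (hy : ¬ p ∣ orderOf y) :
    MemLocalIdeal M (ρ.character y - ρ.character (x * y)) := by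
  have hprime : M.IsPrime := hM.2.1.isPrime
  have hp : p.Prime := hM.1
  obtain ⟨m, hm⟩ : ∃ m, m = orderOf y := ⟨_, rfl⟩
  have hm0 : 0 < m := hm ▸ orderOf_pos y
  have hcop : Nat.Coprime (p ^ k) m := by
    apply Nat.Coprime.pow_left
    rw [hm]
    exact (Nat.Prime.coprime_iff_not_dvd hp).mpr hy
  -- `p ^ k * u ≡ 1 mod m`
  obtain ⟨u, hu, hpos⟩ : ∃ u : ℕ, p ^ k * u ≡ 1 [MOD m] ∧ 1 ≤ p ^ k * u := by
    by_cases hm1 : m = 1
    · refine ⟨1, by rw [hm1]; exact Nat.modEq_one, ?_⟩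
      rw [mul_one]
      exact Nat.one_le_pow _ _ hp.pos
    · have hm2 : 1 < m := by omega
      obtain ⟨u, -, hu⟩ := Nat.exists_mul_mod_eq_one_of_coprime hcop hm2
      refine ⟨u, ?_, ?_⟩
      · unfold Nat.ModEq
        rw [hu, Nat.mod_eq_of_lt hm2]
      · by_contra hlt
        have h0 : p ^ k * u = 0 := by omega
        rw [h0] at hu
        simp at hu
  obtain ⟨t, ht⟩ : ∃ t, p ^ k * u = 1 + m * t := by
    have h1 : (1 : ℕ) ≡ p ^ k * u [MOD m] := hu.symm
    have h2 := (Nat.modEq_iff_dvd' hpos).mp h1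
    obtain ⟨t, ht⟩ := h2
    exact ⟨t, by omega⟩
  have hz : (x * y) ^ (p ^ k * u) = y := by
    rw [hxy.mul_pow, pow_mul, hx, one_pow, one_mul, ht, pow_add, pow_one, pow_mul, hm,
      pow_orderOf_eq_one, one_pow, mul_one]
  have hzord : (x * y) ^ (p ^ k * m) = 1 := by
    rw [hxy.mul_pow, pow_mul, hx, one_pow, one_mul, mul_comm, pow_mul, hm, pow_orderOf_eq_one,
      one_pow]
  have hz' : ρ.character y = ρ.character ((x * y) ^ (p ^ k * u)) := by rw [hz]
  rw [hz', character_pow_eq_sum, character_eq_sum, ← Finset.sum_sub_distrib]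
  apply memLocalIdeal_sum
  intro μ hμ
  rw [← sub_mul]
  apply memLocalIdeal_mul_right _ (memLocalRing_natCast hM.2.1.ne_top _)
  have h1 : μ ^ orderOf (x * y) = 1 :=
    eigenvalue_pow_orderOf ρ (x * y) μ ((mem_eigvals ρ (x * y)).mp hμ)
  have h2 : μ ^ (p ^ k * m) = 1 := by
    obtain ⟨c, hc⟩ := orderOf_dvd_of_pow_eq_one hzord
    rw [hc, pow_mul, h1, one_pow]
  rw [ht]
  exact memLocalIdeal_root_pow_sub hM μ k m t h2 hm0

end Rep

end Cfsg.Agent.Lib.Helper28
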