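import Mathlib
import Cfsg.Agent.Lib.Helper28.BrauerC
import Cfsg.Agent.Lib.Helper28.BlockDefectB
import Cfsg.Agent.Lib.Helper28.BlockCountB

set_option autoImplicit false

/-!
# Height zero characters on `p`-sections of defect classes (helper28)
-/

namespace Cfsg.Agent.Lib.Helper28

open Cfsg Cfsg.Agent.Lib.Helper4
open scoped ComplexConjugate Classical

section

variable {M : Ideal AlgInt}

/-- `a / b` is a local integer when `v_p(b) ≤ v_p(a)` -/
theorem natCast_div_memLocalRing {p : ℕ} (hM : IsPModular p M) {a b : ℕ} (ha : a ≠ 0)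
    (hb : b ≠ 0) (h : b.factorization p ≤ a.factorization p) :
    MemLocalRing M ((a : ℂ) / (b : ℂ)) := by
  have hprime : M.IsPrime := hM.2.1.isPrime
  have hp : p.Prime := hM.1
  obtain ⟨e, he⟩ : ∃ e, e = b.factorization p := ⟨_, rfl⟩
  have hb1 : b = p ^ e * (b / p ^ e) := by rw [he]; exact (Nat.ordProj_mul_ordCompl_eq_self b p).symm
  have hdvd : p ^ e ∣ a := (hp.pow_dvd_iff_le_factorization ha).mpr (he ▸ h)
  obtain ⟨a', ha'⟩ := hdvd
  have hcop : (b / p ^ e).Coprime p := by rw [he]; exact (Nat.coprime_ordCompl hp hb).symm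
  have hpe : ((p ^ e : ℕ) : ℂ) ≠ 0 := by exact_mod_cast pow_ne_zero e hp.ne_zero
  have hb'0 : ((b / p ^ e : ℕ) : ℂ) ≠ 0 := by
    intro h0
    have : b / p ^ e = 0 := by exact_mod_cast h0
    rw [this, mul_zero] at hb1
    exact hb hb1
  have h2 : (a : ℂ) / (b : ℂ) = (a' : ℂ) * ((b / p ^ e : ℕ) : ℂ)⁻¹ := by
    conv_lhs => rw [hb1, ha']
    push_cast
    push_cast at hpe
    field_simp
  rw [h2]
  exact memLocalRing_mul (memLocalRing_natCast hM.2.1.ne_top a') (memLocalRing_inv_natCast hM hcop)

end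

section Main

variable {G : Type*} [Group G] [Fintype G] {M : Ideal AlgInt}

theorem irr_value_sub_memLocalIdeal {p : ℕ} (hM : IsPModular p M) (χ : IrrCharacter G)
    (x y : G) (hxy : Commute x y) (k : ℕ) (hx : x ^ p ^ k = 1) (hy : ¬ p ∣ orderOf y) :
    MemLocalIdeal M ((χ : G → ℂ) y - (χ : G → ℂ) (x * y)) := by
  obtain ⟨n, ρ, _, hρ⟩ := χ.2
  rw [← hρ]
  exact character_mul_pElement_sub hM ρ x y hxy k hx hy

omit [Fintype G] in
theorem exists_height_zero {p : ℕ} {B : Set (IrrCharacter G)}
    (hne : ∃ χ : IrrCharacter G, χ ∈ B) :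
    ∃ χ ∈ B, (charDegree (χ : G → ℂ)).factorization p =
      sInf ((fun χ : IrrCharacter G => (charDegree (χ : G → ℂ)).factorization p) '' B) := by
  obtain ⟨χ0, hχ0⟩ := hne
  have hmem := Nat.sInf_mem (s := (fun χ : IrrCharacter G =>
    (charDegree (χ : G → ℂ)).factorization p) '' B) ⟨_, Set.mem_image_of_mem _ hχ0⟩
  obtain ⟨χ, hχ, hχe⟩ := hmem
  exact ⟨χ, hχ, hχe⟩

omit [Fintype G] in
theorem factorization_eq_sInf_of_height_zero {p : ℕ} {B : Set (IrrCharacter G)}
    {χ : IrrCharacter G} (hχ : χ ∈ B) (h0 : blockHeight p B (χ : G → ℂ) = 0) :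
    (charDegree (χ : G → ℂ)).factorization p =
      sInf ((fun χ : IrrCharacter G => (charDegree (χ : G → ℂ)).factorization p) '' B) := by
  unfold blockHeight at h0
  have h1 : sInf ((fun χ : IrrCharacter G => (charDegree (χ : G → ℂ)).factorization p) '' B) ≤
      (charDegree (χ : G → ℂ)).factorization p := Nat.sInf_le ⟨χ, hχ, rfl⟩
  omega

/-- a character of `B` whose degree has the least `p`-part is a unit at any element `y` where
its central character is a unit and whose class has `p`-part at most that of the degree -/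
theorem irr_value_not_memLocalIdeal {p : ℕ} (hM : IsPModular p M) (χ : IrrCharacter G) (y : G)
    (hy : ¬ MemLocalIdeal M (centralChar (χ : G → ℂ) y))
    (hle : (charDegree (χ : G → ℂ)).factorization p ≤
      ((Subgroup.centralizer ({y} : Set G)).index).factorization p) :
    ¬ MemLocalIdeal M ((χ : G → ℂ) y) := by
  have hprime : M.IsPrime := hM.2.1.isPrime
  intro hmem
  apply hy
  obtain ⟨hne, h1, _⟩ := irr_degree_nat χ.2
  unfold centralChar
  rw [h1, mul_div_assoc, mul_comm, div_eq_mul_inv, mul_assoc, mul_comm _ ((Subgroup.centralizer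
    ({y} : Set G)).index : ℂ), ← div_eq_mul_inv]
  exact memLocalIdeal_mul_right hmem
    (natCast_div_memLocalRing hM Subgroup.index_ne_zero_of_finite hne hle)

/-- conversely, if the value is a unit and the class has `p`-part at most that of the degree,
the central character is a unit -/
theorem centralChar_not_memLocalIdeal_of_value {p : ℕ} (hM : IsPModular p M)
    (χ : IrrCharacter G) (z : G) (hz : ¬ MemLocalIdeal M ((χ : G → ℂ) z))
    (hle : ((Subgroup.centralizer ({z} : Set G)).index).factorization p ≤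
      (charDegree (χ : G → ℂ)).factorization p) :
    ¬ MemLocalIdeal M (centralChar (χ : G → ℂ) z) := by
  have hprime : M.IsPrime := hM.2.1.isPrime
  intro hmem
  apply hz
  obtain ⟨hne, h1, _⟩ := irr_degree_nat χ.2
  have hidx : ((Subgroup.centralizer ({z} : Set G)).index : ℂ) ≠ 0 := by
    exact_mod_cast Subgroup.index_ne_zero_of_finite
  have hdeg : ((charDegree (χ : G → ℂ) : ℕ) : ℂ) ≠ 0 := by exact_mod_cast hne
  have h2 : (χ : G → ℂ) z = centralChar (χ : G → ℂ) z *
      ((charDegree (χ : G → ℂ) : ℂ) / ((Subgroup.centralizer ({z} : Set G)).index : ℂ)) := by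
    unfold centralChar
    rw [h1]
    field_simp
  rw [h2]
  exact memLocalIdeal_mul_right hmem
    (natCast_div_memLocalRing hM hne Subgroup.index_ne_zero_of_finite hle)

end Main

end Cfsg.Agent.Lib.Helper28
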