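import Mathlib
import Cfsg.Agent.Lib.Helper28.BrauerQ
import Cfsg.Agent.S0927

set_option autoImplicit false

/-!
# Fusion of the centre of a defect group of an induced block (helper28)
-/

namespace Cfsg.Agent.Lib.Helper28

open Cfsg Cfsg.Agent.Lib.Helper4
open scoped ComplexConjugate Classical

section Grp

variable {G : Type*} [Group G]

/-- the `p`-part of an element of a subgroup lies in the subgroup -/
theorem exists_isPPart_subgroup [Finite G] {p : ℕ} (hp : p.Prime) (H : Subgroup G) (h : H)
    {u v : G} (huv : u * v = (h : G)) (hcomm : Commute u v) (hu : ∃ k : ℕ, orderOf u = p ^ k)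
    (hv : ¬ p ∣ orderOf v) : ∃ z : H, (z : G) = u ∧ IsPPart p h z := by
  obtain ⟨i, hi⟩ := exists_pow_eq_of_isPPart hp (x := (h : G)) (z := u) ⟨v, huv, hcomm, hu, hv⟩
  have huH : u ∈ H := by
    rw [← hi]
    exact H.pow_mem h.2 i
  have hvH : v ∈ H := by
    have : v = u⁻¹ * (h : G) := by rw [← huv, inv_mul_cancel_left]
    rw [this]
    exact H.mul_mem (H.inv_mem huH) h.2
  refine ⟨⟨u, huH⟩, rfl, ⟨v, hvH⟩, ?_, ?_, ?_, ?_⟩
  · exact Subtype.ext huv
  · exact Subtype.ext hcomm
  · obtain ⟨k, hk⟩ := hu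
    refine ⟨k, ?_⟩
    rw [← hk]
    exact Subgroup.orderOf_mk u huH
  · rw [Subgroup.orderOf_mk v hvH]
    exact hv

end Grp

section Main

variable {G : Type*} [Group G] [Fintype G] {M : Ideal AlgInt}

/-- if the induced central character is a unit at `g`, the central character is a unit at some
element of `H` conjugate to `g` -/
theorem exists_conj_of_inducedCentralChar [M.IsPrime] (hMtop : M ≠ ⊤) (H : Subgroup G) [Fintype H]
    (ξ : IrrCharacter H) (g : G)
    (hg : ¬ MemLocalIdeal M (inducedCentralChar H (ξ : H → ℂ) g)) :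
    ∃ h : H, IsConj g (h : G) ∧ ¬ MemLocalIdeal M (centralChar (ξ : H → ℂ) h) := by
  have : Fintype (ConjClasses H) := Fintype.ofFinite _
  by_contra hcon
  push Not at hcon
  apply hg
  rw [inducedCentralChar_eq_omegaF, omegaF_eq_sum_classes
    (Helper4.isClassFunction_of_isIrrCharacter ξ.2) _
    (isClassFunction_resMap H (isClassFunction_classInd g))]
  apply memLocalIdeal_sum
  intro C _
  unfold resMap classInd
  by_cases hc : IsConj g ((Quotient.out C : H) : G)
  · rw [if_pos hc, one_mul]
    exact hcon _ hc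
  · rw [if_neg hc, zero_mul]
    exact memLocalIdeal_zero hMtop

/-- **S0930**: if `b` (defect group `D`) induces `B` (defect group `P`), every element of `Z(P)`
is conjugate to an element of `Z(D)` -/
theorem center_defectGroup_fusion {p : ℕ} [Fact p.Prime] (hM : IsPModular p M)
    (H : Subgroup G) [Fintype H] {b : Set (IrrCharacter H)} {B : Set (IrrCharacter G)}
    (hind : IsInducedBlock M H b B) (D : Subgroup H) (hD : IsDefectGroup p M b D)
    (P : Subgroup G) (hP : IsDefectGroup p M B P) (x : G) (hx : x ∈ P)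
    (hxc : ∀ w ∈ P, x * w = w * x) :
    ∃ g : G, g * x * g⁻¹ ∈ D.map H.subtype ∧
      ∀ w ∈ D.map H.subtype, (g * x * g⁻¹) * w = w * (g * x * g⁻¹) := by
  have hprime : M.IsPrime := hM.2.1.isPrime
  have hMtop : M ≠ ⊤ := hM.2.1.ne_top
  have hp : p.Prime := hM.1
  obtain ⟨hb, hB, hcong⟩ := hind
  obtain ⟨y, hy, P', rfl⟩ := hP
  obtain ⟨x', hx', hxe⟩ := hx
  have hxe' : (x' : G) = x := hxe
  have hcent : ∀ w ∈ (P' : Subgroup (Subgroup.centralizer ({y} : Set G))), x' * w = w * x' := by
    intro w hw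
    apply Subtype.ext
    have := hxc (w : G) ⟨w, hw, rfl⟩
    rw [← hxe'] at this
    simpa using this
  have h927 := (Cfsg.Agent.S0927.result p M hM B hB y hy P' x' hx').2 hcent
  rw [hxe'] at h927
  obtain ⟨ξ, hξ⟩ := block_nonempty hb
  obtain ⟨χ, hχ⟩ := block_nonempty hB
  have hunit : ¬ MemLocalIdeal M (inducedCentralChar H (ξ : H → ℂ) (x * y)) := by
    intro hmem
    apply h927 χ hχ
    have := memLocalIdeal_sub hmem (hcong ξ hξ χ hχ (x * y))
    convert this using 1
    ring
  obtain ⟨h, hconj, hh⟩ := exists_conj_of_inducedCentralChar hMtop H ξ (x * y) hunit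
  obtain ⟨h', hconj', -, hpart⟩ := exists_conj_centralizer_pPart hM hb D hD h ⟨ξ, hξ, hh⟩
  have hconjG : IsConj (x * y) (h' : G) := hconj.trans (H.subtype.map_isConj hconj')
  obtain ⟨g, hg⟩ := isConj_iff.mp hconjG
  -- `x` is a `p`-element
  have hxord : ∃ k : ℕ, orderOf x = p ^ k := by
    obtain ⟨k, hk⟩ := P'.2 ⟨x', hx'⟩
    have hxk : x ^ p ^ k = 1 := by
      have h1 : x' ^ p ^ k = 1 := by
        have := congrArg Subtype.val hk
        simpa using this
      have := congrArg Subtype.val h1
      rw [← hxe']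
      simpa using this
    obtain ⟨j, -, hj⟩ := (Nat.dvd_prime_pow hp).mp (orderOf_dvd_of_pow_eq_one hxk)
    exact ⟨j, hj⟩
  have hyreg := defectClass_pRegular hM hB hy
  have hcomm : Commute x y := by
    have := x'.2
    rw [Subgroup.mem_centralizer_iff] at this
    rw [← hxe']
    exact (this y rfl).symm
  have huv : (g * x * g⁻¹) * (g * y * g⁻¹) = (h' : G) := by
    rw [← hg]
    group
  have hcomm' : Commute (g * x * g⁻¹) (g * y * g⁻¹) := by
    show (g * x * g⁻¹) * (g * y * g⁻¹) = (g * y * g⁻¹) * (g * x * g⁻¹)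
    have h1 : (g * x * g⁻¹) * (g * y * g⁻¹) = g * (x * y) * g⁻¹ := by group
    have h2 : (g * y * g⁻¹) * (g * x * g⁻¹) = g * (y * x) * g⁻¹ := by group
    rw [h1, h2, hcomm.eq]
  have hu : ∃ k : ℕ, orderOf (g * x * g⁻¹) = p ^ k := by
    obtain ⟨k, hk⟩ := hxord
    refine ⟨k, ?_⟩
    rw [← hk]
    exact (SemiconjBy.orderOf_eq g (show SemiconjBy g x (g * x * g⁻¹) by
      unfold SemiconjBy; group)).symm
  have hv : ¬ p ∣ orderOf (g * y * g⁻¹) := by
    rw [← SemiconjBy.orderOf_eq g (show SemiconjBy g y (g * y * g⁻¹) by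
      unfold SemiconjBy; group)]
    exact hyreg
  obtain ⟨z, hz, hzpart⟩ := exists_isPPart_subgroup hp H h' huv hcomm' hu hv
  obtain ⟨hzD, hzc⟩ := hpart z hzpart
  refine ⟨g, ?_, ?_⟩
  · rw [← hz]
    exact ⟨z, hzD, rfl⟩
  · rintro _ ⟨w, hw, rfl⟩
    rw [← hz]
    have := congrArg Subtype.val (hzc w hw)
    simpa using this

/-- every block has a defect group -/
theorem exists_isDefectGroup {p : ℕ} [Fact p.Prime] (hM : IsPModular p M)
    {B : Set (IrrCharacter G)} (hB : IsPBlock M B) : ∃ D : Subgroup G, IsDefectGroup p M B D := by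
  obtain ⟨g, hg⟩ := exists_defectClass hM hB
  obtain ⟨P⟩ : Nonempty (Sylow p (Subgroup.centralizer ({g} : Set G))) := inferInstance
  exact ⟨_, g, hg, P, rfl⟩

/-- **S0931**: a block and the block it induces have defect zero together -/
theorem induced_defect_zero_iff {p : ℕ} [Fact p.Prime] (hM : IsPModular p M)
    (H : Subgroup G) [Fintype H] {b : Set (IrrCharacter H)} {B : Set (IrrCharacter G)}
    (hind : IsInducedBlock M H b B) : blockDefect p b = 0 ↔ blockDefect p B = 0 := by
  have hp : p.Prime := hM.1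
  have hb : IsPBlock M b := hind.1
  have hB : IsPBlock M B := hind.2.1
  obtain ⟨D, hD⟩ := exists_isDefectGroup hM hb
  have hcD := card_defectGroup hM hb hD
  constructor
  · intro h0
    rw [h0, pow_zero] at hcD
    have hDbot : D = ⊥ := Subgroup.card_eq_one.mp hcD
    obtain ⟨P, hP⟩ := exists_isDefectGroup hM hB
    have hcP := card_defectGroup hM hB hP
    by_contra hne
    have hPp : IsPGroup p P := IsPGroup.of_card hcP
    have hnt : Nontrivial P := by
      rw [← Finite.one_lt_card_iff_nontrivial, hcP]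
      exact Nat.one_lt_pow hne hp.one_lt
    have hcn := hPp.center_nontrivial
    obtain ⟨x, hx⟩ := exists_ne (1 : Subgroup.center P)
    have hxc : ∀ w ∈ P, ((x : P) : G) * w = w * ((x : P) : G) := by
      intro w hw
      have := x.2
      rw [Subgroup.mem_center_iff] at this
      have h1 := this ⟨w, hw⟩
      have h2 := congrArg Subtype.val h1
      simpa using h2.symm
    obtain ⟨g, hg, -⟩ := center_defectGroup_fusion hM H hind D hD P hP ((x : P) : G)
      (x : P).2 hxc
    rw [hDbot, Subgroup.map_bot, Subgroup.mem_bot] at hg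
    apply hx
    apply Subtype.ext
    apply Subtype.ext
    show ((x : P) : G) = 1
    have : ((x : P) : G) = g⁻¹ * (g * ((x : P) : G) * g⁻¹) * g := by group
    rw [this, hg]
    group
  · intro h0
    obtain ⟨E, hE, hDE⟩ := exists_defectGroup_ge_of_induced hM H hb hB hind D hD
    have hcE := card_defectGroup hM hB hE
    rw [h0, pow_zero] at hcE
    have hEbot : E = ⊥ := Subgroup.card_eq_one.mp hcE
    rw [hEbot, le_bot_iff] at hDE
    have h1 : Nat.card (D.map H.subtype) = 1 := by rw [hDE]; exact Subgroup.card_bot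
    rw [Subgroup.card_map_of_injective (Subgroup.subtype_injective _), hcD] at h1
    rcases (Nat.pow_eq_one).mp h1 with h2 | h2
    · exact absurd h2 hp.one_lt.ne'
    · exact h2

end Main

end Cfsg.Agent.Lib.Helper28
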