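import Mathlib
import Cfsg.Agent.Lib.Helper28.BrauerR
import Cfsg.Agent.Lib.Helper28.BlockOrthPReg
import Cfsg.Agent.Lib.Helper28.DefectZero

set_option autoImplicit false

/-!
# Brauer's Third Main Theorem (helper28)

The number of `p`-regular elements is prime to `p`; the sum of the values of an irreducible
character over the `p`-regular elements vanishes outside the principal block.  Hence a block is
principal iff its central character does not vanish on the sum of the `p`-regular elements, and
this is compatible with block induction.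
-/

namespace Cfsg.Agent.Lib.Helper28

open Cfsg Cfsg.Agent.Lib.Helper4
open scoped ComplexConjugate Classical

section Count

variable {G : Type*} [Group G]

/-- conjugation action of a subgroup on the `p`-regular elements -/
noncomputable def conjPRegAction (p : ℕ) (Q : Subgroup G) :
    MulAction Q {x : G // ¬ p ∣ orderOf x} where
  smul t x := ⟨(t : G) * x.1 * (t : G)⁻¹, by
    have h1 : orderOf ((t : G) * x.1 * (t : G)⁻¹) = orderOf x.1 :=
      (MulAut.conj (t : G)).orderOf_eq x.1
    rw [h1]; exact x.2⟩
  one_smul x := by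
    apply Subtype.ext
    show ((1 : Q) : G) * x.1 * ((1 : Q) : G)⁻¹ = x.1
    simp
  mul_smul s t x := by
    apply Subtype.ext
    show ((s * t : Q) : G) * x.1 * ((s * t : Q) : G)⁻¹ =
      (s : G) * ((t : G) * x.1 * (t : G)⁻¹) * (s : G)⁻¹
    rw [Subgroup.coe_mul]
    group

/-- the number of `p`-regular elements of a group with a central Sylow `p`-subgroup -/
theorem card_pRegular_of_central_sylow [Finite G] {p : ℕ} [Fact p.Prime] (S : Sylow p G)
    (hS : (S : Subgroup G) ≤ Subgroup.center G) :
    (Nat.card {x : G // ¬ p ∣ orderOf x}).Coprime p := by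
  have hp : p.Prime := Fact.out
  have hN : Subgroup.normalizer ((S : Subgroup G) : Set G) ≤
      Subgroup.centralizer ((S : Subgroup G) : Set G) := by
    intro g _
    rw [Subgroup.mem_centralizer_iff]
    intro y hy
    exact (Subgroup.mem_center_iff.mp (hS hy) g).symm
  have hcompl := MonoidHom.ker_transferSylow_isComplement' S hN
  obtain ⟨a, ha⟩ := (IsPGroup.iff_card.mp S.2)
  have hidx : (MonoidHom.transferSylow S hN).ker.index = p ^ a := by
    rw [hcompl.symm.index_eq_card]; exact ha
  have hcop : (Nat.card (MonoidHom.transferSylow S hN).ker).Coprime p := by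
    rw [← hcompl.index_eq_card]
    exact Nat.Coprime.symm ((Nat.Prime.coprime_iff_not_dvd hp).mpr S.not_dvd_index)
  have hiff := fun e : G => coprime_orderOf_iff_mem hp (MonoidHom.transferSylow S hN).ker a hidx
    hcop e
  have hcard : Nat.card {x : G // ¬ p ∣ orderOf x} =
      Nat.card (MonoidHom.transferSylow S hN).ker := by
    apply Nat.card_congr
    apply Equiv.subtypeEquivRight
    intro x
    rw [← hiff x, Nat.coprime_comm, Nat.Prime.coprime_iff_not_dvd hp]
  rw [hcard]
  exact hcop

/-- **the number of `p`-regular elements of a finite group is prime to `p`** -/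
theorem card_pRegular_coprime [Finite G] (p : ℕ) [Fact p.Prime] :
    (Nat.card {x : G // ¬ p ∣ orderOf x}).Coprime p := by
  have hp : p.Prime := Fact.out
  obtain ⟨P⟩ : Nonempty (Sylow p G) := inferInstance
  letI := conjPRegAction p (P : Subgroup G)
  have hmod := P.2.card_modEq_card_fixedPoints (α := {x : G // ¬ p ∣ orderOf x})
  obtain ⟨S⟩ : Nonempty (Sylow p (Subgroup.centralizer ((P : Subgroup G) : Set G))) :=
    inferInstance
  -- `S ≤ P`
  have hSP : ∀ s ∈ (S : Subgroup (Subgroup.centralizer ((P : Subgroup G) : Set G))),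
      (s : G) ∈ (P : Subgroup G) := by
    intro s hs
    have hS' : IsPGroup p ((S : Subgroup (Subgroup.centralizer ((P : Subgroup G) : Set G))).map
        (Subgroup.centralizer ((P : Subgroup G) : Set G)).subtype) := S.2.map _
    have hnorm : (S : Subgroup (Subgroup.centralizer ((P : Subgroup G) : Set G))).map
        (Subgroup.centralizer ((P : Subgroup G) : Set G)).subtype ≤
        Subgroup.normalizer ((P : Subgroup G) : Set G) := by
      rintro _ ⟨c, -, rfl⟩
      exact Subgroup.centralizer_le_normalizer _ c.2
    have hsup := IsPGroup.to_sup_of_normal_right' hS' P.2 hnorm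
    have heq := P.3 hsup le_sup_right
    have hle : (S : Subgroup (Subgroup.centralizer ((P : Subgroup G) : Set G))).map
        (Subgroup.centralizer ((P : Subgroup G) : Set G)).subtype ≤ (P : Subgroup G) :=
      le_sup_left.trans heq.le
    exact hle ⟨s, hs, rfl⟩
  have hScent : (S : Subgroup (Subgroup.centralizer ((P : Subgroup G) : Set G))) ≤
      Subgroup.center (Subgroup.centralizer ((P : Subgroup G) : Set G)) := by
    intro s hs
    rw [Subgroup.mem_center_iff]
    intro c
    apply Subtype.ext
    have := c.2
    rw [Subgroup.mem_centralizer_iff] at this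
    have h1 := this (s : G) (hSP s hs)
    show (c : G) * (s : G) = (s : G) * (c : G)
    exact h1.symm
  have hC := card_pRegular_of_central_sylow S hScent
  -- fixed points are the `p`-regular elements of the centralizer
  have hfix : Nat.card (MulAction.fixedPoints (P : Subgroup G) {x : G // ¬ p ∣ orderOf x}) =
      Nat.card {x : Subgroup.centralizer ((P : Subgroup G) : Set G) // ¬ p ∣ orderOf x} := by
    apply Nat.card_congr
    refine ⟨fun x => ⟨⟨x.1.1, ?_⟩, ?_⟩, fun x => ⟨⟨x.1.1, ?_⟩, ?_⟩, ?_, ?_⟩
    · rw [Subgroup.mem_centralizer_iff]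
      intro t ht
      have h1 := x.2 ⟨t, ht⟩
      have h2 : t * x.1.1 * t⁻¹ = x.1.1 := congrArg Subtype.val h1
      calc t * x.1.1 = t * x.1.1 * t⁻¹ * t := by group
        _ = x.1.1 * t := by rw [h2]
    · rw [Subgroup.orderOf_mk]
      exact x.1.2
    · have := x.2
      rw [← Subgroup.orderOf_coe] at this
      exact this
    · intro t
      apply Subtype.ext
      show (t : G) * (x.1 : G) * (t : G)⁻¹ = (x.1 : G)
      have := x.1.2
      rw [Subgroup.mem_centralizer_iff] at this
      have h1 := this (t : G) t.2
      rw [h1]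
      group
    · intro x
      rfl
    · intro x
      rfl
  rw [hfix] at hmod
  rw [Nat.coprime_comm, Nat.Prime.coprime_iff_not_dvd hp] at hC ⊢
  intro hdvd
  apply hC
  exact (Nat.modEq_zero_iff_dvd.mp ((hmod.symm.trans (Nat.modEq_zero_iff_dvd.mpr hdvd))))

end Count

section Main

variable {G : Type*} [Group G] [Fintype G] {M : Ideal AlgInt}

/-- indicator of the `p`-regular elements -/
noncomputable def pRegInd (G : Type*) [Group G] (p : ℕ) : G → ℂ :=
  fun g => if p ∣ orderOf g then 0 else 1

omit [Fintype G] in
theorem isClassFunction_pRegInd (p : ℕ) : IsClassFunction G (pRegInd G p) := by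
  intro g k
  unfold pRegInd
  have h1 : orderOf (k * g * k⁻¹) = orderOf g := (MulAut.conj k).orderOf_eq g
  rw [h1]

omit [Fintype G] in
theorem pRegInd_memLocalRing (hMtop : M ≠ ⊤) (p : ℕ) (g : G) :
    MemLocalRing M (pRegInd G p g) := by
  unfold pRegInd
  split_ifs
  · exact memLocalRing_zero hMtop
  · exact memLocalRing_one hMtop

theorem omegaF_pRegInd_one (p : ℕ) :
    omegaF (fun _ : G => (1 : ℂ)) (pRegInd G p) =
      (Nat.card {x : G // ¬ p ∣ orderOf x} : ℂ) := by
  unfold omegaF pRegInd
  rw [div_one]
  simp only [mul_one]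
  rw [Nat.card_eq_fintype_card, Fintype.card_subtype, Finset.card_filter]
  push_cast
  refine Finset.sum_congr rfl fun g _ => ?_
  by_cases h : p ∣ orderOf g
  · rw [if_pos h, if_neg (not_not.mpr h)]
  · rw [if_neg h, if_pos h]

theorem omegaF_pRegInd_eq_zero {p : ℕ} (hM : IsPModular p M) (χ : IrrCharacter G)
    (h : χ ∉ principalBlock M G) : omegaF (χ : G → ℂ) (pRegInd G p) = 0 := by
  have h1 : ¬ SameBlock M (χ : G → ℂ) ((trivIrr G : IrrCharacter G) : G → ℂ) := by
    intro hs
    apply h
    exact Helper28.sameBlock_symm hs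
  have h2 := preg_orthogonality hM χ (trivIrr G) h1
  unfold omegaF
  have h3 : ∑ g, pRegInd G p g * (χ : G → ℂ) g = 0 := by
    rw [← h2]
    refine Finset.sum_congr rfl fun g _ => ?_
    unfold pRegInd
    by_cases hg : p ∣ orderOf g
    · rw [if_pos hg, if_pos hg, zero_mul]
    · rw [if_neg hg, if_neg hg, one_mul]
      show (χ : G → ℂ) g = (χ : G → ℂ) g * conj (1 : ℂ)
      rw [map_one, mul_one]
  rw [h3, zero_div]

/-- a block is principal iff its central character does not vanish on the sum of the `p`-regular
elements -/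
theorem mem_principalBlock_of_omegaF {p : ℕ} [Fact p.Prime] (hM : IsPModular p M)
    (χ : IrrCharacter G) (h : ¬ MemLocalIdeal M (omegaF (χ : G → ℂ) (pRegInd G p))) :
    χ ∈ principalBlock M G := by
  by_contra hcon
  apply h
  rw [omegaF_pRegInd_eq_zero hM χ hcon]
  exact memLocalIdeal_zero hM.2.1.ne_top

theorem omegaF_pRegInd_of_mem_principalBlock {p : ℕ} [Fact p.Prime] (hM : IsPModular p M)
    (χ : IrrCharacter G) (h : χ ∈ principalBlock M G) :
    ¬ MemLocalIdeal M (omegaF (χ : G → ℂ) (pRegInd G p)) := by
  have hprime : M.IsPrime := hM.2.1.isPrime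
  have hMtop : M ≠ ⊤ := hM.2.1.ne_top
  intro hmem
  have h1 : SameBlock M (fun _ : G => (1 : ℂ)) (χ : G → ℂ) := h
  have h2 := omegaF_sub_memLocalIdeal
    (Helper4.isClassFunction_of_isIrrCharacter (trivIrr G).2)
    (Helper4.isClassFunction_of_isIrrCharacter χ.2) h1 (pRegInd G p)
    (isClassFunction_pRegInd p) (fun g => pRegInd_memLocalRing hMtop p g)
  have h3 := memLocalIdeal_add h2 hmem
  rw [sub_add_cancel] at h3
  have h4 : omegaF ((trivIrr G : IrrCharacter G) : G → ℂ) (pRegInd G p) =
      (Nat.card {x : G // ¬ p ∣ orderOf x} : ℂ) := omegaF_pRegInd_one p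
  rw [h4] at h3
  exact not_memLocalIdeal_natCast hM (card_pRegular_coprime p) h3

end Main

section Third

variable {G : Type*} [Group G] [Fintype G] {M : Ideal AlgInt}

omit [Fintype G] in
theorem resMap_pRegInd (H : Subgroup G) (p : ℕ) : resMap H (pRegInd G p) = pRegInd H p := by
  funext h
  unfold resMap pRegInd
  rw [Subgroup.orderOf_coe]

/-- **Brauer's Third Main Theorem** -/
theorem third_main_theorem {p : ℕ} [Fact p.Prime] (hM : IsPModular p M) (H : Subgroup G)
    [Fintype H] (b : Set (IrrCharacter H)) (hdef : InducedBlockDefined M H b) :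
    IsInducedBlock M H b (principalBlock M G) ↔ b = principalBlock M H := by
  have hprime : M.IsPrime := hM.2.1.isPrime
  have hMtop : M ≠ ⊤ := hM.2.1.ne_top
  constructor
  · intro hind
    have hb : IsPBlock M b := hind.1
    obtain ⟨ξ, hξ⟩ := block_nonempty hb
    have hχ : trivIrr G ∈ principalBlock M G := trivIrr_mem_principalBlock hMtop
    have h1 := omegaF_resMap_sub_of_induced H hind hξ hχ (pRegInd G p)
      (isClassFunction_pRegInd p) (fun g => pRegInd_memLocalRing hMtop p g)
    rw [resMap_pRegInd] at h1
    have h2 := omegaF_pRegInd_of_mem_principalBlock hM (trivIrr G) hχ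
    have h3 : ¬ MemLocalIdeal M (omegaF (ξ : H → ℂ) (pRegInd H p)) := by
      intro hmem
      apply h2
      have := memLocalIdeal_sub hmem h1
      rwa [sub_sub_cancel] at this
    have h4 := mem_principalBlock_of_omegaF hM ξ h3
    exact block_eq_of_mem hb isPBlock_principalBlock hξ h4
  · intro hbeq
    obtain ⟨B, hind⟩ := hdef
    have hB : IsPBlock M B := hind.2.1
    obtain ⟨χ, hχ⟩ := block_nonempty hB
    have hξ : trivIrr H ∈ b := by
      rw [hbeq]; exact trivIrr_mem_principalBlock hMtop
    have h1 := omegaF_resMap_sub_of_induced H hind hξ hχ (pRegInd G p)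
      (isClassFunction_pRegInd p) (fun g => pRegInd_memLocalRing hMtop p g)
    rw [resMap_pRegInd] at h1
    have h2 := omegaF_pRegInd_of_mem_principalBlock hM (trivIrr H)
      (trivIrr_mem_principalBlock hMtop)
    have h3 : ¬ MemLocalIdeal M (omegaF (χ : G → ℂ) (pRegInd G p)) := by
      intro hmem
      apply h2
      have := memLocalIdeal_add h1 hmem
      rwa [sub_add_cancel] at this
    have h4 := mem_principalBlock_of_omegaF hM χ h3
    have hBeq : B = principalBlock M G := block_eq_of_mem hB isPBlock_principalBlock hχ h4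
    rw [← hBeq]
    exact hind

end Third

end Cfsg.Agent.Lib.Helper28
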