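import Mathlib
import Cfsg.Prelude.Def_Blocks
import Cfsg.Agent.Lib.Helper28.BrauerN
import Cfsg.Agent.Lib.Helper28.BrauerO
import Cfsg.Agent.Lib.Helper28.BrauerG
import Cfsg.Agent.Lib.Helper28.BlockCount

set_option autoImplicit false

/-!
# Brauer's First Main Theorem as an equality of cardinalities (helper28)
-/

namespace Cfsg.Agent.Lib.Helper28

open Cfsg Cfsg.Agent.Lib.Helper4 Cfsg.Agent.Lib.Helper26
open scoped ComplexConjugate Classical

section

variable {G : Type*} [Group G] [Fintype G] {M : Ideal AlgInt}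

/-- the block induced by a given block is unique -/
theorem induced_block_target_unique [M.IsPrime] (H : Subgroup G) {b : Set (IrrCharacter H)}
    {B B' : Set (IrrCharacter G)} (h1 : IsInducedBlock M H b B)
    (h2 : IsInducedBlock M H b B') : B = B' := by
  obtain ⟨ξ, hξ⟩ := Helper28.block_nonempty h1.1
  obtain ⟨χ, hχ⟩ := Helper28.block_nonempty h1.2.1
  obtain ⟨χ', hχ'⟩ := Helper28.block_nonempty h2.2.1
  have hsame : SameBlock M (χ : G → ℂ) (χ' : G → ℂ) := by
    intro g
    have e1 := h1.2.2 ξ hξ χ hχ g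
    have e2 := h2.2.2 ξ hξ χ' hχ' g
    have := memLocalIdeal_sub e2 e1
    rwa [sub_sub_sub_cancel_left] at this
  have hmem : χ' ∈ B := (Helper28.mem_block_iff h1.2.1 hχ χ').mpr hsame
  exact block_eq_of_mem h1.2.1 h2.2.1 hmem hχ'

/-- **First Main Theorem**: the blocks of `G` with defect group `D` are as many as the blocks of
`N_G(D)` with defect group `D` -/
theorem card_blocks_defectGroup_eq_normalizer {p : ℕ} [Fact p.Prime] (hM : IsPModular p M)
    (D : Subgroup G) (hDp : IsPGroup p D) [Fintype (Subgroup.normalizer (D : Set G))] :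
    Nat.card {B : Set (IrrCharacter G) // IsPBlock M B ∧ IsDefectGroup p M B D} =
      Nat.card {b : Set (IrrCharacter (Subgroup.normalizer (D : Set G))) //
        IsPBlock M b ∧ IsDefectGroup p M b (D.subgroupOf (Subgroup.normalizer (D : Set G)))} := by
  have hprime : M.IsPrime := hM.2.1.isPrime
  symm
  have hex : ∀ b : {b : Set (IrrCharacter (Subgroup.normalizer (D : Set G))) //
        IsPBlock M b ∧ IsDefectGroup p M b (D.subgroupOf (Subgroup.normalizer (D : Set G)))},
      ∃ B : Set (IrrCharacter G), IsInducedBlock M (Subgroup.normalizer (D : Set G)) b.1 B :=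
    fun b => exists_induced_block hM D (Subgroup.normalizer (D : Set G)) hDp
      Subgroup.le_normalizer (Subgroup.centralizer_le_normalizer _) le_rfl b.2.1
  choose Φ hΦ using hex
  apply Nat.card_congr
  refine Equiv.ofBijective (fun b => ⟨Φ b, (hΦ b).2.1,
    defectGroup_of_induced_from_normalizer hM D hDp b.2.1 (hΦ b).2.1 b.2.2 (hΦ b)⟩) ⟨?_, ?_⟩
  · intro b1 b2 h
    have hB : Φ b1 = Φ b2 := congrArg Subtype.val h
    apply Subtype.ext
    have h2 := hΦ b2
    rw [← hB] at h2
    exact inducing_block_unique hM D hDp b1.2.1 b2.2.1 (hΦ b1).2.1 b1.2.2 (hΦ b1) h2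
  · intro B
    obtain ⟨b, hind⟩ := exists_inducing_block hM D hDp B.2.1 B.2.2
    have hb : IsPBlock M b := hind.1
    have hDb := defectGroup_of_inducing hM D hDp hb B.2.1 B.2.2 hind
    refine ⟨⟨b, hb, hDb⟩, ?_⟩
    apply Subtype.ext
    exact induced_block_target_unique _ (hΦ ⟨b, hb, hDb⟩) hind

end

end Cfsg.Agent.Lib.Helper28
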