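import Mathlib

set_option autoImplicit false

/-!
# Some rank lemmas for matrices over fields (helper28)
-/

namespace Cfsg.Agent.Lib.Helper28

open scoped Classical

section

/-- the rank of a square matrix does not change under a field extension -/
theorem rank_map_field {K L : Type*} [Field K] [Field L] (f : K →+* L) {n : Type*} [Fintype n]
    [DecidableEq n] (A : Matrix n n K) : (A.map f).rank = A.rank := by
  obtain ⟨L1, L2, D, hA⟩ := Matrix.Pivot.exists_list_transvec_mul_diagonal_mul_list_transvec A
  have hdet1 : ((L1.map Matrix.TransvectionStruct.toMatrix).prod).det = 1 :=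
    Matrix.TransvectionStruct.det_toMatrix_prod L1
  have hdet2 : ((L2.map Matrix.TransvectionStruct.toMatrix).prod).det = 1 :=
    Matrix.TransvectionStruct.det_toMatrix_prod L2
  have hdet1' : (((L1.map Matrix.TransvectionStruct.toMatrix).prod).map f).det = 1 := by
    have := RingHom.map_det f ((L1.map Matrix.TransvectionStruct.toMatrix).prod)
    rw [hdet1, map_one] at this
    exact this.symm
  have hdet2' : (((L2.map Matrix.TransvectionStruct.toMatrix).prod).map f).det = 1 := by
    have := RingHom.map_det f ((L2.map Matrix.TransvectionStruct.toMatrix).prod)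
    rw [hdet2, map_one] at this
    exact this.symm
  have h1 : A.rank = (Matrix.diagonal D).rank := by
    rw [hA, Matrix.rank_mul_eq_left_of_isUnit_det _ _ (by rw [hdet2]; exact isUnit_one),
      Matrix.rank_mul_eq_right_of_isUnit_det _ _ (by rw [hdet1]; exact isUnit_one)]
  have h2 : (A.map f).rank = (Matrix.diagonal (fun i => f (D i))).rank := by
    rw [hA, Matrix.map_mul, Matrix.map_mul, Matrix.diagonal_map (map_zero f),
      Matrix.rank_mul_eq_left_of_isUnit_det _ _ (by rw [hdet2']; exact isUnit_one),
      Matrix.rank_mul_eq_right_of_isUnit_det _ _ (by rw [hdet1']; exact isUnit_one)]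
  rw [h1, h2, Matrix.rank_diagonal, Matrix.rank_diagonal]
  apply Fintype.card_congr
  exact Equiv.subtypeEquivRight (fun i => by simp [map_eq_zero])

/-- if `E Λ = 1` then `Λ E` has rank the size of the identity -/
theorem rank_mul_eq_card_of_mul_eq_one {F : Type*} [Field F] {m n : Type*} [Fintype m]
    [Fintype n] [DecidableEq n] (Λ : Matrix m n F) (E : Matrix n m F) (h : E * Λ = 1) :
    (Λ * E).rank = Fintype.card n := by
  apply le_antisymm
  · exact (Matrix.rank_mul_le_left Λ E).trans (Matrix.rank_le_card_width Λ)
  · have h1 : E * ((Λ * E) * Λ) = 1 := by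
      rw [Matrix.mul_assoc, h, Matrix.mul_one, h]
    calc Fintype.card n = (1 : Matrix n n F).rank := Matrix.rank_one.symm
      _ = (E * ((Λ * E) * Λ)).rank := by rw [h1]
      _ ≤ ((Λ * E) * Λ).rank := Matrix.rank_mul_le_right _ _
      _ ≤ (Λ * E).rank := Matrix.rank_mul_le_left _ _

/-- `T diag(c) = g A` with nonzero `c`'s and `g` gives equal ranks -/
theorem rank_eq_of_mul_diagonal_eq_smul {F : Type*} [Field F] {m : Type*} [Fintype m]
    [DecidableEq m] (T A : Matrix m m F) (c : m → F) (g : F) (hc : ∀ j, c j ≠ 0) (hg : g ≠ 0)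
    (h : T * Matrix.diagonal c = g • A) : T.rank = A.rank := by
  have hdet : IsUnit (Matrix.diagonal c).det := by
    rw [Matrix.det_diagonal]
    exact IsUnit.mk0 _ (Finset.prod_ne_zero_iff.mpr fun j _ => hc j)
  rw [← Matrix.rank_mul_eq_left_of_isUnit_det _ T hdet, h,
    Matrix.rank_smul_of_mem_nonZeroDivisors A (mem_nonZeroDivisors_of_ne_zero hg)]

end

end Cfsg.Agent.Lib.Helper28
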