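import Mathlib
import Cfsg.Agent.Lib.Helper28.BlockRankB

set_option autoImplicit false

/-!
# The block rank as a trace (helper28)

`rankOp p B = (θ ↦ θ°) ∘ (orthogonal projection onto the span of B)` is an idempotent whose
range is the span of the `χ°`, `χ ∈ B`; its trace is the block rank.
-/

namespace Cfsg.Agent.Lib.Helper28

open Cfsg Cfsg.Agent.Lib.Helper4 Cfsg.Agent.Lib.Helper26
open scoped ComplexConjugate Classical

variable {G : Type*} [Group G] [Fintype G] {M : Ideal AlgInt}

/-- `f ↦ [f, ψ]` -/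
noncomputable def innerL (ψ : G → ℂ) : (G → ℂ) →ₗ[ℂ] ℂ where
  toFun f := classInner f ψ
  map_add' := fun a b => classInner_add_left a b ψ
  map_smul' := fun c a => by rw [classInner_smul_left]; rfl

theorem innerL_apply (ψ f : G → ℂ) : innerL ψ f = classInner f ψ := rfl

/-- the orthogonal projection onto the span of `B` -/
noncomputable def projB [Fintype (IrrCharacter G)] (B : Set (IrrCharacter G)) :
    (G → ℂ) →ₗ[ℂ] (G → ℂ) :=
  ∑ χ : IrrCharacter G, if χ ∈ B then (innerL (χ : G → ℂ)).smulRight (χ : G → ℂ) else 0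

theorem projB_apply [Fintype (IrrCharacter G)] (B : Set (IrrCharacter G)) (f : G → ℂ) :
    projB B f = ∑ χ : IrrCharacter G,
      if χ ∈ B then classInner f (χ : G → ℂ) • (χ : G → ℂ) else 0 := by
  unfold projB
  rw [LinearMap.sum_apply]
  refine Finset.sum_congr rfl fun χ _ => ?_
  by_cases h : χ ∈ B
  · rw [if_pos h, if_pos h, LinearMap.smulRight_apply, innerL_apply]
  · rw [if_neg h, if_neg h, LinearMap.zero_apply]

theorem projB_irr_of_mem [Fintype (IrrCharacter G)] {B : Set (IrrCharacter G)}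
    {χ : IrrCharacter G} (hχ : χ ∈ B) : projB B (χ : G → ℂ) = (χ : G → ℂ) := by
  rw [projB_apply, Finset.sum_eq_single χ]
  · rw [if_pos hχ, Helper4.classInner_irr, if_pos rfl, one_smul]
  · intro φ _ hφ
    by_cases h : φ ∈ B
    · rw [if_pos h, Helper4.classInner_irr, if_neg (Ne.symm hφ), zero_smul]
    · rw [if_neg h]
  · intro h; exact absurd (Finset.mem_univ _) h

theorem projB_pRegularPart [Fintype (IrrCharacter G)] {p : ℕ} (hM : IsPModular p M)
    {B : Set (IrrCharacter G)} (hB : IsPBlock M B) {χ : IrrCharacter G} (hχ : χ ∈ B) :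
    projB B (pRegularPart p (χ : G → ℂ)) = pRegularPart p (χ : G → ℂ) := by
  have : M.IsPrime := hM.2.1.isPrime
  have hcl : IsClassFunction G (pRegularPart p (χ : G → ℂ)) :=
    isClassFunction_pRegularPart p (Helper4.isClassFunction_of_isIrrCharacter χ.2)
  have hexp := classFunction_expansion _ hcl
  rw [projB_apply]
  conv_rhs => rw [hexp]
  refine Finset.sum_congr rfl fun φ _ => ?_
  by_cases hφ : φ ∈ B
  · rw [if_pos hφ]
  · rw [if_neg hφ, classInner_pRegularPart_eq_zero hM χ φ
      (fun h => hφ ((mem_block_iff hB hχ φ).mpr h)), zero_smul]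

/-- the rank operator -/
noncomputable def rankOp [Fintype (IrrCharacter G)] (p : ℕ) (B : Set (IrrCharacter G)) :
    (G → ℂ) →ₗ[ℂ] (G → ℂ) := (pRegLin G p).comp (projB B)

theorem rankOp_apply [Fintype (IrrCharacter G)] (p : ℕ) (B : Set (IrrCharacter G))
    (f : G → ℂ) :
    rankOp p B f = ∑ χ : IrrCharacter G,
      if χ ∈ B then classInner f (χ : G → ℂ) • pRegularPart p (χ : G → ℂ) else 0 := by
  unfold rankOp
  rw [LinearMap.comp_apply, projB_apply, pRegLin_apply, pRegularPart_sum]
  refine Finset.sum_congr rfl fun χ _ => ?_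
  by_cases h : χ ∈ B
  · rw [if_pos h, if_pos h, pRegularPart_smul]
  · rw [if_neg h, if_neg h, pRegularPart_zero]

theorem rankOp_irr_of_mem [Fintype (IrrCharacter G)] (p : ℕ) {B : Set (IrrCharacter G)}
    {χ : IrrCharacter G} (hχ : χ ∈ B) :
    rankOp p B (χ : G → ℂ) = pRegularPart p (χ : G → ℂ) := by
  unfold rankOp
  rw [LinearMap.comp_apply, projB_irr_of_mem hχ, pRegLin_apply]

theorem projB_rankOp [Fintype (IrrCharacter G)] {p : ℕ} (hM : IsPModular p M)
    {B : Set (IrrCharacter G)} (hB : IsPBlock M B) (f : G → ℂ) :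
    projB B (rankOp p B f) = rankOp p B f := by
  rw [rankOp_apply, map_sum]
  refine Finset.sum_congr rfl fun χ _ => ?_
  by_cases h : χ ∈ B
  · rw [if_pos h, map_smul, projB_pRegularPart hM hB h]
  · rw [if_neg h, map_zero]

theorem rankOp_idem [Fintype (IrrCharacter G)] {p : ℕ} (hM : IsPModular p M)
    {B : Set (IrrCharacter G)} (hB : IsPBlock M B) : IsIdempotentElem (rankOp p B) := by
  unfold IsIdempotentElem
  apply LinearMap.ext
  intro f
  rw [Module.End.mul_apply]
  have h1 : rankOp p B (rankOp p B f) = pRegLin G p (projB B (rankOp p B f)) := rfl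
  rw [h1, projB_rankOp hM hB]
  have h2 : rankOp p B f = pRegLin G p (projB B f) := rfl
  rw [h2, pRegLin_apply, pRegLin_apply, pRegularPart_idem]

theorem range_rankOp [Fintype (IrrCharacter G)] (p : ℕ) (B : Set (IrrCharacter G)) :
    LinearMap.range (rankOp p B) =
      Submodule.span ℂ ((fun χ : IrrCharacter G => pRegularPart p (χ : G → ℂ)) '' B) := by
  apply le_antisymm
  · rintro _ ⟨f, rfl⟩
    rw [rankOp_apply]
    apply Submodule.sum_mem
    intro χ _
    by_cases h : χ ∈ B
    · rw [if_pos h]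
      exact Submodule.smul_mem _ _ (Submodule.subset_span ⟨χ, h, rfl⟩)
    · rw [if_neg h]; exact Submodule.zero_mem _
  · rw [Submodule.span_le]
    rintro _ ⟨χ, hχ, rfl⟩
    exact ⟨(χ : G → ℂ), rankOp_irr_of_mem p hχ⟩

theorem trace_rankOp [Fintype (IrrCharacter G)] {p : ℕ} (hM : IsPModular p M)
    {B : Set (IrrCharacter G)} (hB : IsPBlock M B) :
    LinearMap.trace ℂ (G → ℂ) (rankOp p B) = (blockRank p B : ℂ) := by
  rw [(LinearMap.IsIdempotentElem.isProj_range _ (rankOp_idem hM hB)).trace, range_rankOp]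
  rfl

theorem trace_rankOp_eq_sum [Fintype (IrrCharacter G)] (p : ℕ) (B : Set (IrrCharacter G)) :
    LinearMap.trace ℂ (G → ℂ) (rankOp p B) =
      (Nat.card G : ℂ)⁻¹ * ∑ x : G, ∑ χ : IrrCharacter G,
        if χ ∈ B then pRegularPart p (χ : G → ℂ) x * conj ((χ : G → ℂ) x) else 0 := by
  rw [LinearMap.trace_eq_matrix_trace ℂ (Pi.basisFun ℂ G), LinearMap.toMatrix_eq_toMatrix',
    Matrix.trace, Finset.mul_sum]
  refine Finset.sum_congr rfl fun x _ => ?_
  rw [Matrix.diag_apply, LinearMap.toMatrix'_apply, rankOp_apply, Finset.sum_apply,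
    Finset.mul_sum]
  refine Finset.sum_congr rfl fun χ _ => ?_
  by_cases h : χ ∈ B
  · rw [if_pos h, if_pos h, Pi.smul_apply, smul_eq_mul]
    have : classInner (Pi.single x (1 : ℂ)) (χ : G → ℂ) =
        (Nat.card G : ℂ)⁻¹ * conj ((χ : G → ℂ) x) := by
      unfold classInner
      rw [Finset.sum_eq_single x]
      · rw [Pi.single_eq_same, one_mul]
      · intro y _ hy
        rw [Pi.single_eq_of_ne hy, zero_mul]
      · intro h; exact absurd (Finset.mem_univ _) h
    rw [this]
    ring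
  · rw [if_neg h, if_neg h, Pi.zero_apply, mul_zero]

/-- `|G| · l(B) = Σ_x Σ_{χ ∈ B} χ°(x) conj (χ x)` -/
theorem card_mul_blockRank [Fintype (IrrCharacter G)] {p : ℕ} (hM : IsPModular p M)
    {B : Set (IrrCharacter G)} (hB : IsPBlock M B) :
    (Nat.card G : ℂ) * (blockRank p B : ℂ) = ∑ x : G, ∑ χ : IrrCharacter G,
        if χ ∈ B then pRegularPart p (χ : G → ℂ) x * conj ((χ : G → ℂ) x) else 0 := by
  have hne : (Nat.card G : ℂ) ≠ 0 := by
    exact_mod_cast Nat.card_pos.ne'
  rw [← trace_rankOp hM hB, trace_rankOp_eq_sum, ← mul_assoc, mul_inv_cancel₀ hne, one_mul]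

end Cfsg.Agent.Lib.Helper28
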