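import Mathlib
import Cfsg.Agent.Lib.Helper28.BlockRankC
import Cfsg.Agent.Lib.Helper28.BlockDefectB
import Cfsg.Agent.Lib.Helper28.BlockCount
import Cfsg.Agent.S0914

set_option autoImplicit false

/-!
# `l(B) ≤ k(B)` with equality exactly in defect zero (helper28)
-/

namespace Cfsg.Agent.Lib.Helper28

open Cfsg Cfsg.Agent.Lib.Helper4 Cfsg.Agent.Lib.Helper26
open scoped ComplexConjugate Classical

variable {G : Type*} [Group G] [Fintype G] {M : Ideal AlgInt}

theorem linearIndependent_irr [Fintype (IrrCharacter G)] :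
    LinearIndependent ℂ (fun χ : IrrCharacter G => (χ : G → ℂ)) := by
  rw [Fintype.linearIndependent_iff]
  intro g hg ψ
  have h1 : classInner (∑ χ : IrrCharacter G, g χ • (χ : G → ℂ)) (ψ : G → ℂ) = 0 := by
    rw [hg, classInner_zero_left]
  rw [classInner_sum_left, Finset.sum_eq_single ψ] at h1
  · rw [classInner_smul_left, Helper4.classInner_irr, if_pos rfl, mul_one] at h1
    exact h1
  · intro φ _ hφ
    rw [classInner_smul_left, Helper4.classInner_irr, if_neg hφ, mul_zero]
  · intro h; exact absurd (Finset.mem_univ _) h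

theorem blockRank_le_card (p : ℕ) (B : Set (IrrCharacter G)) :
    blockRank p B ≤ Nat.card B := by
  have : Fintype (IrrCharacter G) := Fintype.ofFinite _
  have : Fintype B := Fintype.ofFinite _
  unfold blockRank
  have h1 : (fun χ : IrrCharacter G => pRegularPart p (χ : G → ℂ)) '' B =
      Set.range (fun χ : B => pRegularPart p ((χ : IrrCharacter G) : G → ℂ)) := by
    ext f
    constructor
    · rintro ⟨χ, hχ, rfl⟩
      exact ⟨⟨χ, hχ⟩, rfl⟩
    · rintro ⟨χ, rfl⟩
      exact ⟨χ.1, χ.2, rfl⟩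
  rw [h1, Nat.card_eq_fintype_card]
  exact finrank_range_le_card _

theorem finrank_span_block [Fintype (IrrCharacter G)] (B : Set (IrrCharacter G)) :
    Module.finrank ℂ (Submodule.span ℂ
      (Set.range (fun χ : B => ((χ : IrrCharacter G) : G → ℂ)))) = Nat.card B := by
  have : Fintype B := Fintype.ofFinite _
  have hli : LinearIndependent ℂ (fun χ : B => ((χ : IrrCharacter G) : G → ℂ)) :=
    (linearIndependent_irr (G := G)).comp Subtype.val Subtype.val_injective
  rw [finrank_span_eq_card hli, Nat.card_eq_fintype_card]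

theorem span_pRegularPart_le [Fintype (IrrCharacter G)] {p : ℕ} (hM : IsPModular p M)
    {B : Set (IrrCharacter G)} (hB : IsPBlock M B) :
    Submodule.span ℂ ((fun χ : IrrCharacter G => pRegularPart p (χ : G → ℂ)) '' B) ≤
      Submodule.span ℂ (Set.range (fun χ : B => ((χ : IrrCharacter G) : G → ℂ))) := by
  rw [Submodule.span_le]
  rintro _ ⟨χ, hχ, rfl⟩
  show pRegularPart p (χ : G → ℂ) ∈ _
  rw [← projB_pRegularPart hM hB hχ, projB_apply]
  apply Submodule.sum_mem
  intro φ _
  by_cases h : φ ∈ B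
  · rw [if_pos h]
    exact Submodule.smul_mem _ _ (Submodule.subset_span ⟨⟨φ, h⟩, rfl⟩)
  · rw [if_neg h]; exact Submodule.zero_mem _

/-- if `k(B) = l(B)` every member of `B` vanishes on the `p`-singular elements -/
theorem pRegularPart_eq_self_of_card_eq [Fintype (IrrCharacter G)] {p : ℕ}
    (hM : IsPModular p M) {B : Set (IrrCharacter G)} (hB : IsPBlock M B)
    (hkl : Nat.card B = blockRank p B) {χ : IrrCharacter G} (hχ : χ ∈ B) :
    pRegularPart p (χ : G → ℂ) = (χ : G → ℂ) := by
  have hle := span_pRegularPart_le hM hB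
  have hfin : Module.finrank ℂ (Submodule.span ℂ
      ((fun χ : IrrCharacter G => pRegularPart p (χ : G → ℂ)) '' B)) =
      Module.finrank ℂ (Submodule.span ℂ
      (Set.range (fun χ : B => ((χ : IrrCharacter G) : G → ℂ)))) := by
    rw [finrank_span_block, hkl]
    rfl
  have heq := Submodule.eq_of_le_of_finrank_eq hle hfin
  have hmem : (χ : G → ℂ) ∈ LinearMap.range (rankOp p B) := by
    rw [range_rankOp, heq]
    exact Submodule.subset_span ⟨⟨χ, hχ⟩, rfl⟩
  obtain ⟨f, hf⟩ := hmem
  have h1 : rankOp p B (χ : G → ℂ) = (χ : G → ℂ) := by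
    have hid := rankOp_idem hM hB
    have h2 : rankOp p B (rankOp p B f) = rankOp p B f := by
      have := congrArg (fun T : (G → ℂ) →ₗ[ℂ] (G → ℂ) => T f) hid.eq
      simpa [Module.End.mul_apply] using this
    rw [← hf, h2]
  rw [← rankOp_irr_of_mem p hχ, h1]

/-- if all members of the nonempty `B` have full `p`-part in their degrees then `d(B) = 0` -/
theorem blockDefect_eq_zero_of_forall {p : ℕ} {B : Set (IrrCharacter G)}
    (hne : ∃ χ : IrrCharacter G, χ ∈ B)
    (h : ∀ χ ∈ B, (Nat.card G).factorization p ≤ (charDegree (χ : G → ℂ)).factorization p) :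
    blockDefect p B = 0 := by
  unfold blockDefect
  obtain ⟨χ0, hχ0⟩ := hne
  have hmem := Nat.sInf_mem (s := (fun χ : IrrCharacter G =>
    (charDegree (χ : G → ℂ)).factorization p) '' B) ⟨_, Set.mem_image_of_mem _ hχ0⟩
  obtain ⟨χ, hχ, hχe⟩ := hmem
  have := h χ hχ
  have hχe' : (charDegree (χ : G → ℂ)).factorization p = sInf ((fun χ : IrrCharacter G =>
    (charDegree (χ : G → ℂ)).factorization p) '' B) := hχe
  rw [← hχe']
  omega

theorem blockDefect_eq_zero_of_card_eq [Fintype (IrrCharacter G)] {p : ℕ} [Fact p.Prime]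
    (hM : IsPModular p M) {B : Set (IrrCharacter G)} (hB : IsPBlock M B)
    (hkl : Nat.card B = blockRank p B) : blockDefect p B = 0 := by
  have : M.IsPrime := hM.2.1.isPrime
  have hp : p.Prime := hM.1
  apply blockDefect_eq_zero_of_forall (block_nonempty hB)
  intro χ hχ
  have hself := pRegularPart_eq_self_of_card_eq hM hB hkl hχ
  have hvan : ∀ x : G, p ∣ orderOf x → (χ : G → ℂ) x = 0 := by
    intro x hx
    rw [← hself, pRegularPart_of_dvd _ hx]
  obtain ⟨k, hk⟩ := degree_of_vanish_pSingular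
    (isGeneralizedCharacter_of_isCharacter (isCharacter_of_isIrrCharacter χ.2)) hvan
  obtain ⟨hne, h1, _⟩ := irr_degree_nat χ.2
  rw [h1] at hk
  have hk' : ((charDegree (χ : G → ℂ) : ℤ) : ℂ) =
      (((p ^ (Nat.card G).factorization p : ℕ) : ℤ) * k : ℤ) := by
    push_cast
    push_cast at hk
    exact hk
  have hk'' : (charDegree (χ : G → ℂ) : ℤ) = ((p ^ (Nat.card G).factorization p : ℕ) : ℤ) * k :=
    by exact_mod_cast hk'
  have hdvd : p ^ (Nat.card G).factorization p ∣ charDegree (χ : G → ℂ) := by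
    have : ((p ^ (Nat.card G).factorization p : ℕ) : ℤ) ∣ (charDegree (χ : G → ℂ) : ℤ) :=
      ⟨k, hk''⟩
    exact_mod_cast this
  exact (hp.pow_dvd_iff_le_factorization hne).mp hdvd

/-- a block of defect zero is a singleton -/
theorem block_eq_singleton_of_defect_zero {p : ℕ} [Fact p.Prime]
    (hM : IsPModular p M) {B : Set (IrrCharacter G)} (hB : IsPBlock M B)
    (hd : blockDefect p B = 0) : ∃ χ : IrrCharacter G, B = {χ} := by
  have : M.IsPrime := hM.2.1.isPrime
  have hp : p.Prime := hM.1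
  obtain ⟨χ0, hχ0⟩ := block_nonempty hB
  have hmem := Nat.sInf_mem (s := (fun χ : IrrCharacter G =>
    (charDegree (χ : G → ℂ)).factorization p) '' B) ⟨_, Set.mem_image_of_mem _ hχ0⟩
  obtain ⟨χ, hχ, hχe⟩ := hmem
  refine ⟨χ, ?_⟩
  unfold blockDefect at hd
  have hχe' : (charDegree (χ : G → ℂ)).factorization p = sInf ((fun χ : IrrCharacter G =>
    (charDegree (χ : G → ℂ)).factorization p) '' B) := hχe
  rw [← hχe'] at hd
  obtain ⟨hne, h1, hdvd⟩ := irr_degree_nat χ.2
  obtain ⟨b0, hb0⟩ := hdvd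
  have hb0ne : b0 ≠ 0 := by
    rintro rfl
    rw [mul_zero] at hb0
    exact Nat.card_pos.ne' hb0
  have hfac : (Nat.card G).factorization p =
      (charDegree (χ : G → ℂ)).factorization p + b0.factorization p := by
    rw [hb0, Nat.factorization_mul hne hb0ne, Finsupp.add_apply]
  have hb0p : b0.factorization p = 0 := by omega
  have hndvd : ¬ p ∣ Nat.card G / charDegree (χ : G → ℂ) := by
    rw [hb0, Nat.mul_div_cancel_left _ (Nat.pos_of_ne_zero hne)]
    intro hpb
    have := (hp.dvd_iff_one_le_factorization hb0ne).mp hpb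
    omega
  have h914 := (Cfsg.Agent.S0914.result p M hM χ).mp hndvd
  rw [block_eq_blockOf hB hχ, h914]

end Cfsg.Agent.Lib.Helper28
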