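import Mathlib
import Cfsg.Agent.Lib.Helper28.BrauerS
import Cfsg.Agent.Lib.Helper4.BrauerHom

set_option autoImplicit false

/-!
# Brauer pairs of the principal block (helper28)

The Third Main Theorem in the language of Brauer pairs.
-/

namespace Cfsg.Agent.Lib.Helper28

open Cfsg Cfsg.Agent.Lib.Helper4
open scoped ComplexConjugate Classical

variable {G : Type*} [Group G] [Fintype G] {M : Ideal AlgInt}

omit [Fintype G] in
theorem brMap_centralizer_eq_resMap (Q : Subgroup G) (a : G → ℂ) :
    brMap Q (Subgroup.centralizer (Q : Set G)) a = resMap (Subgroup.centralizer (Q : Set G)) a := by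
  funext h
  unfold brMap resMap
  rw [if_pos h.2]

/-- **the Brauer pairs of the principal block are the principal ones** -/
theorem isBrauerPairOf_principalBlock_iff {p : ℕ} [Fact p.Prime] (hM : IsPModular p M)
    (Q : Subgroup G) (hQ : IsPGroup p Q)
    (e : Set (IrrCharacter (Subgroup.centralizer (Q : Set G)))) (he : IsPBlock M e) :
    IsBrauerPairOf p M (principalBlock M G) Q e ↔
      e = principalBlock M (Subgroup.centralizer (Q : Set G)) := by
  have hprime : M.IsPrime := hM.2.1.isPrime
  have hMtop : M ≠ ⊤ := hM.2.1.ne_top
  have : Fintype (Subgroup.centralizer (Q : Set G)) := Fintype.ofFinite _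
  constructor
  · intro hpair
    obtain ⟨ξ, hξ⟩ := Helper28.block_nonempty he
    obtain ⟨χ, hχ⟩ := exists_irr_brauer hM Q (Subgroup.centralizer (Q : Set G)) hQ le_rfl
      (Subgroup.centralizer_le_normalizer _) ξ.2
    have hB0 : IsPBlock M (principalBlock M G) := Helper28.isPBlock_principalBlock
    -- `χ` lies in the principal block
    have h1 := hχ (blockCoeff (principalBlock M G)) (isClassFunction_blockCoeff _)
      (fun g => Helper28.osima hB0 g)
    rw [brMap_centralizer_eq_resMap, Helper28.omegaF_blockCoeff] at h1
    have h2 := hpair.2.2 ξ hξ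
    rw [brauerOmega_eq_omegaF] at h2
    have hχB : χ ∈ principalBlock M G := by
      by_contra hcon
      rw [if_neg hcon, sub_zero] at h1
      have h3 := Helper28.memLocalIdeal_sub h1 h2
      have h4 : omegaF (ξ : Subgroup.centralizer (Q : Set G) → ℂ)
          (resMap (Subgroup.centralizer (Q : Set G)) (blockCoeff (principalBlock M G))) -
          (omegaF (ξ : Subgroup.centralizer (Q : Set G) → ℂ)
            (resTo (Subgroup.centralizer (Q : Set G)) (blockCoeff (principalBlock M G))) - 1) =
          1 := by
        show omegaF _ (resMap _ _) - (omegaF _ (resMap _ _) - 1) = 1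
        ring
      rw [h4] at h3
      exact Helper28.not_memLocalIdeal_one hMtop h3
    -- transfer the `p`-regular sum
    have h5 := hχ (pRegInd G p) (isClassFunction_pRegInd p)
      (fun g => pRegInd_memLocalRing hMtop p g)
    rw [brMap_centralizer_eq_resMap, resMap_pRegInd] at h5
    have h6 := omegaF_pRegInd_of_mem_principalBlock hM χ hχB
    have h7 : ¬ MemLocalIdeal M (omegaF (ξ : Subgroup.centralizer (Q : Set G) → ℂ)
        (pRegInd (Subgroup.centralizer (Q : Set G)) p)) := by
      intro hmem
      apply h6
      have := Helper28.memLocalIdeal_sub hmem h5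
      rwa [sub_sub_cancel] at this
    have h8 := mem_principalBlock_of_omegaF hM ξ h7
    exact Helper28.block_eq_of_mem he Helper28.isPBlock_principalBlock hξ h8
  · intro heq
    rw [heq]
    exact isBrauerPairOf_principal hM Q hQ

end Cfsg.Agent.Lib.Helper28
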