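import Mathlib
import Cfsg.Agent.Lib.Helper28.BrauerT
import Cfsg.Agent.Lib.Helper4.BrauerIdem
import Cfsg.Agent.Lib.Helper4.BrauerSub

set_option autoImplicit false

/-!
# Idempotents against block idempotents; deficiency classes (helper28)
-/

namespace Cfsg.Agent.Lib.Helper28

open Cfsg Cfsg.Agent.Lib.Helper4
open scoped ComplexConjugate Classical

section Idem

variable {G : Type*} [Group G] [Fintype G] {M : Ideal AlgInt}

theorem conv_memLocalIdeal_left [M.IsPrime] {F1 F2 : G → ℂ} (h1 : ∀ g, MemLocalIdeal M (F1 g))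
    (h2 : ∀ g, MemLocalRing M (F2 g)) (x : G) : MemLocalIdeal M (conv F1 F2 x) :=
  Helper28.memLocalIdeal_sum _ _ fun g _ => Helper28.memLocalIdeal_mul_right (h1 g) (h2 _)

theorem deltaF_one_conv (w : G → ℂ) : conv (deltaF 1) w = w := by
  funext x
  show ∑ g, deltaF 1 g * w (g⁻¹ * x) = w x
  rw [Finset.sum_eq_single 1]
  · unfold deltaF
    rw [if_pos rfl, one_mul, inv_one, one_mul]
  · intro g _ hg
    unfold deltaF
    rw [if_neg hg, zero_mul]
  · intro h
    exact absurd (Finset.mem_univ _) h

/-- an idempotent central element whose central character vanishes on a block annihilates the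
idempotent of that block -/
theorem conv_blockCoeff_memLocalIdeal [M.IsPrime] (f : G → ℂ) (hf1 : IsClassFunction G f)
    (hf2 : ∀ g, MemLocalRing M (f g)) (hidem : ∀ g, MemLocalIdeal M (conv f f g - f g))
    {b : Set (IrrCharacter G)} (hb : IsPBlock M b) {ξ : IrrCharacter G} (hξ : ξ ∈ b)
    (h0 : MemLocalIdeal M (omegaF (ξ : G → ℂ) f)) :
    ∀ g, MemLocalIdeal M (conv f (blockCoeff b) g) := by
  have hMtop : M ≠ ⊤ := Ideal.IsPrime.ne_top ‹_›
  have hcl := isClassFunction_blockCoeff b
  have hR : ∀ g, MemLocalRing M (blockCoeff b g) := fun g => Helper28.osima hb g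
  apply memLocalIdeal_of_idem_of_omegaF _ (isClassFunction_conv hf1 hcl)
    (fun g => Helper28.conv_memLocalRing hf2 hR g)
  · intro g
    have h1 : conv (conv f (blockCoeff b)) (conv f (blockCoeff b)) =
        conv (conv f f) (blockCoeff b) := by
      apply eq_of_omegaF_eq _ _
        (isClassFunction_conv (isClassFunction_conv hf1 hcl) (isClassFunction_conv hf1 hcl))
        (isClassFunction_conv (isClassFunction_conv hf1 hf1) hcl)
      intro χ
      rw [omegaF_conv χ.2 _ _ (isClassFunction_conv hf1 hcl) (isClassFunction_conv hf1 hcl),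
        omegaF_conv χ.2 _ _ hf1 hcl, omegaF_conv χ.2 _ _ (isClassFunction_conv hf1 hf1) hcl,
        omegaF_conv χ.2 _ _ hf1 hf1, Helper28.omegaF_blockCoeff]
      by_cases h : χ ∈ b
      · rw [if_pos h]; ring
      · rw [if_neg h]; ring
    have h2 : conv (conv f f) (blockCoeff b) g - conv f (blockCoeff b) g =
        conv (conv f f - f) (blockCoeff b) g := by
      rw [conv_sub_left]; rfl
    rw [h1, h2]
    exact conv_memLocalIdeal_left (fun g => hidem g) hR g
  · intro ψ
    rw [omegaF_conv ψ.2 _ _ hf1 hcl, Helper28.omegaF_blockCoeff]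
    by_cases h : ψ ∈ b
    · rw [if_pos h, mul_one]
      have hsb := (Helper28.mem_block_iff hb hξ ψ).mp h
      have h3 := Helper28.omegaF_sub_memLocalIdeal
        (Helper4.isClassFunction_of_isIrrCharacter ξ.2)
        (Helper4.isClassFunction_of_isIrrCharacter ψ.2) hsb f hf1 hf2
      have := Helper28.memLocalIdeal_sub h0 h3
      rwa [sub_sub_cancel] at this
    · rw [if_neg h, mul_zero]
      exact Helper28.memLocalIdeal_zero hMtop

/-- an idempotent central element whose central character is `1` on a block fixes the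
idempotent of that block -/
theorem conv_blockCoeff_sub_memLocalIdeal [M.IsPrime] (f : G → ℂ) (hf1 : IsClassFunction G f)
    (hf2 : ∀ g, MemLocalRing M (f g)) (hidem : ∀ g, MemLocalIdeal M (conv f f g - f g))
    {b : Set (IrrCharacter G)} (hb : IsPBlock M b) {ξ : IrrCharacter G} (hξ : ξ ∈ b)
    (h1 : MemLocalIdeal M (omegaF (ξ : G → ℂ) f - 1)) :
    ∀ g, MemLocalIdeal M (conv f (blockCoeff b) g - blockCoeff b g) := by
  have hMtop : M ≠ ⊤ := Ideal.IsPrime.ne_top ‹_›
  have hd := isClassFunction_deltaF_one (G := G)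
  obtain ⟨f', hf'⟩ : ∃ f' : G → ℂ, f' = deltaF (1 : G) - f := ⟨_, rfl⟩
  have hf1' : IsClassFunction G f' := hf' ▸ isClassFunction_sub hd hf1
  have hf2' : ∀ g, MemLocalRing M (f' g) := fun g => by
    rw [hf']
    exact Helper28.memLocalRing_sub (deltaF_memLocalRing 1 g) (hf2 g)
  have heq : conv f' f' - f' = conv f f - f := by
    apply eq_of_omegaF_eq _ _ (isClassFunction_sub (isClassFunction_conv hf1' hf1') hf1')
      (isClassFunction_sub (isClassFunction_conv hf1 hf1) hf1)
    intro χ
    have hχ1 := irr_one_ne_zero χ.2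
    rw [omegaF_sub, omegaF_conv χ.2 _ _ hf1' hf1', hf', omegaF_sub, omegaF_deltaF_one hχ1,
      omegaF_sub, omegaF_conv χ.2 _ _ hf1 hf1]
    ring
  have hidem' : ∀ g, MemLocalIdeal M (conv f' f' g - f' g) := by
    intro g
    have := congrFun heq g
    show MemLocalIdeal M ((conv f' f' - f') g)
    rw [this]
    exact hidem g
  have h0 : MemLocalIdeal M (omegaF (ξ : G → ℂ) f') := by
    rw [hf', omegaF_sub, omegaF_deltaF_one (irr_one_ne_zero ξ.2)]
    have := Helper28.memLocalIdeal_neg h1
    rwa [neg_sub] at this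
  have key := conv_blockCoeff_memLocalIdeal f' hf1' hf2' hidem' hb hξ h0
  intro g
  have h2 := Helper28.memLocalIdeal_neg (key g)
  have h3 : -(conv f' (blockCoeff b) g) = conv f (blockCoeff b) g - blockCoeff b g := by
    rw [hf', conv_sub_left, deltaF_one_conv]
    show -(blockCoeff b g - conv f (blockCoeff b) g) = _
    ring
  rwa [h3] at h2

end Idem

section Core

variable {G : Type*} [Group G] [Fintype G] {M : Ideal AlgInt}

/-- if `e_B` is a unit at `x ∈ C_G(P)`, some block `b` of `H` inducing `B` has `e_b(x)` a unit -/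
theorem exists_inducing_block_blockCoeff {p : ℕ} [Fact p.Prime] (hM : IsPModular p M)
    (P H : Subgroup G) [Fintype H] (hP : IsPGroup p P) (hPH : P ≤ H)
    (hCH : Subgroup.centralizer (P : Set G) ≤ H)
    (hHN : H ≤ Subgroup.normalizer (P : Set G)) {B : Set (IrrCharacter G)}
    (hB : IsPBlock M B) (x : H) (hxc : (x : G) ∈ Subgroup.centralizer (P : Set G))
    (hx : ¬ MemLocalIdeal M (blockCoeff B (x : G))) :
    ∃ b : Set (IrrCharacter H), IsInducedBlock M H b B ∧ ¬ MemLocalIdeal M (blockCoeff b x) := by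
  have hprime : M.IsPrime := hM.2.1.isPrime
  have hMtop : M ≠ ⊤ := hM.2.1.ne_top
  have hRB : ∀ g, MemLocalRing M (blockCoeff B g) := fun g => Helper28.osima hB g
  obtain ⟨f, hf⟩ : ∃ f : H → ℂ, f = brMap P H (blockCoeff B) := ⟨_, rfl⟩
  have hf1 : IsClassFunction H f := hf ▸ isClassFunction_brMap P H hHN (isClassFunction_blockCoeff B)
  have hf2 : ∀ h, MemLocalRing M (f h) := fun h => hf ▸ brMap_memLocalRing P H hRB h
  have hidem : ∀ h, MemLocalIdeal M (conv f f h - f h) := fun h =>
    hf ▸ brMap_blockCoeff_idem hM P H hP hCH B hRB h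
  have hfx : f x = blockCoeff B (x : G) := by
    rw [hf]; exact brMap_of_mem P H _ hxc
  have hsum : f x = ∑ b : Blk M H, conv f (blockCoeff b.1) x := by
    conv_lhs => rw [← conv_deltaF_one f]
    show ∑ g, f g * deltaF 1 (g⁻¹ * x) = ∑ b : Blk M H, ∑ g, f g * blockCoeff b.1 (g⁻¹ * x)
    rw [Finset.sum_comm]
    refine Finset.sum_congr rfl fun g _ => ?_
    rw [← Finset.mul_sum, sum_blk_blockCoeff (M := M) H]
  obtain ⟨b, hb⟩ : ∃ b : Blk M H, ¬ MemLocalIdeal M (conv f (blockCoeff b.1) x) := by
    by_contra hcon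
    push Not at hcon
    apply hx
    rw [← hfx, hsum]
    exact Helper28.memLocalIdeal_sum _ _ fun b _ => hcon b
  obtain ⟨ξ, hξ⟩ := Helper28.block_nonempty b.2
  have hω : ¬ MemLocalIdeal M (omegaF (ξ : H → ℂ) f) := fun h0 =>
    hb (conv_blockCoeff_memLocalIdeal f hf1 hf2 hidem b.2 hξ h0 x)
  have hind : IsInducedBlock M H b.1 B := by
    have := isInducedBlock_of_omegaF_brMap hM P H hP hPH hCH hHN hB ξ (hf ▸ hω)
    rwa [← Helper28.block_eq_blockOf b.2 hξ] at this
  obtain ⟨χ, hχ⟩ := Helper28.block_nonempty hB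
  have h1 := omegaF_brMap_blockCoeff_of_induced hM P H hP hPH hHN hB hind hξ B hRB χ hχ
  rw [if_pos hχ, ← hf] at h1
  have h2 := conv_blockCoeff_sub_memLocalIdeal f hf1 hf2 hidem b.2 hξ h1 x
  refine ⟨b.1, hind, fun hmem => hb ?_⟩
  have := Helper28.memLocalIdeal_add h2 hmem
  rwa [sub_add_cancel] at this

end Core

section Deficiency

variable {G : Type*} [Group G] [Fintype G] {M : Ideal AlgInt}

/-- the defect of an induced block is at least the defect of the inducing block -/
theorem blockDefect_le_of_induced {p : ℕ} [Fact p.Prime] (hM : IsPModular p M)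
    (H : Subgroup G) [Fintype H] {b : Set (IrrCharacter H)} {B : Set (IrrCharacter G)}
    (hind : IsInducedBlock M H b B) : blockDefect p b ≤ blockDefect p B := by
  have hp : p.Prime := hM.1
  obtain ⟨D, hD⟩ := exists_isDefectGroup hM hind.1
  obtain ⟨E, hE, hDE⟩ := exists_defectGroup_ge_of_induced hM H hind.1 hind.2.1 hind D hD
  have h1 := card_defectGroup hM hind.1 hD
  have h2 := card_defectGroup hM hind.2.1 hE
  have h3 : Nat.card (D.map H.subtype) ≤ Nat.card E :=
    Nat.le_of_dvd Nat.card_pos (Subgroup.card_dvd_of_le hDE)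
  rw [Subgroup.card_map_of_injective (Subgroup.subtype_injective _), h1, h2] at h3
  exact (Nat.pow_le_pow_iff_right hp.one_lt).mp h3

omit [Fintype G] in
theorem centralizer_singleton_le_centralizer_zpowers (y : G) :
    Subgroup.centralizer ({y} : Set G) ≤
      Subgroup.centralizer ((Subgroup.zpowers y : Subgroup G) : Set G) := by
  intro h hh
  rw [Subgroup.mem_centralizer_iff] at hh ⊢
  intro z hz
  obtain ⟨k, rfl⟩ := Subgroup.mem_zpowers_iff.mp hz
  have h1 : Commute y h := hh y rfl
  exact (h1.zpow_left k).eq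

/-- the setup `P = ⟨y⟩`, `H = C_G(y)` satisfies `P·C_G(P) ≤ H ≤ N_G(P)` -/
theorem zpowers_centralizer_setup (y : G) :
    Subgroup.zpowers y ≤ Subgroup.centralizer ({y} : Set G) ∧
    Subgroup.centralizer ((Subgroup.zpowers y : Subgroup G) : Set G) ≤
      Subgroup.centralizer ({y} : Set G) ∧
    Subgroup.centralizer ({y} : Set G) ≤
      Subgroup.normalizer ((Subgroup.zpowers y : Subgroup G) : Set G) := by
  refine ⟨?_, ?_, ?_⟩
  · rw [Subgroup.zpowers_le, Subgroup.mem_centralizer_iff]
    intro h hh
    rw [Set.mem_singleton_iff] at hh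
    rw [hh]
  · apply Subgroup.centralizer_le
    intro z hz
    rw [Set.mem_singleton_iff] at hz
    rw [hz]
    exact Subgroup.mem_zpowers y
  · exact (centralizer_singleton_le_centralizer_zpowers y).trans
      (Subgroup.centralizer_le_normalizer _)

/-- **deficiency classes pass to centralizers of `p`-elements** -/
theorem deficiency_class_centralizer {p : ℕ} [Fact p.Prime] (hM : IsPModular p M) (r : ℕ)
    (hG : ∀ B' : Set (IrrCharacter G), IsPBlock M B' → B' ≠ principalBlock M G →
      blockDefect p B' < r)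
    (y : G) (hy : ∃ k : ℕ, orderOf y = p ^ k)
    (b : Set (IrrCharacter (Subgroup.centralizer ({y} : Set G)))) (hb : IsPBlock M b)
    (hne : b ≠ principalBlock M (Subgroup.centralizer ({y} : Set G))) : blockDefect p b < r := by
  have : Fintype (Subgroup.centralizer ({y} : Set G)) := Fintype.ofFinite _
  obtain ⟨hPH, hCH, hHN⟩ := zpowers_centralizer_setup y
  have hP : IsPGroup p (Subgroup.zpowers y) := by
    obtain ⟨k, hk⟩ := hy
    apply IsPGroup.of_card (n := k)
    rw [Nat.card_zpowers, hk]
  obtain ⟨B, hind⟩ := exists_induced_block hM (Subgroup.zpowers y)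
    (Subgroup.centralizer ({y} : Set G)) hP hPH hCH hHN hb
  have hB0 : B ≠ principalBlock M G := by
    rintro rfl
    exact hne ((third_main_theorem hM _ b ⟨_, hind⟩).mp hind)
  exact lt_of_le_of_lt (blockDefect_le_of_induced hM _ hind) (hG B hind.2.1 hB0)

/-- **deficiency classes are detected on centralizers of elements of order `p`** -/
theorem deficiency_class_of_centralizers {p : ℕ} [Fact p.Prime] (hM : IsPModular p M) (r : ℕ)
    (hr : 0 < r)
    (hC : ∀ y : G, orderOf y = p →
      ∀ B' : Set (IrrCharacter (Subgroup.centralizer ({y} : Set G))), IsPBlock M B' →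
        B' ≠ principalBlock M (Subgroup.centralizer ({y} : Set G)) → blockDefect p B' < r)
    (B : Set (IrrCharacter G)) (hB : IsPBlock M B) (hne : B ≠ principalBlock M G) :
    blockDefect p B < r := by
  have hprime : M.IsPrime := hM.2.1.isPrime
  have hMtop : M ≠ ⊤ := hM.2.1.ne_top
  have hp : p.Prime := hM.1
  by_contra hge
  push Not at hge
  obtain ⟨D, hD⟩ := exists_isDefectGroup hM hB
  have hcard := card_defectGroup hM hB hD
  have hDp : IsPGroup p D := IsPGroup.of_card hcard
  have hnt : Nontrivial D := by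
    rw [← Finite.one_lt_card_iff_nontrivial, hcard]
    exact Nat.one_lt_pow (by omega) hp.one_lt
  have hcn := hDp.center_nontrivial
  have hZp : IsPGroup p (Subgroup.center D) := hDp.to_subgroup _
  have hdvd : p ∣ Nat.card (Subgroup.center D) := by
    rcases hZp.card_eq_or_dvd with h | h
    · exact absurd h (Finite.one_lt_card_iff_nontrivial.mpr hcn).ne'
    · exact h
  obtain ⟨z, hz⟩ := exists_prime_orderOf_dvd_card' p hdvd
  obtain ⟨y, hy⟩ : ∃ y : G, y = ((z : D) : G) := ⟨_, rfl⟩
  have hyord : orderOf y = p := by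
    rw [hy, Subgroup.orderOf_coe, Subgroup.orderOf_coe]; exact hz
  have hycent : ∀ w ∈ D, y * w = w * y := by
    intro w hw
    have := z.2
    rw [Subgroup.mem_center_iff] at this
    have h1 := this ⟨w, hw⟩
    have h2 := congrArg Subtype.val h1
    rw [hy]
    simpa using h2.symm
  have hyD : y ∈ D := hy ▸ (z : D).2
  have : Fintype (Subgroup.centralizer ({y} : Set G)) := Fintype.ofFinite _
  obtain ⟨hPH, hCH, hHN⟩ := zpowers_centralizer_setup y
  have hP : IsPGroup p (Subgroup.zpowers y) := by
    apply IsPGroup.of_card (n := 1)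
    rw [Nat.card_zpowers, hyord, pow_one]
  -- the defect class
  obtain ⟨g0, hg0, P0, hDP0⟩ := hD
  have hDg0 : ∀ w ∈ D, w * g0 = g0 * w := by
    intro w hw
    rw [hDP0] at hw
    obtain ⟨t, -, rfl⟩ := hw
    have := t.2
    rw [Subgroup.mem_centralizer_iff] at this
    exact (this g0 rfl).symm
  have hg0H : g0 ∈ Subgroup.centralizer ({y} : Set G) := by
    rw [Subgroup.mem_centralizer_iff]
    intro h hh
    rw [Set.mem_singleton_iff] at hh
    rw [hh]
    exact hDg0 y hyD
  have hDH : D ≤ Subgroup.centralizer ({y} : Set G) := by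
    intro w hw
    rw [Subgroup.mem_centralizer_iff]
    intro h hh
    rw [Set.mem_singleton_iff] at hh
    rw [hh]
    exact hycent w hw
  obtain ⟨b, hind, hbx⟩ := exists_inducing_block_blockCoeff hM (Subgroup.zpowers y)
    (Subgroup.centralizer ({y} : Set G)) hP hPH hCH hHN hB ⟨g0, hg0H⟩
    (centralizer_singleton_le_centralizer_zpowers y hg0H) hg0.2.1
  have hb : IsPBlock M b := hind.1
  have hbne : b ≠ principalBlock M (Subgroup.centralizer ({y} : Set G)) := by
    intro hbe
    apply hne
    have h1 := (third_main_theorem hM _ b ⟨_, hind⟩).mpr hbe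
    obtain ⟨ξ, hξ⟩ := Helper28.block_nonempty hb
    obtain ⟨χ, hχ⟩ := Helper28.block_nonempty hB
    -- `B` and the principal block are both induced by `b`
    have h2 := hind.2.2 ξ hξ χ hχ
    have h3 := h1.2.2 ξ hξ (trivIrr G) (trivIrr_mem_principalBlock hMtop)
    have h4 : SameBlock M (χ : G → ℂ) ((trivIrr G : IrrCharacter G) : G → ℂ) := by
      intro g
      have := Helper28.memLocalIdeal_sub (h3 g) (h2 g)
      rwa [sub_sub_sub_cancel_left] at this
    have h5 : trivIrr G ∈ B := (Helper28.mem_block_iff hB hχ (trivIrr G)).mpr h4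
    exact Helper28.block_eq_of_mem hB Helper28.isPBlock_principalBlock h5
      (trivIrr_mem_principalBlock hMtop)
  have hlt := hC y hyord b hb hbne
  have hle := le_blockDefect_of_blockCoeff hM hb hbx
  -- `D` lies in the centralizer of `g0` inside `H`
  have hsub : D.subgroupOf (Subgroup.centralizer ({y} : Set G)) ≤
      Subgroup.centralizer ({(⟨g0, hg0H⟩ : Subgroup.centralizer ({y} : Set G))} :
        Set (Subgroup.centralizer ({y} : Set G))) := by
    intro w hw
    rw [Subgroup.mem_subgroupOf] at hw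
    rw [Subgroup.mem_centralizer_iff]
    intro h hh
    rw [Set.mem_singleton_iff] at hh
    rw [hh]
    apply Subtype.ext
    show g0 * (w : G) = (w : G) * g0
    exact (hDg0 _ hw).symm
  have hcard2 : Nat.card (D.subgroupOf (Subgroup.centralizer ({y} : Set G))) = Nat.card D :=
    Nat.card_congr (Subgroup.subgroupOfEquivOfLe hDH).toEquiv
  have hdvd2 := Subgroup.card_dvd_of_le hsub
  rw [hcard2, hcard] at hdvd2
  have h6 := (hp.pow_dvd_iff_le_factorization Nat.card_pos.ne').mp hdvd2
  omega

end Deficiency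

end Cfsg.Agent.Lib.Helper28
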