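import Mathlib
import Cfsg.Agent.Lib.Helper28.LocalRingB
import Cfsg.Agent.Lib.Helper28.LocalIdeal

set_option autoImplicit false

/-!
# A matrix form of Green's vanishing theorem (helper28)

Matrices over `ℂ` with entries in the local ring at `M`.  If an idempotent matrix `E` with local
entries commutes with a permutation matrix `P` and is, modulo the local ideal, a "relative trace"
from the subgroup generated by `P ^ p`, then `trace (P * E) = 0`.
-/

namespace Cfsg.Agent.Lib.Helper28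

open Cfsg
open scoped Classical

section MatLocal

variable {Ω : Type*} [Fintype Ω] {M : Ideal AlgInt}

/-- all entries are local integers -/
def MatR (M : Ideal AlgInt) (A : Matrix Ω Ω ℂ) : Prop := ∀ i j, MemLocalRing M (A i j)

/-- all entries lie in the local ideal -/
def MatJ (M : Ideal AlgInt) (A : Matrix Ω Ω ℂ) : Prop := ∀ i j, MemLocalIdeal M (A i j)

theorem MatJ.matR {A : Matrix Ω Ω ℂ} (hA : MatJ M A) : MatR M A :=
  fun i j => memLocalRing_of_memLocalIdeal (hA i j)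

theorem MatR.mul [M.IsPrime] {A B : Matrix Ω Ω ℂ} (hA : MatR M A) (hB : MatR M B) :
    MatR M (A * B) := fun i j => by
  rw [Matrix.mul_apply]
  exact memLocalRing_sum _ _ fun k _ => memLocalRing_mul (hA i k) (hB k j)

theorem MatR.add [M.IsPrime] {A B : Matrix Ω Ω ℂ} (hA : MatR M A) (hB : MatR M B) :
    MatR M (A + B) := fun i j => by
  rw [Matrix.add_apply]
  exact memLocalRing_add (hA i j) (hB i j)

theorem MatR.sub [M.IsPrime] {A B : Matrix Ω Ω ℂ} (hA : MatR M A) (hB : MatR M B) :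
    MatR M (A - B) := fun i j => by
  rw [Matrix.sub_apply]
  exact memLocalRing_sub (hA i j) (hB i j)

theorem MatR.diagonal (hM : M ≠ ⊤) {d : Ω → ℂ} (hd : ∀ i, MemLocalRing M (d i)) :
    MatR M (Matrix.diagonal d) := fun i j => by
  by_cases h : i = j
  · subst h
    rw [Matrix.diagonal_apply_eq]
    exact hd i
  · rw [Matrix.diagonal_apply_ne _ h]
    exact memLocalRing_zero hM

theorem MatR.one (hM : M ≠ ⊤) : MatR M (1 : Matrix Ω Ω ℂ) := by
  rw [← Matrix.diagonal_one]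
  exact MatR.diagonal hM fun _ => memLocalRing_one hM

theorem MatJ.mul_left [M.IsPrime] {A B : Matrix Ω Ω ℂ} (hA : MatR M A) (hB : MatJ M B) :
    MatJ M (A * B) := fun i j => by
  rw [Matrix.mul_apply]
  exact Helper28.memLocalIdeal_sum _ _ fun k _ => Helper28.memLocalIdeal_mul_left (hA i k) (hB k j)

theorem MatJ.mul_right [M.IsPrime] {A B : Matrix Ω Ω ℂ} (hA : MatJ M A) (hB : MatR M B) :
    MatJ M (A * B) := fun i j => by
  rw [Matrix.mul_apply]
  exact Helper28.memLocalIdeal_sum _ _ fun k _ => Helper28.memLocalIdeal_mul_right (hA i k) (hB k j)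

theorem MatJ.add [M.IsPrime] {A B : Matrix Ω Ω ℂ} (hA : MatJ M A) (hB : MatJ M B) :
    MatJ M (A + B) := fun i j => by
  rw [Matrix.add_apply]
  exact Helper28.memLocalIdeal_add (hA i j) (hB i j)

theorem MatJ.neg {A : Matrix Ω Ω ℂ} (hA : MatJ M A) : MatJ M (-A) := fun i j => by
  rw [Matrix.neg_apply]
  exact Helper28.memLocalIdeal_neg (hA i j)

theorem MatJ.sum [M.IsPrime] {ι : Type*} (s : Finset ι) (A : ι → Matrix Ω Ω ℂ)
    (hA : ∀ k ∈ s, MatJ M (A k)) : MatJ M (∑ k ∈ s, A k) := fun i j => by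
  rw [Matrix.sum_apply]
  exact Helper28.memLocalIdeal_sum _ _ fun k hk => hA k hk i j

theorem MatJ.smul [M.IsPrime] {c : ℂ} {A : Matrix Ω Ω ℂ} (hc : MemLocalIdeal M c)
    (hA : MatR M A) : MatJ M (c • A) := fun i j => by
  rw [Matrix.smul_apply, smul_eq_mul]
  exact Helper28.memLocalIdeal_mul_right hc (hA i j)

/-- a product of elements congruent to `1` is congruent to `1` -/
theorem memLocalIdeal_prod_sub_one (hM : M ≠ ⊤) [M.IsPrime] {ι : Type*} (s : Finset ι)
    (f : ι → ℂ) (hf : ∀ i ∈ s, MemLocalIdeal M (f i - 1)) :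
    MemLocalIdeal M (∏ i ∈ s, f i - 1) := by
  induction s using Finset.induction_on with
  | empty =>
    rw [Finset.prod_empty, sub_self]
    exact Helper28.memLocalIdeal_zero hM
  | insert a s ha ih =>
    rw [Finset.prod_insert ha]
    have h1 := ih fun i hi => hf i (Finset.mem_insert_of_mem hi)
    have h2 := hf a (Finset.mem_insert_self a s)
    have h3 : MemLocalRing M (∏ i ∈ s, f i) := by
      have := memLocalRing_add (memLocalRing_of_memLocalIdeal h1) (memLocalRing_one hM)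
      rwa [sub_add_cancel] at this
    have h4 : f a * ∏ i ∈ s, f i - 1 = (f a - 1) * ∏ i ∈ s, f i + (∏ i ∈ s, f i - 1) := by ring
    rw [h4]
    exact Helper28.memLocalIdeal_add (Helper28.memLocalIdeal_mul_right h2 h3) h1

/-- a matrix congruent to `1` modulo the local ideal is invertible -/
theorem det_ne_zero_of_matJ_sub_one (hM : M ≠ ⊤) [M.IsPrime] {U : Matrix Ω Ω ℂ}
    (hU : MatJ M (U - 1)) : U.det ≠ 0 := by
  have hUR : MatR M U := by
    have := MatR.add hU.matR (MatR.one hM)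
    rwa [sub_add_cancel] at this
  have hkey : MemLocalIdeal M (U.det - 1) := by
    rw [Matrix.det_apply, ← Finset.add_sum_erase _ _ (Finset.mem_univ (1 : Equiv.Perm Ω))]
    have h1 : MemLocalIdeal M (Equiv.Perm.sign (1 : Equiv.Perm Ω) • ∏ i, U ((1 : Equiv.Perm Ω) i) i - 1) := by
      rw [Equiv.Perm.sign_one, one_smul]
      apply memLocalIdeal_prod_sub_one hM
      intro i _
      have := hU i i
      rwa [Matrix.sub_apply, Matrix.one_apply_eq] at this
    have h2 : MemLocalIdeal M (∑ σ ∈ Finset.univ.erase (1 : Equiv.Perm Ω),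
        Equiv.Perm.sign σ • ∏ i, U (σ i) i) := by
      apply Helper28.memLocalIdeal_sum
      intro σ hσ
      have hσ1 : σ ≠ 1 := Finset.ne_of_mem_erase hσ
      obtain ⟨i₀, hi₀⟩ : ∃ i₀, σ i₀ ≠ i₀ := by
        by_contra hcon
        push Not at hcon
        exact hσ1 (Equiv.ext hcon)
      have h3 : MemLocalIdeal M (∏ i, U (σ i) i) := by
        rw [← Finset.mul_prod_erase _ _ (Finset.mem_univ i₀)]
        apply Helper28.memLocalIdeal_mul_right
        · have := hU (σ i₀) i₀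
          rwa [Matrix.sub_apply, Matrix.one_apply_ne hi₀, sub_zero] at this
        · exact memLocalRing_prod _ _ fun i _ => hUR _ _
      rcases Int.units_eq_one_or (Equiv.Perm.sign σ) with h | h
      · rw [h, one_smul]; exact h3
      · rw [h, Units.neg_smul, one_smul]; exact Helper28.memLocalIdeal_neg h3
    have h4 : Equiv.Perm.sign (1 : Equiv.Perm Ω) • ∏ i, U ((1 : Equiv.Perm Ω) i) i +
        ∑ σ ∈ Finset.univ.erase (1 : Equiv.Perm Ω), Equiv.Perm.sign σ • ∏ i, U (σ i) i - 1 =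
        (Equiv.Perm.sign (1 : Equiv.Perm Ω) • ∏ i, U ((1 : Equiv.Perm Ω) i) i - 1) +
        ∑ σ ∈ Finset.univ.erase (1 : Equiv.Perm Ω), Equiv.Perm.sign σ • ∏ i, U (σ i) i := by ring
    rw [h4]
    exact Helper28.memLocalIdeal_add h1 h2
  intro h0
  rw [h0, zero_sub] at hkey
  have := Helper28.memLocalIdeal_neg hkey
  rw [neg_neg] at this
  exact not_memLocalIdeal_one hM this

end MatLocal

section Core

variable {Ω : Type*} [Fintype Ω] {M : Ideal AlgInt}

/-- **Core lemma.** `E` an idempotent commuting with `P`; a cyclic family `Θ i` (`i : ZMod p`)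
of local matrices absorbed by `E`, shifted by `P`, whose sum is congruent to `E`.  Then
`trace (P * E) = 0`. -/
theorem trace_eq_zero_core {p : ℕ} [Fact p.Prime] (hM : IsPModular p M)
    (P E : Matrix Ω Ω ℂ) (Θ : ZMod p → Matrix Ω Ω ℂ)
    (hE2 : E * E = E) (hPE : P * E = E * P)
    (hΘR : ∀ i, MatR M (Θ i)) (hEΘ : ∀ i, E * Θ i = Θ i) (hΘE : ∀ i, Θ i * E = Θ i)
    (hPΘ : ∀ i, P * Θ i = Θ (i + 1) * P)
    (hsum : MatJ M (∑ i, Θ i - E)) : Matrix.trace (P * E) = 0 := by
  have hp : p.Prime := hM.1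
  have hprime : M.IsPrime := hM.2.1.isPrime
  have hMtop : M ≠ ⊤ := hM.2.1.ne_top
  have hp1 : Fact (1 < p) := ⟨hp.one_lt⟩
  obtain ⟨ω₀, hω⟩ : ∃ ω₀ : ℂ, IsPrimitiveRoot ω₀ p :=
    ⟨_, Complex.isPrimitiveRoot_exp p hp.ne_zero⟩
  have hωp : ω₀ ^ p = 1 := hω.pow_eq_one
  have hω1 : ω₀ ≠ 1 := hω.ne_one hp.one_lt
  have hω0 : ω₀ ≠ 0 := hω.ne_zero hp.ne_zero
  have hJ : ∀ k : ℕ, MemLocalIdeal M (ω₀ ^ k - 1) := fun k =>
    memLocalIdeal_root_sub_one hM (j := 1) (by rw [pow_one, ← pow_mul, mul_comm, pow_mul, hωp, one_pow])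
  obtain ⟨U₀, hU₀⟩ : ∃ U₀ : Matrix Ω Ω ℂ, U₀ = ∑ i : ZMod p, (ω₀ ^ i.val) • Θ i := ⟨_, rfl⟩
  have hEU₀ : E * U₀ = U₀ := by
    rw [hU₀, Finset.mul_sum]
    exact Finset.sum_congr rfl fun i _ => by rw [Matrix.mul_smul, hEΘ]
  have hU₀E : U₀ * E = U₀ := by
    rw [hU₀, Finset.sum_mul]
    exact Finset.sum_congr rfl fun i _ => by rw [Matrix.smul_mul, hΘE]
  have hPU₀ : P * U₀ = ω₀⁻¹ • (U₀ * P) := by
    rw [hU₀, Finset.mul_sum, Finset.sum_mul, Finset.smul_sum]
    rw [← Equiv.sum_comp (Equiv.addRight (1 : ZMod p))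
      (fun j => ω₀⁻¹ • ((ω₀ ^ j.val) • Θ j * P))]
    refine Finset.sum_congr rfl fun i _ => ?_
    rw [Matrix.mul_smul, hPΘ, Equiv.coe_addRight, Matrix.smul_mul, smul_smul]
    congr 1
    have h1 : ω₀ ^ (i + 1).val = ω₀ ^ (i.val + 1) := by
      rw [ZMod.val_add, ZMod.val_one, ← pow_eq_pow_mod _ hωp]
    rw [h1, pow_succ]
    field_simp
  obtain ⟨U, hU⟩ : ∃ U : Matrix Ω Ω ℂ, U = U₀ + 1 - E := ⟨_, rfl⟩
  have hUJ : MatJ M (U - 1) := by
    have h1 : U - 1 = ∑ i : ZMod p, (ω₀ ^ i.val - 1) • Θ i + (∑ i, Θ i - E) := by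
      rw [hU, hU₀]
      simp only [sub_smul, one_smul, Finset.sum_sub_distrib]
      abel
    rw [h1]
    exact MatJ.add (MatJ.sum _ _ fun i _ => MatJ.smul (hJ _) (hΘR i)) hsum
  have hdet : U.det ≠ 0 := det_ne_zero_of_matJ_sub_one hMtop hUJ
  have hXU : P * E * U = ω₀⁻¹ • (U * (P * E)) := by
    have h1 : P * E * U = P * U₀ := by
      rw [hU, Matrix.mul_assoc, Matrix.mul_sub, Matrix.mul_add, hEU₀, Matrix.mul_one, hE2,
        add_sub_cancel_right]
    have h2 : U * (P * E) = U₀ * P := by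
      rw [hU, hPE, ← Matrix.mul_assoc, Matrix.sub_mul, Matrix.add_mul, hU₀E, Matrix.one_mul, hE2,
        add_sub_cancel_right]
    rw [h1, h2, hPU₀]
  have hunit : IsUnit U.det := isUnit_iff_ne_zero.mpr hdet
  have h3 : Matrix.trace (P * E) = ω₀⁻¹ * Matrix.trace (P * E) := by
    calc Matrix.trace (P * E) = Matrix.trace (P * E * U * U⁻¹) := by
          rw [Matrix.mul_assoc (P * E), Matrix.mul_nonsing_inv _ hunit, Matrix.mul_one]
      _ = Matrix.trace (ω₀⁻¹ • (U * (P * E)) * U⁻¹) := by rw [hXU]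
      _ = ω₀⁻¹ * Matrix.trace (U * (P * E) * U⁻¹) := by
          rw [Matrix.smul_mul, Matrix.trace_smul, smul_eq_mul]
      _ = ω₀⁻¹ * Matrix.trace (P * E) := by
          rw [Matrix.trace_mul_comm, ← Matrix.mul_assoc, Matrix.nonsing_inv_mul _ hunit,
            Matrix.one_mul]
  have h4 : (1 - ω₀⁻¹) * Matrix.trace (P * E) = 0 := by
    rw [sub_mul, one_mul, ← h3, sub_self]
  rcases mul_eq_zero.mp h4 with h | h
  · exfalso
    apply hω1
    have : ω₀⁻¹ = 1 := (sub_eq_zero.mp h).symm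
    rw [← inv_inv ω₀, this, inv_one]
  · exact h

end Core

end Cfsg.Agent.Lib.Helper28
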