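import Mathlib
import Cfsg.Agent.Lib.Helper28.GreenVanA

set_option autoImplicit false

/-!
# Green vanishing for permutation modules (helper28)

`a` a permutation of a finite set `Ω`; `E` an idempotent matrix with local entries commuting with
the permutation matrix of `a`, whose entries between points of period prime to `p` lie in the local
ideal.  Then `∑ x, E x (a x) = 0`.
-/

namespace Cfsg.Agent.Lib.Helper28

open Cfsg
open scoped Classical

section Good

variable {Ω : Type*}

/-- the period of `x` under `a` is divisible by `p` -/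
def GoodPt (p : ℕ) (a : Equiv.Perm Ω) (x : Ω) : Prop :=
  ∀ n : ℤ, (a ^ n) x = x → (p : ℤ) ∣ n

theorem goodPt_zpow_apply (p : ℕ) (a : Equiv.Perm Ω) (x : Ω) (i : ℤ) :
    GoodPt p a ((a ^ i) x) ↔ GoodPt p a x := by
  have key : ∀ n : ℤ, (a ^ n) ((a ^ i) x) = (a ^ i) x ↔ (a ^ n) x = x := by
    intro n
    rw [← Equiv.Perm.mul_apply, zpow_mul_comm, Equiv.Perm.mul_apply]
    exact (a ^ i).injective.eq_iff
  constructor
  · intro h n hn
    exact h n ((key n).mpr hn)
  · intro h n hn
    exact h n ((key n).mp hn)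

theorem goodPt_apply (p : ℕ) (a : Equiv.Perm Ω) (x : Ω) :
    GoodPt p a (a x) ↔ GoodPt p a x := by
  have := goodPt_zpow_apply p a x 1
  rwa [zpow_one] at this

/-- a `ZMod p`-valued function increasing by one along `a` on the points of period divisible
by `p` -/
theorem exists_cocycle (p : ℕ) (a : Equiv.Perm Ω) :
    ∃ c : Ω → ZMod p, ∀ x, GoodPt p a x → c (a x) = c x + 1 := by
  obtain ⟨rep, hrep1, hrep2⟩ : ∃ rep : Ω → Ω, (∀ x, a.SameCycle (rep x) x) ∧
      ∀ x, rep (a x) = rep x := by
    refine ⟨fun x => (Quotient.mk (Equiv.Perm.SameCycle.setoid a) x).out, fun x => ?_, fun x => ?_⟩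
    · exact Quotient.mk_out (s := Equiv.Perm.SameCycle.setoid a) x
    · show (Quotient.mk (Equiv.Perm.SameCycle.setoid a) (a x)).out =
        (Quotient.mk (Equiv.Perm.SameCycle.setoid a) x).out
      congr 1
      apply Quotient.sound
      show a.SameCycle (a x) x
      exact Equiv.Perm.sameCycle_apply_left.mpr (Equiv.Perm.SameCycle.refl _ _)
  choose i hi using hrep1
  refine ⟨fun x => ((i x : ℤ) : ZMod p), fun x hx => ?_⟩
  have h1 := hi x
  have h2 := hi (a x)
  rw [hrep2] at h2
  have hg : GoodPt p a (rep x) := by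
    rw [← goodPt_zpow_apply p a (rep x) (i x), h1]
    exact hx
  have h3 : (a ^ (i (a x) - (i x + 1))) (rep x) = rep x := by
    have h4 : (a ^ (i x + 1)) (rep x) = a x := by
      rw [add_comm, zpow_add, zpow_one, Equiv.Perm.mul_apply, h1]
    rw [sub_eq_neg_add, zpow_add, Equiv.Perm.mul_apply, h2, zpow_neg, Equiv.Perm.inv_eq_iff_eq]
    exact h4.symm
  have h5 := hg _ h3
  have h6 : (((i (a x) - (i x + 1) : ℤ)) : ZMod p) = 0 :=
    (ZMod.intCast_zmod_eq_zero_iff_dvd _ p).mpr h5
  push_cast at h6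
  show ((i (a x) : ℤ) : ZMod p) = ((i x : ℤ) : ZMod p) + 1
  exact sub_eq_zero.mp h6

end Good

section PermMat

variable {Ω : Type*} [Fintype Ω]

/-- the permutation matrix of `a` -/
noncomputable def permMat (a : Equiv.Perm Ω) : Matrix Ω Ω ℂ :=
  Matrix.of fun x y => if x = a y then 1 else 0

theorem permMat_mul_apply (a : Equiv.Perm Ω) (A : Matrix Ω Ω ℂ) (x y : Ω) :
    (permMat a * A) x y = A (a.symm x) y := by
  rw [Matrix.mul_apply, Finset.sum_eq_single (a.symm x)]
  · show (if x = a (a.symm x) then (1 : ℂ) else 0) * _ = _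
    rw [if_pos (a.apply_symm_apply x).symm, one_mul]
  · intro w _ hw
    show (if x = a w then (1 : ℂ) else 0) * _ = _
    rw [if_neg, zero_mul]
    intro h
    apply hw
    rw [h, Equiv.symm_apply_apply]
  · intro h
    exact absurd (Finset.mem_univ _) h

theorem mul_permMat_apply (a : Equiv.Perm Ω) (A : Matrix Ω Ω ℂ) (x y : Ω) :
    (A * permMat a) x y = A x (a y) := by
  rw [Matrix.mul_apply, Finset.sum_eq_single (a y)]
  · show _ * (if a y = a y then (1 : ℂ) else 0) = _
    rw [if_pos rfl, mul_one]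
  · intro w _ hw
    show _ * (if w = a y then (1 : ℂ) else 0) = _
    rw [if_neg hw, mul_zero]
  · intro h
    exact absurd (Finset.mem_univ _) h

theorem permMat_mul_diagonal (a : Equiv.Perm Ω) (d d' : Ω → ℂ) (h : ∀ y, d' (a y) = d y) :
    permMat a * Matrix.diagonal d = Matrix.diagonal d' * permMat a := by
  ext x y
  rw [permMat_mul_apply, mul_permMat_apply, Matrix.diagonal_apply, Matrix.diagonal_apply]
  by_cases hxy : x = a y
  · have h1 : a.symm x = y := by rw [hxy, Equiv.symm_apply_apply]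
    rw [if_pos h1, if_pos hxy, h1, hxy, h]
  · have h1 : a.symm x ≠ y := by
      intro h2
      apply hxy
      rw [← h2, Equiv.apply_symm_apply]
    rw [if_neg h1, if_neg hxy]

end PermMat

section Main

variable {Ω : Type*} [Fintype Ω] {M : Ideal AlgInt}

/-- **Green vanishing, matrix form.** -/
theorem green_vanishing {p : ℕ} [Fact p.Prime] (hM : IsPModular p M) (a : Equiv.Perm Ω)
    (E : Matrix Ω Ω ℂ) (hR : MatR M E) (hE2 : E * E = E)
    (hcomm : ∀ x y, E (a x) (a y) = E x y)
    (hBr : ∀ x y, ¬ GoodPt p a x → ¬ GoodPt p a y → MemLocalIdeal M (E x y)) :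
    ∑ x, E x (a x) = 0 := by
  have hprime : M.IsPrime := hM.2.1.isPrime
  have hMtop : M ≠ ⊤ := hM.2.1.ne_top
  obtain ⟨c, hc⟩ := exists_cocycle p a
  obtain ⟨P, hP⟩ : ∃ P : Matrix Ω Ω ℂ, P = permMat a := ⟨_, rfl⟩
  obtain ⟨θ', hθ'⟩ : ∃ θ' : ZMod p → Matrix Ω Ω ℂ, θ' = fun i =>
      Matrix.diagonal (fun x => if GoodPt p a x ∧ c x = i then (1 : ℂ) else 0) := ⟨_, rfl⟩
  obtain ⟨ι, hι⟩ : ∃ ι : Matrix Ω Ω ℂ, ι =
      Matrix.diagonal (fun x => if GoodPt p a x then (0 : ℂ) else 1) := ⟨_, rfl⟩
  obtain ⟨ν, hν⟩ : ∃ ν : Matrix Ω Ω ℂ, ν = E * ι * E := ⟨_, rfl⟩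
  -- commutation relations
  have hPE : P * E = E * P := by
    ext x y
    rw [hP, permMat_mul_apply, mul_permMat_apply]
    have := hcomm (a.symm x) y
    rw [Equiv.apply_symm_apply] at this
    exact this.symm
  have hPθ : ∀ i, P * θ' i = θ' (i + 1) * P := by
    intro i
    rw [hP, hθ']
    apply permMat_mul_diagonal
    intro y
    by_cases hy : GoodPt p a y
    · have h1 : GoodPt p a (a y) := (goodPt_apply p a y).mpr hy
      have h2 : c (a y) = i + 1 ↔ c y = i := by
        rw [hc y hy]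
        exact add_left_inj 1
      simp only [h1, hy, true_and, h2]
    · have h1 : ¬ GoodPt p a (a y) := fun h => hy ((goodPt_apply p a y).mp h)
      simp only [h1, hy, false_and]
  have hPι : P * ι = ι * P := by
    rw [hP, hι]
    apply permMat_mul_diagonal
    intro y
    have h1 : GoodPt p a (a y) ↔ GoodPt p a y := goodPt_apply p a y
    simp only [h1]
  have hcPE : Commute P E := hPE
  have hcPι : Commute P ι := hPι
  have hcPν : Commute P ν := by
    rw [hν]
    exact (hcPE.mul_right hcPι).mul_right hcPE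
  -- algebra of `ν`
  have hEν : E * ν = ν := by
    rw [hν, ← Matrix.mul_assoc, ← Matrix.mul_assoc, hE2]
  have hνE : ν * E = ν := by
    rw [hν, Matrix.mul_assoc, hE2]
  have h1νE : (1 + ν) * E = E * (1 + ν) := by
    rw [Matrix.add_mul, Matrix.mul_add, Matrix.one_mul, Matrix.mul_one, hEν, hνE]
  obtain ⟨Θ, hΘ⟩ : ∃ Θ : ZMod p → Matrix Ω Ω ℂ, Θ = fun i => E * θ' i * E * (1 + ν) := ⟨_, rfl⟩
  -- local entries
  have hιR : MatR M ι := by
    rw [hι]
    apply MatR.diagonal hMtop
    intro x
    by_cases hx : GoodPt p a x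
    · rw [if_pos hx]; exact memLocalRing_zero hMtop
    · rw [if_neg hx]; exact memLocalRing_one hMtop
  have hθR : ∀ i, MatR M (θ' i) := by
    intro i
    rw [hθ']
    apply MatR.diagonal hMtop
    intro x
    by_cases hx : GoodPt p a x ∧ c x = i
    · rw [if_pos hx]; exact memLocalRing_one hMtop
    · rw [if_neg hx]; exact memLocalRing_zero hMtop
  have hνR : MatR M ν := by
    rw [hν]
    exact (hR.mul hιR).mul hR
  have hΘR : ∀ i, MatR M (Θ i) := by
    intro i
    rw [hΘ]
    exact ((hR.mul (hθR i)).mul hR).mul ((MatR.one hMtop).add hνR)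
  have hEΘ : ∀ i, E * Θ i = Θ i := by
    intro i
    rw [hΘ]
    simp only [← Matrix.mul_assoc, hE2]
  have hΘE : ∀ i, Θ i * E = Θ i := by
    intro i
    rw [hΘ]
    show E * θ' i * E * (1 + ν) * E = E * θ' i * E * (1 + ν)
    rw [Matrix.mul_assoc (E * θ' i * E), h1νE, ← Matrix.mul_assoc, Matrix.mul_assoc (E * θ' i), hE2]
  have hPΘ : ∀ i, P * Θ i = Θ (i + 1) * P := by
    intro i
    rw [hΘ]
    have h1 : SemiconjBy P (θ' i) (θ' (i + 1)) := hPθ i
    have h2 : SemiconjBy P E E := hcPE
    have h3 : SemiconjBy P (1 + ν) (1 + ν) := (Commute.one_right P).add_right hcPν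
    exact ((h2.mul_right h1).mul_right h2).mul_right h3
  -- the sum of the `Θ i`
  have hsumθ : ∑ i, θ' i = 1 - ι := by
    rw [hθ', hι]
    ext x y
    rw [Matrix.sum_apply, Matrix.sub_apply]
    by_cases hxy : x = y
    · subst hxy
      simp only [Matrix.diagonal_apply_eq, Matrix.one_apply_eq]
      by_cases hx : GoodPt p a x
      · simp only [hx, true_and, if_true, sub_zero]
        rw [Finset.sum_ite_eq]
        simp
      · simp only [hx, false_and, if_false, sub_self, Finset.sum_const_zero]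
    · simp only [Matrix.diagonal_apply_ne _ hxy, Matrix.one_apply_ne hxy, sub_zero,
        Finset.sum_const_zero]
  have hsumΘ : ∑ i, Θ i - E = -(ν * ν) := by
    have h1 : ∑ i, Θ i = E * (∑ i, θ' i) * E * (1 + ν) := by
      rw [hΘ, Finset.mul_sum, Finset.sum_mul, Finset.sum_mul]
    rw [h1, hsumθ, Matrix.mul_sub, Matrix.mul_one, Matrix.sub_mul, hE2, ← hν, Matrix.sub_mul,
      Matrix.mul_add, Matrix.mul_add, Matrix.mul_one, Matrix.mul_one, hEν]
    abel
  have hιEι : MatJ M (ι * E * ι) := by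
    intro x y
    rw [hι, Matrix.mul_diagonal, Matrix.diagonal_mul]
    by_cases hx : GoodPt p a x
    · rw [if_pos hx, zero_mul, zero_mul]
      exact Helper28.memLocalIdeal_zero hMtop
    · by_cases hy : GoodPt p a y
      · rw [if_pos hy, mul_zero]
        exact Helper28.memLocalIdeal_zero hMtop
      · rw [if_neg hx, if_neg hy, one_mul, mul_one]
        exact hBr x y hx hy
  have hννJ : MatJ M (ν * ν) := by
    have h1 : ν * ν = E * (ι * E * ι) * E := by
      rw [hν]
      calc E * ι * E * (E * ι * E) = E * ι * (E * E) * ι * E := by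
            simp only [Matrix.mul_assoc]
        _ = E * (ι * E * ι) * E := by
            rw [hE2]; simp only [Matrix.mul_assoc]
    rw [h1]
    exact (MatJ.mul_left hR hιEι).mul_right hR
  have hsum : MatJ M (∑ i, Θ i - E) := by
    rw [hsumΘ]
    exact hννJ.neg
  have hmain := trace_eq_zero_core hM P E Θ hE2 hPE hΘR hEΘ hΘE hPΘ hsum
  have h : ∑ x, E x (a x) = Matrix.trace (P * E) := by
    rw [Matrix.trace, ← Equiv.sum_comp a (fun x => Matrix.diag (P * E) x)]
    refine Finset.sum_congr rfl fun x _ => ?_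
    rw [Matrix.diag_apply, hP, permMat_mul_apply, Equiv.symm_apply_apply]
  rw [h, hmain]

end Main

end Cfsg.Agent.Lib.Helper28
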