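import Mathlib
import Cfsg.Agent.Lib.Helper28.GreenVanB
import Cfsg.Agent.Lib.Helper28.BrauerU
import Cfsg.Agent.Lib.Helper4.ClassMult

set_option autoImplicit false

/-!
# Green vanishing applied to the bimodule `f · ℂG · e_B` (helper28)
-/

namespace Cfsg.Agent.Lib.Helper28

open Cfsg Cfsg.Agent.Lib.Helper4
open scoped ComplexConjugate Classical

section Elem

variable {G : Type*} [Group G]

theorem eq_of_pow_eq_of_coprime {x y : G} {n q : ℕ} (hq : 1 < q) (hx : x ^ q = 1)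
    (hy : y ^ q = 1) (hn : Nat.Coprime n q) (h : x ^ n = y ^ n) : x = y := by
  obtain ⟨m, -, hm⟩ := Nat.exists_mul_mod_eq_one_of_coprime hn hq
  have h1 : ∀ u : G, u ^ q = 1 → u = (u ^ n) ^ m := by
    intro u hu
    rw [← pow_mul, pow_eq_pow_mod _ hu, hm, pow_one]
  rw [h1 x hx, h1 y hy, h]

theorem inv_mul_mul_pow (t u : G) (j : ℕ) : (t⁻¹ * u * t) ^ j = t⁻¹ * u ^ j * t := by
  induction j with
  | zero => simp
  | succ j ih => rw [pow_succ, ih, pow_succ]; group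

/-- a point of the two-sided action of `(h, g)` whose period is prime to `p` conjugates the
`p`-part of `h` to the `p`-part of `g` -/
theorem conj_pPart_of_not_goodPt {p : ℕ} [Fact p.Prime] (h g z y : G) (hz : IsPPart p h z)
    (hy : IsPPart p g y) (t : G)
    (ht : ¬ GoodPt p ((Equiv.mulLeft h).trans (Equiv.mulRight g⁻¹)) t) :
    t⁻¹ * z * t = y := by
  have hp : p.Prime := Fact.out
  obtain ⟨a, ha⟩ : ∃ a : Equiv.Perm G, a = (Equiv.mulLeft h).trans (Equiv.mulRight g⁻¹) :=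
    ⟨_, rfl⟩
  rw [← ha] at ht
  have hpow : ∀ (m : ℕ) (s : G), (a ^ m) s = h ^ m * s * g⁻¹ ^ m := by
    intro m
    induction m with
    | zero => intro s; simp
    | succ m ih =>
      intro s
      rw [pow_succ', Equiv.Perm.mul_apply, ih, ha]
      show h * (h ^ m * s * g⁻¹ ^ m) * g⁻¹ = _
      rw [pow_succ', pow_succ]
      group
  unfold GoodPt at ht
  push Not at ht
  obtain ⟨n, hn1, hn2⟩ := ht
  obtain ⟨m, hm1, hm2⟩ : ∃ m : ℕ, (a ^ m) t = t ∧ ¬ p ∣ m := by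
    refine ⟨n.natAbs, ?_, fun hd => hn2 (Int.natCast_dvd.mpr hd)⟩
    rcases Int.natAbs_eq n with hn | hn
    · rw [hn, zpow_natCast] at hn1
      exact hn1
    · rw [hn, zpow_neg, zpow_natCast, Equiv.Perm.inv_eq_iff_eq] at hn1
      exact hn1.symm
  rw [hpow] at hm1
  have h1 : t⁻¹ * h ^ m * t = g ^ m := by
    have : h ^ m * t = t * g ^ m := by
      calc h ^ m * t = h ^ m * t * g⁻¹ ^ m * g ^ m := by
            rw [inv_pow, inv_mul_cancel_right]
        _ = t * g ^ m := by rw [hm1]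
    rw [mul_assoc, this, inv_mul_cancel_left]
  obtain ⟨w, hw1, hw2, ⟨kz, hkz⟩, hw3⟩ := hz
  obtain ⟨v, hv1, hv2, ⟨ky, hky⟩, hv3⟩ := hy
  obtain ⟨N, hN⟩ : ∃ N : ℕ, N = orderOf w * orderOf v := ⟨_, rfl⟩
  have hwN : w ^ (m * N) = 1 := by
    rw [hN]
    apply orderOf_dvd_iff_pow_eq_one.mp
    exact Dvd.dvd.mul_left (Dvd.intro _ rfl) _
  have hvN : v ^ (m * N) = 1 := by
    rw [hN]
    apply orderOf_dvd_iff_pow_eq_one.mp
    exact Dvd.dvd.mul_left (Dvd.intro_left _ rfl) _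
  have h2 : h ^ (m * N) = z ^ (m * N) := by
    rw [← hw1, hw2.mul_pow, hwN, mul_one]
  have h3 : g ^ (m * N) = y ^ (m * N) := by
    rw [← hv1, hv2.mul_pow, hvN, mul_one]
  have h4 : (t⁻¹ * z * t) ^ (m * N) = y ^ (m * N) := by
    rw [inv_mul_mul_pow, ← h2, ← h3, pow_mul, pow_mul, ← inv_mul_mul_pow, h1]
  obtain ⟨q, hq⟩ : ∃ q : ℕ, q = p ^ (kz + ky + 1) := ⟨_, rfl⟩
  have hq1 : 1 < q := by
    rw [hq]
    exact Nat.one_lt_pow (Nat.succ_ne_zero _) hp.one_lt
  have hzq : z ^ q = 1 := by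
    apply orderOf_dvd_iff_pow_eq_one.mp
    rw [hkz, hq]
    exact pow_dvd_pow p (by omega)
  have hyq : y ^ q = 1 := by
    apply orderOf_dvd_iff_pow_eq_one.mp
    rw [hky, hq]
    exact pow_dvd_pow p (by omega)
  have hzq' : (t⁻¹ * z * t) ^ q = 1 := by
    rw [inv_mul_mul_pow, hzq, mul_one, inv_mul_cancel]
  have hcop : Nat.Coprime (m * N) q := by
    rw [hq]
    apply Nat.Coprime.pow_right
    apply Nat.Coprime.symm
    rw [Nat.Prime.coprime_iff_not_dvd hp, hN]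
    intro hd
    rcases (Nat.Prime.dvd_mul hp).mp hd with hd | hd
    · exact hm2 hd
    · rcases (Nat.Prime.dvd_mul hp).mp hd with hd | hd
      · exact hw3 hd
      · exact hv3 hd
  exact eq_of_pow_eq_of_coprime hq1 hzq' hyq hcop h4

end Elem

section App

variable {G : Type*} [Group G] [Fintype G] {M : Ideal AlgInt}

/-- the matrix of `v ↦ f · v · e` on `ℂ G` -/
noncomputable def bimodMat (H : Subgroup G) [Fintype H] (f : H → ℂ) (e : G → ℂ) :
    Matrix G G ℂ :=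
  Matrix.of fun t t' => ∑ k : H, f k * e (t'⁻¹ * (k : G)⁻¹ * t)

omit [Fintype G] in
theorem bimodMat_apply (H : Subgroup G) [Fintype H] (f : H → ℂ) (e : G → ℂ) (t t' : G) :
    bimodMat H f e t t' = ∑ k : H, f k * e (t'⁻¹ * (k : G)⁻¹ * t) := rfl

theorem bimodMat_idem (H : Subgroup G) [Fintype H] (f : H → ℂ) (e : G → ℂ)
    (hf : conv f f = f) (he : conv e e = e) :
    bimodMat H f e * bimodMat H f e = bimodMat H f e := by
  ext t t''
  rw [Matrix.mul_apply]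
  show ∑ t', (∑ k : H, f k * e (t'⁻¹ * (k : G)⁻¹ * t)) *
      (∑ k' : H, f k' * e (t''⁻¹ * (k' : G)⁻¹ * t')) =
    ∑ m : H, f m * e (t''⁻¹ * (m : G)⁻¹ * t)
  have key : ∀ k k' : H, ∑ t', e (t'⁻¹ * (k : G)⁻¹ * t) * e (t''⁻¹ * (k' : G)⁻¹ * t') =
      e (t''⁻¹ * ((k * k' : H) : G)⁻¹ * t) := by
    intro k k'
    have h1 : e (t''⁻¹ * ((k * k' : H) : G)⁻¹ * t) =
        conv e e (t''⁻¹ * ((k * k' : H) : G)⁻¹ * t) := by rw [he]
    rw [h1]
    show _ = ∑ s, e s * e (s⁻¹ * (t''⁻¹ * ((k * k' : H) : G)⁻¹ * t))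
    rw [← Equiv.sum_comp (Equiv.mulLeft (t''⁻¹ * (k' : G)⁻¹))
      (fun s => e s * e (s⁻¹ * (t''⁻¹ * ((k * k' : H) : G)⁻¹ * t)))]
    refine Finset.sum_congr rfl fun t' _ => ?_
    rw [Equiv.coe_mulLeft, mul_comm]
    congr 2
    rw [Subgroup.coe_mul]
    group
  calc _ = ∑ t', ∑ k : H, ∑ k' : H, (f k * f k') *
        (e (t'⁻¹ * (k : G)⁻¹ * t) * e (t''⁻¹ * (k' : G)⁻¹ * t')) := by
        refine Finset.sum_congr rfl fun t' _ => ?_
        rw [Finset.sum_mul_sum]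
        refine Finset.sum_congr rfl fun k _ => Finset.sum_congr rfl fun k' _ => by ring
    _ = ∑ k : H, ∑ k' : H, (f k * f k') * e (t''⁻¹ * ((k * k' : H) : G)⁻¹ * t) := by
        rw [Finset.sum_comm]
        refine Finset.sum_congr rfl fun k _ => ?_
        rw [Finset.sum_comm]
        refine Finset.sum_congr rfl fun k' _ => ?_
        rw [← Finset.mul_sum, key]
    _ = ∑ k : H, ∑ m : H, (f k * f (k⁻¹ * m)) * e (t''⁻¹ * (m : G)⁻¹ * t) := by
        refine Finset.sum_congr rfl fun k _ => ?_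
        rw [← Equiv.sum_comp (Equiv.mulLeft k)
          (fun m => (f k * f (k⁻¹ * m)) * e (t''⁻¹ * (m : G)⁻¹ * t))]
        refine Finset.sum_congr rfl fun k' _ => ?_
        rw [Equiv.coe_mulLeft, inv_mul_cancel_left]
    _ = ∑ m : H, f m * e (t''⁻¹ * (m : G)⁻¹ * t) := by
        rw [Finset.sum_comm]
        refine Finset.sum_congr rfl fun m _ => ?_
        rw [← Finset.sum_mul]
        congr 1
        conv_rhs => rw [← hf]
        rfl

theorem bimodMat_comm (H : Subgroup G) [Fintype H] (f : H → ℂ) (hf : IsClassFunction H f)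
    (e : G → ℂ) (he : IsClassFunction G e) (h : H) (g t t' : G) :
    bimodMat H f e ((h : G) * t * g⁻¹) ((h : G) * t' * g⁻¹) = bimodMat H f e t t' := by
  rw [bimodMat_apply, bimodMat_apply]
  rw [← Equiv.sum_comp (MulAut.conj h).toEquiv
    (fun k : H => f k * e (((h : G) * t' * g⁻¹)⁻¹ * (k : G)⁻¹ * ((h : G) * t * g⁻¹)))]
  refine Finset.sum_congr rfl fun k _ => ?_
  have h1 : (MulAut.conj h).toEquiv k = h * k * h⁻¹ := rfl
  rw [h1, hf k h]
  congr 1
  have h2 : ((h : G) * t' * g⁻¹)⁻¹ * ((h * k * h⁻¹ : H) : G)⁻¹ * ((h : G) * t * g⁻¹) =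
      g * (t'⁻¹ * (k : G)⁻¹ * t) * g⁻¹ := by
    rw [Subgroup.coe_mul, Subgroup.coe_mul, Subgroup.coe_inv]
    group
  rw [h2, he]

theorem bimodMat_matR [M.IsPrime] (H : Subgroup G) [Fintype H] (f : H → ℂ)
    (hf : ∀ k, MemLocalRing M (f k)) (e : G → ℂ) (he : ∀ g, MemLocalRing M (e g)) :
    MatR M (bimodMat H f e) := fun t t' => by
  rw [bimodMat_apply]
  exact memLocalRing_sum _ _ fun k _ => memLocalRing_mul (hf k) (he _)

theorem sum_conj_mul_char {χ : G → ℂ} (hχ : IsIrrCharacter G χ) (u v : G) :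
    ∑ t, χ (t⁻¹ * u * t * v) = (Nat.card G : ℂ) * χ u * χ v / χ 1 := by
  have hcl := isClassFunction_of_isIrrCharacter hχ
  have h1 : ∀ t, χ (t⁻¹ * u * t * v) = χ (v * (t⁻¹ * u * t⁻¹⁻¹)) := by
    intro t
    rw [inv_inv, ← hcl (t⁻¹ * u * t * v) v]
    congr 1
    group
  simp_rw [h1]
  have h2 := Equiv.sum_comp (Equiv.inv G) (fun k => χ (v * (k * u * k⁻¹)))
  simp only [Equiv.inv_apply] at h2
  rw [h2]
  obtain ⟨n, ρ, hirr, rfl⟩ := hχ
  rw [sum_char_mul_conj ρ hirr v u, Representation.char_one]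
  ring

theorem sum_bimodMat_diag (H : Subgroup G) [Fintype H] (f : H → ℂ)
    (B : Set (IrrCharacter G)) (h : H) (g : G) :
    ∑ t, bimodMat H f (blockCoeff B) t ((h : G) * t * g⁻¹) =
      ∑ᶠ χ ∈ B, (χ : G → ℂ) g⁻¹ * ∑ k : H, f k * (χ : G → ℂ) ((k : G) * (h : G)) := by
  have : Fintype (IrrCharacter G) := Fintype.ofFinite _
  rw [finsum_mem_eq_sum_ite]
  have h1 : ∀ t, bimodMat H f (blockCoeff B) t ((h : G) * t * g⁻¹) =
      ∑ χ : IrrCharacter G, if χ ∈ B then ∑ k : H, f k * ((Nat.card G : ℂ)⁻¹ * (χ : G → ℂ) 1 *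
        (χ : G → ℂ) (t⁻¹ * ((k : G) * h) * t * g⁻¹)) else 0 := by
    intro t
    rw [bimodMat_apply]
    simp_rw [blockCoeff_eq_sum, Finset.mul_sum]
    rw [Finset.sum_comm]
    refine Finset.sum_congr rfl fun χ _ => ?_
    by_cases hχ : χ ∈ B
    · simp only [if_pos hχ]
      refine Finset.sum_congr rfl fun k _ => ?_
      rw [Cfsg.Agent.Lib.Helper26.isCharacter_conj_eq_inv
        (Cfsg.Agent.Lib.Helper26.isCharacter_of_isIrrCharacter χ.2)]
      have h2 : (((h : G) * t * g⁻¹)⁻¹ * (k : G)⁻¹ * t)⁻¹ = t⁻¹ * ((k : G) * h) * t * g⁻¹ := by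
        group
      rw [h2]
      ring
    · simp only [if_neg hχ, mul_zero, Finset.sum_const_zero]
  simp_rw [h1]
  rw [Finset.sum_comm]
  refine Finset.sum_congr rfl fun χ _ => ?_
  by_cases hχ : χ ∈ B
  · simp only [if_pos hχ]
    rw [Finset.sum_comm, Finset.mul_sum]
    refine Finset.sum_congr rfl fun k _ => ?_
    rw [← Finset.mul_sum, ← Finset.mul_sum, sum_conj_mul_char χ.2]
    have h3 := irr_one_ne_zero χ.2
    have hG : (Nat.card G : ℂ) ≠ 0 := by
      have : Nat.card G ≠ 0 := Nat.card_pos.ne'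
      exact_mod_cast this
    field_simp
  · simp only [if_neg hχ, Finset.sum_const_zero]

/-- **Green vanishing for `f · ℂG · e_B`.** -/
theorem gv_application {p : ℕ} [Fact p.Prime] (hM : IsPModular p M) (H : Subgroup G) [Fintype H]
    (f : H → ℂ) (hf1 : IsClassFunction H f) (hf2 : ∀ k, MemLocalRing M (f k))
    (hf3 : conv f f = f) {B : Set (IrrCharacter G)} (hB : IsPBlock M B) (h : H) (g z y : G)
    (hz : IsPPart p (h : G) z) (hy : IsPPart p g y)
    (hBr : ∀ t t' : G, t⁻¹ * z * t = y → t'⁻¹ * z * t' = y →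
      MemLocalIdeal M (∑ k : H, f k * blockCoeff B (t'⁻¹ * (k : G)⁻¹ * t))) :
    ∑ᶠ χ ∈ B, (χ : G → ℂ) g⁻¹ * ∑ k : H, f k * (χ : G → ℂ) ((k : G) * (h : G)) = 0 := by
  have hprime : M.IsPrime := hM.2.1.isPrime
  rw [← sum_bimodMat_diag]
  have := green_vanishing hM ((Equiv.mulLeft (h : G)).trans (Equiv.mulRight g⁻¹))
    (bimodMat H f (blockCoeff B))
    (bimodMat_matR H f hf2 _ fun g => Helper28.osima hB g)
    (bimodMat_idem H f _ hf3 (conv_blockCoeff_self B))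
    (fun t t' => bimodMat_comm H f hf1 _ (isClassFunction_blockCoeff B) h g t t')
    (fun t t' ht ht' => hBr t t' (conj_pPart_of_not_goodPt _ g z y hz hy t ht)
      (conj_pPart_of_not_goodPt _ g z y hz hy t' ht'))
  exact this

end App

end Cfsg.Agent.Lib.Helper28
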