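import Mathlib
import Cfsg.Agent.Lib.Helper28.GreenVanC

set_option autoImplicit false

/-!
# Block orthogonality (helper28)
-/

namespace Cfsg.Agent.Lib.Helper28

open Cfsg Cfsg.Agent.Lib.Helper4
open scoped ComplexConjugate Classical

section Elem

variable {G : Type*} [Group G]

/-- every element of a finite group has a `p`-part -/
theorem exists_isPPart [Finite G] {p : ℕ} (hp : p.Prime) (g : G) : ∃ x : G, IsPPart p g x := by
  have hn : orderOf g ≠ 0 := (orderOf_pos g).ne'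
  obtain ⟨k, m, hm, hnm⟩ := Nat.exists_eq_pow_mul_and_not_dvd hn p hp.ne_one
  have hcop : Nat.Coprime (p ^ k) m :=
    Nat.Coprime.pow_left k ((Nat.Prime.coprime_iff_not_dvd hp).mpr hm)
  have hbez := Int.gcd_eq_gcd_ab (p ^ k : ℕ) m
  rw [Int.gcd_natCast_natCast, hcop, Nat.cast_one] at hbez
  obtain ⟨A, hA⟩ : ∃ A : ℤ, A = Int.gcdA (p ^ k : ℕ) m := ⟨_, rfl⟩
  obtain ⟨B, hB⟩ : ∃ B : ℤ, B = Int.gcdB (p ^ k : ℕ) m := ⟨_, rfl⟩
  rw [← hA, ← hB] at hbez
  have hgn : g ^ ((p ^ k : ℕ) * (m : ℤ)) = 1 := by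
    have : ((p ^ k : ℕ) : ℤ) * (m : ℤ) = ((orderOf g : ℕ) : ℤ) := by
      rw [hnm]; push_cast; ring
    rw [this, zpow_natCast, pow_orderOf_eq_one]
  refine ⟨g ^ ((m : ℤ) * B), g ^ (((p ^ k : ℕ) : ℤ) * A), ?_, ?_, ?_, ?_⟩
  · rw [← zpow_add, add_comm, ← hbez, zpow_one]
  · exact (Commute.refl g).zpow_zpow _ _
  · have h1 : (g ^ ((m : ℤ) * B)) ^ (p ^ k) = 1 := by
      rw [← zpow_natCast, ← zpow_mul]
      have : (m : ℤ) * B * ((p ^ k : ℕ) : ℤ) = ((p ^ k : ℕ) * (m : ℤ)) * B := by ring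
      rw [this, zpow_mul, hgn, one_zpow]
    obtain ⟨j, _, hj⟩ := (Nat.dvd_prime_pow hp).mp (orderOf_dvd_of_pow_eq_one h1)
    exact ⟨j, hj⟩
  · have h1 : (g ^ (((p ^ k : ℕ) : ℤ) * A)) ^ m = 1 := by
      rw [← zpow_natCast, ← zpow_mul]
      have : ((p ^ k : ℕ) : ℤ) * A * (m : ℤ) = ((p ^ k : ℕ) * (m : ℤ)) * A := by ring
      rw [this, zpow_mul, hgn, one_zpow]
    intro hd
    exact hm (hd.trans (orderOf_dvd_of_pow_eq_one h1))

end Elem

section Orth

variable {G : Type*} [Group G] [Fintype G] {M : Ideal AlgInt}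

/-- **block orthogonality**: if the `p`-parts of `g` and `h` are not conjugate, then
`∑_{χ ∈ B} χ(g) χ(h⁻¹) = 0` -/
theorem block_orthogonality {p : ℕ} [Fact p.Prime] (hM : IsPModular p M) (g h x y : G)
    (hx : IsPPart p g x) (hy : IsPPart p h y) (hxy : ¬ IsConj x y)
    {B : Set (IrrCharacter G)} (hB : IsPBlock M B) :
    ∑ᶠ χ ∈ B, (χ : G → ℂ) g * (χ : G → ℂ) h⁻¹ = 0 := by
  have hprime : M.IsPrime := hM.2.1.isPrime
  have hgv := gv_application hM (⊤ : Subgroup G) (deltaF (1 : (⊤ : Subgroup G)))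
    isClassFunction_deltaF_one (fun k => deltaF_memLocalRing 1 k) (deltaF_one_conv _) hB
    ⟨g, Subgroup.mem_top g⟩ h x y hx hy (by
      intro t t' ht _
      exfalso
      apply hxy
      rw [isConj_iff]
      exact ⟨t⁻¹, by rw [inv_inv]; exact ht⟩)
  rw [← hgv]
  refine finsum_congr fun χ => finsum_congr fun _ => ?_
  rw [Finset.sum_eq_single (1 : (⊤ : Subgroup G))]
  · unfold deltaF
    rw [if_pos rfl, one_mul, Subgroup.coe_one, one_mul, mul_comm]
  · intro k _ hk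
    unfold deltaF
    rw [if_neg hk, zero_mul]
  · intro h'
    exact absurd (Finset.mem_univ _) h'

theorem blockPart_eq (B : Set (IrrCharacter G)) (ϑ : G → ℂ) (u : G) :
    blockPart B ϑ u = ∑ᶠ χ ∈ B, classInner ϑ (χ : G → ℂ) * (χ : G → ℂ) u := by
  unfold blockPart
  rw [Subsingleton.elim (Fintype.ofFinite G) ‹Fintype G›]

/-- the `B`-part of a class function vanishing on a `p`-section vanishes on that section -/
theorem blockPart_vanish_section {p : ℕ} [Fact p.Prime] (hM : IsPModular p M) (ϑ : G → ℂ)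
    (x : G) (hϑ : ∀ u z : G, IsPPart p u z → IsConj x z → ϑ u = 0)
    {B : Set (IrrCharacter G)} (hB : IsPBlock M B) (u z : G) (hz : IsPPart p u z)
    (hxz : IsConj x z) : blockPart B ϑ u = 0 := by
  have : Fintype (IrrCharacter G) := Fintype.ofFinite _
  have hp : p.Prime := Fact.out
  have h1 : blockPart B ϑ u = (Nat.card G : ℂ)⁻¹ * ∑ g, ϑ g *
      ∑ᶠ χ ∈ B, (χ : G → ℂ) u * (χ : G → ℂ) g⁻¹ := by
    rw [blockPart_eq]
    simp_rw [finsum_mem_eq_sum_ite]
    have h2 : ∀ g, ϑ g * ∑ χ : IrrCharacter G, (if χ ∈ B then (χ : G → ℂ) u * (χ : G → ℂ) g⁻¹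
        else 0) = ∑ χ : IrrCharacter G, if χ ∈ B then ϑ g * ((χ : G → ℂ) u * (χ : G → ℂ) g⁻¹)
        else 0 := by
      intro g
      rw [Finset.mul_sum]
      refine Finset.sum_congr rfl fun χ _ => ?_
      split_ifs <;> simp
    rw [Finset.sum_congr rfl fun g _ => h2 g, Finset.sum_comm, Finset.mul_sum]
    refine Finset.sum_congr rfl fun χ _ => ?_
    by_cases hχ : χ ∈ B
    · simp only [if_pos hχ]
      unfold classInner
      rw [mul_assoc, Finset.sum_mul]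
      congr 1
      refine Finset.sum_congr rfl fun g _ => ?_
      rw [Cfsg.Agent.Lib.Helper26.isCharacter_conj_eq_inv
        (Cfsg.Agent.Lib.Helper26.isCharacter_of_isIrrCharacter χ.2)]
      ring
    · simp only [if_neg hχ, Finset.sum_const_zero, mul_zero]
  rw [h1]
  have h2 : ∀ g, ϑ g * ∑ᶠ χ ∈ B, (χ : G → ℂ) u * (χ : G → ℂ) g⁻¹ = 0 := by
    intro g
    obtain ⟨z', hz'⟩ := exists_isPPart hp g
    by_cases hc : IsConj x z'
    · rw [hϑ g z' hz' hc, zero_mul]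
    · rw [block_orthogonality hM u g z z' hz hz' (fun hzz => hc (hxz.trans hzz)) hB, mul_zero]
  simp_rw [h2]
  rw [Finset.sum_const_zero, mul_zero]

end Orth

end Cfsg.Agent.Lib.Helper28
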