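import Mathlib
import Cfsg.Agent.Lib.Helper28.GreenVanD
import Cfsg.Agent.Lib.Helper28.BlockRankD

set_option autoImplicit false

/-!
# Brauer's second main theorem (helper28)
-/

namespace Cfsg.Agent.Lib.Helper28

open Cfsg Cfsg.Agent.Lib.Helper4
open scoped ComplexConjugate Classical

section Abstract

variable {G : Type*} [Group G] [Fintype G] {M : Ideal AlgInt}

theorem conv_comm_of_isClassFunction {F1 F2 : G → ℂ} (h1 : IsClassFunction G F1)
    (h2 : IsClassFunction G F2) : conv F1 F2 = conv F2 F1 := by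
  apply eq_of_omegaF_eq _ _ (isClassFunction_conv h1 h2) (isClassFunction_conv h2 h1)
  intro χ
  rw [omegaF_conv χ.2 _ _ h1 h2, omegaF_conv χ.2 _ _ h2 h1, mul_comm]

/-- vanishing of a combination of irreducible characters forces vanishing coefficients -/
theorem coeff_eq_zero_of_sum_irr_eq_zero (B : Set (IrrCharacter G)) (c : IrrCharacter G → ℂ)
    (h : ∀ g : G, ∑ᶠ χ ∈ B, (χ : G → ℂ) g * c χ = 0) : ∀ χ ∈ B, c χ = 0 := by
  have : Fintype (IrrCharacter G) := Fintype.ofFinite _
  have hli := linearIndependent_irr (G := G)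
  rw [Fintype.linearIndependent_iff] at hli
  have h1 := hli (fun χ => if χ ∈ B then c χ else 0) (by
    funext g
    rw [Finset.sum_apply, Pi.zero_apply]
    refine Eq.trans ?_ (h g)
    rw [finsum_mem_eq_sum_ite]
    refine Finset.sum_congr rfl fun χ _ => ?_
    rw [Pi.smul_apply, smul_eq_mul]
    split_ifs
    · ring
    · ring)
  intro χ hχ
  have := h1 χ
  rwa [if_pos hχ] at this

/-- **second main theorem, abstract form**: `C_G(z) ≤ H` for the `p`-part `z` of `h ∈ H`, and
`f · Res_H(e_B)` has coefficients in the local ideal on `C_G(z)`. -/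
theorem second_main_abstract {p : ℕ} [Fact p.Prime] (hM : IsPModular p M) (H : Subgroup G)
    [Fintype H] (f : H → ℂ) (hf1 : IsClassFunction H f) (hf2 : ∀ k, MemLocalRing M (f k))
    (hf3 : conv f f = f) {B : Set (IrrCharacter G)} (hB : IsPBlock M B) (h : H) (z : G)
    (hz : IsPPart p (h : G) z) (hCH : Subgroup.centralizer ({z} : Set G) ≤ H)
    (hBr : ∀ d : H, (d : G) ∈ Subgroup.centralizer ({z} : Set G) →
      MemLocalIdeal M (conv f (resMap H (blockCoeff B)) d)) :
    ∀ χ ∈ B, ∑ k : H, f k * (χ : G → ℂ) ((k : G) * (h : G)) = 0 := by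
  have hp : p.Prime := Fact.out
  apply coeff_eq_zero_of_sum_irr_eq_zero B
    (fun χ => ∑ k : H, f k * (χ : G → ℂ) ((k : G) * (h : G)))
  intro g
  obtain ⟨y, hy⟩ := exists_isPPart hp g⁻¹
  have := gv_application hM H f hf1 hf2 hf3 hB h g⁻¹ z y hz hy (by
    intro t t' ht ht'
    have hd : t * t'⁻¹ ∈ Subgroup.centralizer ({z} : Set G) := by
      rw [Subgroup.mem_centralizer_iff]
      intro w hw
      rw [Set.mem_singleton_iff] at hw
      subst hw
      have h1 : w = t * y * t⁻¹ := by rw [← ht]; group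
      have h2 : w = t' * y * t'⁻¹ := by rw [← ht']; group
      calc w * (t * t'⁻¹) = t * y * t⁻¹ * (t * t'⁻¹) := by rw [← h1]
        _ = t * t'⁻¹ * (t' * y * t'⁻¹) := by group
        _ = t * t'⁻¹ * w := by rw [← h2]
    have := hBr ⟨t * t'⁻¹, hCH hd⟩ hd
    have h3 : conv f (resMap H (blockCoeff B)) ⟨t * t'⁻¹, hCH hd⟩ =
        ∑ k : H, f k * blockCoeff B (t'⁻¹ * (k : G)⁻¹ * t) := by
      show ∑ k : H, f k * resMap H (blockCoeff B) (k⁻¹ * ⟨t * t'⁻¹, hCH hd⟩) = _
      refine Finset.sum_congr rfl fun k _ => ?_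
      unfold resMap
      congr 1
      have h4 : ((k⁻¹ * ⟨t * t'⁻¹, hCH hd⟩ : H) : G) =
          t' * (t'⁻¹ * (k : G)⁻¹ * t) * t'⁻¹ := by
        rw [Subgroup.coe_mul, Subgroup.coe_inv]
        group
      rw [h4, isClassFunction_blockCoeff B]
    rwa [h3] at this)
  rwa [inv_inv] at this

end Abstract

section BlockPart

variable {G : Type*} [Group G] [Fintype G]

/-- the `b`-part of a class function is multiplication by the idempotent of `b` -/
theorem blockPart_eq_sum_blockCoeff (b : Set (IrrCharacter G)) (ϑ : G → ℂ)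
    (hϑ : IsClassFunction G ϑ) (y : G) :
    blockPart b ϑ y = ∑ k, blockCoeff b k * ϑ (k * y) := by
  have : Fintype (IrrCharacter G) := Fintype.ofFinite _
  rw [blockPart_eq, finsum_mem_eq_sum_ite]
  have h1 : ∀ k, blockCoeff b k * ϑ (k * y) = ∑ ψ : IrrCharacter G,
      if ψ ∈ b then (Nat.card G : ℂ)⁻¹ * (ψ : G → ℂ) 1 * (conj ((ψ : G → ℂ) k) * ϑ (k * y))
      else 0 := by
    intro k
    rw [blockCoeff_eq_sum, Finset.mul_sum, Finset.sum_mul]
    refine Finset.sum_congr rfl fun ψ _ => ?_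
    split_ifs
    · ring
    · ring
  rw [Finset.sum_congr rfl fun k _ => h1 k, Finset.sum_comm]
  refine Finset.sum_congr rfl fun ψ _ => ?_
  by_cases hψ : ψ ∈ b
  · simp only [if_pos hψ]
    rw [← Finset.mul_sum]
    have hcl' : IsClassFunction G (fun k => conj (ϑ k)) := by
      intro g k
      show conj (ϑ (k * g * k⁻¹)) = conj (ϑ g)
      rw [hϑ]
    have h2 := sum_mul_char_shift ψ.2 (fun k => conj (ϑ k)) hcl' y⁻¹
    have h3 : ∑ k, conj ((ψ : G → ℂ) k) * ϑ (k * y) =
        conj (∑ k, conj (ϑ k) * (ψ : G → ℂ) (k * y⁻¹)) := by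
      rw [map_sum, ← Equiv.sum_comp (Equiv.mulRight y)
        (fun k => conj (conj (ϑ k) * (ψ : G → ℂ) (k * y⁻¹)))]
      refine Finset.sum_congr rfl fun k _ => ?_
      rw [Equiv.coe_mulRight, map_mul, Complex.conj_conj, mul_inv_cancel_right, mul_comm]
    rw [h3, h2, map_mul]
    have h4 : conj ((ψ : G → ℂ) y⁻¹) = (ψ : G → ℂ) y := by
      rw [Cfsg.Agent.Lib.Helper26.isCharacter_conj_eq_inv
        (Cfsg.Agent.Lib.Helper26.isCharacter_of_isIrrCharacter ψ.2), inv_inv]
    rw [h4]
    unfold omegaF classInner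
    rw [map_div₀, irr_one_conj ψ.2, map_sum]
    have h5 := irr_one_ne_zero ψ.2
    have h6 : ∑ k, conj (conj (ϑ k) * (ψ : G → ℂ) k) = ∑ k, ϑ k * conj ((ψ : G → ℂ) k) := by
      refine Finset.sum_congr rfl fun k _ => ?_
      rw [map_mul, Complex.conj_conj]
    rw [h6]
    field_simp
  · simp only [if_neg hψ, Finset.sum_const_zero]

end BlockPart

section Centralizer

variable {G : Type*} [Group G] [Fintype G] {M : Ideal AlgInt}

/-- **Brauer's second main theorem** for the centralizer of a `p`-element -/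
theorem second_main_centralizer {p : ℕ} [Fact p.Prime] (hM : IsPModular p M) (x : G)
    (hx : ∃ k : ℕ, orderOf x = p ^ k) {B : Set (IrrCharacter G)} (hB : IsPBlock M B)
    (χ : IrrCharacter G) (hχ : χ ∈ B)
    [Fintype (Subgroup.centralizer ({x} : Set G))]
    (b : Set (IrrCharacter (Subgroup.centralizer ({x} : Set G)))) (hb : IsPBlock M b)
    (hnot : ¬ IsInducedBlock M (Subgroup.centralizer ({x} : Set G)) b B)
    (y : Subgroup.centralizer ({x} : Set G)) (hy : ¬ p ∣ orderOf y) :
    ∑ k : Subgroup.centralizer ({x} : Set G), blockCoeff b k *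
      (χ : G → ℂ) ((k : G) * (x * (y : G))) = 0 := by
  have hprime : M.IsPrime := hM.2.1.isPrime
  have hMtop : M ≠ ⊤ := hM.2.1.ne_top
  obtain ⟨hPH, hCH, hHN⟩ := zpowers_centralizer_setup x
  have hP : IsPGroup p (Subgroup.zpowers x) := by
    obtain ⟨k, hk⟩ := hx
    apply IsPGroup.of_card (n := k)
    rw [Nat.card_zpowers, hk]
  have hRB : ∀ g, MemLocalRing M (blockCoeff B g) := fun g => Helper28.osima hB g
  have hxC : x ∈ Subgroup.centralizer ({x} : Set G) := hPH (Subgroup.mem_zpowers x)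
  obtain ⟨f', hf'⟩ : ∃ f' : Subgroup.centralizer ({x} : Set G) → ℂ,
      f' = brMap (Subgroup.zpowers x) (Subgroup.centralizer ({x} : Set G)) (blockCoeff B) :=
    ⟨_, rfl⟩
  have hf'res : f' = resMap (Subgroup.centralizer ({x} : Set G)) (blockCoeff B) := by
    rw [hf']
    funext c
    unfold resMap
    exact brMap_of_mem _ _ _ (centralizer_singleton_le_centralizer_zpowers x c.2)
  have hf1 : IsClassFunction _ f' :=
    hf' ▸ isClassFunction_brMap _ _ hHN (isClassFunction_blockCoeff B)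
  have hf2 : ∀ c, MemLocalRing M (f' c) := fun c => hf' ▸ brMap_memLocalRing _ _ hRB c
  have hidem : ∀ c, MemLocalIdeal M (conv f' f' c - f' c) := fun c =>
    hf' ▸ brMap_blockCoeff_idem hM _ _ hP hCH B hRB c
  obtain ⟨ξ, hξ⟩ := Helper28.block_nonempty hb
  have h0 : MemLocalIdeal M (omegaF (ξ : _ → ℂ) f') := by
    by_contra hcon
    apply hnot
    have := isInducedBlock_of_omegaF_brMap hM _ _ hP hPH hCH hHN hB ξ (hf' ▸ hcon)
    rwa [← Helper28.block_eq_blockOf hb hξ] at this
  have hJ := conv_blockCoeff_memLocalIdeal f' hf1 hf2 hidem hb hξ h0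
  rw [conv_comm_of_isClassFunction hf1 (isClassFunction_blockCoeff b), hf'res] at hJ
  have hz : IsPPart p (((⟨x, hxC⟩ * y : Subgroup.centralizer ({x} : Set G))) : G) x := by
    refine ⟨(y : G), ?_, ?_, hx, ?_⟩
    · rw [Subgroup.coe_mul]
    · have := y.2
      rw [Subgroup.mem_centralizer_iff] at this
      exact this x rfl
    · rw [Subgroup.orderOf_coe]
      exact hy
  have := second_main_abstract hM (Subgroup.centralizer ({x} : Set G)) (blockCoeff b)
    (isClassFunction_blockCoeff b) (fun k => Helper28.osima hb k) (conv_blockCoeff_self b) hB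
    (⟨x, hxC⟩ * y) x hz le_rfl (fun d _ => hJ d) χ hχ
  rw [← this]
  refine Finset.sum_congr rfl fun k _ => ?_
  rw [Subgroup.coe_mul]

end Centralizer

end Cfsg.Agent.Lib.Helper28
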