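import Mathlib
import Cfsg.Agent.Lib.Helper28.GreenVanE
import Cfsg.Agent.Lib.Helper28.BlockDefectB
import Cfsg.Agent.Lib.Helper26.IndChar
import Cfsg.Agent.Lib.Helper26.TIInd
import Cfsg.Agent.Lib.Helper26.CharInt

set_option autoImplicit false

/-!
# Block parts of induced characters (helper28)
-/

namespace Cfsg.Agent.Lib.Helper28

open Cfsg Cfsg.Agent.Lib.Helper4
open scoped ComplexConjugate Classical

section NumberTheory

variable {M : Ideal AlgInt}

theorem natCast_split {p : ℕ} (n : ℕ) :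
    (n : ℂ) = (p : ℂ) ^ (n.factorization p) * ((n / p ^ (n.factorization p) : ℕ) : ℂ) := by
  conv_lhs => rw [← Nat.ordProj_mul_ordCompl_eq_self n p]
  push_cast
  ring

theorem memLocalIdeal_pow_p {p : ℕ} (hM : IsPModular p M) {k : ℕ} (hk : 0 < k) :
    MemLocalIdeal M ((p : ℂ) ^ k) := by
  have hprime : M.IsPrime := hM.2.1.isPrime
  have hMtop : M ≠ ⊤ := hM.2.1.ne_top
  obtain ⟨j, rfl⟩ : ∃ j, k = j + 1 := ⟨k - 1, by omega⟩
  rw [pow_succ]
  exact Helper28.memLocalIdeal_mul_left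
    (memLocalRing_pow (memLocalRing_natCast hMtop p) j) (memLocalIdeal_natCast_p hM)

/-- if `n = N ω` with `ω` a local integer then `ν_p N ≤ ν_p n` -/
theorem factorization_le_of_eq_mul_memLocalRing {p : ℕ} (hM : IsPModular p M) {n N : ℕ}
    (hn : n ≠ 0) {ω : ℂ} (h : (n : ℂ) = (N : ℂ) * ω)
    (hω : MemLocalRing M ω) : N.factorization p ≤ n.factorization p := by
  have hp : p.Prime := hM.1
  have hprime : M.IsPrime := hM.2.1.isPrime
  have hMtop : M ≠ ⊤ := hM.2.1.ne_top
  by_contra hlt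
  rw [not_le] at hlt
  obtain ⟨j, hj⟩ : ∃ j, N.factorization p = n.factorization p + (j + 1) :=
    ⟨N.factorization p - n.factorization p - 1, by omega⟩
  have hpc : (p : ℂ) ≠ 0 := Nat.cast_ne_zero.mpr hp.ne_zero
  have hcop := (Nat.coprime_ordCompl hp hn).symm
  have e1 := natCast_split (p := p) n
  have e2 := natCast_split (p := p) N
  obtain ⟨n', hn'⟩ : ∃ n' : ℕ, n' = n / p ^ (n.factorization p) := ⟨_, rfl⟩
  obtain ⟨N', hN'⟩ : ∃ N' : ℕ, N' = N / p ^ (N.factorization p) := ⟨_, rfl⟩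
  rw [← hn'] at e1 hcop
  rw [← hN', hj, pow_add] at e2
  rw [e1, e2] at h
  have h2 : (n' : ℂ) = (p : ℂ) ^ (j + 1) * (N' : ℂ) * ω := by
    apply mul_left_cancel₀ (pow_ne_zero (n.factorization p) hpc)
    rw [h]; ring
  apply not_memLocalIdeal_natCast hM hcop
  rw [h2]
  exact Helper28.memLocalIdeal_mul_right (Helper28.memLocalIdeal_mul_right
    (memLocalIdeal_pow_p hM (Nat.succ_pos j)) (memLocalRing_natCast hMtop _)) hω

/-- if `n = N ω` with `ω` in the local ideal then `ν_p N < ν_p n` -/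
theorem factorization_lt_of_eq_mul_memLocalIdeal {p : ℕ} (hM : IsPModular p M) {n N : ℕ}
    (hn : n ≠ 0) {ω : ℂ} (h : (n : ℂ) = (N : ℂ) * ω)
    (hω : MemLocalIdeal M ω) : N.factorization p < n.factorization p := by
  have hp : p.Prime := hM.1
  have hprime : M.IsPrime := hM.2.1.isPrime
  have hMtop : M ≠ ⊤ := hM.2.1.ne_top
  by_contra hlt
  rw [not_lt] at hlt
  obtain ⟨j, hj⟩ : ∃ j, N.factorization p = n.factorization p + j :=
    ⟨N.factorization p - n.factorization p, by omega⟩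
  have hpc : (p : ℂ) ≠ 0 := Nat.cast_ne_zero.mpr hp.ne_zero
  have hcop := (Nat.coprime_ordCompl hp hn).symm
  have e1 := natCast_split (p := p) n
  have e2 := natCast_split (p := p) N
  obtain ⟨n', hn'⟩ : ∃ n' : ℕ, n' = n / p ^ (n.factorization p) := ⟨_, rfl⟩
  obtain ⟨N', hN'⟩ : ∃ N' : ℕ, N' = N / p ^ (N.factorization p) := ⟨_, rfl⟩
  rw [← hn'] at e1 hcop
  rw [← hN', hj, pow_add] at e2
  rw [e1, e2] at h
  have h2 : (n' : ℂ) = (p : ℂ) ^ j * (N' : ℂ) * ω := by
    apply mul_left_cancel₀ (pow_ne_zero (n.factorization p) hpc)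
    rw [h]; ring
  apply not_memLocalIdeal_natCast hM hcop
  rw [h2]
  exact Helper28.memLocalIdeal_mul_left (memLocalRing_mul
    (memLocalRing_pow (memLocalRing_natCast hMtop p) j) (memLocalRing_natCast hMtop _)) hω

/-- if `n = N ω` with `ω ≡ 1` then `n ≠ 0` and `ν_p n ≤ ν_p N` -/
theorem factorization_le_of_eq_mul_sub_one {p : ℕ} (hM : IsPModular p M) {n N : ℕ}
    (hN : N ≠ 0) {ω : ℂ} (h : (n : ℂ) = (N : ℂ) * ω)
    (hω : MemLocalIdeal M (ω - 1)) : n ≠ 0 ∧ n.factorization p ≤ N.factorization p := by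
  have hp : p.Prime := hM.1
  have hprime : M.IsPrime := hM.2.1.isPrime
  have hMtop : M ≠ ⊤ := hM.2.1.ne_top
  have hNc : (N : ℂ) ≠ 0 := Nat.cast_ne_zero.mpr hN
  have hn : n ≠ 0 := by
    rintro rfl
    rw [Nat.cast_zero] at h
    have : ω = 0 := by
      rcases mul_eq_zero.mp h.symm with h1 | h1
      · exact absurd h1 hNc
      · exact h1
    rw [this, zero_sub] at hω
    have := Helper28.memLocalIdeal_neg hω
    rw [neg_neg] at this
    exact not_memLocalIdeal_one hMtop this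
  refine ⟨hn, ?_⟩
  by_contra hlt
  rw [not_le] at hlt
  obtain ⟨j, hj⟩ : ∃ j, n.factorization p = N.factorization p + (j + 1) :=
    ⟨n.factorization p - N.factorization p - 1, by omega⟩
  have hpc : (p : ℂ) ≠ 0 := Nat.cast_ne_zero.mpr hp.ne_zero
  have hcop := (Nat.coprime_ordCompl hp hN).symm
  have hN'c : ((N / p ^ (N.factorization p) : ℕ) : ℂ) ≠ 0 := by
    apply Nat.cast_ne_zero.mpr
    exact (Nat.div_pos (Nat.le_of_dvd (Nat.pos_of_ne_zero hN) (Nat.ordProj_dvd N p))
      (pow_pos hp.pos _)).ne'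
  have e1 := natCast_split (p := p) n
  have e2 := natCast_split (p := p) N
  obtain ⟨n', hn'⟩ : ∃ n' : ℕ, n' = n / p ^ (n.factorization p) := ⟨_, rfl⟩
  obtain ⟨N', hN'⟩ : ∃ N' : ℕ, N' = N / p ^ (N.factorization p) := ⟨_, rfl⟩
  rw [← hN'] at e2 hcop hN'c
  rw [← hn', hj, pow_add] at e1
  rw [e1, e2] at h
  have h2 : ω = (p : ℂ) ^ (j + 1) * (n' : ℂ) * (N' : ℂ)⁻¹ := by
    have h3 : (N' : ℂ) * ω = (p : ℂ) ^ (j + 1) * (n' : ℂ) := by
      apply mul_left_cancel₀ (pow_ne_zero (N.factorization p) hpc)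
      rw [← mul_assoc, ← h]; ring
    rw [← h3, mul_comm _ ω, mul_assoc, mul_inv_cancel₀ hN'c, mul_one]
  have hωJ : MemLocalIdeal M ω := by
    rw [h2]
    exact Helper28.memLocalIdeal_mul_right (Helper28.memLocalIdeal_mul_right
      (memLocalIdeal_pow_p hM (Nat.succ_pos j)) (memLocalRing_natCast hMtop _))
      (memLocalRing_inv_natCast hM hcop)
  have := Helper28.memLocalIdeal_sub hωJ hω
  rw [sub_sub_cancel] at this
  exact not_memLocalIdeal_one hMtop this

end NumberTheory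

section Induced

variable {G : Type*} [Group G] [Fintype G] {M : Ideal AlgInt}

theorem sum_mul_indFun (H : Subgroup G) [Fintype H] (e : G → ℂ) (he : IsClassFunction G e)
    (α : H → ℂ) :
    ∑ g, e g * indFun H α g = (Nat.card G : ℂ) * (Nat.card H : ℂ)⁻¹ * ∑ h : H, e h * α h := by
  have hG : (Nat.card G : ℂ) ≠ 0 := by
    have : Nat.card G ≠ 0 := Nat.card_pos.ne'
    exact_mod_cast this
  have h1 := Cfsg.Agent.Lib.Helper26.classInner_indFun_right H e he (fun h => conj (α h))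
  have h2 : indFun H (fun h => conj (α h)) = fun g => conj (indFun H α g) := by
    funext g
    unfold indFun
    rw [map_mul, map_sum, map_inv₀, Complex.conj_natCast]
    congr 1
    refine Finset.sum_congr rfl fun x _ => ?_
    by_cases hx : x⁻¹ * g * x ∈ H
    · rw [Cfsg.Agent.Lib.Helper26.extendByZero_apply_mem H _ _ hx,
        Cfsg.Agent.Lib.Helper26.extendByZero_apply_mem H _ _ hx]
    · rw [Cfsg.Agent.Lib.Helper26.extendByZero_apply_not_mem H _ _ hx,
        Cfsg.Agent.Lib.Helper26.extendByZero_apply_not_mem H _ _ hx, map_zero]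
  rw [h2] at h1
  unfold classInner at h1
  simp only [Complex.conj_conj] at h1
  rw [mul_assoc, ← h1, ← mul_assoc, mul_inv_cancel₀ hG, one_mul]

theorem indFun_one (H : Subgroup G) [Fintype H] (α : H → ℂ) :
    indFun H α 1 = (Nat.card G : ℂ) * (Nat.card H : ℂ)⁻¹ * α 1 := by
  unfold indFun
  have h1 : ∀ x : G, extendByZero H α (x⁻¹ * 1 * x) = α 1 := by
    intro x
    have : x⁻¹ * 1 * x = ((1 : H) : G) := by simp
    rw [this, Cfsg.Agent.Lib.Helper26.extendByZero_apply_coe]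
  rw [Finset.sum_congr rfl fun x _ => h1 x, Finset.sum_const, Finset.card_univ, nsmul_eq_mul,
    Nat.card_eq_fintype_card, Nat.card_eq_fintype_card]
  ring

/-- the `B`-part of an induced character at `1` -/
theorem blockPart_indFun_one (H : Subgroup G) [Fintype H] (B : Set (IrrCharacter G))
    (ξ : IrrCharacter H) :
    blockPart B (indFun H (ξ : H → ℂ)) 1 =
      indFun H (ξ : H → ℂ) 1 * omegaF (ξ : H → ℂ) (resMap H (blockCoeff B)) := by
  rw [blockPart_eq_sum_blockCoeff B _ (Cfsg.Agent.Lib.Helper26.isClassFunction_indFun H _) 1]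
  simp only [mul_one]
  rw [sum_mul_indFun H _ (isClassFunction_blockCoeff B), indFun_one]
  unfold omegaF resMap
  have h1 := irr_one_ne_zero ξ.2
  field_simp

/-- **the degrees of the block parts of an induced character** -/
theorem blockPart_indFun_congr {p : ℕ} [Fact p.Prime] (hM : IsPModular p M) (H : Subgroup G)
    [Fintype H] {b : Set (IrrCharacter H)} {B₀ : Set (IrrCharacter G)}
    (hind : IsInducedBlock M H b B₀) (ξ : IrrCharacter H) (hξ : ξ ∈ b)
    {B : Set (IrrCharacter G)} (hB : IsPBlock M B) :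
    MemLocalRing M (omegaF (ξ : H → ℂ) (resMap H (blockCoeff B))) ∧
    (B = B₀ → MemLocalIdeal M (omegaF (ξ : H → ℂ) (resMap H (blockCoeff B)) - 1)) ∧
    (B ≠ B₀ → MemLocalIdeal M (omegaF (ξ : H → ℂ) (resMap H (blockCoeff B)))) := by
  have hprime : M.IsPrime := hM.2.1.isPrime
  have hMtop : M ≠ ⊤ := hM.2.1.ne_top
  have hcl := isClassFunction_blockCoeff B
  have hR : ∀ g, MemLocalRing M (blockCoeff B g) := fun g => Helper28.osima hB g
  obtain ⟨χ₀, hχ₀⟩ := Helper28.block_nonempty hind.2.1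
  have e := omegaF_resMap_sub_of_induced H hind hξ hχ₀ (blockCoeff B) hcl hR
  rw [Helper28.omegaF_blockCoeff] at e
  refine ⟨omegaF_memLocalRing ξ.2 _ (isClassFunction_resMap H hcl) (fun h => hR _), ?_, ?_⟩
  · intro hBB
    rw [if_pos (hBB ▸ hχ₀)] at e
    exact e
  · intro hBB
    have : χ₀ ∉ B := fun hc => hBB (Helper28.block_eq_of_mem hB hind.2.1 hc hχ₀)
    rw [if_neg this, sub_zero] at e
    exact e

end Induced

end Cfsg.Agent.Lib.Helper28
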