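import Mathlib
import Cfsg.Prelude.Def_Blocks
import Cfsg.Agent.Lib.Helper28.LocalIdeal
import Cfsg.Agent.Lib.Helper28.LocalRingB

set_option autoImplicit false

/-!
# The residue map from the local ring at `M` to `AlgInt ⧸ M` (helper28)
-/

namespace Cfsg.Agent.Lib.Helper28

open Cfsg
open scoped Classical

section

variable (M : Ideal AlgInt) [hmax : M.IsMaximal]

/-- the residue of a local integer `a / b` is `ā b̄⁻¹` (and `0` outside the local ring) -/
noncomputable def localRes (z : ℂ) : AlgInt ⧸ M :=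
  letI := Ideal.Quotient.field M
  if h : MemLocalRing M z then
    Ideal.Quotient.mk M h.choose * (Ideal.Quotient.mk M h.choose_spec.choose)⁻¹
  else 0

variable {M}

omit hmax in
theorem mk_ne_zero_of_not_mem {b : AlgInt} (hb : b ∉ M) : Ideal.Quotient.mk M b ≠ 0 := by
  intro h
  exact hb (Ideal.Quotient.eq_zero_iff_mem.mp h)

theorem localRes_mul_mk {z : ℂ} {a b : AlgInt} (hb : b ∉ M) (h : (a : ℂ) / (b : ℂ) = z) :
    localRes M z * Ideal.Quotient.mk M b = Ideal.Quotient.mk M a := by
  let _ := Ideal.Quotient.field M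
  have hz : MemLocalRing M z := ⟨a, b, hb, h⟩
  unfold localRes
  rw [dif_pos hz]
  obtain ⟨hb', h'⟩ := hz.choose_spec.choose_spec
  set a' := hz.choose
  set b' := hz.choose_spec.choose
  have hb0 : (b : ℂ) ≠ 0 := algInt_coe_ne_zero_of_not_mem hb
  have hb'0 : (b' : ℂ) ≠ 0 := algInt_coe_ne_zero_of_not_mem hb'
  have h1 : a' * b = a * b' := by
    apply Subtype.ext
    push_cast
    have : (a' : ℂ) / (b' : ℂ) = (a : ℂ) / (b : ℂ) := h'.trans h.symm
    field_simp at this
    rw [this, mul_comm]
  have h2 : Ideal.Quotient.mk M a' * Ideal.Quotient.mk M b =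
      Ideal.Quotient.mk M a * Ideal.Quotient.mk M b' := by
    rw [← map_mul, ← map_mul, h1]
  have hne : Ideal.Quotient.mk M b' ≠ 0 := mk_ne_zero_of_not_mem hb'
  calc Ideal.Quotient.mk M a' * (Ideal.Quotient.mk M b')⁻¹ * Ideal.Quotient.mk M b
      = (Ideal.Quotient.mk M a' * Ideal.Quotient.mk M b) * (Ideal.Quotient.mk M b')⁻¹ := by ring
    _ = Ideal.Quotient.mk M a * Ideal.Quotient.mk M b' * (Ideal.Quotient.mk M b')⁻¹ := by rw [h2]
    _ = Ideal.Quotient.mk M a := by rw [mul_assoc, mul_inv_cancel₀ hne, mul_one]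

/-- uniqueness: anything satisfying the defining equation is the residue -/
theorem eq_localRes {z : ℂ} {a b : AlgInt} (hb : b ∉ M) (h : (a : ℂ) / (b : ℂ) = z)
    {r : AlgInt ⧸ M} (hr : r * Ideal.Quotient.mk M b = Ideal.Quotient.mk M a) :
    r = localRes M z := by
  have : M.IsPrime := hmax.isPrime
  have h1 := localRes_mul_mk hb h
  have hne : Ideal.Quotient.mk M b ≠ 0 := mk_ne_zero_of_not_mem hb
  exact mul_right_cancel₀ hne (hr.trans h1.symm)

theorem localRes_add {z w : ℂ} (hz : MemLocalRing M z) (hw : MemLocalRing M w) :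
    localRes M (z + w) = localRes M z + localRes M w := by
  have : M.IsPrime := hmax.isPrime
  obtain ⟨a, b, hb, rfl⟩ := hz
  obtain ⟨c, d, hd, rfl⟩ := hw
  have hb0 : (b : ℂ) ≠ 0 := algInt_coe_ne_zero_of_not_mem hb
  have hd0 : (d : ℂ) ≠ 0 := algInt_coe_ne_zero_of_not_mem hd
  have hbd : b * d ∉ M := fun h => (Ideal.IsPrime.mem_or_mem ‹_› h).elim hb hd
  symm
  apply eq_localRes (a := a * d + c * b) hbd
  · push_cast
    field_simp
  · rw [map_mul, map_add, map_mul, map_mul, add_mul]
    have h1 := localRes_mul_mk hb (rfl : (a : ℂ) / (b : ℂ) = _)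
    have h2 := localRes_mul_mk hd (rfl : (c : ℂ) / (d : ℂ) = _)
    rw [← h1, ← h2]
    ring

theorem localRes_mul {z w : ℂ} (hz : MemLocalRing M z) (hw : MemLocalRing M w) :
    localRes M (z * w) = localRes M z * localRes M w := by
  have : M.IsPrime := hmax.isPrime
  obtain ⟨a, b, hb, rfl⟩ := hz
  obtain ⟨c, d, hd, rfl⟩ := hw
  have hb0 : (b : ℂ) ≠ 0 := algInt_coe_ne_zero_of_not_mem hb
  have hd0 : (d : ℂ) ≠ 0 := algInt_coe_ne_zero_of_not_mem hd
  have hbd : b * d ∉ M := fun h => (Ideal.IsPrime.mem_or_mem ‹_› h).elim hb hd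
  symm
  apply eq_localRes (a := a * c) hbd
  · push_cast
    field_simp
  · rw [map_mul, map_mul]
    have h1 := localRes_mul_mk hb (rfl : (a : ℂ) / (b : ℂ) = _)
    have h2 := localRes_mul_mk hd (rfl : (c : ℂ) / (d : ℂ) = _)
    rw [← h1, ← h2]
    ring

theorem localRes_algInt (a : AlgInt) : localRes M (a : ℂ) = Ideal.Quotient.mk M a := by
  have h1 : (1 : AlgInt) ∉ M := (Ideal.ne_top_iff_one M).mp hmax.ne_top
  symm
  apply eq_localRes (a := a) (b := 1) h1
  · simp
  · rw [map_one, mul_one]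

theorem localRes_of_isIntegral {z : ℂ} (hz : IsIntegral ℤ z) :
    localRes M z = Ideal.Quotient.mk M ⟨z, hz⟩ :=
  localRes_algInt (⟨z, hz⟩ : AlgInt)

theorem localRes_natCast (n : ℕ) : localRes M (n : ℂ) = (n : AlgInt ⧸ M) := by
  have := localRes_algInt (M := M) (n : AlgInt)
  rw [map_natCast] at this
  rw [← this]
  congr 1

theorem localRes_zero : localRes M 0 = 0 := by
  have := localRes_natCast (M := M) 0
  simpa using this

theorem localRes_one : localRes M 1 = 1 := by
  have := localRes_natCast (M := M) 1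
  simpa using this

theorem localRes_eq_zero_iff {z : ℂ} (hz : MemLocalRing M z) :
    localRes M z = 0 ↔ MemLocalIdeal M z := by
  have : M.IsPrime := hmax.isPrime
  constructor
  · intro h0
    obtain ⟨a, b, hb, rfl⟩ := hz
    have h1 := localRes_mul_mk hb (rfl : (a : ℂ) / (b : ℂ) = _)
    rw [h0, zero_mul] at h1
    exact ⟨a, b, Ideal.Quotient.eq_zero_iff_mem.mp h1.symm, hb, rfl⟩
  · rintro ⟨a, b, ha, hb, rfl⟩
    have h1 := localRes_mul_mk hb (rfl : (a : ℂ) / (b : ℂ) = _)
    rw [Ideal.Quotient.eq_zero_iff_mem.mpr ha] at h1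
    exact (mul_eq_zero.mp h1).resolve_right (mk_ne_zero_of_not_mem hb)

theorem localRes_neg {z : ℂ} (hz : MemLocalRing M z) : localRes M (-z) = -localRes M z := by
  have : M.IsPrime := hmax.isPrime
  have h1 := localRes_add hz (memLocalRing_neg hz)
  rw [add_neg_cancel, localRes_zero] at h1
  exact (neg_eq_of_add_eq_zero_right h1.symm).symm

theorem localRes_sub {z w : ℂ} (hz : MemLocalRing M z) (hw : MemLocalRing M w) :
    localRes M (z - w) = localRes M z - localRes M w := by
  have : M.IsPrime := hmax.isPrime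
  rw [sub_eq_add_neg, localRes_add hz (memLocalRing_neg hw), localRes_neg hw, sub_eq_add_neg]

theorem localRes_sum {ι : Type*} (s : Finset ι) (f : ι → ℂ)
    (h : ∀ i ∈ s, MemLocalRing M (f i)) :
    localRes M (∑ i ∈ s, f i) = ∑ i ∈ s, localRes M (f i) := by
  classical
  have : M.IsPrime := hmax.isPrime
  induction s using Finset.induction_on with
  | empty => simp [localRes_zero]
  | insert i s hi ih =>
    rw [Finset.sum_insert hi, Finset.sum_insert hi,
      localRes_add (h i (Finset.mem_insert_self i s))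
        (memLocalRing_sum s f fun j hj => h j (Finset.mem_insert_of_mem hj)),
      ih fun j hj => h j (Finset.mem_insert_of_mem hj)]

/-- congruent local integers have the same residue -/
theorem localRes_eq_of_sub_memLocalIdeal {z w : ℂ} (hz : MemLocalRing M z)
    (hw : MemLocalRing M w) (h : MemLocalIdeal M (z - w)) : localRes M z = localRes M w := by
  have : M.IsPrime := hmax.isPrime
  have h1 := (localRes_eq_zero_iff (memLocalRing_sub hz hw)).mpr h
  rw [localRes_sub hz hw] at h1
  exact sub_eq_zero.mp h1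

end

end Cfsg.Agent.Lib.Helper28
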