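import Mathlib
import Cfsg.Agent.Lib.Helper28.GreenVanE

set_option autoImplicit false

/-!
# The Brauer map kills `e_B · v` when `ω_B(v) ≡ 0` and `Br(v)` is idempotent (helper28)
-/

namespace Cfsg.Agent.Lib.Helper28

open Cfsg Cfsg.Agent.Lib.Helper4
open scoped ComplexConjugate Classical

section BR

variable {G : Type*} [Group G] [Fintype G] {M : Ideal AlgInt}

theorem brMap_conv_blockCoeff_memLocalIdeal {p : ℕ} [Fact p.Prime] (hM : IsPModular p M)
    (P H : Subgroup G) [Fintype H] (hP : IsPGroup p P) (hPH : P ≤ H)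
    (hCH : Subgroup.centralizer (P : Set G) ≤ H)
    (hHN : H ≤ Subgroup.normalizer (P : Set G)) {B : Set (IrrCharacter G)}
    (hB : IsPBlock M B) (v₀ : G → ℂ) (hv1 : IsClassFunction G v₀)
    (hv2 : ∀ g, MemLocalRing M (v₀ g))
    (hvidem : ∀ h, MemLocalIdeal M (conv (brMap P H v₀) (brMap P H v₀) h - brMap P H v₀ h))
    (hvω : ∀ χ ∈ B, MemLocalIdeal M (omegaF ((χ : IrrCharacter G) : G → ℂ) v₀)) :
    ∀ h : H, MemLocalIdeal M (brMap P H (conv (blockCoeff B) v₀) h) := by
  have hprime : M.IsPrime := hM.2.1.isPrime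
  have hMtop : M ≠ ⊤ := hM.2.1.ne_top
  have hRB : ∀ g, MemLocalRing M (blockCoeff B g) := fun g => Helper28.osima hB g
  have hclB := isClassFunction_blockCoeff B
  obtain ⟨u, hu⟩ : ∃ u : H → ℂ, u = brMap P H (blockCoeff B) := ⟨_, rfl⟩
  obtain ⟨v, hv⟩ : ∃ v : H → ℂ, v = brMap P H v₀ := ⟨_, rfl⟩
  have hu1 : IsClassFunction H u := hu ▸ isClassFunction_brMap P H hHN hclB
  have hu2 : ∀ h, MemLocalRing M (u h) := fun h => hu ▸ brMap_memLocalRing P H hRB h
  have huidem : ∀ h, MemLocalIdeal M (conv u u h - u h) := fun h =>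
    hu ▸ brMap_blockCoeff_idem hM P H hP hCH B hRB h
  have hv1' : IsClassFunction H v := hv ▸ isClassFunction_brMap P H hHN hv1
  have hv2' : ∀ h, MemLocalRing M (v h) := fun h => hv ▸ brMap_memLocalRing P H hv2 h
  rw [← hv] at hvidem
  obtain ⟨w, hw⟩ : ∃ w : H → ℂ, w = conv u v := ⟨_, rfl⟩
  have hw1 : IsClassFunction H w := hw ▸ isClassFunction_conv hu1 hv1'
  have hw2 : ∀ h, MemLocalRing M (w h) := fun h => hw ▸ Helper28.conv_memLocalRing hu2 hv2' h
  have hwidem : ∀ h, MemLocalIdeal M (conv w w h - w h) := by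
    have h1 : conv w w = conv (conv u u) (conv v v) := by
      rw [hw]
      apply eq_of_omegaF_eq _ _
        (isClassFunction_conv (isClassFunction_conv hu1 hv1') (isClassFunction_conv hu1 hv1'))
        (isClassFunction_conv (isClassFunction_conv hu1 hu1) (isClassFunction_conv hv1' hv1'))
      intro ξ
      rw [omegaF_conv ξ.2 _ _ (isClassFunction_conv hu1 hv1') (isClassFunction_conv hu1 hv1'),
        omegaF_conv ξ.2 _ _ hu1 hv1',
        omegaF_conv ξ.2 _ _ (isClassFunction_conv hu1 hu1) (isClassFunction_conv hv1' hv1'),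
        omegaF_conv ξ.2 _ _ hu1 hu1, omegaF_conv ξ.2 _ _ hv1' hv1']
      ring
    have h2 : conv (conv u u) (conv v v) - conv u v =
        conv (conv u u - u) (conv v v) + conv u (conv v v - v) := by
      rw [conv_sub_left, conv_sub_right]
      abel
    intro h
    have h3 : conv w w h - w h = (conv (conv u u) (conv v v) - conv u v) h := by
      rw [h1, hw]; rfl
    rw [h3, h2]
    show MemLocalIdeal M (conv (conv u u - u) (conv v v) h + conv u (conv v v - v) h)
    apply Helper28.memLocalIdeal_add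
    · exact conv_memLocalIdeal_left (fun g => huidem g)
        (fun g => Helper28.conv_memLocalRing hv2' hv2' g) h
    · exact conv_memLocalIdeal_right hu2 (fun g => hvidem g) h
  have hwω : ∀ ξ : IrrCharacter H, MemLocalIdeal M (omegaF (ξ : H → ℂ) w) := by
    intro ξ
    rw [hw, omegaF_conv ξ.2 _ _ hu1 hv1']
    by_cases hξu : MemLocalIdeal M (omegaF (ξ : H → ℂ) u)
    · exact Helper28.memLocalIdeal_mul_right hξu (omegaF_memLocalRing ξ.2 v hv1' hv2')
    · apply Helper28.memLocalIdeal_mul_left (omegaF_memLocalRing ξ.2 u hu1 hu2)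
      have hind := isInducedBlock_of_omegaF_brMap hM P H hP hPH hCH hHN hB ξ (hu ▸ hξu)
      obtain ⟨χ, hχ⟩ := Helper28.block_nonempty hB
      have e1 := omegaF_resMap_sub_brMap_memLocalIdeal hM P H hP hPH hHN ξ.2 v₀ hv1 hv2
      have e2 := omegaF_resMap_sub_of_induced H hind (Helper28.sameBlock_refl hMtop _) hχ v₀
        hv1 hv2
      have e3 := hvω χ hχ
      rw [hv]
      have e4 : omegaF (ξ : H → ℂ) (brMap P H v₀) =
          (omegaF (ξ : H → ℂ) (resMap H v₀) - omegaF (χ : G → ℂ) v₀) + omegaF (χ : G → ℂ) v₀ -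
          (omegaF (ξ : H → ℂ) (resMap H v₀) - omegaF (ξ : H → ℂ) (brMap P H v₀)) := by ring
      rw [e4]
      exact Helper28.memLocalIdeal_sub (Helper28.memLocalIdeal_add e2 e3) e1
  have hwJ := memLocalIdeal_of_idem_of_omegaF w hw1 hw2 hwidem hwω
  intro h
  have h5 := brMap_conv_sub_memLocalIdeal hM P H hP hCH (blockCoeff B) v₀ hclB hv1 hRB hv2 h
  rw [← hu, ← hv, ← hw] at h5
  have := Helper28.memLocalIdeal_add h5 (hwJ h)
  rwa [sub_add_cancel] at this

end BR

end Cfsg.Agent.Lib.Helper28
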