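import Mathlib
import Cfsg.Agent.Lib.Helper28.GreenVanH

set_option autoImplicit false

/-!
# Brauer's second main theorem for a subgroup containing the centralizer of the `p`-part
(helper28)
-/

namespace Cfsg.Agent.Lib.Helper28

open Cfsg Cfsg.Agent.Lib.Helper4
open scoped ComplexConjugate Classical

section General

variable {G : Type*} [Group G] [Fintype G] {M : Ideal AlgInt}

/-- **second main theorem, general subgroup**: `b` a block of `H` inducing `B`, `h ∈ H` with
`C_G(h_p) ≤ H`, `χ ∉ B`; then `χ` annihilates `f_b h`. -/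
theorem second_main_general {p : ℕ} [Fact p.Prime] (hM : IsPModular p M) (H : Subgroup G)
    [Fintype H] {b : Set (IrrCharacter H)} {B : Set (IrrCharacter G)}
    (hind : IsInducedBlock M H b B) (h : H) (z : G) (hz : IsPPart p (h : G) z)
    (hCz : Subgroup.centralizer ({z} : Set G) ≤ H) (χ : IrrCharacter G) (hχ : χ ∉ B) :
    ∑ k : H, blockCoeff b k * (χ : G → ℂ) ((k : G) * (h : G)) = 0 := by
  have hprime : M.IsPrime := hM.2.1.isPrime
  have hMtop : M ≠ ⊤ := hM.2.1.ne_top
  have hb : IsPBlock M b := hind.1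
  have hB : IsPBlock M B := hind.2.1
  obtain ⟨B', hB'def⟩ : ∃ B' : Set (IrrCharacter G), B' = blockOf M (χ : G → ℂ) := ⟨_, rfl⟩
  have hB' : IsPBlock M B' := hB'def ▸ ⟨χ, rfl⟩
  have hχB' : χ ∈ B' := hB'def ▸ Helper28.sameBlock_refl hMtop _
  have hRB' : ∀ g, MemLocalRing M (blockCoeff B' g) := fun g => Helper28.osima hB' g
  have hclB' := isClassFunction_blockCoeff B'
  apply second_main_abstract hM H (blockCoeff b) (isClassFunction_blockCoeff b)
    (fun k => Helper28.osima hb k) (conv_blockCoeff_self b) hB' h z hz hCz ?_ χ hχB'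
  -- the Brauer-type hypothesis
  have hzk : ∃ k : ℕ, orderOf z = p ^ k := by
    obtain ⟨_, _, _, hk, _⟩ := hz
    exact hk
  have hzC : z ∈ Subgroup.centralizer ({z} : Set G) := by
    rw [Subgroup.mem_centralizer_iff]
    intro w hw
    rw [Set.mem_singleton_iff] at hw
    rw [hw]
  obtain ⟨z', hz'⟩ : ∃ z' : H, (z' : G) = z := ⟨⟨z, hCz hzC⟩, rfl⟩
  obtain ⟨hPH', hCH', hHN'⟩ := zpowers_centralizer_setup z'
  have hP' : IsPGroup p (Subgroup.zpowers z') := by
    obtain ⟨k, hk⟩ := hzk
    apply IsPGroup.of_card (n := k)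
    rw [Nat.card_zpowers, ← hk, ← hz', Subgroup.orderOf_coe]
  obtain ⟨hPH, hCH, hHN⟩ := zpowers_centralizer_setup z
  have hQ : IsPGroup p (Subgroup.zpowers z) := by
    obtain ⟨k, hk⟩ := hzk
    apply IsPGroup.of_card (n := k)
    rw [Nat.card_zpowers, hk]
  have hmemK : ∀ j : H, j ∈ Subgroup.centralizer ({z'} : Set H) ↔
      (j : G) ∈ Subgroup.centralizer ({z} : Set G) := by
    intro j
    rw [Subgroup.mem_centralizer_iff, Subgroup.mem_centralizer_iff]
    constructor
    · intro hj w hw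
      rw [Set.mem_singleton_iff] at hw
      rw [hw, ← hz']
      have := hj z' rfl
      exact congrArg Subtype.val this
    · intro hj w hw
      rw [Set.mem_singleton_iff] at hw
      rw [hw]
      apply Subtype.ext
      rw [Subgroup.coe_mul, Subgroup.coe_mul, hz']
      exact hj z rfl
  have : Fintype (Subgroup.centralizer ({z'} : Set H)) := Fintype.ofFinite _
  have : Fintype (Subgroup.centralizer ({z} : Set G)) := Fintype.ofFinite _
  obtain ⟨v₀, hv₀⟩ : ∃ v₀ : H → ℂ, v₀ = resMap H (blockCoeff B') := ⟨_, rfl⟩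
  have hv1 : IsClassFunction H v₀ := hv₀ ▸ isClassFunction_resMap H hclB'
  have hv2 : ∀ g, MemLocalRing M (v₀ g) := fun g => hv₀ ▸ hRB' _
  have hvω : ∀ ψ ∈ b, MemLocalIdeal M (omegaF ((ψ : IrrCharacter H) : H → ℂ) v₀) := by
    intro ψ hψ
    obtain ⟨χ₁, hχ₁⟩ := Helper28.block_nonempty hB
    have e := omegaF_resMap_sub_of_induced H hind hψ hχ₁ (blockCoeff B') hclB' hRB'
    have hχ₁' : χ₁ ∉ B' := by
      intro hc
      apply hχ
      rw [Helper28.block_eq_of_mem hB hB' hχ₁ hc]
      exact hχB'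
    rw [Helper28.omegaF_blockCoeff, if_neg hχ₁', sub_zero, ← hv₀] at e
    exact e
  -- values of the two Brauer maps
  obtain ⟨φ, hφ⟩ : ∃ φ : ↥(Subgroup.centralizer ({z'} : Set H)) ≃
      ↥(Subgroup.centralizer ({z} : Set G)), ∀ j, ((φ j : _) : G) = ((j : H) : G) :=
    ⟨{ toFun := fun j => ⟨((j : H) : G), (hmemK j).mp j.2⟩
       invFun := fun c => ⟨⟨(c : G), hCz c.2⟩, (hmemK _).mpr c.2⟩
       left_inv := fun j => rfl
       right_inv := fun c => rfl }, fun j => rfl⟩
  have hval' : ∀ j : ↥(Subgroup.centralizer ({z'} : Set H)),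
      brMap (Subgroup.zpowers z') (Subgroup.centralizer ({z'} : Set H)) v₀ j =
        blockCoeff B' ((j : H) : G) := by
    intro j
    rw [brMap_of_mem _ _ _ (centralizer_singleton_le_centralizer_zpowers z' j.2), hv₀]
    rfl
  have hvalG : ∀ c : ↥(Subgroup.centralizer ({z} : Set G)),
      brMap (Subgroup.zpowers z) (Subgroup.centralizer ({z} : Set G)) (blockCoeff B') c =
        blockCoeff B' (c : G) := by
    intro c
    rw [brMap_of_mem _ _ _ (centralizer_singleton_le_centralizer_zpowers z c.2)]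
  have hval : ∀ j : ↥(Subgroup.centralizer ({z'} : Set H)),
      brMap (Subgroup.zpowers z') (Subgroup.centralizer ({z'} : Set H)) v₀ j =
        brMap (Subgroup.zpowers z) (Subgroup.centralizer ({z} : Set G)) (blockCoeff B') (φ j) := by
    intro j
    rw [hval', hvalG, hφ]
  have hφmul : ∀ i j : ↥(Subgroup.centralizer ({z'} : Set H)), φ (i⁻¹ * j) = (φ i)⁻¹ * φ j := by
    intro i j
    apply Subtype.ext
    rw [Subgroup.coe_mul, Subgroup.coe_inv, hφ, hφ, hφ, Subgroup.coe_mul, Subgroup.coe_inv,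
      Subgroup.coe_mul, Subgroup.coe_inv]
  have key := brMap_blockCoeff_idem hM (Subgroup.zpowers z) (Subgroup.centralizer ({z} : Set G))
    hQ hCH B' hRB'
  have hvidem : ∀ k : ↥(Subgroup.centralizer ({z'} : Set H)),
      MemLocalIdeal M (conv (brMap (Subgroup.zpowers z') (Subgroup.centralizer ({z'} : Set H)) v₀)
        (brMap (Subgroup.zpowers z') (Subgroup.centralizer ({z'} : Set H)) v₀) k -
        brMap (Subgroup.zpowers z') (Subgroup.centralizer ({z'} : Set H)) v₀ k) := by
    intro k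
    have e2 : conv (brMap (Subgroup.zpowers z') (Subgroup.centralizer ({z'} : Set H)) v₀)
        (brMap (Subgroup.zpowers z') (Subgroup.centralizer ({z'} : Set H)) v₀) k =
        conv (brMap (Subgroup.zpowers z) (Subgroup.centralizer ({z} : Set G)) (blockCoeff B'))
        (brMap (Subgroup.zpowers z) (Subgroup.centralizer ({z} : Set G)) (blockCoeff B'))
        (φ k) := by
      show ∑ i, _ * _ = ∑ c, _ * _
      rw [← Equiv.sum_comp φ]
      refine Finset.sum_congr rfl fun i _ => ?_
      rw [hval i, hval (i⁻¹ * k), hφmul]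
    rw [e2, hval k]
    exact key (φ k)
  have hBR := brMap_conv_blockCoeff_memLocalIdeal hM (Subgroup.zpowers z')
    (Subgroup.centralizer ({z'} : Set H)) hP' hPH' hCH' hHN' hb v₀ hv1 hv2 hvidem hvω
  intro d hd
  have hdK : d ∈ Subgroup.centralizer ({z'} : Set H) := (hmemK d).mpr hd
  have := hBR ⟨d, hdK⟩
  rw [brMap_of_mem _ _ _ (centralizer_singleton_le_centralizer_zpowers z' hdK), hv₀] at this
  exact this

end General

end Cfsg.Agent.Lib.Helper28
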