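import Mathlib
import Cfsg.Agent.Lib.Helper28.GreenVanE

set_option autoImplicit false

/-!
# Characters vanish off the defect groups (helper28)
-/

namespace Cfsg.Agent.Lib.Helper28

open Cfsg Cfsg.Agent.Lib.Helper4
open scoped ComplexConjugate Classical

section Central

variable {G : Type*} [Group G]

/-- a central `p`-element lies in every Sylow `p`-subgroup -/
theorem central_pElement_mem_sylow {p : ℕ} [Fact p.Prime] (z : G) (hzc : ∀ g : G, g * z = z * g)
    (hz : ∃ k : ℕ, orderOf z = p ^ k) (P : Sylow p G) : z ∈ (P : Subgroup G) := by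
  have hN : (Subgroup.zpowers z).Normal := by
    constructor
    intro n hn g
    obtain ⟨k, rfl⟩ := Subgroup.mem_zpowers_iff.mp hn
    have h1 : Commute g z := hzc g
    have h2 : g * z ^ k * g⁻¹ = z ^ k := by
      rw [(h1.zpow_right k).eq, mul_inv_cancel_right]
    rw [h2]
    exact Subgroup.zpow_mem_zpowers z k
  have hP : IsPGroup p (Subgroup.zpowers z) := by
    obtain ⟨k, hk⟩ := hz
    apply IsPGroup.of_card (n := k)
    rw [Nat.card_zpowers, hk]
  exact IsPGroup.le_sylow_of_normal hP P (Subgroup.mem_zpowers z)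

/-- a central `p`-element lies in every defect group of every block -/
theorem central_pElement_mem_defectGroup {p : ℕ} [Fact p.Prime] {M : Ideal AlgInt}
    {b : Set (IrrCharacter G)} (D : Subgroup G) (hD : IsDefectGroup p M b D) (z : G)
    (hzc : ∀ g : G, g * z = z * g) (hz : ∃ k : ℕ, orderOf z = p ^ k) : z ∈ D := by
  obtain ⟨c, _, P, rfl⟩ := hD
  have hzK : z ∈ Subgroup.centralizer ({c} : Set G) := by
    rw [Subgroup.mem_centralizer_iff]
    intro w hw
    rw [Set.mem_singleton_iff] at hw
    rw [hw]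
    exact hzc c
  have h1 := central_pElement_mem_sylow (p := p)
    (⟨z, hzK⟩ : Subgroup.centralizer ({c} : Set G))
    (fun g => Subtype.ext (hzc (g : G)))
    (by
      obtain ⟨k, hk⟩ := hz
      refine ⟨k, ?_⟩
      rw [← hk]
      exact Subgroup.orderOf_mk z hzK) P
  exact ⟨⟨z, hzK⟩, h1, rfl⟩

end Central

section Vanish

variable {G : Type*} [Group G] [Fintype G] {M : Ideal AlgInt}

/-- **characters vanish off the defect groups**: if the `p`-part of `g` lies in no defect group of
the block of `χ`, then `χ g = 0`. -/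
theorem irr_vanish_off_defectGroups {p : ℕ} [Fact p.Prime] (hM : IsPModular p M)
    (χ : IrrCharacter G) (g x : G) (hx : IsPPart p g x)
    (hD : ∀ D : Subgroup G, IsDefectGroup p M (blockOf M (χ : G → ℂ)) D → x ∉ D) :
    (χ : G → ℂ) g = 0 := by
  have hprime : M.IsPrime := hM.2.1.isPrime
  have hMtop : M ≠ ⊤ := hM.2.1.ne_top
  obtain ⟨w, hw1, hw2, hxk, hw3⟩ := hx
  have : Fintype (Subgroup.centralizer ({x} : Set G)) := Fintype.ofFinite _
  have hB : IsPBlock M (blockOf M (χ : G → ℂ)) := ⟨χ, rfl⟩
  have hxC : x ∈ Subgroup.centralizer ({x} : Set G) := by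
    rw [Subgroup.mem_centralizer_iff]
    intro z hz
    rw [Set.mem_singleton_iff] at hz
    rw [hz]
  have hwC : w ∈ Subgroup.centralizer ({x} : Set G) := by
    rw [Subgroup.mem_centralizer_iff]
    intro z hz
    rw [Set.mem_singleton_iff] at hz
    rw [hz]
    exact hw2.eq
  have hnot : ∀ b : Set (IrrCharacter (Subgroup.centralizer ({x} : Set G))), IsPBlock M b →
      ¬ IsInducedBlock M (Subgroup.centralizer ({x} : Set G)) b (blockOf M (χ : G → ℂ)) := by
    intro b hb hind
    obtain ⟨Db, hDb⟩ := exists_isDefectGroup hM hb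
    obtain ⟨E, hE, hDE⟩ := exists_defectGroup_ge_of_induced hM _ hb hB hind Db hDb
    have h1 : (⟨x, hxC⟩ : Subgroup.centralizer ({x} : Set G)) ∈ Db := by
      apply central_pElement_mem_defectGroup Db hDb
      · intro k
        apply Subtype.ext
        have := k.2
        rw [Subgroup.mem_centralizer_iff] at this
        exact (this x rfl).symm
      · obtain ⟨k, hk⟩ := hxk
        refine ⟨k, ?_⟩
        rw [← hk]
        exact Subgroup.orderOf_mk x hxC
    exact hD E hE (hDE ⟨⟨x, hxC⟩, h1, rfl⟩)
  have hw3' : ¬ p ∣ orderOf (⟨w, hwC⟩ : Subgroup.centralizer ({x} : Set G)) := by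
    rw [Subgroup.orderOf_mk]
    exact hw3
  have hzero : ∀ b : Blk M (Subgroup.centralizer ({x} : Set G)),
      ∑ k : Subgroup.centralizer ({x} : Set G), blockCoeff b.1 k *
        (χ : G → ℂ) ((k : G) * (x * w)) = 0 := fun b =>
    second_main_centralizer hM x hxk hB χ (Helper28.sameBlock_refl hMtop _) b.1 b.2
      (hnot b.1 b.2) ⟨w, hwC⟩ hw3'
  have hsum : (χ : G → ℂ) g = ∑ b : Blk M (Subgroup.centralizer ({x} : Set G)),
      ∑ k : Subgroup.centralizer ({x} : Set G), blockCoeff b.1 k *
        (χ : G → ℂ) ((k : G) * (x * w)) := by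
    rw [Finset.sum_comm]
    have h2 : ∀ k : Subgroup.centralizer ({x} : Set G),
        ∑ b : Blk M (Subgroup.centralizer ({x} : Set G)), blockCoeff b.1 k *
          (χ : G → ℂ) ((k : G) * (x * w)) = deltaF 1 k * (χ : G → ℂ) ((k : G) * (x * w)) := by
      intro k
      rw [← Finset.sum_mul, sum_blk_blockCoeff (M := M)]
    rw [Finset.sum_congr rfl fun k _ => h2 k, Finset.sum_eq_single 1]
    · unfold deltaF
      rw [if_pos rfl, one_mul, Subgroup.coe_one, one_mul, hw1]
    · intro k _ hk
      unfold deltaF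
      rw [if_neg hk, zero_mul]
    · intro h'
      exact absurd (Finset.mem_univ _) h'
  rw [hsum]
  exact Finset.sum_eq_zero fun b _ => hzero b

end Vanish

end Cfsg.Agent.Lib.Helper28
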