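import Mathlib
import Cfsg.Agent.Lib.Helper28.GreenVanF
import Cfsg.Agent.Lib.Helper28.BrauerS
import Cfsg.Agent.S0921
import Cfsg.Agent.S0939

set_option autoImplicit false

/-!
# Principal block characters are constant on `u · O_{p'}(C_G(u))` (helper28)
-/

namespace Cfsg.Agent.Lib.Helper28

open Cfsg Cfsg.Agent.Lib.Helper4
open scoped ComplexConjugate Classical

section Kernel

variable {K : Type*} [Group K] [Fintype K] {M : Ideal AlgInt}

/-- characters of the principal block are trivial on `O_{p'}` -/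
theorem principalBlock_trivial_on_pPrimeCore {p : ℕ} [Fact p.Prime] (hM : IsPModular p M)
    (ψ : IrrCharacter K) (hψ : ψ ∈ principalBlock M K) (n : K) (hn : n ∈ pPrimeCore p K) :
    (ψ : K → ℂ) n = (ψ : K → ℂ) 1 := by
  have hNn : (pPrimeCore p K).Normal := Cfsg.Agent.Lib.Helper9.pPrimeCore_normal p K
  have : Fintype (pPrimeCore p K) := Fintype.ofFinite _
  have h1 := Cfsg.Agent.S0921.result p M hM (trivIrr K) ψ hψ (trivIrr (pPrimeCore p K))
  have h2 := Cfsg.Agent.S0939.triv_constituent_iff (pPrimeCore p K) ψ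
  have h3 := Cfsg.Agent.S0939.triv_constituent_iff (pPrimeCore p K) (trivIrr K)
  have h4 : ∀ n ∈ pPrimeCore p K, ((trivIrr K : IrrCharacter K) : K → ℂ) n =
      ((trivIrr K : IrrCharacter K) : K → ℂ) 1 := fun _ _ => rfl
  exact h2.mp (h1.mp (h3.mpr h4)) n hn

end Kernel

section Main

variable {G : Type*} [Group G] [Fintype G] {M : Ideal AlgInt}

/-- on the `p`-section of `u`, a principal block character is computed by the principal block
of `C_G(u)` -/
theorem principal_section_formula {p : ℕ} [Fact p.Prime] (hM : IsPModular p M) (u : G)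
    (hu : ∃ k : ℕ, orderOf u = p ^ k) (χ : IrrCharacter G) (hχ : χ ∈ principalBlock M G)
    [Fintype (Subgroup.centralizer ({u} : Set G))]
    (y : Subgroup.centralizer ({u} : Set G)) (hy : ¬ p ∣ orderOf y) :
    (χ : G → ℂ) (u * (y : G)) = ∑ k : Subgroup.centralizer ({u} : Set G),
      blockCoeff (principalBlock M (Subgroup.centralizer ({u} : Set G))) k *
        (χ : G → ℂ) ((k : G) * (u * (y : G))) := by
  have hprime : M.IsPrime := hM.2.1.isPrime
  have hMtop : M ≠ ⊤ := hM.2.1.ne_top
  obtain ⟨hPH, hCH, hHN⟩ := zpowers_centralizer_setup u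
  have hP : IsPGroup p (Subgroup.zpowers u) := by
    obtain ⟨k, hk⟩ := hu
    apply IsPGroup.of_card (n := k)
    rw [Nat.card_zpowers, hk]
  have hsum : (χ : G → ℂ) (u * (y : G)) = ∑ b : Blk M (Subgroup.centralizer ({u} : Set G)),
      ∑ k : Subgroup.centralizer ({u} : Set G), blockCoeff b.1 k *
        (χ : G → ℂ) ((k : G) * (u * (y : G))) := by
    rw [Finset.sum_comm]
    have h2 : ∀ k : Subgroup.centralizer ({u} : Set G),
        ∑ b : Blk M (Subgroup.centralizer ({u} : Set G)), blockCoeff b.1 k *
          (χ : G → ℂ) ((k : G) * (u * (y : G))) =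
          deltaF 1 k * (χ : G → ℂ) ((k : G) * (u * (y : G))) := by
      intro k
      rw [← Finset.sum_mul, sum_blk_blockCoeff (M := M)]
    rw [Finset.sum_congr rfl fun k _ => h2 k, Finset.sum_eq_single 1]
    · unfold deltaF
      rw [if_pos rfl, one_mul, Subgroup.coe_one, one_mul]
    · intro k _ hk
      unfold deltaF
      rw [if_neg hk, zero_mul]
    · intro h'
      exact absurd (Finset.mem_univ _) h'
  rw [hsum, Finset.sum_eq_single (⟨principalBlock M _, isPBlock_principalBlock⟩ :
    Blk M (Subgroup.centralizer ({u} : Set G)))]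
  · intro b _ hb
    apply second_main_centralizer hM u hu isPBlock_principalBlock χ hχ b.1 b.2 _ y hy
    intro hind
    apply hb
    apply Subtype.ext
    exact (third_main_theorem hM _ b.1 ⟨_, hind⟩).mp hind
  · intro h'
    exact absurd (Finset.mem_univ _) h'

/-- **principal block characters are constant on `u · O_{p'}(C_G(u))`** -/
theorem principalBlock_const_on_core {p : ℕ} [Fact p.Prime] (hM : IsPModular p M) (u : G)
    (hu : ∃ k : ℕ, orderOf u = p ^ k) (v : G) (hv : v ∈ centralizerPPrimeCore p u)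
    (χ : IrrCharacter G) (hχ : χ ∈ principalBlock M G) :
    (χ : G → ℂ) (u * v) = (χ : G → ℂ) u := by
  have hp : p.Prime := Fact.out
  have : Fintype (Subgroup.centralizer ({u} : Set G)) := Fintype.ofFinite _
  obtain ⟨v', hv', rfl⟩ := hv
  have hcomm : ∀ k : Subgroup.centralizer ({u} : Set G), u * (k : G) = (k : G) * u := by
    intro k
    have := k.2
    rw [Subgroup.mem_centralizer_iff] at this
    exact this u rfl
  have hcl : IsClassFunction (Subgroup.centralizer ({u} : Set G))
      (fun c : Subgroup.centralizer ({u} : Set G) => (χ : G → ℂ) (u * (c : G))) := by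
    intro c k
    show (χ : G → ℂ) (u * ((k * c * k⁻¹ : Subgroup.centralizer ({u} : Set G)) : G)) =
      (χ : G → ℂ) (u * (c : G))
    have h1 : u * ((k * c * k⁻¹ : Subgroup.centralizer ({u} : Set G)) : G) =
        (k : G) * (u * (c : G)) * (k : G)⁻¹ := by
      rw [Subgroup.coe_mul, Subgroup.coe_mul, Subgroup.coe_inv, ← mul_assoc, ← mul_assoc,
        hcomm k, mul_assoc (k : G) u]
    rw [h1, Helper4.isClassFunction_of_isIrrCharacter χ.2]
  have hreg : ∀ n : Subgroup.centralizer ({u} : Set G),
      n ∈ pPrimeCore p (Subgroup.centralizer ({u} : Set G)) → ¬ p ∣ orderOf n := by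
    intro n hn hd
    have h1 : orderOf n ∣ Nat.card (pPrimeCore p (Subgroup.centralizer ({u} : Set G))) :=
      Subgroup.orderOf_dvd_natCard _ hn
    have h2 := Cfsg.Agent.Lib.Helper20.pPrimeCore_coprime'
      (G := Subgroup.centralizer ({u} : Set G)) p
    exact (Nat.Prime.coprime_iff_not_dvd hp).mp h2.symm (hd.trans h1)
  have hform : ∀ y : Subgroup.centralizer ({u} : Set G), ¬ p ∣ orderOf y →
      (χ : G → ℂ) (u * (y : G)) = blockPart (principalBlock M _)
        (fun c : Subgroup.centralizer ({u} : Set G) => (χ : G → ℂ) (u * (c : G))) y := by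
    intro y hy
    rw [principal_section_formula hM u hu χ hχ y hy, blockPart_eq_sum_blockCoeff _ _ hcl y]
    refine Finset.sum_congr rfl fun k _ => ?_
    show _ * (χ : G → ℂ) ((k : G) * (u * (y : G))) =
      _ * (χ : G → ℂ) (u * ((k * y : Subgroup.centralizer ({u} : Set G)) : G))
    rw [Subgroup.coe_mul, ← mul_assoc, ← mul_assoc, hcomm k]
  have h1 := hform v' (hreg v' hv')
  have h2 := hform 1 (by rw [orderOf_one]; exact fun hd => hp.one_lt.ne' (Nat.dvd_one.mp hd))
  rw [Subgroup.coe_one, mul_one] at h2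
  show (χ : G → ℂ) (u * ((v' : Subgroup.centralizer ({u} : Set G)) : G)) = _
  rw [h1, h2, blockPart_eq, blockPart_eq]
  refine finsum_congr fun ψ => finsum_congr fun hψ => ?_
  rw [principalBlock_trivial_on_pPrimeCore hM ψ hψ v' hv']

end Main

end Cfsg.Agent.Lib.Helper28
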