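import Mathlib
import Cfsg.Agent.Lib.Helper28.GreenVanJ
import Cfsg.Agent.Lib.Helper28.BlockRankD

set_option autoImplicit false

/-!
# Orthogonality on a `p`-section (helper28)
-/

namespace Cfsg.Agent.Lib.Helper28

open Cfsg Cfsg.Agent.Lib.Helper4
open scoped ComplexConjugate Classical

section GroupTheory

variable {G : Type*} [Group G]

theorem conj_mul_pow' (g x : G) (n : ℕ) : (g * x * g⁻¹) ^ n = g * x ^ n * g⁻¹ := by
  induction n with
  | zero => simp
  | succ n ih => rw [pow_succ, ih, pow_succ]; group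

/-- conjugating `u c` to `u c'` (`u` a `p`-element, `c, c'` `p`-regular commuting with `u`)
fixes `u` -/
theorem conj_pElement_eq_of_conj_mul {p : ℕ} (hp : p.Prime) (u c c' g : G)
    (hu : ∃ k : ℕ, orderOf u = p ^ k) (hc : ¬ p ∣ orderOf c) (hc' : ¬ p ∣ orderOf c')
    (huc : Commute u c) (huc' : Commute u c') (h : g * (u * c) * g⁻¹ = u * c') :
    g * u * g⁻¹ = u := by
  obtain ⟨k, hk⟩ := hu
  obtain ⟨N, hN⟩ : ∃ N : ℕ, N = orderOf c * orderOf c' := ⟨_, rfl⟩
  have hcN : c ^ N = 1 := by rw [hN, pow_mul, pow_orderOf_eq_one, one_pow]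
  have hc'N : c' ^ N = 1 := by rw [hN, mul_comm, pow_mul, pow_orderOf_eq_one, one_pow]
  have h1 : (u * c) ^ N = u ^ N := by rw [huc.mul_pow, hcN, mul_one]
  have h2 : (u * c') ^ N = u ^ N := by rw [huc'.mul_pow, hc'N, mul_one]
  have h3 : (g * u * g⁻¹) ^ N = u ^ N := by
    calc (g * u * g⁻¹) ^ N = g * u ^ N * g⁻¹ := conj_mul_pow' g u N
      _ = g * (u * c) ^ N * g⁻¹ := by rw [h1]
      _ = (g * (u * c) * g⁻¹) ^ N := (conj_mul_pow' g (u * c) N).symm
      _ = u ^ N := by rw [h, h2]
  have hNp : ¬ p ∣ N := by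
    rw [hN]
    intro hdvd
    rcases (Nat.Prime.dvd_mul hp).mp hdvd with h' | h'
    · exact hc h'
    · exact hc' h'
  have hcop : Nat.Coprime N (p ^ k) :=
    Nat.Coprime.pow_right k ((Nat.Prime.coprime_iff_not_dvd hp).mpr hNp).symm
  by_cases hk0 : k = 0
  · have : u = 1 := by
      rw [← orderOf_eq_one_iff, hk, hk0, pow_zero]
    rw [this]; group
  · have hq : 1 < p ^ k := Nat.one_lt_pow hk0 hp.one_lt
    have hu1 : u ^ (p ^ k) = 1 := by rw [← hk, pow_orderOf_eq_one]
    have hu2 : (g * u * g⁻¹) ^ (p ^ k) = 1 := by rw [conj_mul_pow', hu1]; group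
    exact eq_of_pow_eq_of_coprime hq hu2 hu1 hcop h3

end GroupTheory

section Ortho

variable {G : Type*} [Group G] [Fintype G]

/-- **orthogonality on the `p`-section of `u`** -/
theorem section_orthogonality {p : ℕ} [Fact p.Prime] (u : G)
    (hu : ∃ k : ℕ, orderOf u = p ^ k) (C : Subgroup G) [Fintype C]
    (hC : ∀ g : G, g ∈ C ↔ g * u = u * g) (c c' : C) (hc : ¬ p ∣ orderOf c)
    (hc' : ¬ p ∣ orderOf c') [Fintype (IrrCharacter G)] [Fintype (IrrCharacter C)] :
    ∑ χ : IrrCharacter G, (χ : G → ℂ) (u * c) * conj ((χ : G → ℂ) (u * c')) =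
      ∑ ψ : IrrCharacter C, (ψ : C → ℂ) c * conj ((ψ : C → ℂ) c') := by
  have hp : p.Prime := Fact.out
  rw [Helper4.column_orthogonality, Helper4.column_orthogonality]
  have hcG : ¬ p ∣ orderOf (c : G) := by rwa [Subgroup.orderOf_coe]
  have hc'G : ¬ p ∣ orderOf (c' : G) := by rwa [Subgroup.orderOf_coe]
  have hcomm : ∀ k : C, Commute u (k : G) := fun k => ((hC k).mp k.2).symm
  -- conjugacy
  have hconj : IsConj (u * (c : G)) (u * (c' : G)) ↔ IsConj c c' := by
    constructor
    · intro h
      obtain ⟨g, hg⟩ := isConj_iff.mp h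
      have hgu := conj_pElement_eq_of_conj_mul hp u c c' g hu hcG hc'G (hcomm c) (hcomm c') hg
      have hgC : g ∈ C := by
        rw [hC]
        have := congrArg (· * g) hgu
        simpa using this
      refine isConj_iff.mpr ⟨⟨g, hgC⟩, ?_⟩
      apply Subtype.ext
      show g * (c : G) * g⁻¹ = (c' : G)
      have h1 : g * (u * c) * g⁻¹ = (g * u * g⁻¹) * (g * c * g⁻¹) := by group
      rw [h1, hgu] at hg
      exact mul_left_cancel hg
    · intro h
      obtain ⟨k, hk⟩ := isConj_iff.mp h
      refine isConj_iff.mpr ⟨(k : G), ?_⟩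
      have hk' : (k : G) * c * (k : G)⁻¹ = c' := by
        have := congrArg (Subtype.val) hk
        simpa using this
      have h1 : (k : G) * (u * c) * (k : G)⁻¹ = ((k : G) * u * (k : G)⁻¹) * ((k : G) * c * (k : G)⁻¹) := by
        group
      rw [h1, hk']
      congr 1
      have := (hcomm k).eq
      rw [← this]; group
  -- centralizers
  have hcard : Nat.card (Subgroup.centralizer ({u * (c : G)} : Set G)) =
      Nat.card (Subgroup.centralizer ({c} : Set C)) := by
    apply Nat.card_congr
    refine ⟨fun g => ⟨⟨(g : G), ?_⟩, ?_⟩, fun k => ⟨((k : C) : G), ?_⟩, ?_, ?_⟩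
    · have hg := g.2
      rw [Subgroup.mem_centralizer_iff] at hg
      have hg1 := hg _ rfl
      have hg2 : (g : G) * (u * c) * (g : G)⁻¹ = u * c := by
        rw [← hg1]; group
      have hgu := conj_pElement_eq_of_conj_mul hp u c c g hu hcG hcG (hcomm c) (hcomm c) hg2
      rw [hC]
      have := congrArg (· * (g : G)) hgu
      simpa using this
    · have hg := g.2
      rw [Subgroup.mem_centralizer_iff] at hg
      have hg1 := hg _ rfl
      have hg2 : (g : G) * (u * c) * (g : G)⁻¹ = u * c := by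
        rw [← hg1]; group
      have hgu := conj_pElement_eq_of_conj_mul hp u c c g hu hcG hcG (hcomm c) (hcomm c) hg2
      rw [Subgroup.mem_centralizer_iff]
      intro x hx
      rw [Set.mem_singleton_iff] at hx
      rw [hx]
      apply Subtype.ext
      show (c : G) * (g : G) = (g : G) * (c : G)
      have h1 : (g : G) * (u * c) * (g : G)⁻¹ =
          ((g : G) * u * (g : G)⁻¹) * ((g : G) * c * (g : G)⁻¹) := by group
      rw [h1, hgu] at hg2
      have h3 := mul_left_cancel hg2
      have := congrArg (· * (g : G)) h3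
      simpa using this.symm
    · have hk := k.2
      rw [Subgroup.mem_centralizer_iff] at hk
      have hk1 := hk _ rfl
      have hk2 : (c : G) * ((k : C) : G) = ((k : C) : G) * (c : G) := by
        have := congrArg (Subtype.val) hk1
        simpa using this
      rw [Subgroup.mem_centralizer_iff]
      intro x hx
      rw [Set.mem_singleton_iff] at hx
      rw [hx, mul_assoc, hk2, ← mul_assoc, ← mul_assoc, (hcomm (k : C)).eq]
    · intro g; rfl
    · intro k; rfl
  rw [hcard]
  by_cases h : IsConj c c'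
  · rw [if_pos h, if_pos (hconj.mpr h)]
  · rw [if_neg h, if_neg (fun h' => h (hconj.mp h'))]

end Ortho

end Cfsg.Agent.Lib.Helper28
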