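import Mathlib
import Cfsg.Agent.Lib.Helper28.SectionA
import Cfsg.Agent.Lib.Helper28.BlockRankC

set_option autoImplicit false

/-!
# The block parts of a `p`-section: the norm formula (helper28)
-/

namespace Cfsg.Agent.Lib.Helper28

open Cfsg Cfsg.Agent.Lib.Helper4
open scoped ComplexConjugate Classical

section General

variable {G : Type*} [Group G] [Fintype G] {M : Ideal AlgInt}

theorem projB_irr_of_not_mem [Fintype (IrrCharacter G)] {B : Set (IrrCharacter G)}
    {χ : IrrCharacter G} (hχ : χ ∉ B) : projB B (χ : G → ℂ) = 0 := by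
  rw [projB_apply]
  apply Finset.sum_eq_zero
  intro φ _
  by_cases h : φ ∈ B
  · have hne : χ ≠ φ := fun h' => hχ (h' ▸ h)
    rw [if_pos h, Helper4.classInner_irr, if_neg hne, zero_smul]
  · rw [if_neg h]

theorem blockPart_eq_projB [Fintype (IrrCharacter G)] (B : Set (IrrCharacter G)) (ϑ : G → ℂ) :
    blockPart B ϑ = projB B ϑ := by
  funext g
  rw [blockPart_eq, finsum_mem_eq_sum_ite, projB_apply, Finset.sum_apply]
  refine Finset.sum_congr rfl fun χ _ => ?_
  split_ifs
  · rfl
  · rfl

/-- the projection onto `B` kills `ψ°` for `ψ ∉ B` -/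
theorem projB_pRegularPart_of_not_mem [Fintype (IrrCharacter G)] {p : ℕ} (hM : IsPModular p M)
    {B : Set (IrrCharacter G)} (hB : IsPBlock M B) {ψ : IrrCharacter G} (hψ : ψ ∉ B) :
    projB B (pRegularPart p (ψ : G → ℂ)) = 0 := by
  have hprime : M.IsPrime := hM.2.1.isPrime
  have hMtop : M ≠ ⊤ := hM.2.1.ne_top
  have hB' : IsPBlock M (blockOf M (ψ : G → ℂ)) := ⟨ψ, rfl⟩
  have hψB' : ψ ∈ blockOf M (ψ : G → ℂ) := Helper28.sameBlock_refl hMtop _
  have hf := projB_pRegularPart hM hB' hψB'
  rw [← hf, projB_apply (blockOf M (ψ : G → ℂ)), map_sum]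
  apply Finset.sum_eq_zero
  intro χ _
  by_cases h : χ ∈ blockOf M (ψ : G → ℂ)
  · rw [if_pos h, map_smul]
    have hχB : χ ∉ B := by
      intro hcon
      have := Helper28.block_eq_of_mem hB hB' hcon h
      exact hψ (this ▸ hψB')
    rw [projB_irr_of_not_mem hχB, smul_zero]
  · rw [if_neg h, map_zero]

/-- the block part commutes with the restriction to `p`-regular elements -/
theorem pRegularPart_blockPart [Fintype (IrrCharacter G)] {p : ℕ} (hM : IsPModular p M)
    {B : Set (IrrCharacter G)} (hB : IsPBlock M B) (ϑ : G → ℂ) (hϑ : IsClassFunction G ϑ) :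
    pRegularPart p (blockPart B ϑ) = blockPart B (pRegularPart p ϑ) := by
  rw [blockPart_eq_projB, blockPart_eq_projB]
  have h1 : pRegularPart p (projB B ϑ) = rankOp p B ϑ := rfl
  rw [h1, rankOp_apply]
  conv_rhs => rw [Helper4.classFunction_expansion ϑ hϑ]
  rw [← pRegLin_apply, map_sum, map_sum]
  refine Finset.sum_congr rfl fun χ _ => ?_
  rw [map_smul, map_smul, pRegLin_apply]
  by_cases h : χ ∈ B
  · rw [if_pos h, projB_pRegularPart hM hB h]
  · rw [if_neg h, projB_pRegularPart_of_not_mem hM hB h, smul_zero]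

/-- formula for the `p`-regular part of a block part -/
theorem pRegularPart_blockPart_apply {p : ℕ} (hM : IsPModular p M)
    {B : Set (IrrCharacter G)} (hB : IsPBlock M B) (ϑ : G → ℂ) (hϑ : IsClassFunction G ϑ)
    (s : G) :
    pRegularPart p (blockPart B ϑ) s = ∑ k, blockCoeff B k * pRegularPart p ϑ (k * s) := by
  have : Fintype (IrrCharacter G) := Fintype.ofFinite _
  rw [pRegularPart_blockPart hM hB ϑ hϑ,
    blockPart_eq_sum_blockCoeff B _ (isClassFunction_pRegularPart p hϑ)]

theorem blockPart_irr [Fintype (IrrCharacter G)] (B : Set (IrrCharacter G))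
    (ψ : IrrCharacter G) :
    blockPart B (ψ : G → ℂ) = if ψ ∈ B then (ψ : G → ℂ) else 0 := by
  rw [blockPart_eq_projB]
  by_cases h : ψ ∈ B
  · rw [if_pos h, projB_irr_of_mem h]
  · rw [if_neg h, projB_irr_of_not_mem h]

end General

section Bilinear

theorem sum_norm_expand {I Z : Type*} [Fintype I] [Fintype Z] (a : I → ℂ) (f : I → Z → ℂ) :
    ∑ z, (∑ i, a i * f i z) * conj (∑ i, a i * f i z) =
      ∑ i, ∑ j, a i * conj (a j) * ∑ z, f i z * conj (f j z) := by
  have h1 : ∀ z, (∑ i, a i * f i z) * conj (∑ i, a i * f i z) =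
      ∑ i, ∑ j, a i * conj (a j) * (f i z * conj (f j z)) := by
    intro z
    rw [map_sum, Finset.sum_mul]
    refine Finset.sum_congr rfl fun i _ => ?_
    rw [Finset.mul_sum]
    refine Finset.sum_congr rfl fun j _ => ?_
    rw [map_mul]; ring
  simp_rw [h1]
  rw [Finset.sum_comm]
  refine Finset.sum_congr rfl fun i _ => ?_
  rw [Finset.sum_comm]
  refine Finset.sum_congr rfl fun j _ => ?_
  rw [Finset.mul_sum]

theorem sum_norm_transfer {I X Y : Type*} [Fintype I] [Fintype X] [Fintype Y] (a : I → ℂ)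
    (v : I → X → ℂ) (w : I → Y → ℂ)
    (h : ∀ i j, ∑ x, v i x * conj (v j x) = ∑ y, w i y * conj (w j y)) :
    ∑ x, (∑ i, a i * v i x) * conj (∑ i, a i * v i x) =
      ∑ y, (∑ i, a i * w i y) * conj (∑ i, a i * w i y) := by
  rw [sum_norm_expand a v, sum_norm_expand a w]
  refine Finset.sum_congr rfl fun i _ => ?_
  refine Finset.sum_congr rfl fun j _ => ?_
  rw [h i j]

end Bilinear

section Star

variable {G : Type*} [Group G] [Fintype G] {M : Ideal AlgInt}

/-- the shifted restriction `c ↦ χ (u c)` -/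
def shiftRes (u : G) (C : Subgroup G) (χ : G → ℂ) : C → ℂ := fun c => χ (u * c)

omit [Fintype G] in
theorem isClassFunction_shiftRes (u : G) (C : Subgroup G)
    (hC : ∀ g : G, g ∈ C ↔ g * u = u * g) {χ : G → ℂ} (hχ : IsClassFunction G χ) :
    IsClassFunction C (shiftRes u C χ) := by
  intro c k
  show χ (u * ((k * c * k⁻¹ : C) : G)) = χ (u * c)
  have h1 : u * ((k * c * k⁻¹ : C) : G) = (k : G) * (u * c) * (k : G)⁻¹ := by
    have hk := (hC k).mp k.2
    push_cast
    rw [← mul_assoc, ← mul_assoc, ← mul_assoc, hk]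
  rw [h1, hχ]

/-- **the norm formula on a `p`-section** -/
theorem section_norm_formula {p : ℕ} [Fact p.Prime] (hM : IsPModular p M) (u : G)
    (hu : ∃ k : ℕ, orderOf u = p ^ k) (C : Subgroup G) [Fintype C]
    (hC : ∀ g : G, g ∈ C ↔ g * u = u * g) {e : Set (IrrCharacter C)} (he : IsPBlock M e)
    [Fintype (IrrCharacter G)] [Fintype (IrrCharacter C)] (s : C) :
    ∑ χ : IrrCharacter G,
        pRegularPart p (blockPart e (shiftRes u C (χ : G → ℂ))) s *
          conj (pRegularPart p (blockPart e (shiftRes u C (χ : G → ℂ))) s) =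
      ∑ ψ : IrrCharacter C, if ψ ∈ e then
        pRegularPart p (ψ : C → ℂ) s * conj (pRegularPart p (ψ : C → ℂ) s) else 0 := by
  have hL : ∀ χ : IrrCharacter G,
      pRegularPart p (blockPart e (shiftRes u C (χ : G → ℂ))) s =
        ∑ k, blockCoeff e k * pRegularPart p (shiftRes u C (χ : G → ℂ)) (k * s) := fun χ =>
    pRegularPart_blockPart_apply hM he _ (isClassFunction_shiftRes u C hC (Helper4.isClassFunction_of_isIrrCharacter χ.2)) s
  have hR : ∀ ψ : IrrCharacter C,
      pRegularPart p (blockPart e (ψ : C → ℂ)) s =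
        ∑ k, blockCoeff e k * pRegularPart p (ψ : C → ℂ) (k * s) := fun ψ =>
    pRegularPart_blockPart_apply hM he _ (Helper4.isClassFunction_of_isIrrCharacter ψ.2) s
  simp_rw [hL]
  rw [sum_norm_transfer (blockCoeff e)
    (fun (k : C) (χ : IrrCharacter G) => pRegularPart p (shiftRes u C (χ : G → ℂ)) (k * s))
    (fun (k : C) (ψ : IrrCharacter C) => pRegularPart p (ψ : C → ℂ) (k * s))]
  · refine Finset.sum_congr rfl fun ψ _ => ?_
    rw [← hR, blockPart_irr]
    by_cases h : ψ ∈ e
    · rw [if_pos h, if_pos h]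
    · rw [if_neg h, if_neg h, pRegularPart_zero]
      simp
  · intro i j
    by_cases hi : p ∣ orderOf (i * s)
    · simp only [pRegularPart_of_dvd _ hi, zero_mul, Finset.sum_const_zero]
    by_cases hj : p ∣ orderOf (j * s)
    · simp only [pRegularPart_of_dvd _ hj, map_zero, mul_zero, Finset.sum_const_zero]
    simp only [pRegularPart_of_not_dvd _ hi, pRegularPart_of_not_dvd _ hj]
    exact section_orthogonality u hu C hC (i * s) (j * s) hi hj

end Star

end Cfsg.Agent.Lib.Helper28
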