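import Mathlib
import Cfsg.Agent.Lib.Helper28.SectionB
import Cfsg.Agent.Lib.Helper28.BrauerT
import Cfsg.Agent.Lib.Helper28.GreenVanI

set_option autoImplicit false

/-!
# The block parts of a `p`-section: vanishing outside the induced block, total norm (helper28)
-/

namespace Cfsg.Agent.Lib.Helper28

open Cfsg Cfsg.Agent.Lib.Helper4
open scoped ComplexConjugate Classical

section Star

variable {G : Type*} [Group G] [Fintype G] {M : Ideal AlgInt}

theorem classInner_star (ϑ ψ : G → ℂ) (hψ : IsCharacter G ψ) :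
    classInner (fun c => conj (ϑ c⁻¹)) ψ = conj (classInner ϑ ψ) := by
  unfold classInner
  rw [map_mul, map_sum, map_inv₀, Complex.conj_natCast]
  congr 1
  rw [← Equiv.sum_comp (Equiv.inv G)]
  refine Finset.sum_congr rfl fun c _ => ?_
  show conj (ϑ (c⁻¹)⁻¹) * conj (ψ c⁻¹) = conj (ϑ c * conj (ψ c))
  rw [inv_inv, map_mul, Helper26.isCharacter_conj_eq_inv hψ c]

theorem blockPart_star (B : Set (IrrCharacter G)) (ϑ : G → ℂ) (s : G) :
    blockPart B (fun c => conj (ϑ c⁻¹)) s⁻¹ = conj (blockPart B ϑ s) := by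
  have : Fintype (IrrCharacter G) := Fintype.ofFinite _
  rw [blockPart_eq, blockPart_eq, finsum_mem_eq_sum_ite, finsum_mem_eq_sum_ite, map_sum]
  refine Finset.sum_congr rfl fun ψ _ => ?_
  by_cases h : ψ ∈ B
  · rw [if_pos h, if_pos h, map_mul,
      classInner_star ϑ _ (Helper26.isCharacter_of_isIrrCharacter ψ.2),
      Helper26.isCharacter_conj_eq_inv (Helper26.isCharacter_of_isIrrCharacter ψ.2) s]
  · rw [if_neg h, if_neg h, map_zero]

end Star

section Induced

variable {G : Type*} [Group G] [Fintype G] {M : Ideal AlgInt}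

/-- a Brauer pair `(P, e)` of `B`: the block `e` of `C_G(P)` induces `B` -/
theorem isInducedBlock_of_isBrauerPairOf {p : ℕ} [Fact p.Prime] (hM : IsPModular p M)
    {B : Set (IrrCharacter G)} (P : Subgroup G) (hPab : P ≤ Subgroup.centralizer (P : Set G))
    {e : Set (IrrCharacter (Subgroup.centralizer (P : Set G)))}
    (hBe : IsBrauerPairOf p M B P e) :
    IsInducedBlock M (Subgroup.centralizer (P : Set G)) e B := by
  have hprime : M.IsPrime := hM.2.1.isPrime
  have hMtop : M ≠ ⊤ := hM.2.1.ne_top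
  have : Fintype (Subgroup.centralizer (P : Set G)) := Fintype.ofFinite _
  obtain ⟨⟨hP, he⟩, hB, hom⟩ := hBe
  obtain ⟨ξ, hξ⟩ := Helper28.block_nonempty he
  have h2 := hom ξ hξ
  rw [brauerOmega_eq_omegaF] at h2
  have h3 : ¬ MemLocalIdeal M (omegaF (ξ : Subgroup.centralizer (P : Set G) → ℂ)
      (brMap P (Subgroup.centralizer (P : Set G)) (blockCoeff B))) := by
    rw [brMap_centralizer_eq_resMap]
    intro hmem
    have h3 := Helper28.memLocalIdeal_sub hmem h2
    have h4 : omegaF (ξ : Subgroup.centralizer (P : Set G) → ℂ)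
        (resMap (Subgroup.centralizer (P : Set G)) (blockCoeff B)) -
        (omegaF (ξ : Subgroup.centralizer (P : Set G) → ℂ)
          (resTo (Subgroup.centralizer (P : Set G)) (blockCoeff B)) - 1) = 1 := by
      show omegaF _ (resMap _ _) - (omegaF _ (resMap _ _) - 1) = 1
      ring
    rw [h4] at h3
    exact Helper28.not_memLocalIdeal_one hMtop h3
  have h5 := isInducedBlock_of_omegaF_brMap hM P (Subgroup.centralizer (P : Set G)) hP hPab le_rfl
    (Subgroup.centralizer_le_normalizer _) hB ξ h3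
  rwa [← Helper28.block_eq_blockOf he hξ] at h5

end Induced

section Total

variable {G : Type*} [Group G] [Fintype G] {M : Ideal AlgInt}

/-- second main theorem on the section of `u`: for `χ ∉ B`, `e^G = B`, the `e`-part of
`c ↦ χ (u c)` vanishes on `p`-regular elements -/
theorem section_blockPart_eq_zero {p : ℕ} [Fact p.Prime] (hM : IsPModular p M) (u : G)
    (hu : ∃ k : ℕ, orderOf u = p ^ k) (C : Subgroup G) [Fintype C]
    (hC : ∀ g : G, g ∈ C ↔ g * u = u * g) {e : Set (IrrCharacter C)}
    {B : Set (IrrCharacter G)} (hind : IsInducedBlock M C e B) (χ : IrrCharacter G)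
    (hχ : χ ∉ B) (s : C) (hs : ¬ p ∣ orderOf s) :
    blockPart e (shiftRes u C (χ : G → ℂ)) s = 0 := by
  rw [blockPart_eq_sum_blockCoeff e _
    (isClassFunction_shiftRes u C hC (Helper4.isClassFunction_of_isIrrCharacter χ.2))]
  have huC : u ∈ C := (hC u).mpr rfl
  have hsG : ¬ p ∣ orderOf (s : G) := by rwa [Subgroup.orderOf_coe]
  have hcomm : Commute u (s : G) := ((hC s).mp s.2).symm
  have hpp : IsPPart p (((⟨u, huC⟩ : C) * s : C) : G) u := ⟨(s : G), rfl, hcomm, hu, hsG⟩
  have hCz : Subgroup.centralizer ({u} : Set G) ≤ C := by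
    intro g hg
    rw [Subgroup.mem_centralizer_iff] at hg
    rw [hC]
    exact (hg u rfl).symm
  have h1 := second_main_general hM C hind ((⟨u, huC⟩ : C) * s) u hpp hCz χ hχ
  refine Eq.trans ?_ h1
  refine Finset.sum_congr rfl fun k _ => ?_
  congr 1
  show (χ : G → ℂ) (u * ((k * s : C) : G)) = (χ : G → ℂ) ((k : G) * (u * (s : G)))
  have hk := (hC k).mp k.2
  push_cast
  rw [← mul_assoc, ← mul_assoc, hk]

/-- the total norm of the `e`-parts over the `p`-regular elements of `C` -/
theorem section_norm_total {p : ℕ} [Fact p.Prime] (hM : IsPModular p M) (u : G)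
    (hu : ∃ k : ℕ, orderOf u = p ^ k) (C : Subgroup G) [Fintype C]
    (hC : ∀ g : G, g ∈ C ↔ g * u = u * g) {e : Set (IrrCharacter C)} (he : IsPBlock M e)
    [Fintype (IrrCharacter G)] :
    ∑ χ : IrrCharacter G, ∑ s : C,
        pRegularPart p (blockPart e (shiftRes u C (χ : G → ℂ))) s *
          conj (pRegularPart p (blockPart e (shiftRes u C (χ : G → ℂ))) s) =
      (Nat.card C : ℂ) * (blockRank p e : ℂ) := by
  have : Fintype (IrrCharacter C) := Fintype.ofFinite _
  rw [Finset.sum_comm, card_mul_blockRank hM he]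
  refine Finset.sum_congr rfl fun s _ => ?_
  rw [section_norm_formula hM u hu C hC he s]
  refine Finset.sum_congr rfl fun ψ _ => ?_
  by_cases h : ψ ∈ e
  · rw [if_pos h, if_pos h]
    by_cases hs : p ∣ orderOf s
    · rw [pRegularPart_of_dvd _ hs, zero_mul, zero_mul]
    · rw [pRegularPart_of_not_dvd _ hs]
  · rw [if_neg h, if_neg h]

end Total

end Cfsg.Agent.Lib.Helper28
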