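import Mathlib
import Cfsg.Agent.Lib.Helper28.SectionA

set_option autoImplicit false

/-!
# Decomposition of a finite group into `p`-sections (helper28)
-/

namespace Cfsg.Agent.Lib.Helper28

open Cfsg Cfsg.Agent.Lib.Helper4
open scoped ComplexConjugate Classical

section PPart

variable {G : Type*} [Group G]

/-- the `p`-part of an element is unique -/
theorem isPPart_unique {p : ℕ} (hp : p.Prime) {g x x' : G} (h : IsPPart p g x)
    (h' : IsPPart p g x') : x = x' := by
  obtain ⟨y, hxy, hcomm, ⟨k, hk⟩, hy⟩ := h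
  obtain ⟨y', hxy', hcomm', ⟨k', hk'⟩, hy'⟩ := h'
  obtain ⟨N, hN⟩ : ∃ N : ℕ, N = orderOf y * orderOf y' := ⟨_, rfl⟩
  have hyN : y ^ N = 1 := by rw [hN, pow_mul, pow_orderOf_eq_one, one_pow]
  have hy'N : y' ^ N = 1 := by rw [hN, mul_comm, pow_mul, pow_orderOf_eq_one, one_pow]
  have h1 : g ^ N = x ^ N := by rw [← hxy, hcomm.mul_pow, hyN, mul_one]
  have h2 : g ^ N = x' ^ N := by rw [← hxy', hcomm'.mul_pow, hy'N, mul_one]
  have h3 : x ^ N = x' ^ N := h1.symm.trans h2
  have hNp : ¬ p ∣ N := by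
    rw [hN]
    intro hdvd
    rcases (Nat.Prime.dvd_mul hp).mp hdvd with h'' | h''
    · exact hy h''
    · exact hy' h''
  obtain ⟨q, hq⟩ : ∃ q : ℕ, q = p ^ (k + k') := ⟨_, rfl⟩
  have hcop : Nat.Coprime N q := by
    rw [hq]
    exact Nat.Coprime.pow_right _ ((Nat.Prime.coprime_iff_not_dvd hp).mpr hNp).symm
  have hx1 : x ^ q = 1 := by
    rw [hq, pow_add, pow_mul, ← hk, pow_orderOf_eq_one, one_pow]
  have hx'1 : x' ^ q = 1 := by
    rw [hq, pow_add, mul_comm, pow_mul, ← hk', pow_orderOf_eq_one, one_pow]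
  by_cases hq1 : q = 1
  · rw [hq1, pow_one] at hx1 hx'1
    rw [hx1, hx'1]
  · have hq2 : 1 < q := by
      have : 0 < q := by rw [hq]; exact pow_pos hp.pos _
      omega
    exact eq_of_pow_eq_of_coprime hq2 hx1 hx'1 hcop h3

theorem isPPart_conj {p : ℕ} {g x : G} (h : IsPPart p g x) (t : G) :
    IsPPart p (t * g * t⁻¹) (t * x * t⁻¹) := by
  obtain ⟨y, hxy, hcomm, ⟨k, hk⟩, hy⟩ := h
  refine ⟨t * y * t⁻¹, ?_, ?_, ⟨k, ?_⟩, ?_⟩
  · rw [← hxy]; group
  · show t * x * t⁻¹ * (t * y * t⁻¹) = t * y * t⁻¹ * (t * x * t⁻¹)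
    have := hcomm.eq
    calc t * x * t⁻¹ * (t * y * t⁻¹) = t * (x * y) * t⁻¹ := by group
      _ = t * (y * x) * t⁻¹ := by rw [this]
      _ = _ := by group
  · have : t * x * t⁻¹ = MulAut.conj t x := rfl
    rw [this, MulEquiv.orderOf_eq, hk]
  · have : t * y * t⁻¹ = MulAut.conj t y := rfl
    rw [this, MulEquiv.orderOf_eq]
    exact hy

variable [Finite G]

/-- the `p`-part, as a function -/
noncomputable def pPartOf {p : ℕ} (hp : p.Prime) (g : G) : G :=
  Classical.choose (exists_isPPart hp g)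

theorem isPPart_pPartOf {p : ℕ} (hp : p.Prime) (g : G) : IsPPart p g (pPartOf hp g) :=
  Classical.choose_spec (exists_isPPart hp g)

theorem pPartOf_eq_iff {p : ℕ} (hp : p.Prime) (g x : G) : pPartOf hp g = x ↔ IsPPart p g x := by
  constructor
  · intro h; rw [← h]; exact isPPart_pPartOf hp g
  · intro h; exact isPPart_unique hp (isPPart_pPartOf hp g) h

theorem pPartOf_conj {p : ℕ} (hp : p.Prime) (g t : G) :
    pPartOf hp (t * g * t⁻¹) = t * pPartOf hp g * t⁻¹ :=
  (pPartOf_eq_iff hp _ _).mpr (isPPart_conj (isPPart_pPartOf hp g) t)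

theorem pPartOf_isPElement {p : ℕ} (hp : p.Prime) (g : G) :
    ∃ k : ℕ, orderOf (pPartOf hp g) = p ^ k := by
  obtain ⟨_, _, _, hk, _⟩ := isPPart_pPartOf hp g
  exact hk

end PPart

section Count

variable {G : Type*} [Group G] [Fintype G]

/-- the number of `t` conjugating `x` to `y` -/
theorem card_conjugators (x y : G) :
    (∑ t : G, if t * x * t⁻¹ = y then (1 : ℂ) else 0) =
      if IsConj x y then (Nat.card (Subgroup.centralizer ({x} : Set G)) : ℂ) else 0 := by
  by_cases h : IsConj x y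
  · rw [if_pos h]
    obtain ⟨t0, ht0⟩ := isConj_iff.mp h
    have : Fintype (Subgroup.centralizer ({x} : Set G)) := Fintype.ofFinite _
    rw [Nat.card_eq_fintype_card, ← Finset.card_univ, Finset.card_eq_sum_ones]
    push_cast
    rw [← Finset.sum_filter]
    symm
    apply Finset.sum_bij (fun (c : Subgroup.centralizer ({x} : Set G)) _ => t0 * (c : G))
    · intro c _
      rw [Finset.mem_filter]
      refine ⟨Finset.mem_univ _, ?_⟩
      have hc := c.2
      rw [Subgroup.mem_centralizer_iff] at hc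
      have hc1 : x * (c : G) = (c : G) * x := hc x rfl
      rw [← ht0]
      calc t0 * (c : G) * x * (t0 * (c : G))⁻¹ = t0 * ((c : G) * x) * (c : G)⁻¹ * t0⁻¹ := by group
        _ = t0 * (x * (c : G)) * (c : G)⁻¹ * t0⁻¹ := by rw [hc1]
        _ = t0 * x * t0⁻¹ := by group
    · intro c _ c' _ hcc
      exact Subtype.ext (mul_left_cancel hcc)
    · intro t ht
      rw [Finset.mem_filter] at ht
      have ht1 := ht.2
      refine ⟨⟨t0⁻¹ * t, ?_⟩, Finset.mem_univ _, ?_⟩
      · rw [Subgroup.mem_centralizer_iff]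
        intro w hw
        rw [Set.mem_singleton_iff] at hw
        rw [hw]
        have h2 : t * x * t⁻¹ = t0 * x * t0⁻¹ := ht1.trans ht0.symm
        have h3 : t0⁻¹ * t * x = x * (t0⁻¹ * t) := by
          calc t0⁻¹ * t * x = t0⁻¹ * (t * x * t⁻¹) * t := by group
            _ = t0⁻¹ * (t0 * x * t0⁻¹) * t := by rw [h2]
            _ = x * (t0⁻¹ * t) := by group
        exact h3.symm
      · show t0 * (t0⁻¹ * t) = t
        group
    · intro c _
      rfl
  · rw [if_neg h]
    apply Finset.sum_eq_zero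
    intro t _
    rw [if_neg]
    intro ht
    exact h (isConj_iff.mpr ⟨t, ht⟩)

/-- the sum of a class function over the `p`-section of `x` -/
theorem sum_section {p : ℕ} (hp : p.Prime) (T : G → ℂ) (hT : IsClassFunction G T) (x : G)
    (hx : ∃ k : ℕ, orderOf x = p ^ k) [Fintype (Subgroup.centralizer ({x} : Set G))] :
    (Nat.card (Subgroup.centralizer ({x} : Set G)) : ℂ) *
      ∑ g : G, (if IsConj (pPartOf hp g) x then T g else 0) =
    (Nat.card G : ℂ) * ∑ s : Subgroup.centralizer ({x} : Set G),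
      (if ¬ p ∣ orderOf s then T (x * (s : G)) else 0) := by
  -- step 1: count conjugators
  have h1 : ∀ g : G, (Nat.card (Subgroup.centralizer ({x} : Set G)) : ℂ) *
      (if IsConj (pPartOf hp g) x then T g else 0) =
      ∑ t : G, if t * x * t⁻¹ = pPartOf hp g then T g else 0 := by
    intro g
    have h2 := card_conjugators x (pPartOf hp g)
    have h3 : (∑ t : G, if t * x * t⁻¹ = pPartOf hp g then T g else 0) =
        (∑ t : G, if t * x * t⁻¹ = pPartOf hp g then (1 : ℂ) else 0) * T g := by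
      rw [Finset.sum_mul]
      refine Finset.sum_congr rfl fun t _ => ?_
      split_ifs <;> simp
    rw [h3, h2]
    by_cases hc : IsConj (pPartOf hp g) x
    · rw [if_pos hc, if_pos hc.symm]
    · rw [if_neg hc, if_neg (fun h' => hc h'.symm), mul_zero, zero_mul]
  rw [Finset.mul_sum, Finset.sum_congr rfl fun g _ => h1 g, Finset.sum_comm]
  -- step 2: each `t` contributes the same
  have h4 : ∀ t : G, (∑ g : G, if t * x * t⁻¹ = pPartOf hp g then T g else 0) =
      ∑ g : G, if pPartOf hp g = x then T g else 0 := by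
    intro t
    rw [← Equiv.sum_comp (MulAut.conj t).toEquiv]
    refine Finset.sum_congr rfl fun g _ => ?_
    show (if t * x * t⁻¹ = pPartOf hp (t * g * t⁻¹) then T (t * g * t⁻¹) else 0) = _
    rw [pPartOf_conj, hT g t]
    have : t * x * t⁻¹ = t * pPartOf hp g * t⁻¹ ↔ pPartOf hp g = x := by
      constructor
      · intro h
        exact (mul_left_cancel (mul_right_cancel h)).symm
      · intro h; rw [h]
    simp only [this]
  rw [Finset.sum_congr rfl fun t _ => h4 t, Finset.sum_const, Finset.card_univ,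
    nsmul_eq_mul, Nat.card_eq_fintype_card]
  congr 1
  -- step 3: the section of `x` is `x · (p-regular elements of C(x))`
  rw [← Finset.sum_filter, ← Finset.sum_filter]
  symm
  apply Finset.sum_bij (fun (s : Subgroup.centralizer ({x} : Set G)) _ => x * (s : G))
  · intro s hs
    rw [Finset.mem_filter] at hs ⊢
    refine ⟨Finset.mem_univ _, ?_⟩
    rw [pPartOf_eq_iff]
    have hs2 := s.2
    rw [Subgroup.mem_centralizer_iff] at hs2
    refine ⟨(s : G), rfl, hs2 x rfl, hx, ?_⟩
    rw [Subgroup.orderOf_coe]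
    exact hs.2
  · intro s _ s' _ hss
    exact Subtype.ext (mul_left_cancel hss)
  · intro g hg
    rw [Finset.mem_filter] at hg
    have hg2 := (pPartOf_eq_iff hp g x).mp hg.2
    obtain ⟨y, hxy, hcomm, _, hy⟩ := hg2
    have hyC : y ∈ Subgroup.centralizer ({x} : Set G) := by
      rw [Subgroup.mem_centralizer_iff]
      intro w hw
      rw [Set.mem_singleton_iff] at hw
      rw [hw]
      exact hcomm.eq
    refine ⟨⟨y, hyC⟩, ?_, hxy⟩
    rw [Finset.mem_filter]
    refine ⟨Finset.mem_univ _, ?_⟩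
    rw [← Subgroup.orderOf_coe]
    exact hy
  · intro s _
    rfl

end Count

end Cfsg.Agent.Lib.Helper28
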