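import Mathlib
import Cfsg.Agent.Lib.Helper28.SectionC
import Cfsg.Agent.Lib.Helper28.SectionE
import Cfsg.Agent.Lib.Helper28.BlockOrthPReg

set_option autoImplicit false

/-!
# Counting the characters of a block by subsections (helper28)
-/

namespace Cfsg.Agent.Lib.Helper28

open Cfsg Cfsg.Agent.Lib.Helper4
open scoped ComplexConjugate Classical

section Parseval

variable {H : Type*} [Group H] [Fintype H] {M : Ideal AlgInt}

theorem sum_norm_comb [Fintype (IrrCharacter H)] (a : IrrCharacter H → ℂ) :
    ∑ s, (∑ ψ : IrrCharacter H, a ψ * (ψ : H → ℂ) s) *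
        conj (∑ ψ : IrrCharacter H, a ψ * (ψ : H → ℂ) s) =
      (Nat.card H : ℂ) * ∑ ψ : IrrCharacter H, a ψ * conj (a ψ) := by
  rw [sum_norm_expand a (fun (ψ : IrrCharacter H) (s : H) => (ψ : H → ℂ) s), Finset.mul_sum]
  refine Finset.sum_congr rfl fun ψ _ => ?_
  rw [Finset.sum_eq_single ψ]
  · rw [sum_irr_mul_conj, if_pos rfl]; ring
  · intro φ _ hφ
    rw [sum_irr_mul_conj, if_neg (Ne.symm hφ), mul_zero]
  · intro h; exact absurd (Finset.mem_univ _) h

/-- partition of the irreducible characters into blocks -/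
theorem sum_irr_eq_sum_blocks [M.IsPrime] [Fintype (IrrCharacter H)]
    [Fintype {b : Set (IrrCharacter H) // IsPBlock M b}] (g : IrrCharacter H → ℂ) :
    ∑ ψ, g ψ = ∑ b : {b : Set (IrrCharacter H) // IsPBlock M b},
      ∑ ψ, if ψ ∈ b.1 then g ψ else 0 := by
  have hMtop : M ≠ ⊤ := Ideal.IsPrime.ne_top inferInstance
  rw [Finset.sum_comm]
  refine Finset.sum_congr rfl fun χ _ => ?_
  have hχb : IsPBlock M (blockOf M (χ : H → ℂ)) := ⟨χ, rfl⟩
  rw [Finset.sum_eq_single (⟨blockOf M (χ : H → ℂ), hχb⟩ :
    {b : Set (IrrCharacter H) // IsPBlock M b})]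
  · rw [if_pos]
    exact Helper28.sameBlock_refl hMtop _
  · intro b _ hb
    rw [if_neg]
    intro hχ
    apply hb
    apply Subtype.ext
    exact Helper28.block_eq_of_mem b.2 hχb hχ (Helper28.sameBlock_refl hMtop _)
  · intro h
    exact absurd (Finset.mem_univ _) h

theorem blockPart_apply_sum [Fintype (IrrCharacter H)] (b : Set (IrrCharacter H)) (f : H → ℂ)
    (s : H) : blockPart b f s = ∑ ψ : IrrCharacter H,
      (if ψ ∈ b then classInner f (ψ : H → ℂ) else 0) * (ψ : H → ℂ) s := by
  rw [blockPart_eq, finsum_mem_eq_sum_ite]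
  refine Finset.sum_congr rfl fun ψ _ => ?_
  split_ifs
  · rfl
  · rw [zero_mul]

/-- Parseval's identity, block by block -/
theorem parseval_blocks [M.IsPrime] [Fintype (IrrCharacter H)]
    [Fintype {b : Set (IrrCharacter H) // IsPBlock M b}] (f : H → ℂ)
    (hf : IsClassFunction H f) :
    ∑ s, f s * conj (f s) = ∑ b : {b : Set (IrrCharacter H) // IsPBlock M b},
      ∑ s, blockPart b.1 f s * conj (blockPart b.1 f s) := by
  have hexp : ∀ s, f s = ∑ ψ : IrrCharacter H, classInner f (ψ : H → ℂ) * (ψ : H → ℂ) s := by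
    intro s
    conv_lhs => rw [Helper4.classFunction_expansion f hf]
    rw [Finset.sum_apply]
    rfl
  have hL : ∑ s, f s * conj (f s) =
      (Nat.card H : ℂ) * ∑ ψ : IrrCharacter H,
        classInner f (ψ : H → ℂ) * conj (classInner f (ψ : H → ℂ)) := by
    rw [← sum_norm_comb]
    refine Finset.sum_congr rfl fun s _ => ?_
    rw [← hexp s]
  have hR : ∀ b : {b : Set (IrrCharacter H) // IsPBlock M b},
      ∑ s, blockPart b.1 f s * conj (blockPart b.1 f s) =
        (Nat.card H : ℂ) * ∑ ψ : IrrCharacter H, if ψ ∈ b.1 then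
          classInner f (ψ : H → ℂ) * conj (classInner f (ψ : H → ℂ)) else 0 := by
    intro b
    have h1 := sum_norm_comb (H := H)
      (fun ψ : IrrCharacter H => if ψ ∈ b.1 then classInner f (ψ : H → ℂ) else 0)
    have h2 : ∑ s, blockPart b.1 f s * conj (blockPart b.1 f s) =
        ∑ s, (∑ ψ : IrrCharacter H,
          (if ψ ∈ b.1 then classInner f (ψ : H → ℂ) else 0) * (ψ : H → ℂ) s) *
          conj (∑ ψ : IrrCharacter H,
            (if ψ ∈ b.1 then classInner f (ψ : H → ℂ) else 0) * (ψ : H → ℂ) s) := by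
      refine Finset.sum_congr rfl fun s _ => ?_
      rw [blockPart_apply_sum b.1 f s]
    rw [h2, h1]
    congr 1
    refine Finset.sum_congr rfl fun ψ _ => ?_
    split_ifs
    · rfl
    · simp
  rw [hL, sum_irr_eq_sum_blocks (M := M), Finset.mul_sum]
  refine Finset.sum_congr rfl fun b _ => ?_
  rw [hR b]

end Parseval

section Count

variable {G : Type*} [Group G] [Fintype G] {M : Ideal AlgInt}

/-- **the contribution of the section of `x` to `k(B)`** -/
theorem section_count {p : ℕ} [Fact p.Prime] (hM : IsPModular p M) (x : G)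
    (hx : ∃ k : ℕ, orderOf x = p ^ k) [Fintype (Subgroup.centralizer ({x} : Set G))]
    {B : Set (IrrCharacter G)} (hB : IsPBlock M B) [Fintype (IrrCharacter G)]
    [Fintype {b : Set (IrrCharacter (Subgroup.centralizer ({x} : Set G))) // IsPBlock M b}] :
    ∑ s : Subgroup.centralizer ({x} : Set G), (if ¬ p ∣ orderOf s then
        ∑ χ : IrrCharacter G, (if χ ∈ B then
          (χ : G → ℂ) (x * (s : G)) * conj ((χ : G → ℂ) (x * (s : G))) else 0) else 0) =
      (Nat.card (Subgroup.centralizer ({x} : Set G)) : ℂ) *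
        ∑ b : {b : Set (IrrCharacter (Subgroup.centralizer ({x} : Set G))) // IsPBlock M b},
          if IsInducedBlock M (Subgroup.centralizer ({x} : Set G)) b.1 B then
            (blockRank p b.1 : ℂ) else 0 := by
  have hprime : M.IsPrime := hM.2.1.isPrime
  have hMtop : M ≠ ⊤ := hM.2.1.ne_top
  have : Fintype (IrrCharacter (Subgroup.centralizer ({x} : Set G))) := Fintype.ofFinite _
  have hC : ∀ g : G, g ∈ Subgroup.centralizer ({x} : Set G) ↔ g * x = x * g := by
    intro g
    rw [Subgroup.mem_centralizer_iff]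
    constructor
    · intro h; exact (h x rfl).symm
    · intro h w hw
      rw [Set.mem_singleton_iff] at hw
      rw [hw, h]
  obtain ⟨hPH, hCH, hHN⟩ := zpowers_centralizer_setup x
  have hP : IsPGroup p (Subgroup.zpowers x) := by
    obtain ⟨k, hk⟩ := hx
    apply IsPGroup.of_card (n := k)
    rw [Nat.card_zpowers, hk]
  -- the shifted restrictions and their `p`-regular parts
  have hcl : ∀ χ : IrrCharacter G, IsClassFunction (Subgroup.centralizer ({x} : Set G))
      (shiftRes x (Subgroup.centralizer ({x} : Set G)) (χ : G → ℂ)) := fun χ =>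
    isClassFunction_shiftRes x _ hC (Helper4.isClassFunction_of_isIrrCharacter χ.2)
  -- step 1: rewrite the left side through `f_χ = (ϑ_χ)°`
  have h1 : ∀ s : Subgroup.centralizer ({x} : Set G), (if ¬ p ∣ orderOf s then
        ∑ χ : IrrCharacter G, (if χ ∈ B then
          (χ : G → ℂ) (x * (s : G)) * conj ((χ : G → ℂ) (x * (s : G))) else 0) else 0) =
      ∑ χ : IrrCharacter G, if χ ∈ B then
        pRegularPart p (shiftRes x (Subgroup.centralizer ({x} : Set G)) (χ : G → ℂ)) s *
          conj (pRegularPart p (shiftRes x (Subgroup.centralizer ({x} : Set G)) (χ : G → ℂ)) s)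
        else 0 := by
    intro s
    by_cases hs : p ∣ orderOf s
    · rw [if_neg (not_not.mpr hs)]
      symm
      apply Finset.sum_eq_zero
      intro χ _
      rw [pRegularPart_of_dvd _ hs, zero_mul, ite_self]
    · rw [if_pos hs]
      refine Finset.sum_congr rfl fun χ _ => ?_
      rw [pRegularPart_of_not_dvd _ hs]
      rfl
  rw [Finset.sum_congr rfl fun s _ => h1 s, Finset.sum_comm]
  -- step 2: Parseval by blocks
  have h2 : ∀ χ : IrrCharacter G,
      ∑ s : Subgroup.centralizer ({x} : Set G),
        pRegularPart p (shiftRes x (Subgroup.centralizer ({x} : Set G)) (χ : G → ℂ)) s *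
          conj (pRegularPart p (shiftRes x (Subgroup.centralizer ({x} : Set G)) (χ : G → ℂ)) s) =
      ∑ b : {b : Set (IrrCharacter (Subgroup.centralizer ({x} : Set G))) // IsPBlock M b},
        ∑ s : Subgroup.centralizer ({x} : Set G),
          pRegularPart p (blockPart b.1
            (shiftRes x (Subgroup.centralizer ({x} : Set G)) (χ : G → ℂ))) s *
          conj (pRegularPart p (blockPart b.1
            (shiftRes x (Subgroup.centralizer ({x} : Set G)) (χ : G → ℂ))) s) := by
    intro χ
    rw [parseval_blocks (M := M) _ (isClassFunction_pRegularPart p (hcl χ))]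
    refine Finset.sum_congr rfl fun b _ => ?_
    rw [pRegularPart_blockPart hM b.2 _ (hcl χ)]
  have h3 : ∀ χ : IrrCharacter G,
      (∑ s : Subgroup.centralizer ({x} : Set G), if χ ∈ B then
        pRegularPart p (shiftRes x (Subgroup.centralizer ({x} : Set G)) (χ : G → ℂ)) s *
          conj (pRegularPart p (shiftRes x (Subgroup.centralizer ({x} : Set G)) (χ : G → ℂ)) s)
        else 0) =
      ∑ b : {b : Set (IrrCharacter (Subgroup.centralizer ({x} : Set G))) // IsPBlock M b},
        if χ ∈ B then ∑ s : Subgroup.centralizer ({x} : Set G),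
          pRegularPart p (blockPart b.1
            (shiftRes x (Subgroup.centralizer ({x} : Set G)) (χ : G → ℂ))) s *
          conj (pRegularPart p (blockPart b.1
            (shiftRes x (Subgroup.centralizer ({x} : Set G)) (χ : G → ℂ))) s) else 0 := by
    intro χ
    by_cases hχ : χ ∈ B
    · simp only [if_pos hχ]
      exact h2 χ
    · simp only [if_neg hχ, Finset.sum_const_zero]
  rw [Finset.sum_congr rfl fun χ _ => h3 χ, Finset.sum_comm, Finset.mul_sum]
  refine Finset.sum_congr rfl fun b _ => ?_
  by_cases hb : IsInducedBlock M (Subgroup.centralizer ({x} : Set G)) b.1 B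
  · rw [if_pos hb, ← section_norm_total hM x hx _ hC b.2]
    refine Finset.sum_congr rfl fun χ _ => ?_
    by_cases hχ : χ ∈ B
    · rw [if_pos hχ]
    · rw [if_neg hχ]
      symm
      apply Finset.sum_eq_zero
      intro s _
      by_cases hs : p ∣ orderOf s
      · rw [pRegularPart_of_dvd _ hs, zero_mul]
      · rw [pRegularPart_of_not_dvd _ hs, section_blockPart_eq_zero hM x hx _ hC hb χ hχ s hs,
          zero_mul]
  · rw [if_neg hb, mul_zero]
    obtain ⟨B', hB'⟩ := exists_induced_block hM (Subgroup.zpowers x) _ hP hPH hCH hHN b.2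
    apply Finset.sum_eq_zero
    intro χ _
    by_cases hχ : χ ∈ B
    · rw [if_pos hχ]
      have hχB' : χ ∉ B' := by
        intro hcon
        have := Helper28.block_eq_of_mem hB hB'.2.1 hχ hcon
        exact hb (this ▸ hB')
      apply Finset.sum_eq_zero
      intro s _
      by_cases hs : p ∣ orderOf s
      · rw [pRegularPart_of_dvd _ hs, zero_mul]
      · rw [pRegularPart_of_not_dvd _ hs,
          section_blockPart_eq_zero hM x hx _ hC hB' χ hχB' s hs, zero_mul]
    · rw [if_neg hχ]

end Count

end Cfsg.Agent.Lib.Helper28
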