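import Cfsg.Agent.Lib.Helper28.HeightZeroM
import Cfsg.Agent.Lib.Helper28.SectionF

set_option autoImplicit false

namespace Cfsg.Agent.Lib.Helper28

open Cfsg Cfsg.Agent.Lib.Helper4 Cfsg.Agent.Lib.Helper26
open scoped ComplexConjugate Classical

section

variable {G : Type*} [Group G] [Fintype G] {M : Ideal AlgInt}

set_option maxHeartbeats 3200000 in
/-- **S4428** (Brauer): for `χ` of height zero in `B` and a subsection `(x, b)` with `b^G = B`,
the `b`-part of `c ↦ χ(xc)` does not vanish identically on the `p`-regular elements -/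
theorem section_blockPart_ne_zero {p : ℕ} [Fact p.Prime] (hM : IsPModular p M)
    {B : Set (IrrCharacter G)} {χ : IrrCharacter G} (hχ : χ ∈ B)
    (h0 : blockHeight p B (χ : G → ℂ) = 0) (x : G) (hx : ∃ k : ℕ, orderOf x = p ^ k)
    [Fintype (Subgroup.centralizer ({x} : Set G))]
    {b : Set (IrrCharacter (Subgroup.centralizer ({x} : Set G)))}
    (hb : IsInducedBlock M (Subgroup.centralizer ({x} : Set G)) b B) :
    ∃ y : Subgroup.centralizer ({x} : Set G), ¬ p ∣ orderOf y ∧
      blockPart b (fun c : Subgroup.centralizer ({x} : Set G) => (χ : G → ℂ) (x * (c : G))) y ≠ 0 := by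
  have hprime : M.IsPrime := hM.2.1.isPrime
  have hMtop : M ≠ ⊤ := hM.2.1.ne_top
  have hp : p.Prime := Fact.out
  have : Fintype (IrrCharacter (Subgroup.centralizer ({x} : Set G))) := Fintype.ofFinite _
  have hbb : IsPBlock M b := hb.1
  by_contra hcon
  push Not at hcon
  obtain ⟨ψ', hψ'⟩ := Helper28.block_nonempty hbb
  have hX := induced_unit (Subgroup.centralizer ({x} : Set G)) hM hb hχ h0 hψ'
  apply hX
  have hχc : IsCharacter G (χ : G → ℂ) := isCharacter_of_isIrrCharacter χ.2
  have hresc : IsCharacter (Subgroup.centralizer ({x} : Set G))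
      (fun h : Subgroup.centralizer ({x} : Set G) => (χ : G → ℂ) h) :=
    isCharacter_restrict _ hχc
  have hn : ∀ ξ : IrrCharacter (Subgroup.centralizer ({x} : Set G)), ∃ n : ℕ,
      classInner (fun h : Subgroup.centralizer ({x} : Set G) => (χ : G → ℂ) h)
        (ξ : Subgroup.centralizer ({x} : Set G) → ℂ) = (n : ℂ) :=
    fun ξ => classInner_isCharacter_nat hresc (isCharacter_of_isIrrCharacter ξ.2)
  choose n hn using hn
  have hrescf : IsClassFunction (Subgroup.centralizer ({x} : Set G))
      (fun h : Subgroup.centralizer ({x} : Set G) => (χ : G → ℂ) h) :=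
    isClassFunction_resMap _ (Helper4.isClassFunction_of_isIrrCharacter χ.2)
  have hexp : ∀ h : Subgroup.centralizer ({x} : Set G), (χ : G → ℂ) h =
      ∑ ξ : IrrCharacter (Subgroup.centralizer ({x} : Set G)),
        (n ξ : ℂ) * (ξ : Subgroup.centralizer ({x} : Set G) → ℂ) h := by
    intro h
    have := congrFun (Helper4.classFunction_expansion _ hrescf) h
    rw [Finset.sum_apply] at this
    rw [this]
    refine Finset.sum_congr rfl fun ξ _ => ?_
    rw [Pi.smul_apply, smul_eq_mul, hn ξ]
  -- the central element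
  have hxC : x ∈ Subgroup.centralizer ({x} : Set G) := by
    rw [Subgroup.mem_centralizer_iff]
    intro w hw
    rw [Set.mem_singleton_iff] at hw
    rw [hw]
  have hx0c : (⟨x, hxC⟩ : Subgroup.centralizer ({x} : Set G)) ∈
      Subgroup.center (Subgroup.centralizer ({x} : Set G)) := by
    rw [Subgroup.mem_center_iff]
    intro g
    apply Subtype.ext
    have := Subgroup.mem_centralizer_iff.mp g.2 x rfl
    simpa using this.symm
  have hx0o : ∃ k : ℕ, orderOf (⟨x, hxC⟩ : Subgroup.centralizer ({x} : Set G)) = p ^ k := by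
    obtain ⟨k, hk⟩ := hx
    exact ⟨k, by rw [← hk, ← Subgroup.orderOf_coe]⟩
  have hε : ∀ ξ : IrrCharacter (Subgroup.centralizer ({x} : Set G)), ∃ c : ℂ,
      IsIntegral ℤ c ∧ MemLocalIdeal M (c - 1) ∧
        ∀ u : Subgroup.centralizer ({x} : Set G),
          (ξ : Subgroup.centralizer ({x} : Set G) → ℂ) (u * ⟨x, hxC⟩) =
            c * (ξ : Subgroup.centralizer ({x} : Set G) → ℂ) u :=
    fun ξ => char_mul_central_pElement hM ξ.2 hx0c hx0o
  choose ε hε1 hε2 hε3 using hε
  have hϑ : ∀ c : Subgroup.centralizer ({x} : Set G), (χ : G → ℂ) (x * (c : G)) =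
      ∑ ξ : IrrCharacter (Subgroup.centralizer ({x} : Set G)),
        ((n ξ : ℂ) * ε ξ) * (ξ : Subgroup.centralizer ({x} : Set G) → ℂ) c := by
    intro c
    have h1 : x * (c : G) = ((c * ⟨x, hxC⟩ : Subgroup.centralizer ({x} : Set G)) : G) := by
      have := Subgroup.mem_centralizer_iff.mp c.2 x rfl
      simpa using this
    rw [h1, hexp]
    refine Finset.sum_congr rfl fun ξ _ => ?_
    rw [hε3 ξ c]
    ring
  -- the `b`-part
  have hinner : ∀ ψ : IrrCharacter (Subgroup.centralizer ({x} : Set G)),
      classInner (fun c : Subgroup.centralizer ({x} : Set G) => (χ : G → ℂ) (x * (c : G)))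
        (ψ : Subgroup.centralizer ({x} : Set G) → ℂ) = (n ψ : ℂ) * ε ψ := by
    intro ψ
    have h1 : (fun c : Subgroup.centralizer ({x} : Set G) => (χ : G → ℂ) (x * (c : G))) =
        ∑ ξ : IrrCharacter (Subgroup.centralizer ({x} : Set G)),
          ((n ξ : ℂ) * ε ξ) • (ξ : Subgroup.centralizer ({x} : Set G) → ℂ) := by
      funext c
      rw [hϑ c, Finset.sum_apply]
      rfl
    rw [h1, classInner_sum_left, Finset.sum_eq_single ψ]
    · rw [classInner_smul_left, Helper4.classInner_irr, if_pos rfl, mul_one]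
    · intro ξ _ hξψ
      rw [classInner_smul_left, Helper4.classInner_irr, if_neg hξψ, mul_zero]
    · intro h; exact absurd (Finset.mem_univ _) h
  have hbp : ∀ y : Subgroup.centralizer ({x} : Set G),
      blockPart b (fun c : Subgroup.centralizer ({x} : Set G) => (χ : G → ℂ) (x * (c : G))) y =
      ∑ ξ : IrrCharacter (Subgroup.centralizer ({x} : Set G)),
        if ξ ∈ b then (n ξ : ℂ) * ε ξ * (ξ : Subgroup.centralizer ({x} : Set G) → ℂ) y
        else 0 := by
    intro y
    rw [blockPart_apply_sum]
    refine Finset.sum_congr rfl fun ξ _ => ?_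
    split_ifs
    · rw [hinner]
    · rw [zero_mul]
  -- `R(y) ∈ 𝔓` for `p`-regular `y`
  have hR : ∀ y : Subgroup.centralizer ({x} : Set G), ¬ p ∣ orderOf y →
      MemLocalIdeal M (∑ ξ : IrrCharacter (Subgroup.centralizer ({x} : Set G)),
        if ξ ∈ b then (n ξ : ℂ) * (ξ : Subgroup.centralizer ({x} : Set G) → ℂ) y else 0) := by
    intro y hy
    have h1 := hcon y hy
    rw [hbp y] at h1
    have h2 : (∑ ξ : IrrCharacter (Subgroup.centralizer ({x} : Set G)),
        if ξ ∈ b then (n ξ : ℂ) * (ξ : Subgroup.centralizer ({x} : Set G) → ℂ) y else 0) =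
        ∑ ξ : IrrCharacter (Subgroup.centralizer ({x} : Set G)),
          if ξ ∈ b then (1 - ε ξ) * ((n ξ : ℂ) *
            (ξ : Subgroup.centralizer ({x} : Set G) → ℂ) y) else 0 := by
      rw [← sub_zero (∑ ξ : IrrCharacter (Subgroup.centralizer ({x} : Set G)),
        if ξ ∈ b then (n ξ : ℂ) * (ξ : Subgroup.centralizer ({x} : Set G) → ℂ) y else 0),
        ← h1, ← Finset.sum_sub_distrib]
      refine Finset.sum_congr rfl fun ξ _ => ?_
      split_ifs
      · ring
      · ring
    rw [h2]
    apply Helper28.memLocalIdeal_sum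
    intro ξ _
    split_ifs
    · apply Helper28.memLocalIdeal_mul_right
      · have := Helper28.memLocalIdeal_neg (hε2 ξ)
        rwa [neg_sub] at this
      · exact memLocalRing_mul (memLocalRing_natCast hMtop _)
          (memLocalRing_of_isIntegral hMtop (isIntegral_of_isIrrCharacter ξ.2 y))
    · exact Helper28.memLocalIdeal_zero hMtop
  -- the expansion of the restricted test function
  have hgc : ((Nat.card G / p ^ (Nat.card G).factorization p : ℕ) : ℂ) ≠ 0 := by
    have : Nat.card G / p ^ (Nat.card G).factorization p ≠ 0 :=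
      (Nat.div_pos (Nat.le_of_dvd Nat.card_pos (Nat.ordProj_dvd _ _)) (pow_pos hp.pos _)).ne'
    exact_mod_cast this
  have hcopG : (Nat.card G / p ^ (Nat.card G).factorization p).Coprime p :=
    (Nat.coprime_ordCompl hp Nat.card_pos.ne').symm
  have hgR : MemLocalRing M (((Nat.card G / p ^ (Nat.card G).factorization p : ℕ) : ℂ)⁻¹) :=
    memLocalRing_inv_natCast hM hcopG
  -- the `b`-part and the rest of the test function
  have hF : ∀ c : Subgroup.centralizer ({x} : Set G),
      resMap (Subgroup.centralizer ({x} : Set G)) (pregTest p (χ : G → ℂ)) c =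
      ∑ ξ : IrrCharacter (Subgroup.centralizer ({x} : Set G)), (n ξ : ℂ) *
        (((Nat.card G / p ^ (Nat.card G).factorization p : ℕ) : ℂ)⁻¹ *
          conj (pRegularPart p (ξ : Subgroup.centralizer ({x} : Set G) → ℂ) c)) := by
    intro c
    unfold resMap pregTest
    rw [pRegularPart_apply, Subgroup.orderOf_coe]
    by_cases hh : p ∣ orderOf c
    · rw [if_pos hh, map_zero, mul_zero]
      symm
      refine Finset.sum_eq_zero fun ξ _ => ?_
      rw [pRegularPart_apply, if_pos hh, map_zero, mul_zero, mul_zero]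
    · rw [if_neg hh, hexp c, map_sum, Finset.mul_sum]
      refine Finset.sum_congr rfl fun ξ _ => ?_
      rw [pRegularPart_apply, if_neg hh, map_mul, Complex.conj_natCast]
      ring
  have hsplit : omegaF (ψ' : Subgroup.centralizer ({x} : Set G) → ℂ)
      (resMap (Subgroup.centralizer ({x} : Set G)) (pregTest p (χ : G → ℂ))) =
      ∑ ξ : IrrCharacter (Subgroup.centralizer ({x} : Set G)),
        omegaF (ψ' : Subgroup.centralizer ({x} : Set G) → ℂ)
          (fun c => (n ξ : ℂ) * (((Nat.card G / p ^ (Nat.card G).factorization p : ℕ) : ℂ)⁻¹ *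
            conj (pRegularPart p (ξ : Subgroup.centralizer ({x} : Set G) → ℂ) c))) := by
    rw [← omegaF_finset_sum]
    congr 1
    funext c
    exact hF c
  -- terms outside `b` vanish
  have hout : ∀ ξ : IrrCharacter (Subgroup.centralizer ({x} : Set G)), ξ ∉ b →
      omegaF (ψ' : Subgroup.centralizer ({x} : Set G) → ℂ)
        (fun c => (n ξ : ℂ) * (((Nat.card G / p ^ (Nat.card G).factorization p : ℕ) : ℂ)⁻¹ *
          conj (pRegularPart p (ξ : Subgroup.centralizer ({x} : Set G) → ℂ) c))) = 0 := by
    intro ξ hξ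
    have h0' := classInner_pRegularPart_eq_zero hM ξ ψ'
      (fun h => hξ ((Helper28.mem_block_iff hbb hψ' ξ).mpr (Helper28.sameBlock_symm h)))
    unfold omegaF
    have h2 : ∑ g : Subgroup.centralizer ({x} : Set G),
        (n ξ : ℂ) * (((Nat.card G / p ^ (Nat.card G).factorization p : ℕ) : ℂ)⁻¹ *
          conj (pRegularPart p (ξ : Subgroup.centralizer ({x} : Set G) → ℂ) g)) *
          (ψ' : Subgroup.centralizer ({x} : Set G) → ℂ) g =
        (n ξ : ℂ) * ((Nat.card G / p ^ (Nat.card G).factorization p : ℕ) : ℂ)⁻¹ *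
          ((Nat.card (Subgroup.centralizer ({x} : Set G)) : ℂ) *
          conj (classInner (pRegularPart p (ξ : Subgroup.centralizer ({x} : Set G) → ℂ))
            (ψ' : Subgroup.centralizer ({x} : Set G) → ℂ))) := by
      unfold classInner
      rw [map_mul, map_inv₀, Complex.conj_natCast, ← mul_assoc
        (Nat.card (Subgroup.centralizer ({x} : Set G)) : ℂ),
        mul_inv_cancel₀ (by exact_mod_cast Nat.card_pos.ne'), one_mul, map_sum,
        Finset.mul_sum]
      refine Finset.sum_congr rfl fun g _ => ?_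
      rw [map_mul, Complex.conj_conj]
      ring
    rw [h2, h0', map_zero, mul_zero, mul_zero, zero_div]
  -- so the value is that of the `b`-part, whose values lie in the local ideal
  rw [hsplit]
  have h3 : ∑ ξ : IrrCharacter (Subgroup.centralizer ({x} : Set G)),
      omegaF (ψ' : Subgroup.centralizer ({x} : Set G) → ℂ)
        (fun c => (n ξ : ℂ) * (((Nat.card G / p ^ (Nat.card G).factorization p : ℕ) : ℂ)⁻¹ *
          conj (pRegularPart p (ξ : Subgroup.centralizer ({x} : Set G) → ℂ) c))) =
      omegaF (ψ' : Subgroup.centralizer ({x} : Set G) → ℂ)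
        (fun c => ∑ ξ : IrrCharacter (Subgroup.centralizer ({x} : Set G)),
          if ξ ∈ b then (n ξ : ℂ) *
            (((Nat.card G / p ^ (Nat.card G).factorization p : ℕ) : ℂ)⁻¹ *
            conj (pRegularPart p (ξ : Subgroup.centralizer ({x} : Set G) → ℂ) c)) else 0) := by
    rw [omegaF_finset_sum]
    refine Finset.sum_congr rfl fun ξ _ => ?_
    by_cases hξ : ξ ∈ b
    · simp only [if_pos hξ]
    · simp only [if_neg hξ]
      rw [hout ξ hξ]
      exact (omegaF_zero _).symm
  rw [h3]
  apply omegaF_memLocalIdeal_of_values ψ'.2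
  · intro g k
    refine Finset.sum_congr rfl fun ξ _ => ?_
    rw [isClassFunction_pRegularPart p (Helper4.isClassFunction_of_isIrrCharacter ξ.2) g k]
  · intro c
    by_cases hc : p ∣ orderOf c
    · have : (∑ ξ : IrrCharacter (Subgroup.centralizer ({x} : Set G)),
          if ξ ∈ b then (n ξ : ℂ) *
            (((Nat.card G / p ^ (Nat.card G).factorization p : ℕ) : ℂ)⁻¹ *
            conj (pRegularPart p (ξ : Subgroup.centralizer ({x} : Set G) → ℂ) c)) else 0) = 0 := by
        refine Finset.sum_eq_zero fun ξ _ => ?_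
        rw [pRegularPart_of_dvd _ hc, map_zero, mul_zero, mul_zero, ite_self]
      rw [this]
      exact Helper28.memLocalIdeal_zero hMtop
    · have hc' : ¬ p ∣ orderOf c⁻¹ := by rwa [orderOf_inv]
      have hRc := hR c⁻¹ hc'
      have : (∑ ξ : IrrCharacter (Subgroup.centralizer ({x} : Set G)),
          if ξ ∈ b then (n ξ : ℂ) *
            (((Nat.card G / p ^ (Nat.card G).factorization p : ℕ) : ℂ)⁻¹ *
            conj (pRegularPart p (ξ : Subgroup.centralizer ({x} : Set G) → ℂ) c)) else 0) =
          ((Nat.card G / p ^ (Nat.card G).factorization p : ℕ) : ℂ)⁻¹ *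
          ∑ ξ : IrrCharacter (Subgroup.centralizer ({x} : Set G)),
            if ξ ∈ b then (n ξ : ℂ) *
              (ξ : Subgroup.centralizer ({x} : Set G) → ℂ) c⁻¹ else 0 := by
        rw [Finset.mul_sum]
        refine Finset.sum_congr rfl fun ξ _ => ?_
        split_ifs
        · rw [pRegularPart_of_not_dvd _ hc,
            isCharacter_conj_eq_inv (isCharacter_of_isIrrCharacter ξ.2) c]
          ring
        · rw [mul_zero]
      rw [this]
      exact Helper28.memLocalIdeal_mul_left hgR hRc

end

end Cfsg.Agent.Lib.Helper28
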