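import Mathlib
import Cfsg.Prelude.Def_Blocks
import Cfsg.Agent.Lib.Helper28.HeightZeroN
import Cfsg.Agent.Lib.Helper28.PModExists
import Cfsg.Agent.Lib.Helper28.BrauerIndB

set_option autoImplicit false

/-!
# Classes of defect zero and characters of defect zero (helper28)

If `z` has a `p'`-centralizer and `G` has no character of `p`-defect zero, then two conjugates
of `z` have a quotient which is a non-identity `p`-element.
-/

namespace Cfsg.Agent.Lib.Helper28

open Cfsg Cfsg.Agent.Lib.Helper4 Cfsg.Agent.Lib.Helper26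
open scoped ComplexConjugate Classical

section

variable {M : Ideal AlgInt}

theorem natCast_mul_div_memLocalIdeal {p : ℕ} (hM : IsPModular p M) {n d : ℕ}
    (hd : d ≠ 0) (h : d.factorization p < n.factorization p) {w : ℂ}
    (hw : MemLocalRing M w) : MemLocalIdeal M ((n : ℂ) * w / (d : ℂ)) := by
  have hp : p.Prime := hM.1
  have hprime : M.IsPrime := hM.2.1.isPrime
  have hMtop : M ≠ ⊤ := hM.2.1.ne_top
  have hpc : (p : ℂ) ≠ 0 := Nat.cast_ne_zero.mpr hp.ne_zero
  obtain ⟨j, hj⟩ : ∃ j, n.factorization p = d.factorization p + (j + 1) :=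
    ⟨n.factorization p - d.factorization p - 1, by omega⟩
  have hcop := (Nat.coprime_ordCompl hp hd)
  have e1 := natCast_split (p := p) n
  have e2 := natCast_split (p := p) d
  obtain ⟨n', hn'⟩ : ∃ n' : ℕ, n' = n / p ^ (n.factorization p) := ⟨_, rfl⟩
  obtain ⟨d', hd'⟩ : ∃ d' : ℕ, d' = d / p ^ (d.factorization p) := ⟨_, rfl⟩
  rw [← hd'] at e2 hcop
  rw [← hn', hj, pow_add] at e1
  have hd'0 : (d' : ℂ) ≠ 0 := by
    intro h0
    rw [h0, mul_zero] at e2
    exact hd (by exact_mod_cast e2)
  have hval : (n : ℂ) * w / (d : ℂ) = (p : ℂ) ^ (j + 1) * ((n' : ℂ) * w * (d' : ℂ)⁻¹) := by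
    rw [e1, e2]
    field_simp
  rw [hval]
  exact Helper28.memLocalIdeal_mul_right (memLocalIdeal_pow_p hM (Nat.succ_pos j))
    (memLocalRing_mul (memLocalRing_mul (memLocalRing_natCast hMtop _) hw)
      (memLocalRing_inv_natCast hM hcop.symm))

end

section

variable {G : Type*} [Group G] [Fintype G]

theorem classInd_eq_sum [Fintype (IrrCharacter G)] (z y : G) :
    classInd z y = (Nat.card (Subgroup.centralizer ({z} : Set G)) : ℂ)⁻¹ *
      ∑ χ : IrrCharacter G, conj ((χ : G → ℂ) z) * (χ : G → ℂ) y := by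
  have h := column_orthogonality z y
  have h2 := congrArg conj h
  rw [map_sum] at h2
  have hC0 : (Nat.card (Subgroup.centralizer ({z} : Set G)) : ℂ) ≠ 0 :=
    Nat.cast_ne_zero.mpr Nat.card_pos.ne'
  have h3 : ∑ χ : IrrCharacter G, conj ((χ : G → ℂ) z) * (χ : G → ℂ) y =
      if IsConj z y then (Nat.card (Subgroup.centralizer ({z} : Set G)) : ℂ) else 0 := by
    rw [← apply_ite (fun t : ℂ => t)] 
    have : conj (if IsConj z y then (Nat.card (Subgroup.centralizer ({z} : Set G)) : ℂ) else 0) =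
        if IsConj z y then (Nat.card (Subgroup.centralizer ({z} : Set G)) : ℂ) else 0 := by
      split_ifs
      · exact Complex.conj_natCast _
      · exact map_zero _
    rw [← this, ← h2]
    refine Finset.sum_congr rfl fun χ _ => ?_
    rw [map_mul, Complex.conj_conj]
  rw [h3]
  unfold classInd
  split_ifs
  · rw [inv_mul_cancel₀ hC0]
  · rw [mul_zero]

theorem char_comm_of_classFunction {χ : G → ℂ} (hχ : IsClassFunction G χ) (a b : G) :
    χ (a * b) = χ (b * a) := by
  have := hχ (b * a) a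
  rw [← this]
  congr 1
  group

/-- the number of pairs `(g, h)` of conjugates of `z` with `g h⁻¹ ∈ P`, via characters -/
theorem sum_pairs_eq [Fintype (IrrCharacter G)] (z : G) (P : Subgroup G) [Fintype P] :
    ∑ u : P, ∑ g : G, classInd z g * classInd z ((u : G)⁻¹ * g) =
      (Nat.card P : ℂ) * (Nat.card (Subgroup.centralizer ({z} : Set G)) : ℂ)⁻¹ *
        ∑ χ : IrrCharacter G, conj ((χ : G → ℂ) z) * centralChar (χ : G → ℂ) z *
          classInner (fun u : P => (χ : G → ℂ) u) (fun _ => (1 : ℂ)) := by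
  have hP0 : (Nat.card P : ℂ) ≠ 0 := Nat.cast_ne_zero.mpr Nat.card_pos.ne'
  have h1 : ∀ u : P, ∑ g : G, classInd z g * classInd z ((u : G)⁻¹ * g) =
      (Nat.card (Subgroup.centralizer ({z} : Set G)) : ℂ)⁻¹ *
        ∑ χ : IrrCharacter G, conj ((χ : G → ℂ) z) * centralChar (χ : G → ℂ) z *
          (χ : G → ℂ) ((u : G)⁻¹) := by
    intro u
    have h2 : ∀ g : G, classInd z g * classInd z ((u : G)⁻¹ * g) =
        (Nat.card (Subgroup.centralizer ({z} : Set G)) : ℂ)⁻¹ *
          ∑ χ : IrrCharacter G, conj ((χ : G → ℂ) z) *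
            (classInd z g * (χ : G → ℂ) (g * (u : G)⁻¹)) := by
      intro g
      rw [classInd_eq_sum z ((u : G)⁻¹ * g), ← mul_assoc, mul_comm (classInd z g), mul_assoc,
        Finset.mul_sum]
      congr 1
      refine Finset.sum_congr rfl fun χ _ => ?_
      rw [char_comm_of_classFunction (Helper4.isClassFunction_of_isIrrCharacter χ.2)]
      ring
    simp only [h2]
    rw [← Finset.mul_sum, Finset.sum_comm]
    congr 1
    refine Finset.sum_congr rfl fun χ _ => ?_
    rw [← Finset.mul_sum, sum_mul_char_shift χ.2 _ (isClassFunction_classInd z),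
      omegaF_classInd (Helper4.isClassFunction_of_isIrrCharacter χ.2)]
    ring
  simp only [h1]
  rw [← Finset.mul_sum, Finset.sum_comm, mul_comm (Nat.card P : ℂ), mul_assoc]
  congr 1
  rw [Finset.mul_sum]
  refine Finset.sum_congr rfl fun χ _ => ?_
  rw [← Finset.mul_sum]
  have h3 : ∑ u : P, (χ : G → ℂ) ((u : G)⁻¹) =
      (Nat.card P : ℂ) * classInner (fun u : P => (χ : G → ℂ) u) (fun _ => (1 : ℂ)) := by
    unfold classInner
    rw [← mul_assoc, mul_inv_cancel₀ hP0, one_mul]
    simp only [map_one, mul_one]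
    exact Fintype.sum_equiv (Equiv.inv P) _ _ (fun u => rfl)
  rw [h3]
  ring

end

end Cfsg.Agent.Lib.Helper28
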