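import Mathlib
import Cfsg.Prelude.Def_Blocks
import Cfsg.Agent.Lib.Helper28.DefZeroClassA

set_option autoImplicit false

/-!
# Classes of defect zero and characters of defect zero, II (helper28)
-/

namespace Cfsg.Agent.Lib.Helper28

open Cfsg Cfsg.Agent.Lib.Helper4 Cfsg.Agent.Lib.Helper26
open scoped ComplexConjugate Classical

section

variable {G : Type*} [Group G] [Fintype G]

theorem sum_classInd (z : G) :
    ∑ g : G, classInd z g = ((Subgroup.centralizer ({z} : Set G)).index : ℂ) := by
  unfold classInd
  have hc : (Finset.univ.filter (fun g => IsConj z g)).card =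
      (Subgroup.centralizer ({z} : Set G)).index := by
    rw [← ncard_conj_eq_index, Set.ncard_eq_toFinset_card']
    congr 1
    ext g
    simp
  rw [Finset.sum_ite, Finset.sum_const_zero, add_zero, Finset.sum_const, nsmul_eq_mul, hc, mul_one]

/-- If `C_G(z)` is a `p'`-group and `G` has no irreducible character of `p`-defect zero, then
some quotient `g h⁻¹` of two conjugates of `z` is a non-identity `p`-element. -/
theorem exists_conj_pair_of_no_defect_zero (p : ℕ) [Fact p.Prime]
    (hno : ∀ χ : IrrCharacter G,
      (charDegree (χ : G → ℂ)).factorization p ≠ (Nat.card G).factorization p)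
    (z : G) (hz : ¬ p ∣ Nat.card (Subgroup.centralizer ({z} : Set G))) :
    ∃ g h : G, IsConj z g ∧ IsConj z h ∧ g * h⁻¹ ≠ 1 ∧ ∃ k : ℕ, orderOf (g * h⁻¹) = p ^ k := by
  have hp : p.Prime := Fact.out
  by_contra hcon
  push Not at hcon
  obtain ⟨M, hM⟩ := exists_isPModular' hp
  have hprime : M.IsPrime := hM.2.1.isPrime
  have hMtop : M ≠ ⊤ := hM.2.1.ne_top
  have : Fintype (IrrCharacter G) := Fintype.ofFinite _
  obtain ⟨P⟩ : Nonempty (Sylow p G) := inferInstance
  have hsum := sum_pairs_eq z (P : Subgroup G)
  -- the left side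
  have hL : ∑ u : (P : Subgroup G), ∑ g : G, classInd z g * classInd z ((u : G)⁻¹ * g) =
      ((Subgroup.centralizer ({z} : Set G)).index : ℂ) := by
    rw [Finset.sum_eq_single (1 : (P : Subgroup G))]
    · rw [← sum_classInd z]
      refine Finset.sum_congr rfl fun g _ => ?_
      simp only [OneMemClass.coe_one, inv_one, one_mul]
      unfold classInd
      split_ifs <;> simp
    · intro u _ hu
      refine Finset.sum_eq_zero fun g _ => ?_
      by_contra hne
      have h1 : IsConj z g := by
        by_contra h
        apply hne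
        unfold classInd
        rw [if_neg h, zero_mul]
      have h2 : IsConj z ((u : G)⁻¹ * g) := by
        by_contra h
        apply hne
        unfold classInd
        rw [if_neg h, mul_zero]
      have h3 : g * ((u : G)⁻¹ * g)⁻¹ = (u : G) := by group
      have hu1 : (u : G) ≠ 1 := fun h => hu (Subtype.ext h)
      obtain ⟨k, hk⟩ := (IsPGroup.iff_orderOf.mp P.isPGroup') u
      have hk' : orderOf (u : G) = p ^ k := by
        rw [← hk]
        exact Subgroup.orderOf_coe u
      exact hcon g ((u : G)⁻¹ * g) h1 h2 (by rw [h3]; exact hu1) k (by rw [h3]; exact hk')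
    · intro h
      exact absurd (Finset.mem_univ _) h
  rw [hL] at hsum
  set S : ℂ := ∑ χ : IrrCharacter G, conj ((χ : G → ℂ) z) * centralChar (χ : G → ℂ) z *
          classInner (fun u : (P : Subgroup G) => (χ : G → ℂ) u) (fun _ => (1 : ℂ)) with hS
  have hC0 : (Nat.card (Subgroup.centralizer ({z} : Set G)) : ℂ) ≠ 0 :=
    Nat.cast_ne_zero.mpr Nat.card_pos.ne'
  have hG : (Nat.card G : ℂ) = (Nat.card (P : Subgroup G) : ℂ) * S := by
    rw [← (Subgroup.centralizer ({z} : Set G)).index_mul_card]
    push_cast
    rw [hsum]
    field_simp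
  have hvC : (Nat.card (Subgroup.centralizer ({z} : Set G))).factorization p = 0 :=
    Nat.factorization_eq_zero_of_not_dvd hz
  have hvidx : (Subgroup.centralizer ({z} : Set G)).index.factorization p =
      (Nat.card G).factorization p := by
    have := factorization_card_eq (p := p) z
    omega
  have hSmem : MemLocalIdeal M S := by
    rw [hS]
    apply memLocalIdeal_sum
    intro χ _
    obtain ⟨hd0, hd1, hd2⟩ := irr_degree_nat χ.2
    have hle : (charDegree (χ : G → ℂ)).factorization p ≤ (Nat.card G).factorization p :=
      (Nat.factorization_le_iff_dvd hd0 Nat.card_pos.ne').mpr hd2 p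
    have hlt : (charDegree (χ : G → ℂ)).factorization p <
        (Subgroup.centralizer ({z} : Set G)).index.factorization p := by
      rw [hvidx]
      exact lt_of_le_of_ne hle (hno χ)
    have hint : IsIntegral ℤ ((χ : G → ℂ) z) := isIntegral_of_isIrrCharacter χ.2 z
    have h1 : MemLocalIdeal M (centralChar (χ : G → ℂ) z) := by
      unfold centralChar
      rw [hd1]
      exact natCast_mul_div_memLocalIdeal hM hd0 hlt (memLocalRing_of_isIntegral hMtop hint)
    have h2 : MemLocalRing M (conj ((χ : G → ℂ) z)) :=
      memLocalRing_of_isIntegral hMtop (map_isIntegral_int (starRingEnd ℂ) hint)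
    obtain ⟨m, hm⟩ := classInner_isCharacter_nat
      (isCharacter_restrict (P : Subgroup G) (isCharacter_of_isIrrCharacter χ.2))
      (isCharacter_one' (G := (P : Subgroup G)))
    have h3 : MemLocalRing M
        (classInner (fun u : (P : Subgroup G) => (χ : G → ℂ) u) (fun _ => (1 : ℂ))) := by
      have : (fun u : (P : Subgroup G) => (χ : G → ℂ) u) =
          ((χ : G → ℂ) ∘ (P : Subgroup G).subtype) := rfl
      rw [this, hm]
      exact memLocalRing_natCast hMtop m
    exact Helper28.memLocalIdeal_mul_right (Helper28.memLocalIdeal_mul_left h2 h1) h3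
  have hlt := factorization_lt_of_eq_mul_memLocalIdeal hM Nat.card_pos.ne' hG hSmem
  rw [P.card_eq_multiplicity, Nat.Prime.factorization_pow hp, Finsupp.single_eq_same] at hlt
  exact lt_irrefl _ hlt

end

end Cfsg.Agent.Lib.Helper28
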