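import Mathlib
import Cfsg.Prelude.Def_Blocks
import Cfsg.Agent.Lib.Helper28.DefZeroClassB

set_option autoImplicit false

/-!
# Counting pairs in two classes with quotient in a subgroup (helper28)
-/

namespace Cfsg.Agent.Lib.Helper28

open Cfsg Cfsg.Agent.Lib.Helper4 Cfsg.Agent.Lib.Helper26
open scoped ComplexConjugate Classical

section

variable {G : Type*} [Group G] [Fintype G]

/-- the number of pairs `(g, h)`, `g ~ z`, `h ~ w`, with `g h⁻¹ ∈ P`, via characters -/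
theorem sum_pairs_eq_two [Fintype (IrrCharacter G)] (z w : G) (P : Subgroup G) [Fintype P] :
    ∑ u : P, ∑ g : G, classInd z g * classInd w ((u : G)⁻¹ * g) =
      (Nat.card P : ℂ) * (Nat.card (Subgroup.centralizer ({w} : Set G)) : ℂ)⁻¹ *
        ∑ χ : IrrCharacter G, conj ((χ : G → ℂ) w) * centralChar (χ : G → ℂ) z *
          classInner (fun u : P => (χ : G → ℂ) u) (fun _ => (1 : ℂ)) := by
  have hP0 : (Nat.card P : ℂ) ≠ 0 := Nat.cast_ne_zero.mpr Nat.card_pos.ne'
  have h1 : ∀ u : P, ∑ g : G, classInd z g * classInd w ((u : G)⁻¹ * g) =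
      (Nat.card (Subgroup.centralizer ({w} : Set G)) : ℂ)⁻¹ *
        ∑ χ : IrrCharacter G, conj ((χ : G → ℂ) w) * centralChar (χ : G → ℂ) z *
          (χ : G → ℂ) ((u : G)⁻¹) := by
    intro u
    have h2 : ∀ g : G, classInd z g * classInd w ((u : G)⁻¹ * g) =
        (Nat.card (Subgroup.centralizer ({w} : Set G)) : ℂ)⁻¹ *
          ∑ χ : IrrCharacter G, conj ((χ : G → ℂ) w) *
            (classInd z g * (χ : G → ℂ) (g * (u : G)⁻¹)) := by
      intro g
      rw [classInd_eq_sum w ((u : G)⁻¹ * g), ← mul_assoc, mul_comm (classInd z g), mul_assoc,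
        Finset.mul_sum]
      congr 1
      refine Finset.sum_congr rfl fun χ _ => ?_
      rw [char_comm_of_classFunction (Helper4.isClassFunction_of_isIrrCharacter χ.2)]
      ring
    simp only [h2]
    rw [← Finset.mul_sum, Finset.sum_comm]
    congr 1
    refine Finset.sum_congr rfl fun χ _ => ?_
    rw [← Finset.mul_sum, sum_mul_char_shift χ.2 _ (isClassFunction_classInd z),
      omegaF_classInd (Helper4.isClassFunction_of_isIrrCharacter χ.2)]
    ring
  simp only [h1]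
  rw [← Finset.mul_sum, Finset.sum_comm, mul_comm (Nat.card P : ℂ), mul_assoc]
  congr 1
  rw [Finset.mul_sum]
  refine Finset.sum_congr rfl fun χ _ => ?_
  rw [← Finset.mul_sum]
  have h3 : ∑ u : P, (χ : G → ℂ) ((u : G)⁻¹) =
      (Nat.card P : ℂ) * classInner (fun u : P => (χ : G → ℂ) u) (fun _ => (1 : ℂ)) := by
    unfold classInner
    rw [← mul_assoc, mul_inv_cancel₀ hP0, one_mul]
    simp only [map_one, mul_one]
    exact Fintype.sum_equiv (Equiv.inv P) _ _ (fun u => rfl)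
  rw [h3]
  ring

/-- the double sum counts the pairs -/
theorem card_pairs_eq_sum (z w : G) (P : Subgroup G) [Fintype P] :
    (Nat.card {yz : G × G // IsConj z yz.1 ∧ IsConj w yz.2 ∧ yz.2 * yz.1⁻¹ ∈ P} : ℂ) =
      ∑ u : P, ∑ g : G, classInd z g * classInd w ((u : G)⁻¹ * g) := by
  -- bijection `(u, g) ↦ (g, u⁻¹ g)`
  have hcard : Nat.card {yz : G × G // IsConj z yz.1 ∧ IsConj w yz.2 ∧ yz.2 * yz.1⁻¹ ∈ P} =
      Nat.card {ug : P × G // IsConj z ug.2 ∧ IsConj w ((ug.1 : G)⁻¹ * ug.2)} := by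
    apply Nat.card_congr
    refine
      { toFun := fun yz => ⟨(⟨(yz.1.2 * yz.1.1⁻¹)⁻¹, P.inv_mem yz.2.2.2⟩, yz.1.1), ?_, ?_⟩
        invFun := fun ug => ⟨(ug.1.2, (ug.1.1 : G)⁻¹ * ug.1.2), ?_, ?_, ?_⟩
        left_inv := ?_
        right_inv := ?_ }
    · exact yz.2.1
    · show IsConj w (((yz.1.2 * yz.1.1⁻¹)⁻¹)⁻¹ * yz.1.1)
      have : ((yz.1.2 * yz.1.1⁻¹)⁻¹)⁻¹ * yz.1.1 = yz.1.2 := by group
      rw [this]
      exact yz.2.2.1
    · exact ug.2.1
    · exact ug.2.2
    · show (ug.1.1 : G)⁻¹ * ug.1.2 * ug.1.2⁻¹ ∈ P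
      have : (ug.1.1 : G)⁻¹ * ug.1.2 * ug.1.2⁻¹ = (ug.1.1 : G)⁻¹ := by group
      rw [this]
      exact P.inv_mem ug.1.1.2
    · rintro ⟨⟨y, z'⟩, h⟩
      apply Subtype.ext
      apply Prod.ext
      · rfl
      · show ((z' * y⁻¹)⁻¹)⁻¹ * y = z'
        group
    · rintro ⟨⟨u, g⟩, h⟩
      apply Subtype.ext
      apply Prod.ext
      · apply Subtype.ext
        show ((u : G)⁻¹ * g * g⁻¹)⁻¹ = (u : G)
        group
      · rfl
  rw [hcard, Nat.card_eq_fintype_card, Fintype.card_subtype, Finset.card_filter]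
  push_cast
  rw [Fintype.sum_prod_type]
  refine Finset.sum_congr rfl fun u _ => Finset.sum_congr rfl fun g _ => ?_
  unfold classInd
  by_cases h1 : IsConj z g
  · by_cases h2 : IsConj w ((u : G)⁻¹ * g)
    · rw [if_pos ⟨h1, h2⟩, if_pos h1, if_pos h2, mul_one]
    · rw [if_neg (fun h => h2 h.2), if_pos h1, if_neg h2, mul_zero]
  · rw [if_neg (fun h => h1 h.1), if_neg h1, zero_mul]

end

end Cfsg.Agent.Lib.Helper28
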