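import Mathlib
import Cfsg.Prelude.Def_Blocks
import Cfsg.Agent.Lib.Helper28.RobinsonA
import Cfsg.Agent.Lib.Helper28.LocalRes

set_option autoImplicit false

/-!
# Block sums of `conj χ(w) ⟨χ_S, 1⟩` (helper28)
-/

namespace Cfsg.Agent.Lib.Helper28

open Cfsg Cfsg.Agent.Lib.Helper4 Cfsg.Agent.Lib.Helper26
open scoped ComplexConjugate Classical

section

variable {G : Type*} [Group G] [Fintype G] {M : Ideal AlgInt}

/-- for a `p`-regular `w` and a Sylow `p`-subgroup `S`:
`∑_{χ ∈ B} conj χ(w) ⟨χ_S, 1_S⟩ = (|G|/|S|) e_B(w)` -/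
theorem sum_block_conj_mul_fixed [Fintype (IrrCharacter G)] {p : ℕ} [Fact p.Prime]
    (hM : IsPModular p M) {B : Set (IrrCharacter G)} (hB : IsPBlock M B) (S : Sylow p G)
    (w : G) (hw : ¬ p ∣ orderOf w) :
    ∑ χ : IrrCharacter G, (if χ ∈ B then conj ((χ : G → ℂ) w) *
        classInner (fun u : (S : Subgroup G) => (χ : G → ℂ) u) (fun _ => (1 : ℂ)) else 0) =
      (Nat.card G : ℂ) * (Nat.card (S : Subgroup G) : ℂ)⁻¹ * blockCoeff B w := by
  have hprime : M.IsPrime := hM.2.1.isPrime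
  have hp : p.Prime := Fact.out
  have hG0 : (Nat.card G : ℂ) ≠ 0 := Nat.cast_ne_zero.mpr Nat.card_pos.ne'
  have h1 : ∀ χ : IrrCharacter G, (if χ ∈ B then conj ((χ : G → ℂ) w) *
        classInner (fun u : (S : Subgroup G) => (χ : G → ℂ) u) (fun _ => (1 : ℂ)) else 0) =
      (Nat.card (S : Subgroup G) : ℂ)⁻¹ * ∑ u : (S : Subgroup G),
        (if χ ∈ B then conj ((χ : G → ℂ) w) * (χ : G → ℂ) u else 0) := by
    intro χ
    by_cases hχ : χ ∈ B
    · simp only [if_pos hχ]
      unfold classInner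
      simp only [map_one, mul_one]
      rw [Finset.mul_sum, Finset.mul_sum, Finset.mul_sum]
      refine Finset.sum_congr rfl fun u _ => ?_
      ring
    · simp only [if_neg hχ, Finset.sum_const_zero, mul_zero]
  simp only [h1]
  rw [← Finset.mul_sum, Finset.sum_comm]
  have h2 : ∀ u : (S : Subgroup G), u ≠ 1 →
      ∑ χ : IrrCharacter G,
        (if χ ∈ B then conj ((χ : G → ℂ) w) * (χ : G → ℂ) u else 0) = 0 := by
    intro u hu
    obtain ⟨k, hk⟩ := (IsPGroup.iff_orderOf.mp S.isPGroup') u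
    have hk' : orderOf (u : G) = p ^ k := by
      rw [← hk]
      exact Subgroup.orderOf_coe u
    have hk0 : k ≠ 0 := by
      rintro rfl
      rw [pow_zero, orderOf_eq_one_iff] at hk
      exact hu hk
    have hsing : p ∣ orderOf (u : G) := by
      rw [hk']
      exact dvd_pow_self p hk0
    have h3 := weak_orthogonality_of_memLocalRing hM B (fun g => Helper28.osima hB g) w (u : G)
      hw hsing
    have h4 := congrArg conj h3
    rw [map_sum, map_zero] at h4
    refine Eq.trans (Finset.sum_congr rfl fun χ _ => ?_) h4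
    by_cases hχ : χ ∈ B
    · rw [if_pos hχ, if_pos hχ, map_mul, Complex.conj_conj]
    · rw [if_neg hχ, if_neg hχ, map_zero]
  rw [Finset.sum_eq_single (1 : (S : Subgroup G)) (fun u _ hu => h2 u hu)
    (fun h => absurd (Finset.mem_univ _) h)]
  rw [blockCoeff_eq_sum]
  have h5 : ∑ χ : IrrCharacter G,
      (if χ ∈ B then conj ((χ : G → ℂ) w) * (χ : G → ℂ) ((1 : (S : Subgroup G)) : G) else 0) =
      ∑ χ : IrrCharacter G, (if χ ∈ B then (χ : G → ℂ) 1 * conj ((χ : G → ℂ) w) else 0) := by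
    refine Finset.sum_congr rfl fun χ _ => ?_
    split_ifs
    · rw [OneMemClass.coe_one, mul_comm]
    · rfl
  rw [h5]
  field_simp

end

end Cfsg.Agent.Lib.Helper28
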