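import Mathlib
import Cfsg.Prelude.Def_Blocks
import Cfsg.Agent.Lib.Helper28.BrauerM
import Cfsg.Agent.Lib.Helper28.BlockCountB
import Cfsg.Agent.Lib.Helper28.BlockDefectE
import Cfsg.Agent.Lib.Helper4.BlockCentralizer
import Cfsg.Agent.Lib.Helper4.PermLemma

set_option autoImplicit false

/-!
# Classes whose centralizer has the normal `p`-subgroup `D` as a Sylow subgroup (helper28)
-/

namespace Cfsg.Agent.Lib.Helper28

open Cfsg Cfsg.Agent.Lib.Helper4 Cfsg.Agent.Lib.Helper26
open scoped ComplexConjugate Classical

section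

variable {G : Type*} [Group G]

/-- `x` is `p`-regular and `D` is a Sylow `p`-subgroup of `C_G(x)` -/
def RobP (p : ℕ) (D : Subgroup G) (x : G) : Prop :=
  ¬ p ∣ orderOf x ∧ D ≤ Subgroup.centralizer ({x} : Set G) ∧
    (Nat.card (Subgroup.centralizer ({x} : Set G))).factorization p =
      (Nat.card D).factorization p

theorem factorization_pow_self' {p : ℕ} (hp : p.Prime) (k : ℕ) : (p ^ k).factorization p = k := by
  rw [hp.factorization_pow, Finsupp.single_eq_same]

theorem exists_sylow_map_eq_iff [Finite G] {p : ℕ} [Fact p.Prime] {D : Subgroup G}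
    (hD : IsPGroup p D) (x : G) :
    (∃ Q : Sylow p (Subgroup.centralizer ({x} : Set G)),
      (Q : Subgroup (Subgroup.centralizer ({x} : Set G))).map
        (Subgroup.centralizer ({x} : Set G)).subtype = D) ↔
      D ≤ Subgroup.centralizer ({x} : Set G) ∧
        (Nat.card (Subgroup.centralizer ({x} : Set G))).factorization p =
          (Nat.card D).factorization p := by
  have hp : p.Prime := Fact.out
  constructor
  · rintro ⟨Q, rfl⟩
    refine ⟨Subgroup.map_subtype_le _, ?_⟩
    rw [Subgroup.card_map_of_injective (Subgroup.subtype_injective _), Q.card_eq_multiplicity,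
      factorization_pow_self' hp]
  · rintro ⟨hle, hfac⟩
    obtain ⟨n, hn⟩ := (IsPGroup.iff_card (p := p)).mp hD
    have hn' : (Nat.card D).factorization p = n := by
      rw [hn, factorization_pow_self' hp]
    have hcard : Nat.card (D.subgroupOf (Subgroup.centralizer ({x} : Set G))) =
        p ^ (Nat.card (Subgroup.centralizer ({x} : Set G))).factorization p := by
      rw [Nat.card_congr (Subgroup.subgroupOfEquivOfLe hle).toEquiv, hfac, hn', hn]
    refine ⟨Sylow.ofCard _ hcard, ?_⟩
    rw [Sylow.coe_ofCard]
    exact Subgroup.map_subgroupOf_eq_of_le hle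

theorem robP_of_isConj [Fintype G] {p : ℕ} {D : Subgroup G} [hDn : D.Normal] {x y : G}
    (hxy : IsConj x y) (hx : RobP p D x) : RobP p D y := by
  obtain ⟨k, hk⟩ := isConj_iff.mp hxy
  refine ⟨?_, ?_, ?_⟩
  · have h1 : SemiconjBy k x y := by
      unfold SemiconjBy
      rw [← hk]
      group
    rw [← h1.orderOf_eq]
    exact hx.1
  · intro u hu
    rw [Subgroup.mem_centralizer_iff]
    intro z hz
    rw [Set.mem_singleton_iff] at hz
    subst hz
    have h1 : k⁻¹ * u * k ∈ D := by
      have := hDn.conj_mem u hu k⁻¹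
      rwa [inv_inv] at this
    have h2 := hx.2.1 h1
    rw [Subgroup.mem_centralizer_iff] at h2
    have h3 := h2 x (Set.mem_singleton x)
    rw [← hk]
    calc k * x * k⁻¹ * u = k * (x * (k⁻¹ * u * k)) * k⁻¹ := by group
      _ = k * ((k⁻¹ * u * k) * x) * k⁻¹ := by rw [h3]
      _ = u * (k * x * k⁻¹) := by group
  · rw [← Helper4.card_centralizer_of_isConj hxy]
    exact hx.2.2

variable [Fintype G] {M : Ideal AlgInt}

theorem blockDefect_eq_of_isDefectGroup {p : ℕ} [Fact p.Prime] (hM : IsPModular p M)
    {B : Set (IrrCharacter G)} (hB : IsPBlock M B) {D : Subgroup G}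
    (hBD : IsDefectGroup p M B D) : blockDefect p B = (Nat.card D).factorization p := by
  have hp : p.Prime := Fact.out
  rw [card_defectGroup hM hB hBD, factorization_pow_self' hp]

theorem le_centralizer_singleton_of_mem_centralizer {D : Subgroup G} {x : G}
    (hx : x ∈ Subgroup.centralizer (D : Set G)) : D ≤ Subgroup.centralizer ({x} : Set G) := by
  intro u hu
  rw [Subgroup.mem_centralizer_iff]
  intro z hz
  rw [Set.mem_singleton_iff] at hz
  subst hz
  rw [Subgroup.mem_centralizer_iff] at hx
  exact (hx u hu).symm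

/-- a block with a member whose central character is a unit at a class with defect `|D|`
has the normal `p`-subgroup `D` as a defect group -/
theorem isDefectGroup_of_centralChar {p : ℕ} [Fact p.Prime] (hM : IsPModular p M)
    {D : Subgroup G} [D.Normal] (hD : IsPGroup p D)
    {B : Set (IrrCharacter G)} (hB : IsPBlock M B) {χ : IrrCharacter G} (hχ : χ ∈ B) (x : G)
    (hx : (Nat.card (Subgroup.centralizer ({x} : Set G))).factorization p =
      (Nat.card D).factorization p)
    (h : ¬ MemLocalIdeal M (centralChar (χ : G → ℂ) x)) : IsDefectGroup p M B D := by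
  have hprime : M.IsPrime := hM.2.1.isPrime
  have hMtop : M ≠ ⊤ := hM.2.1.ne_top
  obtain ⟨g, hg⟩ := exists_defectClass hM hB
  have hg0 : blockCoeff B g ≠ 0 := by
    intro h0
    apply hg.2.1
    rw [h0]
    exact memLocalIdeal_zero hMtop
  have hgD : g ∈ Subgroup.centralizer (D : Set G) := by
    by_contra hcon
    exact hg0 (Helper4.blockCoeff_eq_zero_of_not_mem_centralizer hM D hD hB g hcon)
  have hle : D ≤ Subgroup.centralizer ({g} : Set G) :=
    le_centralizer_singleton_of_mem_centralizer hgD
  have h1 := le_blockDefect_of_blockCoeff hM hB hg.2.1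
  have h2 := blockDefect_le_of_centralChar hM hB hχ (hg.2.2 χ hχ)
  have h3 := blockDefect_le_of_centralChar hM hB hχ h
  have h4 : (Nat.card D).factorization p ≤
      (Nat.card (Subgroup.centralizer ({g} : Set G))).factorization p := by
    have hdvd := Subgroup.card_dvd_of_le hle
    exact (Nat.factorization_le_iff_dvd Nat.card_pos.ne' Nat.card_pos.ne').mpr hdvd p
  have h5 : (Nat.card (Subgroup.centralizer ({g} : Set G))).factorization p =
      (Nat.card D).factorization p := by omega
  obtain ⟨Q, hQ⟩ := (exists_sylow_map_eq_iff hD g).mpr ⟨hle, h5⟩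
  exact ⟨g, hg, Q, hQ.symm⟩

/-- for blocks with the normal defect group `D`, the products `e_{B'}(x) ω_χ(x)` vanish modulo
the local ideal off the classes satisfying `RobP` -/
theorem blockCoeff_mul_centralChar_of_not_robP {p : ℕ} [Fact p.Prime] (hM : IsPModular p M)
    {D : Subgroup G} [D.Normal] (hD : IsPGroup p D)
    {B B' : Set (IrrCharacter G)} (hB : IsPBlock M B) (hB' : IsPBlock M B')
    (hBD : IsDefectGroup p M B D) (hBD' : IsDefectGroup p M B' D)
    {χ : IrrCharacter G} (hχ : χ ∈ B) (x : G) (hx : ¬ RobP p D x) :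
    MemLocalIdeal M (blockCoeff B' x * centralChar (χ : G → ℂ) x) := by
  have hprime : M.IsPrime := hM.2.1.isPrime
  have hMtop : M ≠ ⊤ := hM.2.1.ne_top
  by_cases h1 : p ∣ orderOf x
  · exact blockCoeff_mul_centralChar_memLocalIdeal hM hB hB' hχ x (Or.inl h1)
  by_cases h2 : x ∈ Subgroup.centralizer (D : Set G)
  · have hle := le_centralizer_singleton_of_mem_centralizer h2
    have h3 : (Nat.card (Subgroup.centralizer ({x} : Set G))).factorization p ≠
        (Nat.card D).factorization p := fun h => hx ⟨h1, hle, h⟩
    have e1 := blockDefect_eq_of_isDefectGroup hM hB hBD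
    have e2 := blockDefect_eq_of_isDefectGroup hM hB' hBD'
    apply blockCoeff_mul_centralChar_memLocalIdeal hM hB hB' hχ x
    right
    rcases lt_or_gt_of_ne h3 with h4 | h4
    · left
      rw [e1]
      exact h4
    · right
      rw [e2]
      exact h4
  · rw [Helper4.blockCoeff_eq_zero_of_not_mem_centralizer hM D hD hB' x h2, zero_mul]
    exact memLocalIdeal_zero hMtop

end

end Cfsg.Agent.Lib.Helper28
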