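import Mathlib
import Cfsg.Prelude.Def_Blocks
import Cfsg.Agent.Lib.Helper28.RobinsonB
import Cfsg.Agent.Lib.Helper28.RobinsonD
import Cfsg.Agent.Lib.Helper28.BlockCount
import Cfsg.Agent.Lib.Helper28.BrauerIndB
import Cfsg.Agent.Lib.Helper28.GreenVanK
import Cfsg.Agent.Lib.Helper26.CharInt
import Cfsg.Agent.Lib.Helper26.IndChar

set_option autoImplicit false

/-!
# The key congruence for Robinson's block count (helper28)
-/

namespace Cfsg.Agent.Lib.Helper28

open Cfsg Cfsg.Agent.Lib.Helper4 Cfsg.Agent.Lib.Helper26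
open scoped ComplexConjugate Classical

section

variable {G : Type*} [Group G] [Fintype G] {M : Ideal AlgInt}

/-- the blocks with defect group `D` -/
abbrev DBlocks (p : ℕ) (M : Ideal AlgInt) (D : Subgroup G) :=
  {B : Set (IrrCharacter G) // IsPBlock M B ∧ IsDefectGroup p M B D}

/-- the multiplicity of the trivial character in a restriction is a natural number -/
theorem exists_nat_classInner_restrict_one (H : Subgroup G) [Fintype H] (χ : IrrCharacter G) :
    ∃ n : ℕ, classInner (fun u : H => (χ : G → ℂ) u) (fun _ => (1 : ℂ)) = n :=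
  classInner_isCharacter_nat
    (isCharacter_restrict H (isCharacter_of_isIrrCharacter χ.2)) isCharacter_one'

theorem isIntegral_conj_irr (χ : IrrCharacter G) (y : G) :
    IsIntegral ℤ (conj ((χ : G → ℂ) y)) := by
  apply map_isIntegral_int
  exact Helper4.isIntegral_of_isIrrCharacter χ.2 y

theorem self_mem_blockOf (hM : M ≠ ⊤) (χ : IrrCharacter G) : χ ∈ blockOf M (χ : G → ℂ) :=
  sameBlock_refl hM _

/-- **key congruence** -/
theorem robinson_congr [Fintype (IrrCharacter G)] {p : ℕ} [Fact p.Prime] (hM : IsPModular p M)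
    {D : Subgroup G} [D.Normal] (hD : IsPGroup p D) (S : Sylow p G) (x y : G)
    (hx : (Nat.card (Subgroup.centralizer ({x} : Set G))).factorization p =
      (Nat.card D).factorization p)
    (hy : ¬ p ∣ orderOf y) [Fintype (DBlocks (G := G) p M D)]
    (χsel : DBlocks (G := G) p M D → IrrCharacter G) (hsel : ∀ B, χsel B ∈ B.1) :
    MemLocalIdeal M
      ((∑ χ : IrrCharacter G, conj ((χ : G → ℂ) y) * centralChar (χ : G → ℂ) x *
          classInner (fun u : (S : Subgroup G) => (χ : G → ℂ) u) (fun _ => (1 : ℂ))) -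
        ∑ B : DBlocks (G := G) p M D, centralChar (χsel B : G → ℂ) x *
          ((Nat.card G : ℂ) * (Nat.card (S : Subgroup G) : ℂ)⁻¹ * blockCoeff B.1 y)) := by
  have hprime : M.IsPrime := hM.2.1.isPrime
  have hMtop : M ≠ ⊤ := hM.2.1.ne_top
  have hrew : (∑ χ : IrrCharacter G, conj ((χ : G → ℂ) y) * centralChar (χ : G → ℂ) x *
          classInner (fun u : (S : Subgroup G) => (χ : G → ℂ) u) (fun _ => (1 : ℂ))) -
        ∑ B : DBlocks (G := G) p M D, centralChar (χsel B : G → ℂ) x *
          ((Nat.card G : ℂ) * (Nat.card (S : Subgroup G) : ℂ)⁻¹ * blockCoeff B.1 y) =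
      ∑ χ : IrrCharacter G, (conj ((χ : G → ℂ) y) *
          classInner (fun u : (S : Subgroup G) => (χ : G → ℂ) u) (fun _ => (1 : ℂ))) *
        (centralChar (χ : G → ℂ) x - ∑ B : DBlocks (G := G) p M D,
          if χ ∈ B.1 then centralChar (χsel B : G → ℂ) x else 0) := by
    have h1 : ∀ B : DBlocks (G := G) p M D, centralChar (χsel B : G → ℂ) x *
          ((Nat.card G : ℂ) * (Nat.card (S : Subgroup G) : ℂ)⁻¹ * blockCoeff B.1 y) =
        ∑ χ : IrrCharacter G, (conj ((χ : G → ℂ) y) *
          classInner (fun u : (S : Subgroup G) => (χ : G → ℂ) u) (fun _ => (1 : ℂ))) *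
          (if χ ∈ B.1 then centralChar (χsel B : G → ℂ) x else 0) := by
      intro B
      rw [← sum_block_conj_mul_fixed hM B.2.1 S y hy, Finset.mul_sum]
      refine Finset.sum_congr rfl fun χ _ => ?_
      split_ifs
      · ring
      · ring
    simp only [h1]
    rw [Finset.sum_comm, ← Finset.sum_sub_distrib]
    refine Finset.sum_congr rfl fun χ _ => ?_
    rw [mul_sub, Finset.mul_sum]
    ring
  rw [hrew]
  apply memLocalIdeal_sum
  intro χ _
  obtain ⟨n, hn⟩ := exists_nat_classInner_restrict_one (S : Subgroup G) χ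
  apply memLocalIdeal_mul_left
  · rw [hn]
    exact memLocalRing_mul (memLocalRing_of_isIntegral hMtop (isIntegral_conj_irr χ y))
      (memLocalRing_natCast hMtop n)
  · have hBχ : IsPBlock M (blockOf M (χ : G → ℂ)) := ⟨χ, rfl⟩
    have hχmem : χ ∈ blockOf M (χ : G → ℂ) := self_mem_blockOf hMtop χ
    by_cases hχB : IsDefectGroup p M (blockOf M (χ : G → ℂ)) D
    · let B0 : DBlocks (G := G) p M D := ⟨blockOf M (χ : G → ℂ), hBχ, hχB⟩
      have hsum : (∑ B : DBlocks (G := G) p M D,
          if χ ∈ B.1 then centralChar (χsel B : G → ℂ) x else 0) =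
          centralChar (χsel B0 : G → ℂ) x := by
        rw [Finset.sum_eq_single B0]
        · rw [if_pos hχmem]
        · intro B _ hB
          rw [if_neg]
          intro hmem
          apply hB
          apply Subtype.ext
          exact block_eq_blockOf B.2.1 hmem
        · intro h
          exact absurd (Finset.mem_univ _) h
      rw [hsum]
      have h2 : χsel B0 ∈ blockOf M (χ : G → ℂ) := hsel B0
      exact h2 x
    · have hsum : (∑ B : DBlocks (G := G) p M D,
          if χ ∈ B.1 then centralChar (χsel B : G → ℂ) x else 0) = 0 := by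
        apply Finset.sum_eq_zero
        intro B _
        rw [if_neg]
        intro hmem
        apply hχB
        rw [← block_eq_blockOf B.2.1 hmem]
        exact B.2.2
      rw [hsum, sub_zero]
      by_contra hcon
      exact hχB (isDefectGroup_of_centralChar hM hD hBχ hχmem x hx hcon)

end

end Cfsg.Agent.Lib.Helper28
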