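import Mathlib
import Cfsg.Prelude.Def_Blocks
import Cfsg.Agent.Lib.Helper28.RobinsonE

set_option autoImplicit false

/-!
# The pair count is divisible by `p^(a-d)` (helper28)
-/

namespace Cfsg.Agent.Lib.Helper28

open Cfsg Cfsg.Agent.Lib.Helper4 Cfsg.Agent.Lib.Helper26
open scoped ComplexConjugate Classical

section

variable {G : Type*} [Group G] [Fintype G] {M : Ideal AlgInt}

theorem robinson_count [Fintype (IrrCharacter G)] {p : ℕ} [Fact p.Prime] (hM : IsPModular p M)
    {D : Subgroup G} (S : Sylow p G) (x y : G)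
    (hy : (Nat.card (Subgroup.centralizer ({y} : Set G))).factorization p =
      (Nat.card D).factorization p) :
    ∃ t : ℕ, Nat.card {yz : G × G // IsConj x yz.1 ∧ IsConj y yz.2 ∧
        yz.2 * yz.1⁻¹ ∈ (S : Subgroup G)} =
        p ^ ((Nat.card G).factorization p - (Nat.card D).factorization p) * t ∧
      (t : ℂ) * ((Nat.card (Subgroup.centralizer ({y} : Set G)) /
          p ^ (Nat.card D).factorization p : ℕ) : ℂ) =
        ∑ χ : IrrCharacter G, conj ((χ : G → ℂ) y) * centralChar (χ : G → ℂ) x *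
          classInner (fun u : (S : Subgroup G) => (χ : G → ℂ) u) (fun _ => (1 : ℂ)) := by
  have hprime : M.IsPrime := hM.2.1.isPrime
  have hMtop : M ≠ ⊤ := hM.2.1.ne_top
  have hp : p.Prime := Fact.out
  set N := Nat.card {yz : G × G // IsConj x yz.1 ∧ IsConj y yz.2 ∧
        yz.2 * yz.1⁻¹ ∈ (S : Subgroup G)} with hN
  set R := ∑ χ : IrrCharacter G, conj ((χ : G → ℂ) y) * centralChar (χ : G → ℂ) x *
          classInner (fun u : (S : Subgroup G) => (χ : G → ℂ) u) (fun _ => (1 : ℂ)) with hR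
  set a := (Nat.card G).factorization p with ha
  set d := (Nat.card D).factorization p with hd
  set C := Nat.card (Subgroup.centralizer ({y} : Set G)) with hC
  set c := C / p ^ d with hc
  have hC0 : C ≠ 0 := Nat.card_pos.ne'
  have hCc : p ^ d * c = C := by
    rw [hc, ← hy]
    exact Nat.ordProj_mul_ordCompl_eq_self C p
  have hc0 : c ≠ 0 := by
    rintro h0
    rw [h0, mul_zero] at hCc
    exact hC0 hCc.symm
  have hpc : ¬ p ∣ c := by
    rw [hc, ← hy]
    exact Nat.not_dvd_ordCompl hp hC0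
  have hda : d ≤ a := by
    have hdvd : Nat.card D ∣ Nat.card G := Subgroup.card_subgroup_dvd_card D
    exact (Nat.factorization_le_iff_dvd Nat.card_pos.ne' Nat.card_pos.ne').mpr hdvd p
  have hS : Nat.card (S : Subgroup G) = p ^ a := S.card_eq_multiplicity
  have hNR : (N : ℂ) = (Nat.card (S : Subgroup G) : ℂ) * (C : ℂ)⁻¹ * R := by
    rw [hN, card_pairs_eq_sum x y (S : Subgroup G), sum_pairs_eq_two x y (S : Subgroup G)]
  have hpC : (p : ℂ) ≠ 0 := Nat.cast_ne_zero.mpr hp.ne_zero
  have hcC : (c : ℂ) ≠ 0 := Nat.cast_ne_zero.mpr hc0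
  have hkey : ((N * c : ℕ) : ℂ) = ((p ^ (a - d) : ℕ) : ℂ) * R := by
    rw [Nat.cast_mul, hNR, hS, ← hCc]
    push_cast
    have : (p : ℂ) ^ a = (p : ℂ) ^ (a - d) * (p : ℂ) ^ d := by
      rw [← pow_add, Nat.sub_add_cancel hda]
    rw [this]
    field_simp
  have hRint : MemLocalRing M R := by
    rw [hR]
    apply memLocalRing_sum
    intro χ _
    obtain ⟨n, hn⟩ := exists_nat_classInner_restrict_one (S : Subgroup G) χ
    rw [hn]
    exact memLocalRing_mul (memLocalRing_mul
      (memLocalRing_of_isIntegral hMtop (isIntegral_conj_irr χ y))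
      (memLocalRing_of_isIntegral hMtop (isIntegral_centralChar χ.2 x)))
      (memLocalRing_natCast hMtop n)
  have hdvd : p ^ (a - d) ∣ N := by
    by_cases hN0 : N = 0
    · rw [hN0]
      exact dvd_zero _
    · have h1 := factorization_le_of_eq_mul_memLocalRing hM (Nat.mul_ne_zero hN0 hc0) hkey hRint
      rw [factorization_pow_self' hp, Nat.factorization_mul hN0 hc0, Finsupp.add_apply,
        Nat.factorization_eq_zero_of_not_dvd hpc, add_zero] at h1
      exact (hp.pow_dvd_iff_le_factorization hN0).mpr h1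
  obtain ⟨t, ht⟩ := hdvd
  refine ⟨t, ht, ?_⟩
  have hpow : ((p ^ (a - d) : ℕ) : ℂ) ≠ 0 := by
    push_cast
    exact pow_ne_zero _ hpC
  apply mul_left_cancel₀ hpow
  rw [← hkey, ht]
  push_cast
  ring

end

end Cfsg.Agent.Lib.Helper28
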