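import Mathlib
import Cfsg.Prelude.Def_Blocks
import Cfsg.Agent.Lib.Helper28.RobinsonC
import Cfsg.Agent.Lib.Helper28.RobinsonF

set_option autoImplicit false

/-!
# Robinson's count of the blocks with a given normal defect group (helper28)
-/

namespace Cfsg.Agent.Lib.Helper28

open Cfsg Cfsg.Agent.Lib.Helper4 Cfsg.Agent.Lib.Helper26
open scoped ComplexConjugate Classical

section

variable {G : Type*} [Group G] [Fintype G]

theorem mem_carrier_iff_isConj_out (C : ConjClasses G) (g : G) :
    g ∈ C.carrier ↔ IsConj (Quotient.out C) g := by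
  rw [ConjClasses.mem_carrier_iff_mk_eq]
  have h1 : ConjClasses.mk (Quotient.out C) = C := Quotient.out_eq C
  constructor
  · intro h
    rw [← ConjClasses.mk_eq_mk_iff_isConj, h1, h]
  · intro h
    rw [← h1]
    exact (ConjClasses.mk_eq_mk_iff_isConj.mpr h).symm

set_option maxHeartbeats 1600000 in
theorem robinson_main (p : ℕ) [Fact p.Prime] (M : Ideal AlgInt) (hM : IsPModular p M)
    (D : Subgroup G) [D.Normal] (hD : IsPGroup p D) (S : Sylow p G) {ι : Type*} [Fintype ι]
    [DecidableEq ι] (K : ι → ConjClasses G) (hKinj : Function.Injective K)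
    (hK : ∀ C : ConjClasses G, (∃ i, K i = C) ↔ ∃ x ∈ C.carrier, ¬ p ∣ orderOf x ∧
      ∃ Q : Sylow p (Subgroup.centralizer ({x} : Set G)),
        (Q : Subgroup (Subgroup.centralizer ({x} : Set G))).map
          (Subgroup.centralizer ({x} : Set G)).subtype = D) :
    Nat.card {B : Set (IrrCharacter G) // IsPBlock M B ∧ IsDefectGroup p M B D} =
      (Matrix.of fun i j : ι => ((Nat.card {yz : G × G // yz.1 ∈ (K i).carrier ∧
        yz.2 ∈ (K j).carrier ∧ yz.2 * yz.1⁻¹ ∈ (S : Subgroup G)} /
          p ^ ((Nat.card G).factorization p - (Nat.card D).factorization p) : ℕ) :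
            ZMod p)).rank := by
  have : Fintype (IrrCharacter G) := Fintype.ofFinite _
  have : Fintype (ConjClasses G) := Fintype.ofFinite _
  have : Fintype (DBlocks (G := G) p M D) := Fintype.ofFinite _
  have hmax : M.IsMaximal := hM.2.1
  have hprime : M.IsPrime := hmax.isPrime
  have hMtop : M ≠ ⊤ := hmax.ne_top
  have hp : p.Prime := Fact.out
  let _ : Field (AlgInt ⧸ M) := Ideal.Quotient.field M
  have hp0 : ((p : ℕ) : AlgInt ⧸ M) = 0 := by
    have h1 : Ideal.Quotient.mk M (p : AlgInt) = 0 := Ideal.Quotient.eq_zero_iff_mem.mpr hM.2.2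
    rwa [map_natCast] at h1
  have hchar : CharP (AlgInt ⧸ M) p := (CharP.charP_iff_prime_eq_zero hp).mpr hp0
  -- representatives
  set x : ι → G := fun i => Quotient.out (K i) with hxdef
  have hxP : ∀ i, RobP p D (x i) := by
    intro i
    obtain ⟨y, hyC, hyreg, hQ⟩ := (hK (K i)).mp ⟨i, rfl⟩
    have h1 : RobP p D y := by
      have := (exists_sylow_map_eq_iff hD y).mp hQ
      exact ⟨hyreg, this.1, this.2⟩
    have h2 : IsConj (x i) y := (mem_carrier_iff_isConj_out (K i) y).mp hyC
    exact robP_of_isConj h2.symm h1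
  have hclsiff : ∀ C : ConjClasses G, RobP p D (Quotient.out C) ↔ ∃ i, K i = C := by
    intro C
    constructor
    · intro h
      exact (hK C).mpr ⟨Quotient.out C,
        (mem_carrier_iff_isConj_out C _).mpr (IsConj.refl _), h.1,
        (exists_sylow_map_eq_iff hD _).mpr h.2⟩
    · rintro ⟨i, rfl⟩
      exact hxP i
  have hsumconv : ∀ f : G → ℂ, ∑ C : ConjClasses G,
      (if RobP p D (Quotient.out C) then f (Quotient.out C) else 0) = ∑ i, f (x i) := by
    intro f
    rw [← Finset.sum_filter]
    have hfil : Finset.univ.filter (fun C : ConjClasses G => RobP p D (Quotient.out C)) =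
        Finset.univ.image K := by
      ext C
      simp only [Finset.mem_filter, Finset.mem_univ, true_and, Finset.mem_image]
      exact hclsiff C
    rw [hfil, Finset.sum_image (fun i _ j _ h => hKinj h)]
  -- the numbers `t i j`
  have hcount := fun i j => robinson_count hM (D := D) S (x i) (x j) (hxP j).2.2
  choose t ht1 ht2 using hcount
  have hpowpos : 0 < p ^ ((Nat.card G).factorization p - (Nat.card D).factorization p) :=
    pow_pos hp.pos _
  have hentry : ∀ i j, Nat.card {yz : G × G // yz.1 ∈ (K i).carrier ∧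
        yz.2 ∈ (K j).carrier ∧ yz.2 * yz.1⁻¹ ∈ (S : Subgroup G)} /
          p ^ ((Nat.card G).factorization p - (Nat.card D).factorization p) = t i j := by
    intro i j
    have h1 : Nat.card {yz : G × G // yz.1 ∈ (K i).carrier ∧
        yz.2 ∈ (K j).carrier ∧ yz.2 * yz.1⁻¹ ∈ (S : Subgroup G)} =
        Nat.card {yz : G × G // IsConj (x i) yz.1 ∧ IsConj (x j) yz.2 ∧
          yz.2 * yz.1⁻¹ ∈ (S : Subgroup G)} :=
      Nat.card_congr (Equiv.subtypeEquivRight fun yz =>
        and_congr (mem_carrier_iff_isConj_out (K i) yz.1)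
          (and_congr (mem_carrier_iff_isConj_out (K j) yz.2) Iff.rfl))
    rw [h1, ht1 i j, Nat.mul_div_cancel_left _ hpowpos]
  simp only [hentry]
  -- pass to the residue field
  let f : ZMod p →+* (AlgInt ⧸ M) := ZMod.castHom (dvd_refl p) (AlgInt ⧸ M)
  rw [← rank_map_field f]
  have hmap : (Matrix.of fun i j : ι => ((t i j : ℕ) : ZMod p)).map f =
      (Matrix.of fun i j : ι => ((t i j : ℕ) : AlgInt ⧸ M)) := by
    ext i j
    simp only [Matrix.map_apply, Matrix.of_apply, map_natCast]
  rw [hmap]
  -- selections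
  have hsel0 : ∀ B : DBlocks (G := G) p M D, ∃ χ : IrrCharacter G, χ ∈ B.1 :=
    fun B => Helper28.block_nonempty B.2.1
  choose χsel hsel using hsel0
  let Λ : Matrix ι (DBlocks (G := G) p M D) (AlgInt ⧸ M) := fun i B =>
    localRes M (centralChar (χsel B : G → ℂ) (x i))
  let E : Matrix (DBlocks (G := G) p M D) ι (AlgInt ⧸ M) := fun B j =>
    localRes M (blockCoeff B.1 (x j))
  let c : ι → (AlgInt ⧸ M) := fun j =>
    ((Nat.card (Subgroup.centralizer ({x j} : Set G)) /
      p ^ (Nat.card D).factorization p : ℕ) : AlgInt ⧸ M)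
  let g' : ℕ := Nat.card G / Nat.card (S : Subgroup G)
  have hS : Nat.card (S : Subgroup G) = p ^ (Nat.card G).factorization p :=
    S.card_eq_multiplicity
  have hg'C : (Nat.card G : ℂ) * (Nat.card (S : Subgroup G) : ℂ)⁻¹ = (g' : ℂ) := by
    have hdvd : Nat.card (S : Subgroup G) ∣ Nat.card G := Subgroup.card_subgroup_dvd_card _
    have hne : (Nat.card (S : Subgroup G) : ℂ) ≠ 0 := Nat.cast_ne_zero.mpr Nat.card_pos.ne'
    rw [Nat.cast_div hdvd hne, div_eq_mul_inv]
  have hcne : ∀ j, c j ≠ 0 := by
    intro j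
    have hnd : ¬ p ∣ Nat.card (Subgroup.centralizer ({x j} : Set G)) /
        p ^ (Nat.card D).factorization p := by
      rw [← (hxP j).2.2]
      exact Nat.not_dvd_ordCompl hp Nat.card_pos.ne'
    exact fun h => hnd ((CharP.cast_eq_zero_iff (AlgInt ⧸ M) p _).mp h)
  have hgne : ((g' : ℕ) : AlgInt ⧸ M) ≠ 0 := by
    have hnd : ¬ p ∣ g' := by
      show ¬ p ∣ Nat.card G / Nat.card (S : Subgroup G)
      rw [hS]
      exact Nat.not_dvd_ordCompl hp Nat.card_pos.ne'
    exact fun h => hnd ((CharP.cast_eq_zero_iff (AlgInt ⧸ M) p _).mp h)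
  have hωint : ∀ (χ : IrrCharacter G) (z : G), MemLocalRing M (centralChar (χ : G → ℂ) z) :=
    fun χ z => memLocalRing_of_isIntegral hMtop (isIntegral_centralChar χ.2 z)
  have heint : ∀ (B : DBlocks (G := G) p M D) (z : G), MemLocalRing M (blockCoeff B.1 z) :=
    fun B z => Helper28.osima B.2.1 z
  -- the matrix identity
  have hTΛE : (Matrix.of fun i j : ι => ((t i j : ℕ) : AlgInt ⧸ M)) * Matrix.diagonal c =
      ((g' : ℕ) : AlgInt ⧸ M) • (Λ * E) := by
    ext i j
    rw [Matrix.mul_diagonal, Matrix.smul_apply, Matrix.mul_apply, smul_eq_mul, Matrix.of_apply]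
    show ((t i j : ℕ) : AlgInt ⧸ M) * ((Nat.card (Subgroup.centralizer ({x j} : Set G)) /
      p ^ (Nat.card D).factorization p : ℕ) : AlgInt ⧸ M) = _
    rw [← localRes_natCast (M := M), ← localRes_natCast (M := M) (Nat.card _ / _),
      ← localRes_mul (memLocalRing_natCast hMtop _) (memLocalRing_natCast hMtop _), ht2 i j]
    have hcong := robinson_congr hM hD S (x i) (x j) (hxP i).2.2 (hxP j).1 χsel hsel
    have hRint : MemLocalRing M (∑ χ : IrrCharacter G, conj ((χ : G → ℂ) (x j)) *
        centralChar (χ : G → ℂ) (x i) *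
          classInner (fun u : (S : Subgroup G) => (χ : G → ℂ) u) (fun _ => (1 : ℂ))) := by
      apply memLocalRing_sum
      intro χ _
      obtain ⟨n, hn⟩ := exists_nat_classInner_restrict_one (S : Subgroup G) χ
      rw [hn]
      exact memLocalRing_mul (memLocalRing_mul
        (memLocalRing_of_isIntegral hMtop (isIntegral_conj_irr χ (x j))) (hωint χ (x i)))
        (memLocalRing_natCast hMtop n)
    have hterm : ∀ B : DBlocks (G := G) p M D, MemLocalRing M
        (centralChar (χsel B : G → ℂ) (x i) * ((Nat.card G : ℂ) *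
          (Nat.card (S : Subgroup G) : ℂ)⁻¹ * blockCoeff B.1 (x j))) := by
      intro B
      rw [hg'C]
      exact memLocalRing_mul (hωint _ _)
        (memLocalRing_mul (memLocalRing_natCast hMtop _) (heint B _))
    rw [localRes_eq_of_sub_memLocalIdeal hRint (memLocalRing_sum _ _ fun B _ => hterm B) hcong,
      localRes_sum _ _ (fun B _ => hterm B), Finset.mul_sum]
    refine Finset.sum_congr rfl fun B _ => ?_
    rw [hg'C, localRes_mul (hωint _ _)
      (memLocalRing_mul (memLocalRing_natCast hMtop _) (heint B _)),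
      localRes_mul (memLocalRing_natCast hMtop _) (heint B _), localRes_natCast]
    show _ = ((g' : ℕ) : AlgInt ⧸ M) * (localRes M (centralChar (χsel B : G → ℂ) (x i)) *
      localRes M (blockCoeff B.1 (x j)))
    ring
  -- `E Λ = 1`
  have hEΛ : E * Λ = 1 := by
    ext B B'
    rw [Matrix.mul_apply, Matrix.one_apply]
    show ∑ i, localRes M (blockCoeff B.1 (x i)) *
      localRes M (centralChar (χsel B' : G → ℂ) (x i)) = _
    have h1 : ∀ i, localRes M (blockCoeff B.1 (x i)) *
        localRes M (centralChar (χsel B' : G → ℂ) (x i)) =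
        localRes M (blockCoeff B.1 (x i) * centralChar (χsel B' : G → ℂ) (x i)) :=
      fun i => (localRes_mul (heint B _) (hωint _ _)).symm
    simp only [h1]
    rw [← localRes_sum _ _ (fun i _ => memLocalRing_mul (heint B _) (hωint _ _)),
      ← hsumconv (fun z => blockCoeff B.1 z * centralChar (χsel B' : G → ℂ) z)]
    have htr := omegaF_blockCoeff_trunc (M := M) B.1 (χsel B') (RobP p D)
      (fun z hz => blockCoeff_mul_centralChar_of_not_robP hM hD B'.2.1 B.2.1 B'.2.2 B.2.2
        (hsel B') z hz)
    have hmem : χsel B' ∈ B.1 ↔ B = B' := by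
      constructor
      · intro h
        apply Subtype.ext
        exact block_eq_of_mem B.2.1 B'.2.1 h (hsel B')
      · rintro rfl
        exact hsel B
    have hsumint : MemLocalRing M (∑ C : ConjClasses G,
        if RobP p D (Quotient.out C) then blockCoeff B.1 (Quotient.out C) *
          centralChar (χsel B' : G → ℂ) (Quotient.out C) else 0) := by
      apply memLocalRing_sum
      intro C _
      split_ifs
      · exact memLocalRing_mul (heint B _) (hωint _ _)
      · exact memLocalRing_of_memLocalIdeal (memLocalIdeal_zero hMtop)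
    have hdelta : MemLocalRing M (if χsel B' ∈ B.1 then (1 : ℂ) else 0) := by
      split_ifs
      · have := memLocalRing_natCast (M := M) hMtop 1
        simpa using this
      · exact memLocalRing_of_memLocalIdeal (memLocalIdeal_zero hMtop)
    rw [← localRes_eq_of_sub_memLocalIdeal hdelta hsumint htr]
    by_cases hBB : B = B'
    · rw [if_pos hBB, if_pos (hmem.mpr hBB), localRes_one]
    · rw [if_neg hBB, if_neg (fun h => hBB (hmem.mp h)), localRes_zero]
  rw [rank_eq_of_mul_diagonal_eq_smul _ (Λ * E) c _ hcne hgne hTΛE,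
    rank_mul_eq_card_of_mul_eq_one Λ E hEΛ, Nat.card_eq_fintype_card]

end

end Cfsg.Agent.Lib.Helper28
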