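import Mathlib
import Cfsg.Prelude.Def_Blocks
import Cfsg.Agent.Lib.Helper28.RobinsonG
import Cfsg.Agent.Lib.Helper28.FirstMainCount
import Cfsg.Agent.Lib.Helper4.CharOrtho

set_option autoImplicit false

/-!
# The number of blocks with a Sylow subgroup as defect group (helper28)
-/

namespace Cfsg.Agent.Lib.Helper28

open Cfsg Cfsg.Agent.Lib.Helper4 Cfsg.Agent.Lib.Helper26
open scoped ComplexConjugate Classical

section

variable {H : Type*} [Group H] [Fintype H] {M : Ideal AlgInt}

theorem robP_sylow_iff {p : ℕ} [Fact p.Prime] (S : Sylow p H) (x : H) :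
    RobP p (S : Subgroup H) x ↔
      (¬ p ∣ orderOf x ∧ x ∈ Subgroup.centralizer ((S : Subgroup H) : Set H)) := by
  have hp : p.Prime := Fact.out
  constructor
  · rintro ⟨h1, h2, -⟩
    refine ⟨h1, ?_⟩
    rw [Subgroup.mem_centralizer_iff]
    intro h hh
    have := h2 hh
    rw [Subgroup.mem_centralizer_iff] at this
    exact (this x (Set.mem_singleton x)).symm
  · rintro ⟨h1, h2⟩
    have hle := le_centralizer_singleton_of_mem_centralizer h2
    refine ⟨h1, hle, ?_⟩
    have hS : (Nat.card (S : Subgroup H)).factorization p = (Nat.card H).factorization p := by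
      rw [S.card_eq_multiplicity, factorization_pow_self' hp]
    have e1 : (Nat.card (S : Subgroup H)).factorization p ≤
        (Nat.card (Subgroup.centralizer ({x} : Set H))).factorization p :=
      (Nat.factorization_le_iff_dvd Nat.card_pos.ne' Nat.card_pos.ne').mpr
        (Subgroup.card_dvd_of_le hle) p
    have e2 : (Nat.card (Subgroup.centralizer ({x} : Set H))).factorization p ≤
        (Nat.card H).factorization p :=
      (Nat.factorization_le_iff_dvd Nat.card_pos.ne' Nat.card_pos.ne').mpr
        (Subgroup.card_subgroup_dvd_card _) p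
    omega

/-- a `p`-regular element `z` with `z y⁻¹` in a `p`-group centralized by the `p`-regular `y`
equals `y` -/
theorem eq_of_mul_inv_mem_pGroup {p : ℕ} [Fact p.Prime] {S : Subgroup H} (hS : IsPGroup p S)
    {y z : H} (hy : ¬ p ∣ orderOf y) (hz : ¬ p ∣ orderOf z)
    (hyS : y ∈ Subgroup.centralizer (S : Set H)) (hu : z * y⁻¹ ∈ S) : z = y := by
  have hp : p.Prime := Fact.out
  set u := z * y⁻¹ with hudef
  have hzu : z = u * y := by rw [hudef]; group
  have hcomm : Commute u y := by
    rw [Subgroup.mem_centralizer_iff] at hyS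
    exact hyS u hu
  set n := orderOf y * orderOf z with hn
  have hyn : y ^ n = 1 := by rw [hn, pow_mul, pow_orderOf_eq_one, one_pow]
  have hzn : z ^ n = 1 := by rw [hn, mul_comm, pow_mul, pow_orderOf_eq_one, one_pow]
  have hun : u ^ n = 1 := by
    have := hzn
    rw [hzu, hcomm.mul_pow, hyn, mul_one] at this
    exact this
  obtain ⟨k, hk⟩ := hS ⟨u, hu⟩
  have hk' : u ^ p ^ k = 1 := by
    have := congrArg Subtype.val hk
    simpa using this
  have hd1 : orderOf u ∣ n := orderOf_dvd_of_pow_eq_one hun
  have hd2 : orderOf u ∣ p ^ k := orderOf_dvd_of_pow_eq_one hk'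
  have hcop : Nat.Coprime n (p ^ k) := by
    apply Nat.Coprime.pow_right
    rw [hn]
    exact Nat.Coprime.mul_left ((Nat.Prime.coprime_iff_not_dvd hp).mpr hy).symm
      ((Nat.Prime.coprime_iff_not_dvd hp).mpr hz).symm
  have h1 : orderOf u = 1 := Nat.eq_one_of_dvd_coprimes hcop hd1 hd2
  have hu1 : u = 1 := orderOf_eq_one_iff.mp h1
  rw [hzu, hu1, one_mul]

theorem card_carrier_eq_index (x : H) :
    Nat.card (ConjClasses.mk x).carrier = (Subgroup.centralizer ({x} : Set H)).index := by
  rw [← ncard_conj_eq_index x, Set.ncard_eq_toFinset_card', ← Nat.card_eq_card_toFinset]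
  apply Nat.card_congr
  apply Equiv.setCongr
  ext y
  rw [ConjClasses.mem_carrier_iff_mk_eq, Set.mem_setOf_eq, ConjClasses.mk_eq_mk_iff_isConj]
  exact ⟨IsConj.symm, IsConj.symm⟩

set_option maxHeartbeats 1600000 in
/-- the blocks with the normal Sylow subgroup as defect group correspond to the `p`-regular
classes centralizing it -/
theorem card_blocks_normal_sylow {p : ℕ} [Fact p.Prime] (hM : IsPModular p M) (S : Sylow p H)
    [hSn : (S : Subgroup H).Normal] :
    Nat.card {b : Set (IrrCharacter H) // IsPBlock M b ∧ IsDefectGroup p M b (S : Subgroup H)} =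
      Nat.card {C : ConjClasses H // ∀ n : H, ConjClasses.mk n = C →
        ¬ p ∣ orderOf n ∧ n ∈ Subgroup.centralizer ((S : Subgroup H) : Set H)} := by
  have hp : p.Prime := Fact.out
  have : Fintype (ConjClasses H) := Fintype.ofFinite _
  have hSp : IsPGroup p (S : Subgroup H) := S.isPGroup'
  let ι := {C : ConjClasses H // ∀ n : H, ConjClasses.mk n = C →
        ¬ p ∣ orderOf n ∧ n ∈ Subgroup.centralizer ((S : Subgroup H) : Set H)}
  have hK : ∀ C : ConjClasses H, (∃ i : ι, i.1 = C) ↔ ∃ x ∈ C.carrier, ¬ p ∣ orderOf x ∧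
      ∃ Q : Sylow p (Subgroup.centralizer ({x} : Set H)),
        (Q : Subgroup (Subgroup.centralizer ({x} : Set H))).map
          (Subgroup.centralizer ({x} : Set H)).subtype = (S : Subgroup H) := by
    intro C
    constructor
    · rintro ⟨i, rfl⟩
      have hout : ConjClasses.mk (Quotient.out i.1) = i.1 := Quotient.out_eq i.1
      have h1 := i.2 (Quotient.out i.1) hout
      have h2 := (robP_sylow_iff S _).mpr h1
      exact ⟨Quotient.out i.1, ConjClasses.mem_carrier_iff_mk_eq.mpr hout, h1.1,
        (exists_sylow_map_eq_iff hSp _).mpr ⟨h2.2.1, h2.2.2⟩⟩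
    · rintro ⟨x, hxC, hreg, hQ⟩
      have h1 := (exists_sylow_map_eq_iff hSp x).mp hQ
      have h2 : RobP p (S : Subgroup H) x := ⟨hreg, h1.1, h1.2⟩
      refine ⟨⟨C, fun n hn => ?_⟩, rfl⟩
      have hxn : IsConj x n := by
        rw [← ConjClasses.mk_eq_mk_iff_isConj, ConjClasses.mem_carrier_iff_mk_eq.mp hxC, hn]
      exact (robP_sylow_iff S n).mp (robP_of_isConj hxn h2)
  have hmain := robinson_main p M hM (S : Subgroup H) hSp S (ι := ι) (fun i => i.1)
    Subtype.val_injective hK
  rw [hmain]
  -- the matrix is diagonal with nonzero entries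
  have had : (Nat.card H).factorization p - (Nat.card (S : Subgroup H)).factorization p = 0 := by
    rw [S.card_eq_multiplicity, factorization_pow_self' hp, Nat.sub_self]
  have hkey : ∀ (i j : ι) (y z : H), y ∈ i.1.carrier → z ∈ j.1.carrier →
      z * y⁻¹ ∈ (S : Subgroup H) → z = y := by
    intro i j y z hy hz hu
    have h1 := i.2 y (ConjClasses.mem_carrier_iff_mk_eq.mp hy)
    have h2 := j.2 z (ConjClasses.mem_carrier_iff_mk_eq.mp hz)
    exact eq_of_mul_inv_mem_pGroup hSp h1.1 h2.1 h1.2 hu
  have hentry : ∀ i j : ι, Nat.card {yz : H × H // yz.1 ∈ i.1.carrier ∧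
      yz.2 ∈ j.1.carrier ∧ yz.2 * yz.1⁻¹ ∈ (S : Subgroup H)} =
      if i = j then Nat.card i.1.carrier else 0 := by
    intro i j
    by_cases hij : i = j
    · subst hij
      rw [if_pos rfl]
      apply Nat.card_congr
      refine
        { toFun := fun yz => ⟨yz.1.1, yz.2.1⟩
          invFun := fun y => ⟨(y.1, y.1), y.2, y.2, ?_⟩
          left_inv := ?_
          right_inv := fun y => rfl }
      · show y.1 * y.1⁻¹ ∈ (S : Subgroup H)
        rw [mul_inv_cancel]
        exact Subgroup.one_mem _
      · rintro ⟨⟨y, z⟩, h1, h2, h3⟩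
        apply Subtype.ext
        apply Prod.ext
        · rfl
        · exact (hkey i i y z h1 h2 h3).symm
    · rw [if_neg hij]
      have : IsEmpty {yz : H × H // yz.1 ∈ i.1.carrier ∧
          yz.2 ∈ j.1.carrier ∧ yz.2 * yz.1⁻¹ ∈ (S : Subgroup H)} := by
        constructor
        rintro ⟨⟨y, z⟩, h1, h2, h3⟩
        have hzy : z = y := hkey i j y z h1 h2 h3
        apply hij
        apply Subtype.ext
        rw [← ConjClasses.mem_carrier_iff_mk_eq.mp h1, ← ConjClasses.mem_carrier_iff_mk_eq.mp h2,
          hzy]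
      exact Nat.card_of_isEmpty
  have hmat : (Matrix.of fun i j : ι => ((Nat.card {yz : H × H // yz.1 ∈ i.1.carrier ∧
        yz.2 ∈ j.1.carrier ∧ yz.2 * yz.1⁻¹ ∈ (S : Subgroup H)} /
          p ^ ((Nat.card H).factorization p - (Nat.card (S : Subgroup H)).factorization p) : ℕ) :
            ZMod p)) = Matrix.diagonal (fun i : ι => ((Nat.card i.1.carrier : ℕ) : ZMod p)) := by
    ext i j
    rw [Matrix.of_apply, had, pow_zero, Nat.div_one, hentry i j, Matrix.diagonal_apply]
    by_cases hij : i = j
    · rw [if_pos hij, if_pos hij]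
    · rw [if_neg hij, if_neg hij, Nat.cast_zero]
  rw [hmat, Matrix.rank_diagonal, Nat.card_eq_fintype_card]
  apply Fintype.card_congr
  refine Equiv.subtypeUnivEquiv ?_
  intro i
  -- the class size is prime to `p`
  have hout : ConjClasses.mk (Quotient.out i.1) = i.1 := Quotient.out_eq i.1
  have h1 := i.2 (Quotient.out i.1) hout
  have hle := le_centralizer_singleton_of_mem_centralizer h1.2
  have hcard : Nat.card i.1.carrier =
      (Subgroup.centralizer ({Quotient.out i.1} : Set H)).index := by
    rw [← card_carrier_eq_index, hout]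
  have hnd : ¬ p ∣ Nat.card i.1.carrier := by
    rw [hcard]
    intro hdvd
    exact S.not_dvd_index (hdvd.trans (Subgroup.index_dvd_of_le hle))
  intro h0
  exact hnd ((ZMod.natCast_eq_zero_iff _ _).mp h0)

end

end Cfsg.Agent.Lib.Helper28
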