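import Mathlib
import Cfsg.Agent.Lib.Helper28.BrauerS
import Cfsg.Agent.Lib.Helper28.SylowDefectCount
import Cfsg.Agent.Lib.Helper4.ProdChar
import Cfsg.Agent.Lib.Helper4.PermLemma

set_option autoImplicit false

/-!
# Principal block of a central product over a `p`-group (helper28)
-/

namespace Cfsg.Agent.Lib.Helper28

open Cfsg Cfsg.Agent.Lib.Helper4 Cfsg.Agent.Lib.Helper26
open scoped ComplexConjugate Classical

section CentralProd

variable {G : Type*} [Group G] [Fintype G]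

/-- multiplication homomorphism of a central product -/
noncomputable def cpHom (U₁ U₂ : Subgroup G) (hcomm : ∀ u ∈ U₁, ∀ v ∈ U₂, u * v = v * u) :
    U₁ × U₂ →* G :=
  U₁.subtype.noncommCoprod U₂.subtype
    (fun u v => (show Commute (U₁.subtype u) (U₂.subtype v) from hcomm u u.2 v v.2))

omit [Fintype G] in
theorem cpHom_apply (U₁ U₂ : Subgroup G) (hcomm : ∀ u ∈ U₁, ∀ v ∈ U₂, u * v = v * u)
    (x : U₁ × U₂) : cpHom U₁ U₂ hcomm x = (x.1 : G) * (x.2 : G) := rfl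

omit [Fintype G] in
theorem cpHom_surjective (U₁ U₂ : Subgroup G) (hcomm : ∀ u ∈ U₁, ∀ v ∈ U₂, u * v = v * u)
    (hgen : U₁ ⊔ U₂ = ⊤) : Function.Surjective (cpHom U₁ U₂ hcomm) := by
  rw [← MonoidHom.range_eq_top]
  unfold cpHom
  rw [MonoidHom.noncommCoprod_range, Subgroup.range_subtype, Subgroup.range_subtype, hgen]

omit [Fintype G] in
/-- an irreducible character of a central product factors over its constituents -/
theorem cp_char_factor (U₁ U₂ : Subgroup G) [Fintype U₁] [Fintype U₂]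
    (hcomm : ∀ u ∈ U₁, ∀ v ∈ U₂, u * v = v * u) (hgen : U₁ ⊔ U₂ = ⊤)
    (χ : IrrCharacter G) (ψ₁ : IrrCharacter U₁) (ψ₂ : IrrCharacter U₂)
    (h₁ : classInner (fun u : U₁ => (χ : G → ℂ) u) (ψ₁ : U₁ → ℂ) ≠ 0)
    (h₂ : classInner (fun u : U₂ => (χ : G → ℂ) u) (ψ₂ : U₂ → ℂ) ≠ 0) (u : U₁) (v : U₂) :
    (χ : G → ℂ) ((u : G) * (v : G)) = (ψ₁ : U₁ → ℂ) u * (ψ₂ : U₂ → ℂ) v := by
  have hirr := isIrrCharacter_comp_of_surjective χ.2 (cpHom U₁ U₂ hcomm)
    (cpHom_surjective U₁ U₂ hcomm hgen)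
  obtain ⟨φ₁, φ₂, hφ₁, hφ₂, heq⟩ := exists_prod_of_isIrrCharacter hirr
  have hval : ∀ (u : U₁) (v : U₂), (χ : G → ℂ) ((u : G) * (v : G)) = φ₁ u * φ₂ v := by
    intro u v
    have := congrFun heq (u, v)
    simpa [cpHom_apply] using this
  have e1 : (fun u : U₁ => (χ : G → ℂ) u) = (φ₂ 1) • φ₁ := by
    funext u
    have := hval u 1
    rw [OneMemClass.coe_one, mul_one] at this
    rw [this, Pi.smul_apply, smul_eq_mul, mul_comm]
  have e2 : (fun v : U₂ => (χ : G → ℂ) v) = (φ₁ 1) • φ₂ := by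
    funext v
    have := hval 1 v
    rw [OneMemClass.coe_one, one_mul] at this
    rw [this, Pi.smul_apply, smul_eq_mul]
  have hφ₁' : φ₁ = (ψ₁ : U₁ → ℂ) := by
    rw [e1, classInner_smul_left, classInner_irr hφ₁ ψ₁.2] at h₁
    by_contra hne
    rw [if_neg hne, mul_zero] at h₁
    exact h₁ rfl
  have hφ₂' : φ₂ = (ψ₂ : U₂ → ℂ) := by
    rw [e2, classInner_smul_left, classInner_irr hφ₂ ψ₂.2] at h₂
    by_contra hne
    rw [if_neg hne, mul_zero] at h₂
    exact h₂ rfl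
  rw [hval, hφ₁', hφ₂']

/-- killing the `p`-part of an element -/
theorem not_dvd_orderOf_pow_ordProj {p : ℕ} (hp : p.Prime) (w : G) (m : ℕ) :
    ¬ p ∣ orderOf (w ^ (ordProj[p] (Nat.card G) * m)) := by
  have h1 : (w ^ (ordProj[p] (Nat.card G) * m)) ^ (ordCompl[p] (Nat.card G)) = 1 := by
    rw [← pow_mul, mul_right_comm, Nat.ordProj_mul_ordCompl_eq_self, pow_mul, pow_card_eq_one',
      one_pow]
  have h2 := orderOf_dvd_of_pow_eq_one h1
  intro hd
  exact Nat.not_dvd_ordCompl hp (Nat.card_pos.ne') (dvd_trans hd h2)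

/-- the `p`-regular elements of a central product over a `p`-group are the products of the
`p`-regular elements of the factors, uniquely -/
theorem cp_sum_pReg (p : ℕ) [Fact p.Prime] (U₁ U₂ : Subgroup G) [Fintype U₁] [Fintype U₂]
    (hcomm : ∀ u ∈ U₁, ∀ v ∈ U₂, u * v = v * u) (hgen : U₁ ⊔ U₂ = ⊤)
    (hZ : IsPGroup p ↥(U₁ ⊓ U₂)) (F : G → ℂ) :
    ∑ g : G, pRegInd G p g * F g =
      ∑ x : U₁ × U₂, pRegInd U₁ p x.1 * pRegInd U₂ p x.2 * F ((x.1 : G) * (x.2 : G)) := by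
  have hp : p.Prime := Fact.out
  have hL : ∑ g : G, pRegInd G p g * F g =
      ∑ g ∈ Finset.univ.filter (fun g : G => ¬ p ∣ orderOf g), F g := by
    rw [Finset.sum_filter]
    refine Finset.sum_congr rfl fun g _ => ?_
    unfold pRegInd
    by_cases h : p ∣ orderOf g
    · rw [if_pos h, if_neg (not_not.mpr h), zero_mul]
    · rw [if_neg h, if_pos h, one_mul]
  have hR : ∑ x : U₁ × U₂, pRegInd U₁ p x.1 * pRegInd U₂ p x.2 * F ((x.1 : G) * (x.2 : G)) =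
      ∑ x ∈ Finset.univ.filter
        (fun x : U₁ × U₂ => ¬ p ∣ orderOf x.1 ∧ ¬ p ∣ orderOf x.2), F ((x.1 : G) * (x.2 : G)) := by
    rw [Finset.sum_filter]
    refine Finset.sum_congr rfl fun x _ => ?_
    unfold pRegInd
    by_cases h1 : p ∣ orderOf x.1
    · rw [if_pos h1, if_neg (fun h : ¬ p ∣ orderOf x.1 ∧ ¬ p ∣ orderOf x.2 => h.1 h1),
        zero_mul, zero_mul]
    · by_cases h2 : p ∣ orderOf x.2
      · rw [if_pos h2, if_neg (fun h : ¬ p ∣ orderOf x.1 ∧ ¬ p ∣ orderOf x.2 => h.2 h2),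
          mul_zero, zero_mul]
      · rw [if_neg h1, if_neg h2, if_pos ⟨h1, h2⟩, one_mul, one_mul]
  rw [hL, hR]
  symm
  apply Finset.sum_nbij (fun x : U₁ × U₂ => (x.1 : G) * (x.2 : G))
  · intro x hx
    rw [Finset.mem_filter] at hx ⊢
    refine ⟨Finset.mem_univ _, ?_⟩
    obtain ⟨-, h1, h2⟩ := hx
    rw [← Subgroup.orderOf_coe] at h1 h2
    have hc : Commute (x.1 : G) (x.2 : G) := hcomm _ x.1.2 _ x.2.2
    intro hdvd
    have h3 : p ∣ Nat.lcm (orderOf (x.1 : G)) (orderOf (x.2 : G)) :=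
      dvd_trans hdvd hc.orderOf_mul_dvd_lcm
    have h4 : p ∣ orderOf (x.1 : G) * orderOf (x.2 : G) := dvd_trans h3 (Nat.lcm_dvd_mul _ _)
    rcases (Nat.Prime.dvd_mul hp).mp h4 with h | h
    exacts [h1 h, h2 h]
  · intro x hx y hy hxy
    rw [Finset.coe_filter, Set.mem_ofPred_eq] at hx hy
    obtain ⟨-, hx1, hx2⟩ := hx
    obtain ⟨-, hy1, hy2⟩ := hy
    rw [← Subgroup.orderOf_coe] at hx1 hx2 hy1 hy2
    obtain ⟨u, v⟩ := x
    obtain ⟨u', v'⟩ := y
    have hxy' : (u : G) * (v : G) = (u' : G) * (v' : G) := hxy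
    have hw : (v' : G) * (v : G)⁻¹ ∈ U₂ := U₂.mul_mem v'.2 (U₂.inv_mem v.2)
    have hc := hcomm u' u'.2 _ hw
    have e1 : (u : G) * (u' : G)⁻¹ = (v' : G) * (v : G)⁻¹ := by
      calc (u : G) * (u' : G)⁻¹ = ((u : G) * (v : G)) * (v : G)⁻¹ * (u' : G)⁻¹ := by group
        _ = ((u' : G) * (v' : G)) * (v : G)⁻¹ * (u' : G)⁻¹ := by rw [hxy']
        _ = ((u' : G) * ((v' : G) * (v : G)⁻¹)) * (u' : G)⁻¹ := by group
        _ = ((v' : G) * (v : G)⁻¹) * (u' : G) * (u' : G)⁻¹ := by rw [hc]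
        _ = (v' : G) * (v : G)⁻¹ := by group
    have hmem : (u : G) * (u' : G)⁻¹ ∈ U₁ ⊓ U₂ := by
      refine ⟨U₁.mul_mem u.2 (U₁.inv_mem u'.2), ?_⟩
      rw [e1]
      exact hw
    have hcen : (u' : G) ∈ Subgroup.centralizer ((U₁ ⊓ U₂ : Subgroup G) : Set G) := by
      rw [Subgroup.mem_centralizer_iff]
      intro h hh
      exact (hcomm u' u'.2 h hh.2).symm
    have huu : (u : G) = (u' : G) := eq_of_mul_inv_mem_pGroup hZ hy1 hx1 hcen hmem
    have hvv : (v : G) = (v' : G) := by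
      rw [huu] at hxy'
      exact mul_left_cancel hxy'
    exact Prod.ext (Subtype.ext huu) (Subtype.ext hvv)
  · intro g hg
    rw [Finset.coe_filter, Set.mem_ofPred_eq] at hg
    obtain ⟨⟨u, v⟩, huv⟩ := cpHom_surjective U₁ U₂ hcomm hgen g
    rw [cpHom_apply] at huv
    have huv' : (u : G) * (v : G) = g := huv
    have hcop : Nat.Coprime (ordProj[p] (Nat.card G)) (orderOf g) :=
      Nat.Coprime.pow_left _ ((Nat.Prime.coprime_iff_not_dvd hp).mpr hg.2)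
    obtain ⟨m, hm⟩ := exists_pow_eq_self_of_coprime hcop
    rw [← pow_mul] at hm
    set e := ordProj[p] (Nat.card G) * m with he
    have hc : Commute (u : G) (v : G) := hcomm _ u.2 _ v.2
    refine ⟨(u ^ e, v ^ e), ?_, ?_⟩
    · rw [Finset.coe_filter, Set.mem_ofPred_eq]
      refine ⟨Finset.mem_univ _, ?_, ?_⟩
      · show ¬ p ∣ orderOf (u ^ e)
        rw [← Subgroup.orderOf_coe, Subgroup.coe_pow]
        exact not_dvd_orderOf_pow_ordProj hp _ m
      · show ¬ p ∣ orderOf (v ^ e)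
        rw [← Subgroup.orderOf_coe, Subgroup.coe_pow]
        exact not_dvd_orderOf_pow_ordProj hp _ m
    · show ((u ^ e : U₁) : G) * ((v ^ e : U₂) : G) = g
      rw [Subgroup.coe_pow, Subgroup.coe_pow, ← hc.mul_pow, huv', hm]
  · intro x _
    rfl

/-- the central character value on the `p`-regular sum is multiplicative over a central product -/
theorem cp_omegaF (p : ℕ) [Fact p.Prime] (U₁ U₂ : Subgroup G) [Fintype U₁] [Fintype U₂]
    (hcomm : ∀ u ∈ U₁, ∀ v ∈ U₂, u * v = v * u) (hgen : U₁ ⊔ U₂ = ⊤)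
    (hZ : IsPGroup p ↥(U₁ ⊓ U₂))
    (χ : IrrCharacter G) (ψ₁ : IrrCharacter U₁) (ψ₂ : IrrCharacter U₂)
    (h₁ : classInner (fun u : U₁ => (χ : G → ℂ) u) (ψ₁ : U₁ → ℂ) ≠ 0)
    (h₂ : classInner (fun u : U₂ => (χ : G → ℂ) u) (ψ₂ : U₂ → ℂ) ≠ 0) :
    omegaF (χ : G → ℂ) (pRegInd G p) =
      omegaF (ψ₁ : U₁ → ℂ) (pRegInd U₁ p) * omegaF (ψ₂ : U₂ → ℂ) (pRegInd U₂ p) := by
  have hfac := cp_char_factor U₁ U₂ hcomm hgen χ ψ₁ ψ₂ h₁ h₂
  have hone : (χ : G → ℂ) 1 = (ψ₁ : U₁ → ℂ) 1 * (ψ₂ : U₂ → ℂ) 1 := by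
    have := hfac 1 1
    rw [OneMemClass.coe_one, OneMemClass.coe_one, mul_one] at this
    exact this
  unfold omegaF
  rw [cp_sum_pReg p U₁ U₂ hcomm hgen hZ, hone, div_mul_div_comm, Finset.sum_mul_sum,
    Fintype.sum_prod_type]
  congr 1
  refine Finset.sum_congr rfl fun u _ => Finset.sum_congr rfl fun v _ => ?_
  show pRegInd U₁ p u * pRegInd U₂ p v * (χ : G → ℂ) ((u : G) * (v : G)) = _
  rw [hfac]
  ring

/-- principal block of a central product over a `p`-group -/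
theorem cp_principalBlock (p : ℕ) [Fact p.Prime] (M : Ideal AlgInt) (hM : IsPModular p M)
    (U₁ U₂ : Subgroup G) [Fintype U₁] [Fintype U₂]
    (hcomm : ∀ u ∈ U₁, ∀ v ∈ U₂, u * v = v * u) (hgen : U₁ ⊔ U₂ = ⊤)
    (hZ : IsPGroup p ↥(U₁ ⊓ U₂))
    (χ : IrrCharacter G) (ψ₁ : IrrCharacter U₁) (ψ₂ : IrrCharacter U₂)
    (h₁ : classInner (fun u : U₁ => (χ : G → ℂ) u) (ψ₁ : U₁ → ℂ) ≠ 0)
    (h₂ : classInner (fun u : U₂ => (χ : G → ℂ) u) (ψ₂ : U₂ → ℂ) ≠ 0) :
    χ ∈ principalBlock M G ↔ (ψ₁ ∈ principalBlock M U₁ ∧ ψ₂ ∈ principalBlock M U₂) := by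
  have hMtop : M ≠ ⊤ := hM.2.1.ne_top
  have key := cp_omegaF p U₁ U₂ hcomm hgen hZ χ ψ₁ ψ₂ h₁ h₂
  constructor
  · intro h
    have h0 := omegaF_pRegInd_of_mem_principalBlock hM χ h
    have hne : omegaF (χ : G → ℂ) (pRegInd G p) ≠ 0 := by
      intro h00
      rw [h00] at h0
      exact h0 (memLocalIdeal_zero hMtop)
    rw [key] at hne
    constructor
    · by_contra hcon
      rw [omegaF_pRegInd_eq_zero hM ψ₁ hcon, zero_mul] at hne
      exact hne rfl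
    · by_contra hcon
      rw [omegaF_pRegInd_eq_zero hM ψ₂ hcon, mul_zero] at hne
      exact hne rfl
  · rintro ⟨ha, hb⟩
    by_contra hcon
    have h0 := omegaF_pRegInd_eq_zero hM χ hcon
    rw [key] at h0
    rcases mul_eq_zero.mp h0 with h | h
    · have := omegaF_pRegInd_of_mem_principalBlock hM ψ₁ ha
      rw [h] at this
      exact this (memLocalIdeal_zero hMtop)
    · have := omegaF_pRegInd_of_mem_principalBlock hM ψ₂ hb
      rw [h] at this
      exact this (memLocalIdeal_zero hMtop)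

end CentralProd

end Cfsg.Agent.Lib.Helper28
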