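import Mathlib
import Cfsg.Agent.Lib.Helper28.CentralProd
import Cfsg.Agent.Lib.Helper28.BlockOrthPReg
import Cfsg.Agent.Lib.Helper4.PermLemma
import Cfsg.Agent.Lib.Helper4.CharOrtho

set_option autoImplicit false

/-!
# `p`-regular elements modulo a normal `p`-subgroup `Q` with `G = Q C_G(Q)` (helper28)
-/

namespace Cfsg.Agent.Lib.Helper28

open Cfsg Cfsg.Agent.Lib.Helper4 Cfsg.Agent.Lib.Helper26
open scoped ComplexConjugate Classical

section QuotRank

variable {G : Type*} [Group G] [Fintype G] {M : Ideal AlgInt}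

omit [Fintype G] in
/-- if `G = Q C_G(Q)` for a normal `p`-subgroup `Q` then the `p`-regular elements centralize `Q` -/
theorem preg_mem_centralizer {p : ℕ} [Fact p.Prime] (Q : Subgroup G) [Q.Normal]
    (hQ : IsPGroup p Q) (hsup : Q ⊔ Subgroup.centralizer (Q : Set G) = ⊤) {g : G}
    (hg : ¬ p ∣ orderOf g) : g ∈ Subgroup.centralizer (Q : Set G) := by
  have hp : p.Prime := Fact.out
  have hCn : (Subgroup.centralizer (Q : Set G)).Normal := Subgroup.normal_centralizer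
  have hgtop : g ∈ ((Q ⊔ Subgroup.centralizer (Q : Set G) : Subgroup G) : Set G) := by
    rw [hsup]
    exact Set.mem_univ g
  rw [Subgroup.normal_mul] at hgtop
  obtain ⟨q, hq, c, hc, hqc⟩ := Set.mem_mul.mp hgtop
  have h1 : (QuotientGroup.mk' (Subgroup.centralizer (Q : Set G))) q =
      (QuotientGroup.mk' (Subgroup.centralizer (Q : Set G))) g := by
    rw [QuotientGroup.mk'_apply, QuotientGroup.mk'_apply, QuotientGroup.eq, ← hqc]
    have : q⁻¹ * (q * c) = c := by group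
    rw [this]
    exact hc
  obtain ⟨k, hk⟩ := hQ ⟨q, hq⟩
  have hqk : q ^ p ^ k = 1 := by
    have := congrArg Subtype.val hk
    simpa using this
  have h2 : orderOf ((QuotientGroup.mk' (Subgroup.centralizer (Q : Set G))) g) ∣ p ^ k := by
    rw [← h1]
    exact (orderOf_map_dvd _ q).trans (orderOf_dvd_of_pow_eq_one hqk)
  have h3 : orderOf ((QuotientGroup.mk' (Subgroup.centralizer (Q : Set G))) g) ∣ orderOf g :=
    orderOf_map_dvd _ g
  have hcop : Nat.Coprime (p ^ k) (orderOf g) :=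
    Nat.Coprime.pow_left _ ((Nat.Prime.coprime_iff_not_dvd hp).mpr hg)
  have h4 := Nat.dvd_gcd h2 h3
  rw [Nat.Coprime.gcd_eq_one hcop, Nat.dvd_one, orderOf_eq_one_iff] at h4
  exact (QuotientGroup.eq_one_iff g).mp h4

/-- `p`-regular elements with the same image modulo `Q` are equal -/
theorem preg_eq_of_mk_eq {p : ℕ} [Fact p.Prime] (Q : Subgroup G) [Q.Normal]
    (hQ : IsPGroup p Q) (hsup : Q ⊔ Subgroup.centralizer (Q : Set G) = ⊤) {g g' : G}
    (hg : ¬ p ∣ orderOf g) (hg' : ¬ p ∣ orderOf g')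
    (h : (g' : G ⧸ Q) = (g : G ⧸ Q)) : g' = g := by
  have hcen := preg_mem_centralizer Q hQ hsup hg
  have hmem : g' * g⁻¹ ∈ Q := by
    apply (QuotientGroup.eq_one_iff (g' * g⁻¹)).mp
    rw [QuotientGroup.mk_mul, QuotientGroup.mk_inv, h, mul_inv_cancel]
  exact eq_of_mul_inv_mem_pGroup hQ hg hg' hcen hmem

/-- every `p`-regular element of `G ⧸ Q` has a `p`-regular lift -/
theorem exists_preg_lift {p : ℕ} [Fact p.Prime] (Q : Subgroup G) [Q.Normal]
    {x : G ⧸ Q} (hx : ¬ p ∣ orderOf x) : ∃ g : G, ¬ p ∣ orderOf g ∧ (g : G ⧸ Q) = x := by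
  have hp : p.Prime := Fact.out
  obtain ⟨g₀, rfl⟩ := QuotientGroup.mk_surjective x
  have hcop : Nat.Coprime (ordProj[p] (Nat.card G)) (orderOf (g₀ : G ⧸ Q)) :=
    Nat.Coprime.pow_left _ ((Nat.Prime.coprime_iff_not_dvd hp).mpr hx)
  obtain ⟨m, hm⟩ := exists_pow_eq_self_of_coprime hcop
  rw [← pow_mul] at hm
  refine ⟨g₀ ^ (ordProj[p] (Nat.card G) * m), not_dvd_orderOf_pow_ordProj hp _ m, ?_⟩
  rw [QuotientGroup.mk_pow, hm]

/-- sums over the `p`-regular elements of `G` and of `G ⧸ Q` -/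
theorem quot_sum_pReg {p : ℕ} [Fact p.Prime] (Q : Subgroup G) [Q.Normal] [Fintype (G ⧸ Q)]
    (hQ : IsPGroup p Q) (hsup : Q ⊔ Subgroup.centralizer (Q : Set G) = ⊤) (F : G ⧸ Q → ℂ) :
    ∑ g : G, pRegInd G p g * F (g : G ⧸ Q) = ∑ x : G ⧸ Q, pRegInd (G ⧸ Q) p x * F x := by
  have hL : ∑ g : G, pRegInd G p g * F (g : G ⧸ Q) =
      ∑ g ∈ Finset.univ.filter (fun g : G => ¬ p ∣ orderOf g), F (g : G ⧸ Q) := by
    rw [Finset.sum_filter]
    refine Finset.sum_congr rfl fun g _ => ?_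
    unfold pRegInd
    by_cases h : p ∣ orderOf g
    · rw [if_pos h, if_neg (not_not.mpr h), zero_mul]
    · rw [if_neg h, if_pos h, one_mul]
  have hR : ∑ x : G ⧸ Q, pRegInd (G ⧸ Q) p x * F x =
      ∑ x ∈ Finset.univ.filter (fun x : G ⧸ Q => ¬ p ∣ orderOf x), F x := by
    rw [Finset.sum_filter]
    refine Finset.sum_congr rfl fun g _ => ?_
    unfold pRegInd
    by_cases h : p ∣ orderOf g
    · rw [if_pos h, if_neg (not_not.mpr h), zero_mul]
    · rw [if_neg h, if_pos h, one_mul]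
  rw [hL, hR]
  apply Finset.sum_nbij (fun g : G => (g : G ⧸ Q))
  · intro g hg
    rw [Finset.mem_filter] at hg ⊢
    refine ⟨Finset.mem_univ _, fun hd => hg.2 (hd.trans ?_)⟩
    exact orderOf_map_dvd (QuotientGroup.mk' Q) g
  · intro g hg g' hg' h
    rw [Finset.coe_filter, Set.mem_ofPred_eq] at hg hg'
    exact (preg_eq_of_mk_eq Q hQ hsup hg.2 hg'.2 h.symm).symm
  · intro x hx
    rw [Finset.coe_filter, Set.mem_ofPred_eq] at hx
    obtain ⟨g, hg, hgx⟩ := exists_preg_lift Q hx.2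
    refine ⟨g, ?_, hgx⟩
    rw [Finset.coe_filter, Set.mem_ofPred_eq]
    exact ⟨Finset.mem_univ _, hg⟩
  · intro g _
    rfl

/-- an inflated character lies in the principal block iff the character of the quotient does -/
theorem inflation_mem_principalBlock_iff {p : ℕ} [Fact p.Prime] (hM : IsPModular p M)
    (Q : Subgroup G) [Q.Normal] [Fintype (G ⧸ Q)]
    (hQ : IsPGroup p Q) (hsup : Q ⊔ Subgroup.centralizer (Q : Set G) = ⊤)
    (ψ : IrrCharacter (G ⧸ Q)) (χ : IrrCharacter G)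
    (hχ : (χ : G → ℂ) = (ψ : G ⧸ Q → ℂ) ∘ (QuotientGroup.mk : G → G ⧸ Q)) :
    χ ∈ principalBlock M G ↔ ψ ∈ principalBlock M (G ⧸ Q) := by
  have hMtop : M ≠ ⊤ := hM.2.1.ne_top
  have key : omegaF (χ : G → ℂ) (pRegInd G p) =
      omegaF (ψ : G ⧸ Q → ℂ) (pRegInd (G ⧸ Q) p) := by
    unfold omegaF
    rw [hχ]
    have := quot_sum_pReg Q hQ hsup (ψ : G ⧸ Q → ℂ)
    rw [← this]
    rfl
  constructor
  · intro h
    have h0 := omegaF_pRegInd_of_mem_principalBlock hM χ h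
    by_contra hcon
    rw [key, omegaF_pRegInd_eq_zero hM ψ hcon] at h0
    exact h0 (memLocalIdeal_zero hMtop)
  · intro h
    have h0 := omegaF_pRegInd_of_mem_principalBlock hM ψ h
    by_contra hcon
    rw [← key, omegaF_pRegInd_eq_zero hM χ hcon] at h0
    exact h0 (memLocalIdeal_zero hMtop)

end QuotRank

end Cfsg.Agent.Lib.Helper28
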