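import Mathlib
import Cfsg.Agent.Lib.Helper28.QuotRankA
import Cfsg.Agent.Lib.Helper28.BrauerS
import Cfsg.Agent.Lib.Helper4.PrincipalNormal
import Cfsg.Agent.Lib.Helper4.Deflate
import Cfsg.Agent.Lib.Helper26.IndChar

set_option autoImplicit false

/-!
# The principal block modulo a normal `p'`-subgroup (helper28)

For `H ⊲ G` of order prime to `p`, the principal block of `G` consists of the inflations of the
members of the principal block of `G ⧸ H`.
-/

namespace Cfsg.Agent.Lib.Helper28

open Cfsg Cfsg.Agent.Lib.Helper4 Cfsg.Agent.Lib.Helper26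
open scoped ComplexConjugate Classical

section PrimeCore

variable {G : Type*} [Group G] [Fintype G] {M : Ideal AlgInt}

omit [Fintype G] in
/-- modulo a normal `p'`-subgroup, `p`-regularity is detected in the quotient -/
theorem dvd_orderOf_mk_iff [Finite G] {p : ℕ} [Fact p.Prime] (H : Subgroup G) [H.Normal]
    (hH : (Nat.card H).Coprime p) (g : G) :
    p ∣ orderOf (g : G ⧸ H) ↔ p ∣ orderOf g := by
  have hp : p.Prime := Fact.out
  constructor
  · intro h
    exact h.trans (orderOf_map_dvd (QuotientGroup.mk' H) g)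
  · intro h
    by_contra hnd
    set m := orderOf (g : G ⧸ H) with hm
    have h1 : ((g ^ m : G) : G ⧸ H) = 1 := by
      rw [QuotientGroup.mk_pow, hm]
      exact pow_orderOf_eq_one _
    have h2 : g ^ m ∈ H := (QuotientGroup.eq_one_iff _).mp h1
    have h3 : (g ^ m) ^ Nat.card H = 1 := by
      have h4 : (⟨g ^ m, h2⟩ : H) ^ Nat.card H = 1 := pow_card_eq_one'
      have h4' : (((⟨g ^ m, h2⟩ : H) ^ Nat.card H : H) : G) = ((1 : H) : G) := by rw [h4]
      rw [Subgroup.coe_pow, Subgroup.coe_one] at h4'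
      exact h4'
    rw [← pow_mul] at h3
    have h5 : orderOf g ∣ m * Nat.card H := orderOf_dvd_of_pow_eq_one h3
    rcases (Nat.Prime.dvd_mul hp).mp (h.trans h5) with h6 | h6
    · exact hnd h6
    · have := Nat.Coprime.eq_one_of_dvd hH.symm h6
      exact hp.one_lt.ne' this

/-- summing a function of the quotient over the group -/
theorem sum_comp_mk (H : Subgroup G) [H.Normal] [Fintype (G ⧸ H)] (F : G ⧸ H → ℂ) :
    ∑ g : G, F (g : G ⧸ H) = (Nat.card H : ℂ) * ∑ x : G ⧸ H, F x := by
  rw [← Finset.sum_fiberwise Finset.univ (fun g : G => (g : G ⧸ H)) (fun g => F (g : G ⧸ H)),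
    Finset.mul_sum]
  refine Finset.sum_congr rfl fun x _ => ?_
  have h1 : ∀ g ∈ Finset.univ.filter (fun g : G => (g : G ⧸ H) = x), F (g : G ⧸ H) = F x := by
    intro g hg
    rw [(Finset.mem_filter.mp hg).2]
  rw [Finset.sum_congr rfl h1, Finset.sum_const, nsmul_eq_mul]
  congr 1
  have h2 := QuotientGroup.card_preimage_mk H ({x} : Set (G ⧸ H))
  rw [Nat.card_eq_fintype_card, Nat.card_eq_fintype_card (α := ({x} : Set (G ⧸ H))),
    Fintype.card_subtype] at h2
  have h3 : Fintype.card ({x} : Set (G ⧸ H)) = 1 := by simp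
  rw [h3, mul_one] at h2
  rw [← h2]
  congr 2
  ext g
  simp

theorem pRegInd_mk {p : ℕ} [Fact p.Prime] (H : Subgroup G) [H.Normal]
    (hH : (Nat.card H).Coprime p) (g : G) :
    pRegInd (G ⧸ H) p (g : G ⧸ H) = pRegInd G p g := by
  unfold pRegInd
  by_cases h : p ∣ orderOf g
  · rw [if_pos h, if_pos ((dvd_orderOf_mk_iff H hH g).mpr h)]
  · rw [if_neg h, if_neg (fun h' => h ((dvd_orderOf_mk_iff H hH g).mp h'))]

/-- sums over the `p`-regular elements of `G` and of `G ⧸ H` -/
theorem quot_sum_pReg_coprime {p : ℕ} [Fact p.Prime] (H : Subgroup G) [H.Normal]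
    [Fintype (G ⧸ H)] (hH : (Nat.card H).Coprime p) (F : G ⧸ H → ℂ) :
    ∑ g : G, pRegInd G p g * F (g : G ⧸ H) =
      (Nat.card H : ℂ) * ∑ x : G ⧸ H, pRegInd (G ⧸ H) p x * F x := by
  rw [← sum_comp_mk H (fun x => pRegInd (G ⧸ H) p x * F x)]
  refine Finset.sum_congr rfl fun g _ => ?_
  rw [pRegInd_mk H hH g]

/-- an inflated character lies in the principal block iff the character of the quotient does -/
theorem inflation_mem_principalBlock_iff_coprime {p : ℕ} [Fact p.Prime] (hM : IsPModular p M)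
    (H : Subgroup G) [H.Normal] [Fintype (G ⧸ H)] (hH : (Nat.card H).Coprime p)
    (ψ : IrrCharacter (G ⧸ H)) (χ : IrrCharacter G)
    (hχ : (χ : G → ℂ) = (ψ : G ⧸ H → ℂ) ∘ (QuotientGroup.mk : G → G ⧸ H)) :
    χ ∈ principalBlock M G ↔ ψ ∈ principalBlock M (G ⧸ H) := by
  have hMtop : M ≠ ⊤ := hM.2.1.ne_top
  have hH0 : (Nat.card H : ℂ) ≠ 0 := by
    have : Nat.card H ≠ 0 := Nat.card_pos.ne'
    exact_mod_cast this
  have key : omegaF (χ : G → ℂ) (pRegInd G p) =
      (Nat.card H : ℂ) * omegaF (ψ : G ⧸ H → ℂ) (pRegInd (G ⧸ H) p) := by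
    unfold omegaF
    rw [hχ]
    have := quot_sum_pReg_coprime H hH (ψ : G ⧸ H → ℂ)
    rw [← mul_div_assoc, ← this]
    rfl
  constructor
  · intro h
    have h0 := omegaF_pRegInd_of_mem_principalBlock hM χ h
    by_contra hcon
    rw [key, omegaF_pRegInd_eq_zero hM ψ hcon, mul_zero] at h0
    exact h0 (memLocalIdeal_zero hMtop)
  · intro h
    have h0 := omegaF_pRegInd_of_mem_principalBlock hM ψ h
    by_contra hcon
    have h1 := omegaF_pRegInd_eq_zero hM χ hcon
    rw [key] at h1
    rcases mul_eq_zero.mp h1 with h2 | h2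
    · exact hH0 h2
    · rw [h2] at h0
      exact h0 (memLocalIdeal_zero hMtop)

end PrimeCore

section Triv

variable {H : Type*} [Group H] [Fintype H] {M : Ideal AlgInt}

/-- the principal block of a `p'`-group is trivial -/
theorem eq_trivIrr_of_mem_principalBlock_of_coprime {p : ℕ} [Fact p.Prime]
    (hM : IsPModular p M) (hH : (Nat.card H).Coprime p) (θ : IrrCharacter H)
    (hθ : θ ∈ principalBlock M H) : θ = trivIrr H := by
  have hp : p.Prime := Fact.out
  have hMtop : M ≠ ⊤ := hM.2.1.ne_top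
  have h0 := omegaF_pRegInd_of_mem_principalBlock hM θ hθ
  by_contra hne
  apply h0
  have h1 : classInner (θ : H → ℂ) ((trivIrr H : IrrCharacter H) : H → ℂ) = 0 := by
    rw [Cfsg.Agent.Lib.Helper4.classInner_irr θ (trivIrr H), if_neg hne]
  have h2 : ∑ h : H, (θ : H → ℂ) h = 0 := by
    unfold classInner at h1
    have hc : (Nat.card H : ℂ)⁻¹ ≠ 0 := by
      apply inv_ne_zero
      have : Nat.card H ≠ 0 := Nat.card_pos.ne'
      exact_mod_cast this
    have h3 := (mul_eq_zero.mp h1).resolve_left hc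
    rw [← h3]
    refine Finset.sum_congr rfl fun h _ => ?_
    show (θ : H → ℂ) h = (θ : H → ℂ) h * conj (1 : ℂ)
    rw [map_one, mul_one]
  have h4 : omegaF (θ : H → ℂ) (pRegInd H p) = 0 := by
    unfold omegaF
    have h5 : ∑ h : H, pRegInd H p h * (θ : H → ℂ) h = ∑ h : H, (θ : H → ℂ) h := by
      refine Finset.sum_congr rfl fun h _ => ?_
      unfold pRegInd
      have hnd : ¬ p ∣ orderOf h := by
        intro hd
        have h6 : p ∣ Nat.card H := hd.trans (orderOf_dvd_natCard h)
        have := Nat.Coprime.eq_one_of_dvd hH.symm h6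
        exact hp.one_lt.ne' this
      rw [if_neg hnd, one_mul]
    rw [h5, h2, zero_div]
  rw [h4]
  exact memLocalIdeal_zero hMtop

end Triv

end Cfsg.Agent.Lib.Helper28
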