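import Mathlib
import Cfsg.Agent.Lib.Helper28.PrimeCoreA

set_option autoImplicit false

/-!
# The principal block modulo a normal `p'`-subgroup, part B (helper28)

Members of the principal block are trivial on normal `p'`-subgroups; reindexing sums over the
principal block.
-/

namespace Cfsg.Agent.Lib.Helper28

open Cfsg Cfsg.Agent.Lib.Helper4 Cfsg.Agent.Lib.Helper26
open scoped ComplexConjugate Classical

section PrimeCore

variable {G : Type*} [Group G] [Fintype G] {M : Ideal AlgInt}

/-- members of the principal block are trivial on normal `p'`-subgroups -/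
theorem principalBlock_trivial_on {p : ℕ} [Fact p.Prime] (hM : IsPModular p M)
    (H : Subgroup G) [H.Normal] (hH : (Nat.card H).Coprime p) {χ : IrrCharacter G}
    (hχ : χ ∈ principalBlock M G) (h : G) (hh : h ∈ H) :
    (χ : G → ℂ) h = (χ : G → ℂ) 1 := by
  have hprime : M.IsPrime := hM.2.1.isPrime
  have : Fintype (IrrCharacter H) := Fintype.ofFinite _
  set f : H → ℂ := (χ : G → ℂ) ∘ H.subtype with hf
  have hcfG : IsClassFunction G (χ : G → ℂ) := Helper4.isClassFunction_of_isIrrCharacter χ.2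
  have hcf : IsClassFunction H f := by
    intro a b
    show (χ : G → ℂ) ((b * a * b⁻¹ : H) : G) = (χ : G → ℂ) (a : G)
    rw [Subgroup.coe_mul, Subgroup.coe_mul, Subgroup.coe_inv]
    exact hcfG _ _
  have hexp := classFunction_expansion f hcf
  have hcoef : ∀ θ : IrrCharacter H, θ ≠ trivIrr H → classInner f (θ : H → ℂ) = 0 := by
    intro θ hne
    by_contra hcon
    exact hne (eq_trivIrr_of_mem_principalBlock_of_coprime hM hH θ
      (constituent_mem_principalBlock H hχ hcon))
  have hval : ∀ k : H, f k = classInner f ((trivIrr H : IrrCharacter H) : H → ℂ) := by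
    intro k
    have h1 := congrFun hexp k
    rw [Finset.sum_apply] at h1
    rw [h1, Finset.sum_eq_single (trivIrr H)]
    · show classInner f ((trivIrr H : IrrCharacter H) : H → ℂ) * 1 = _
      rw [mul_one]
    · intro θ _ hne
      rw [Pi.smul_apply, hcoef θ hne, zero_smul]
    · intro hn
      exact absurd (Finset.mem_univ _) hn
  have h1 := hval ⟨h, hh⟩
  have h2 := hval 1
  have h3 : f ⟨h, hh⟩ = f 1 := by rw [h1, ← h2]
  exact h3

/-- inflation from `G ⧸ H` -/
noncomputable def inflIrrQ (H : Subgroup G) [H.Normal] (ψ : IrrCharacter (G ⧸ H)) :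
    IrrCharacter G :=
  ⟨(ψ : G ⧸ H → ℂ) ∘ (QuotientGroup.mk' H), isIrrCharacter_comp_of_surjective ψ.2
    (QuotientGroup.mk' H) (QuotientGroup.mk'_surjective H)⟩

omit [Fintype G] in
theorem inflIrrQ_apply (H : Subgroup G) [H.Normal] (ψ : IrrCharacter (G ⧸ H)) (g : G) :
    (inflIrrQ H ψ : G → ℂ) g = (ψ : G ⧸ H → ℂ) (g : G ⧸ H) := rfl

omit [Fintype G] in
theorem inflIrrQ_injective (H : Subgroup G) [H.Normal] : Function.Injective (inflIrrQ H) := by
  intro ψ ψ' h
  apply Subtype.ext
  funext y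
  obtain ⟨g, rfl⟩ := QuotientGroup.mk_surjective y
  have := congrArg (fun χ : IrrCharacter G => (χ : G → ℂ) g) h
  exact this

/-- inflation is a bijection between the principal blocks -/
theorem bijOn_inflIrrQ {p : ℕ} [Fact p.Prime] (hM : IsPModular p M)
    (H : Subgroup G) [H.Normal] [Fintype (G ⧸ H)] (hH : (Nat.card H).Coprime p) :
    Set.BijOn (inflIrrQ H) (principalBlock M (G ⧸ H)) (principalBlock M G) := by
  refine ⟨?_, ?_, ?_⟩
  · intro ψ hψ
    exact (inflation_mem_principalBlock_iff_coprime hM H hH ψ (inflIrrQ H ψ) rfl).mpr hψ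
  · intro ψ _ ψ' _ h
    exact inflIrrQ_injective H h
  · intro χ hχ
    obtain ⟨ψ, hψ⟩ := exists_deflate_irr H χ
      (fun n hn => principalBlock_trivial_on hM H hH hχ n hn)
    have hχψ : (χ : G → ℂ) = (ψ : G ⧸ H → ℂ) ∘ (QuotientGroup.mk : G → G ⧸ H) := by
      funext g
      exact (hψ g).symm
    refine ⟨ψ, (inflation_mem_principalBlock_iff_coprime hM H hH ψ χ hχψ).mp hχ, ?_⟩
    apply Subtype.ext
    exact hχψ.symm

/-- reindexing a sum over the principal block -/
theorem finsum_principalBlock_quot {p : ℕ} [Fact p.Prime] (hM : IsPModular p M)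
    (H : Subgroup G) [H.Normal] [Fintype (G ⧸ H)] (hH : (Nat.card H).Coprime p)
    {α : Type*} [AddCommMonoid α] (f : ℂ → α) (x : G) :
    ∑ᶠ χ ∈ principalBlock M G, f ((χ : G → ℂ) x) =
      ∑ᶠ ψ ∈ principalBlock M (G ⧸ H), f ((ψ : G ⧸ H → ℂ) (x : G ⧸ H)) := by
  symm
  apply finsum_mem_eq_of_bijOn (inflIrrQ H) (bijOn_inflIrrQ hM H hH)
  intro ψ _
  rfl

end PrimeCore

end Cfsg.Agent.Lib.Helper28
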