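import Mathlib
import Cfsg.Prelude.Def_Blocks
import Cfsg.Agent.Lib.Helper28.BrauerS
import Cfsg.Agent.Lib.Helper28.LocalRes
import Cfsg.Agent.Lib.Helper28.BlockDefectB
import Cfsg.Agent.Lib.Helper26.CharBasic

set_option autoImplicit false

/-!
# Odd degree characters whose block is stable under inverting the odd order elements lie in the
principal `2`-block (helper28)
-/

namespace Cfsg.Agent.Lib.Helper28

open Cfsg Cfsg.Agent.Lib.Helper4 Cfsg.Agent.Lib.Helper26
open scoped ComplexConjugate Classical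

section

variable {G : Type*} [Group G] [Fintype G] {M : Ideal AlgInt}

theorem irr_inv_eq_conj (χ : IrrCharacter G) (g : G) :
    (χ : G → ℂ) g⁻¹ = conj ((χ : G → ℂ) g) := by
  obtain ⟨n, ρ, _, h⟩ := χ.2
  rw [← h]
  exact character_inv_eq_conj ρ g

theorem irr_memLocalRing (hMtop : M ≠ ⊤) (χ : IrrCharacter G) (g : G) :
    MemLocalRing M ((χ : G → ℂ) g) :=
  memLocalRing_of_isIntegral hMtop (Helper4.isIntegral_of_isIrrCharacter χ.2 g)

/-- block congruence for sums over a class-invariant set of odd order elements -/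
theorem sum_filter_localRes_inv [hmax : M.IsMaximal] (χ ψ : IrrCharacter G)
    (hsame : SameBlock M (χ : G → ℂ) (ψ : G → ℂ))
    (hψ : ∀ g : G, Odd (orderOf g) → (ψ : G → ℂ) g = conj ((χ : G → ℂ) g))
    (Q : G → Prop) (hQcl : ∀ g k : G, Q (k * g * k⁻¹) ↔ Q g)
    (hQ : ∀ g, Q g → Odd (orderOf g)) :
    ∑ g ∈ Finset.univ.filter Q, localRes M ((χ : G → ℂ) g⁻¹) =
      ∑ g ∈ Finset.univ.filter Q, localRes M ((χ : G → ℂ) g) := by
  have hprime : M.IsPrime := hmax.isPrime
  have hMtop : M ≠ ⊤ := hmax.ne_top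
  have hclχ := Helper4.isClassFunction_of_isIrrCharacter χ.2
  have hclψ := Helper4.isClassFunction_of_isIrrCharacter ψ.2
  let F₁ : G → ℂ := fun g => if Q g then 1 else 0
  have hF₁cl : IsClassFunction G F₁ := by
    intro g k
    show (if Q (k * g * k⁻¹) then (1 : ℂ) else 0) = if Q g then 1 else 0
    by_cases h : Q g
    · rw [if_pos h, if_pos ((hQcl g k).mpr h)]
    · rw [if_neg h, if_neg (fun h' => h ((hQcl g k).mp h'))]
  have hF₁loc : ∀ g, MemLocalRing M (F₁ g) := by
    intro g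
    show MemLocalRing M (if Q g then (1 : ℂ) else 0)
    split_ifs
    · exact memLocalRing_one hMtop
    · exact memLocalRing_zero hMtop
  have h := omegaF_sub_memLocalIdeal hclχ hclψ hsame F₁ hF₁cl hF₁loc
  obtain ⟨hd0, hd1, -⟩ := irr_degree_nat χ.2
  have hχ1 : (χ : G → ℂ) 1 ≠ 0 := by
    rw [hd1]
    exact Nat.cast_ne_zero.mpr hd0
  have hψ1 : (ψ : G → ℂ) 1 = (χ : G → ℂ) 1 := by
    rw [hψ 1 (by rw [orderOf_one]; exact odd_one), hd1, Complex.conj_natCast]
  unfold omegaF at h
  rw [hψ1, ← sub_div] at h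
  have h2 := memLocalIdeal_mul_left (irr_memLocalRing hMtop χ 1) h
  rw [mul_div_cancel₀ _ hχ1] at h2
  have e1 : ∑ g, F₁ g * (χ : G → ℂ) g = ∑ g ∈ Finset.univ.filter Q, (χ : G → ℂ) g := by
    rw [Finset.sum_filter]
    refine Finset.sum_congr rfl fun g _ => ?_
    show (if Q g then (1 : ℂ) else 0) * _ = _
    split_ifs
    · rw [one_mul]
    · rw [zero_mul]
  have e2 : ∑ g, F₁ g * (ψ : G → ℂ) g = ∑ g ∈ Finset.univ.filter Q, (χ : G → ℂ) g⁻¹ := by
    rw [Finset.sum_filter]
    refine Finset.sum_congr rfl fun g _ => ?_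
    show (if Q g then (1 : ℂ) else 0) * _ = _
    split_ifs with hg
    · rw [one_mul, hψ g (hQ g hg), irr_inv_eq_conj]
    · rw [zero_mul]
  rw [e1, e2] at h2
  have h3 := localRes_eq_of_sub_memLocalIdeal
    (memLocalRing_sum _ _ fun g _ => irr_memLocalRing hMtop χ g)
    (memLocalRing_sum _ _ fun g _ => irr_memLocalRing hMtop χ g⁻¹) h2
  rw [localRes_sum _ _ (fun g _ => irr_memLocalRing hMtop χ g),
    localRes_sum _ _ (fun g _ => irr_memLocalRing hMtop χ g⁻¹)] at h3
  exact h3.symm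

/-- the sum over the nonidentity odd order elements of real classes vanishes modulo `2` -/
theorem sum_filter_real_localRes [hmax : M.IsMaximal] (h2 : (2 : AlgInt ⧸ M) = 0)
    (χ : IrrCharacter G) :
    ∑ g ∈ Finset.univ.filter (fun g : G => Odd (orderOf g) ∧ g ≠ 1 ∧ IsConj g g⁻¹),
      localRes M ((χ : G → ℂ) g) = 0 := by
  have hclχ := Helper4.isClassFunction_of_isIrrCharacter χ.2
  refine Finset.sum_involution (fun g _ => g⁻¹) ?_ ?_ ?_ ?_
  · intro g hg
    rw [Finset.mem_filter] at hg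
    obtain ⟨k, hk⟩ := isConj_iff.mp hg.2.2.2
    have : (χ : G → ℂ) g⁻¹ = (χ : G → ℂ) g := by
      rw [← hk]
      exact hclχ g k
    rw [this, ← two_mul, h2, zero_mul]
  · intro g hg _ hinv
    rw [Finset.mem_filter] at hg
    apply hg.2.2.1
    have hsq : g ^ 2 = 1 := by
      rw [pow_two]
      nth_rewrite 1 [← hinv]
      exact inv_mul_cancel g
    have hdvd : orderOf g ∣ 2 := orderOf_dvd_of_pow_eq_one hsq
    have hodd := hg.2.1
    have h1 : orderOf g = 1 := by
      rcases (Nat.dvd_prime Nat.prime_two).mp hdvd with h | h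
      · exact h
      · rw [h] at hodd
        exact absurd hodd (by decide)
    exact orderOf_eq_one_iff.mp h1
  · intro g hg
    rw [Finset.mem_filter] at hg ⊢
    refine ⟨Finset.mem_univ _, ?_, ?_, ?_⟩
    · rw [orderOf_inv]
      exact hg.2.1
    · intro h
      exact hg.2.2.1 (inv_eq_one.mp h)
    · rw [inv_inv]
      exact hg.2.2.2.symm
  · intro g _
    exact inv_inv g

end

end Cfsg.Agent.Lib.Helper28
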