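import Mathlib
import Cfsg.Agent.Lib.Helper28.PrimeCoreB
import Cfsg.Agent.Lib.Helper28.RealOddA
import Cfsg.Agent.Lib.Helper4.GaloisChar
import Cfsg.Agent.Lib.Helper4.GaloisConj

set_option autoImplicit false

/-!
# Galois stability of the principal block and integrality of `λ(G, x)` (helper28)
-/

namespace Cfsg.Agent.Lib.Helper28

open Cfsg Cfsg.Agent.Lib.Helper4 Cfsg.Agent.Lib.Helper26
open scoped ComplexConjugate Classical

section Twist

variable {G : Type*} [Group G] [Fintype G] {M : Ideal AlgInt}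

/-- the Galois twist `χ ↦ χ(g ^ m)` -/
noncomputable def twistIrr (m : ℕ) (hm : m.Coprime (Nat.card G)) (χ : IrrCharacter G) :
    IrrCharacter G :=
  ⟨fun g => (χ : G → ℂ) (g ^ m), isIrrCharacter_pow _ χ.2 m hm⟩

theorem twistIrr_apply (m : ℕ) (hm : m.Coprime (Nat.card G)) (χ : IrrCharacter G) (g : G) :
    (twistIrr m hm χ : G → ℂ) g = (χ : G → ℂ) (g ^ m) := rfl

theorem twistIrr_injective (m : ℕ) (hm : m.Coprime (Nat.card G)) :
    Function.Injective (twistIrr (G := G) m hm) := by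
  intro χ ψ h
  apply Subtype.ext
  funext y
  obtain ⟨g, rfl⟩ := (powCoprime hm.symm).surjective y
  have := congrArg (fun χ : IrrCharacter G => (χ : G → ℂ) g) h
  exact this

theorem omegaF_twistIrr (p : ℕ) (m : ℕ) (hm : m.Coprime (Nat.card G)) (χ : IrrCharacter G) :
    omegaF (twistIrr m hm χ : G → ℂ) (pRegInd G p) = omegaF (χ : G → ℂ) (pRegInd G p) := by
  unfold omegaF
  have h1 : (twistIrr m hm χ : G → ℂ) 1 = (χ : G → ℂ) 1 := by
    rw [twistIrr_apply, one_pow]
  rw [h1]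
  congr 1
  rw [← Equiv.sum_comp (powCoprime hm.symm) (fun g => pRegInd G p g * (χ : G → ℂ) g)]
  refine Finset.sum_congr rfl fun g _ => ?_
  show pRegInd G p g * (χ : G → ℂ) (g ^ m) = pRegInd G p (g ^ m) * (χ : G → ℂ) (g ^ m)
  have hord : orderOf (g ^ m) = orderOf g := by
    apply Nat.Coprime.orderOf_pow
    exact Nat.Coprime.coprime_dvd_left (orderOf_dvd_natCard g) hm.symm
  unfold pRegInd
  rw [hord]

theorem twistIrr_mem_principalBlock_iff {p : ℕ} [Fact p.Prime] (hM : IsPModular p M)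
    (m : ℕ) (hm : m.Coprime (Nat.card G)) (χ : IrrCharacter G) :
    twistIrr m hm χ ∈ principalBlock M G ↔ χ ∈ principalBlock M G := by
  constructor
  · intro h
    apply mem_principalBlock_of_omegaF hM
    rw [← omegaF_twistIrr p m hm χ]
    exact omegaF_pRegInd_of_mem_principalBlock hM _ h
  · intro h
    apply mem_principalBlock_of_omegaF hM
    rw [omegaF_twistIrr p m hm χ]
    exact omegaF_pRegInd_of_mem_principalBlock hM _ h

/-- sums over the principal block are invariant under Galois twists -/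
theorem sum_principalBlock_twist {p : ℕ} [Fact p.Prime] (hM : IsPModular p M)
    [Fintype (IrrCharacter G)] (m : ℕ) (hm : m.Coprime (Nat.card G))
    (F : IrrCharacter G → ℂ) :
    ∑ χ : IrrCharacter G, (if χ ∈ principalBlock M G then F (twistIrr m hm χ) else 0) =
      ∑ χ : IrrCharacter G, (if χ ∈ principalBlock M G then F χ else 0) := by
  have hbij : Function.Bijective (twistIrr (G := G) m hm) :=
    Finite.injective_iff_bijective.mp (twistIrr_injective m hm)
  rw [← Equiv.sum_comp (Equiv.ofBijective _ hbij)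
    (fun χ => if χ ∈ principalBlock M G then F χ else 0)]
  refine Finset.sum_congr rfl fun χ _ => ?_
  show _ = if twistIrr m hm χ ∈ principalBlock M G then F (twistIrr m hm χ) else 0
  by_cases h : χ ∈ principalBlock M G
  · rw [if_pos h, if_pos ((twistIrr_mem_principalBlock_iff hM m hm χ).mpr h)]
  · rw [if_neg h, if_neg (fun h' => h ((twistIrr_mem_principalBlock_iff hM m hm χ).mp h'))]

theorem irr_mem_cycK (χ : IrrCharacter G) (g : G) : (χ : G → ℂ) g ∈ cycK (Nat.card G) := by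
  obtain ⟨n, ρ, _, h⟩ := χ.2
  rw [← h]
  exact character_mem_cycK ρ g

theorem embedding_irr (σ : cycK (Nat.card G) →ₐ[ℚ] ℂ) (m : ℕ)
    (hσ : ∀ μ : cycK (Nat.card G), (μ : ℂ) ^ Nat.card G = 1 → σ μ = (μ : ℂ) ^ m)
    (χ : IrrCharacter G) (g : G) :
    σ ⟨(χ : G → ℂ) g, irr_mem_cycK χ g⟩ = (χ : G → ℂ) (g ^ m) := by
  obtain ⟨n, ρ, _, h⟩ := χ.2
  have h1 : (⟨(χ : G → ℂ) g, irr_mem_cycK χ g⟩ : cycK (Nat.card G)) = charK ρ g := by
    apply Subtype.ext
    show (χ : G → ℂ) g = ρ.character g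
    rw [h]
  rw [h1, embedding_charK ρ σ m hσ g, h]

/-- `λ(G, x)` as a complex number is a rational integer -/
theorem exists_int_sum_principalBlock {p : ℕ} [Fact p.Prime] (hM : IsPModular p M)
    [Fintype (IrrCharacter G)] (x : G) :
    ∃ z : ℤ, ∑ χ : IrrCharacter G, (if χ ∈ principalBlock M G then
      (χ : G → ℂ) x * conj ((χ : G → ℂ) x) else 0) = (z : ℂ) := by
  have hN : 0 < Nat.card G := Nat.card_pos
  -- rewrite with inverses
  have hinv : ∀ χ : IrrCharacter G, conj ((χ : G → ℂ) x) = (χ : G → ℂ) x⁻¹ :=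
    fun χ => (irr_inv_eq_conj χ x).symm
  set Λ : ℂ := ∑ χ : IrrCharacter G, (if χ ∈ principalBlock M G then
      (χ : G → ℂ) x * conj ((χ : G → ℂ) x) else 0) with hΛ
  -- integrality
  have hint : IsIntegral ℤ Λ := by
    apply IsIntegral.sum
    intro χ _
    split_ifs
    · apply IsIntegral.mul (Helper4.isIntegral_of_isIrrCharacter χ.2 x)
      rw [hinv]
      exact Helper4.isIntegral_of_isIrrCharacter χ.2 x⁻¹
    · exact isIntegral_zero
  -- the element of the cyclotomic field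
  let ΛK : cycK (Nat.card G) := ∑ χ : IrrCharacter G, (if χ ∈ principalBlock M G then
      (⟨(χ : G → ℂ) x, irr_mem_cycK χ x⟩ : cycK (Nat.card G)) *
        ⟨(χ : G → ℂ) x⁻¹, irr_mem_cycK χ x⁻¹⟩ else 0)
  have hΛK : ((ΛK : cycK (Nat.card G)) : ℂ) = Λ := by
    show ((∑ χ : IrrCharacter G, (if χ ∈ principalBlock M G then
      (⟨(χ : G → ℂ) x, irr_mem_cycK χ x⟩ : cycK (Nat.card G)) *
        ⟨(χ : G → ℂ) x⁻¹, irr_mem_cycK χ x⁻¹⟩ else 0) : cycK (Nat.card G)) : ℂ) = Λ
    rw [hΛ]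
    push_cast
    refine Finset.sum_congr rfl fun χ _ => ?_
    split_ifs
    · rw [hinv]
      rfl
    · rfl
  have hfix : ∀ σ : cycK (Nat.card G) →ₐ[ℚ] ℂ, σ ΛK = ((ΛK : cycK (Nat.card G)) : ℂ) := by
    intro σ
    obtain ⟨m, hm, hσ⟩ := embedding_pow (Nat.card G) hN σ
    rw [hΛK, hΛ]
    show σ (∑ χ : IrrCharacter G, (if χ ∈ principalBlock M G then
      (⟨(χ : G → ℂ) x, irr_mem_cycK χ x⟩ : cycK (Nat.card G)) *
        ⟨(χ : G → ℂ) x⁻¹, irr_mem_cycK χ x⁻¹⟩ else 0)) = _
    rw [map_sum]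
    rw [← sum_principalBlock_twist hM m hm
      (fun χ => (χ : G → ℂ) x * conj ((χ : G → ℂ) x))]
    refine Finset.sum_congr rfl fun χ _ => ?_
    by_cases h : χ ∈ principalBlock M G
    · rw [if_pos h, if_pos h, map_mul, embedding_irr σ m hσ χ x, embedding_irr σ m hσ χ x⁻¹,
        hinv, twistIrr_apply, twistIrr_apply, inv_pow]
    · rw [if_neg h, if_neg h, map_zero]
  obtain ⟨q, hq⟩ := rational_of_fixed (Nat.card G) hN ΛK hfix
  rw [hΛK] at hq
  -- a rational algebraic integer is an integer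
  have hqint : IsIntegral ℤ q := by
    have h1 : IsIntegral ℤ (algebraMap ℚ ℂ q) := by
      have : algebraMap ℚ ℂ q = Λ := by rw [hq]; rfl
      rw [this]
      exact hint
    exact (isIntegral_algebraMap_iff (algebraMap ℚ ℂ).injective).mp h1
  obtain ⟨z, hz⟩ := IsIntegrallyClosed.isIntegral_iff.mp hqint
  refine ⟨z, ?_⟩
  rw [hq, ← hz]
  simp

end Twist

end Cfsg.Agent.Lib.Helper28
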