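import Mathlib
import Cfsg.Agent.Lib.Helper28.PrimeCoreC
import Cfsg.Agent.Lib.Helper28.BlockCount
import Cfsg.Agent.Lib.Helper28.RobinsonE

set_option autoImplicit false

/-!
# `λ(G, x)`, the sum of `|χ(x)|²` over the principal block (helper28)
-/

namespace Cfsg.Agent.Lib.Helper28

open Cfsg Cfsg.Agent.Lib.Helper4 Cfsg.Agent.Lib.Helper26
open scoped ComplexConjugate Classical

section Lambda

variable {G : Type*} [Group G] [Fintype G] {M : Ideal AlgInt}

theorem finsum_mem_eq_sum_ite' {ι α : Type*} [Fintype ι] [AddCommMonoid α] (B : Set ι)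
    (f : ι → α) : ∑ᶠ i ∈ B, f i = ∑ i, if i ∈ B then f i else 0 := by
  rw [finsum_mem_def, finsum_eq_sum_of_fintype]
  refine Finset.sum_congr rfl fun i _ => ?_
  rw [Set.indicator_apply]

/-- `λ(G, x)` is a positive integer -/
theorem lambda_pos_nat {p : ℕ} [Fact p.Prime] (hM : IsPModular p M) (x : G) :
    ∃ n : ℕ, 0 < n ∧ ∑ᶠ χ ∈ principalBlock M G, Complex.normSq ((χ : G → ℂ) x) = n := by
  have : Fintype (IrrCharacter G) := Fintype.ofFinite _
  have hMtop : M ≠ ⊤ := hM.2.1.ne_top
  obtain ⟨z, hz⟩ := exists_int_sum_principalBlock hM x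
  rw [finsum_mem_eq_sum_ite']
  set Λ : ℝ := ∑ χ : IrrCharacter G,
    (if χ ∈ principalBlock M G then Complex.normSq ((χ : G → ℂ) x) else 0) with hΛ
  have hcast : ((Λ : ℝ) : ℂ) = (z : ℂ) := by
    rw [← hz, hΛ]
    push_cast
    refine Finset.sum_congr rfl fun χ _ => ?_
    split_ifs
    · rw [Complex.mul_conj]
    · rfl
  have hΛz : Λ = (z : ℝ) := by
    have : ((Λ : ℝ) : ℂ) = (((z : ℝ)) : ℂ) := by rw [hcast]; simp
    exact Complex.ofReal_injective this
  have hge : (1 : ℝ) ≤ Λ := by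
    have h1 : (if trivIrr G ∈ principalBlock M G then
        Complex.normSq ((trivIrr G : G → ℂ) x) else 0) ≤ Λ := by
      rw [hΛ]
      apply Finset.single_le_sum (f := fun χ : IrrCharacter G =>
        (if χ ∈ principalBlock M G then Complex.normSq ((χ : G → ℂ) x) else 0))
      · intro χ _
        show (0 : ℝ) ≤ if χ ∈ principalBlock M G then Complex.normSq ((χ : G → ℂ) x) else 0
        split_ifs
        · exact Complex.normSq_nonneg _
        · exact le_refl _
      · exact Finset.mem_univ _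
    rw [if_pos (trivIrr_mem_principalBlock hMtop)] at h1
    have h2 : Complex.normSq ((trivIrr G : G → ℂ) x) = 1 := by
      show Complex.normSq (1 : ℂ) = 1
      exact Complex.normSq_one
    rwa [h2] at h1
  have hz1 : (1 : ℤ) ≤ z := by
    rw [hΛz] at hge
    exact_mod_cast hge
  refine ⟨z.toNat, by omega, ?_⟩
  rw [hΛz]
  have : ((z.toNat : ℤ)) = z := Int.toNat_of_nonneg (by omega)
  have h3 : ((z.toNat : ℕ) : ℝ) = ((z.toNat : ℤ) : ℝ) := by push_cast; rfl
  rw [h3, this]

/-- `λ(G, x) = λ(G ⧸ H, x̄)` for a normal `p'`-subgroup `H` -/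
theorem lambda_quot {p : ℕ} [Fact p.Prime] (hM : IsPModular p M)
    (H : Subgroup G) [H.Normal] (hH : (Nat.card H).Coprime p) (x : G) :
    ∑ᶠ χ ∈ principalBlock M G, Complex.normSq ((χ : G → ℂ) x) =
      ∑ᶠ ψ ∈ principalBlock M (G ⧸ H),
        Complex.normSq ((ψ : G ⧸ H → ℂ) (QuotientGroup.mk x)) := by
  have : Fintype (G ⧸ H) := Fintype.ofFinite _
  exact finsum_principalBlock_quot hM H hH (fun z => Complex.normSq z) x

/-- `λ(G, x) ≤ |C_G(x)|` -/
theorem lambda_le_card_centralizer (x : G) :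
    ∑ᶠ χ ∈ principalBlock M G, Complex.normSq ((χ : G → ℂ) x) ≤
      (Nat.card ↥(Subgroup.centralizer ({x} : Set G)) : ℝ) := by
  have : Fintype (IrrCharacter G) := Fintype.ofFinite _
  rw [finsum_mem_eq_sum_ite']
  have hcol := column_orthogonality (G := G) x x
  rw [if_pos (IsConj.refl x)] at hcol
  have h1 : ∑ χ : IrrCharacter G, Complex.normSq ((χ : G → ℂ) x) =
      (Nat.card ↥(Subgroup.centralizer ({x} : Set G)) : ℝ) := by
    apply Complex.ofReal_injective
    push_cast
    rw [← hcol]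
    refine Finset.sum_congr rfl fun χ _ => ?_
    rw [Complex.mul_conj]
  rw [← h1]
  apply Finset.sum_le_sum
  intro χ _
  split_ifs
  · exact le_refl _
  · exact Complex.normSq_nonneg _

/-- the sum of the squares of the degrees, in `ℕ` -/
theorem sum_sq_charDegree [Fintype (IrrCharacter G)] :
    ∑ χ : IrrCharacter G, charDegree (χ : G → ℂ) ^ 2 = Nat.card G := by
  have h := sum_sq_degree (G := G)
  have h2 : ((∑ χ : IrrCharacter G, charDegree (χ : G → ℂ) ^ 2 : ℕ) : ℂ) = (Nat.card G : ℂ) := by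
    rw [← h]
    push_cast
    refine Finset.sum_congr rfl fun χ _ => ?_
    rw [(irr_degree_nat χ.2).2.1]
  exact_mod_cast h2

/-- the sum of the squares of the degrees over the principal block is `|G|` iff there is only
one block -/
theorem sum_sq_principalBlock_eq_card_iff {p : ℕ} [Fact p.Prime] (hM : IsPModular p M) :
    (∑ᶠ χ ∈ principalBlock M G, charDegree (χ : G → ℂ) ^ 2) = Nat.card G ↔
      ∀ B : Set (IrrCharacter G), IsPBlock M B → B = principalBlock M G := by
  have : Fintype (IrrCharacter G) := Fintype.ofFinite _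
  have hprime : M.IsPrime := hM.2.1.isPrime
  have hMtop : M ≠ ⊤ := hM.2.1.ne_top
  have hB0 : IsPBlock M (principalBlock M G) := Helper28.isPBlock_principalBlock
  rw [finsum_mem_eq_sum_ite', ← sum_sq_charDegree (G := G)]
  constructor
  · intro hsum B hB
    obtain ⟨χ, hχ⟩ := Helper28.block_nonempty hB
    have hall : ∀ ψ : IrrCharacter G, ψ ∈ principalBlock M G := by
      by_contra hcon
      push_neg at hcon
      obtain ⟨ψ₀, hψ₀⟩ := hcon
      have hlt : ∑ χ : IrrCharacter G,
          (if χ ∈ principalBlock M G then charDegree (χ : G → ℂ) ^ 2 else 0) <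
          ∑ χ : IrrCharacter G, charDegree (χ : G → ℂ) ^ 2 := by
        apply Finset.sum_lt_sum
        · intro χ _
          split_ifs
          · exact le_refl _
          · exact Nat.zero_le _
        · refine ⟨ψ₀, Finset.mem_univ _, ?_⟩
          rw [if_neg hψ₀]
          have := (irr_degree_nat ψ₀.2).1
          positivity
      exact absurd hsum hlt.ne
    exact block_eq_of_mem hB hB0 hχ (hall χ)
  · intro hall
    refine Finset.sum_congr rfl fun χ _ => ?_
    have h1 : blockOf M (χ : G → ℂ) = principalBlock M G := hall _ ⟨χ, rfl⟩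
    have h2 : χ ∈ principalBlock M G := by
      rw [← h1]
      exact self_mem_blockOf hMtop χ
    rw [if_pos h2]

/-- **S4735**, for a normal `p'`-subgroup `H` -/
theorem principal_norm_square {p : ℕ} [Fact p.Prime] (hM : IsPModular p M)
    (H : Subgroup G) [H.Normal] (hH : (Nat.card H).Coprime p) (x : G) :
    (∃ n : ℕ, 0 < n ∧ ∑ᶠ χ ∈ principalBlock M G, Complex.normSq ((χ : G → ℂ) x) = n) ∧
    ∑ᶠ χ ∈ principalBlock M G, Complex.normSq ((χ : G → ℂ) x) =
      ∑ᶠ ψ ∈ principalBlock M (G ⧸ H),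
        Complex.normSq ((ψ : G ⧸ H → ℂ) (QuotientGroup.mk x)) ∧
    ∑ᶠ χ ∈ principalBlock M G, Complex.normSq ((χ : G → ℂ) x) ≤
      (Nat.card ↥(Subgroup.centralizer ({(QuotientGroup.mk x : G ⧸ H)} : Set (G ⧸ H))) : ℝ) ∧
    ((∑ᶠ χ ∈ principalBlock M G, charDegree (χ : G → ℂ) ^ 2) = H.index ↔
      ∀ B : Set (IrrCharacter (G ⧸ H)), IsPBlock M B → B = principalBlock M (G ⧸ H)) := by
  have : Fintype (G ⧸ H) := Fintype.ofFinite _
  refine ⟨lambda_pos_nat hM x, lambda_quot hM H hH x, ?_, ?_⟩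
  · rw [lambda_quot hM H hH x]
    exact lambda_le_card_centralizer _
  · have h1 : (∑ᶠ χ ∈ principalBlock M G, charDegree (χ : G → ℂ) ^ 2) =
        ∑ᶠ ψ ∈ principalBlock M (G ⧸ H), charDegree (ψ : G ⧸ H → ℂ) ^ 2 :=
      finsum_principalBlock_quot hM H hH (fun z => ⌊z.re⌋₊ ^ 2) (1 : G)
    rw [h1, Subgroup.index_eq_card]
    exact sum_sq_principalBlock_eq_card_iff hM

end Lambda

end Cfsg.Agent.Lib.Helper28
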