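import Mathlib
import Cfsg.Agent.Lib.Helper28.SectionC
import Cfsg.Agent.Lib.Helper4.Deflate

set_option autoImplicit false

/-!
# The principal block on a `p`-section (helper28)
-/

namespace Cfsg.Agent.Lib.Helper28

open Cfsg Cfsg.Agent.Lib.Helper4
open scoped ComplexConjugate Classical

section Principal

variable {G : Type*} [Group G] [Fintype G] {M : Ideal AlgInt}

/-- the principal block of `C_G(u)` induces the principal block of `G` -/
theorem principal_induced_centralizer {p : ℕ} [Fact p.Prime] (hM : IsPModular p M) (u : G)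
    (hu : ∃ k : ℕ, orderOf u = p ^ k) [Fintype (Subgroup.centralizer ({u} : Set G))] :
    IsInducedBlock M (Subgroup.centralizer ({u} : Set G))
      (principalBlock M (Subgroup.centralizer ({u} : Set G))) (principalBlock M G) := by
  obtain ⟨hPH, hCH, hHN⟩ := zpowers_centralizer_setup u
  have hP : IsPGroup p (Subgroup.zpowers u) := by
    obtain ⟨k, hk⟩ := hu
    apply IsPGroup.of_card (n := k)
    rw [Nat.card_zpowers, hk]
  have hdef : InducedBlockDefined M (Subgroup.centralizer ({u} : Set G))
      (principalBlock M (Subgroup.centralizer ({u} : Set G))) :=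
    exists_induced_block hM (Subgroup.zpowers u) _ hP hPH hCH hHN isPBlock_principalBlock
  exact (third_main_theorem hM _ _ hdef).mpr rfl

/-- **norm formula for the principal block on the section of `u`** (complex form) -/
theorem principal_section_norm {p : ℕ} [Fact p.Prime] (hM : IsPModular p M) (u : G)
    (hu : ∃ k : ℕ, orderOf u = p ^ k) [Fintype (Subgroup.centralizer ({u} : Set G))]
    [Fintype (IrrCharacter G)] [Fintype (IrrCharacter (Subgroup.centralizer ({u} : Set G)))]
    (y : Subgroup.centralizer ({u} : Set G)) (hy : ¬ p ∣ orderOf y) :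
    ∑ χ : IrrCharacter G, (if χ ∈ principalBlock M G then
        (χ : G → ℂ) (u * (y : G)) * conj ((χ : G → ℂ) (u * (y : G))) else 0) =
      ∑ ψ : IrrCharacter (Subgroup.centralizer ({u} : Set G)),
        (if ψ ∈ principalBlock M (Subgroup.centralizer ({u} : Set G)) then
          (ψ : Subgroup.centralizer ({u} : Set G) → ℂ) y *
            conj ((ψ : Subgroup.centralizer ({u} : Set G) → ℂ) y) else 0) := by
  have hC : ∀ g : G, g ∈ Subgroup.centralizer ({u} : Set G) ↔ g * u = u * g := by
    intro g
    rw [Subgroup.mem_centralizer_iff]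
    constructor
    · intro h; exact (h u rfl).symm
    · intro h w hw
      rw [Set.mem_singleton_iff] at hw
      rw [hw, h]
  have hind := principal_induced_centralizer hM u hu
  have h1 := section_norm_formula hM u hu (Subgroup.centralizer ({u} : Set G)) hC
    (isPBlock_principalBlock (M := M) (G := Subgroup.centralizer ({u} : Set G))) y
  simp only [pRegularPart_of_not_dvd _ hy] at h1
  rw [← h1]
  refine Finset.sum_congr rfl fun χ _ => ?_
  by_cases hχ : χ ∈ principalBlock M G
  · rw [if_pos hχ]
    have h2 : blockPart (principalBlock M (Subgroup.centralizer ({u} : Set G)))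
        (shiftRes u (Subgroup.centralizer ({u} : Set G)) (χ : G → ℂ)) y =
        (χ : G → ℂ) (u * (y : G)) := by
      rw [principal_section_formula hM u hu χ hχ y hy, blockPart_eq_sum_blockCoeff _ _
        (isClassFunction_shiftRes u _ hC (Helper4.isClassFunction_of_isIrrCharacter χ.2)) y]
      refine Finset.sum_congr rfl fun k _ => ?_
      show _ * (χ : G → ℂ) (u * ((k * y : Subgroup.centralizer ({u} : Set G)) : G)) =
        _ * (χ : G → ℂ) ((k : G) * (u * (y : G)))
      have hk := (hC k).mp k.2
      rw [Subgroup.coe_mul, ← mul_assoc, ← mul_assoc, hk]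
    rw [h2]
  · rw [if_neg hχ, section_blockPart_eq_zero hM u hu _ hC hind χ hχ y hy, zero_mul]

end Principal

section Quot

variable {H : Type*} [Group H] [Finite H]

/-- a `p`-regular element lies in every normal subgroup of `p`-power index -/
theorem mem_of_pRegular_of_index_pow {p : ℕ} (hp : p.Prime) (N : Subgroup H) [N.Normal]
    (hN : ∃ k : ℕ, N.index = p ^ k) (y : H) (hy : ¬ p ∣ orderOf y) : y ∈ N := by
  obtain ⟨k, hk⟩ := hN
  rw [← QuotientGroup.eq_one_iff]
  have h1 : ((y : H ⧸ N)) ^ orderOf y = 1 := by
    rw [← QuotientGroup.mk_pow, pow_orderOf_eq_one]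
    rfl
  have h2 : ((y : H ⧸ N)) ^ (p ^ k) = 1 := by
    rw [← hk, Subgroup.index_eq_card]
    exact pow_card_eq_one'
  have hcop : Nat.Coprime (orderOf y) (p ^ k) :=
    Nat.Coprime.pow_right k ((Nat.Prime.coprime_iff_not_dvd hp).mpr hy).symm
  have h3 := orderOf_dvd_of_pow_eq_one h1
  have h4 := orderOf_dvd_of_pow_eq_one h2
  have h5 : orderOf (y : H ⧸ N) = 1 := Nat.eq_one_of_dvd_coprimes hcop h3 h4
  exact orderOf_eq_one_iff.mp h5

end Quot

end Cfsg.Agent.Lib.Helper28
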