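import Mathlib
import Cfsg.Agent.Lib.Helper28.SectionD
import Cfsg.Agent.Lib.Helper28.SectionE

set_option autoImplicit false

/-!
# Columns of the principal block at `p`-elements (helper28)
-/

namespace Cfsg.Agent.Lib.Helper28

open Cfsg Cfsg.Agent.Lib.Helper4
open scoped ComplexConjugate Classical

section Columns

variable {G : Type*} [Group G] [Fintype G] {M : Ideal AlgInt}

theorem isPPart_self_of_pElement {p : ℕ} (hp : p.Prime) (v : G)
    (hv : ∃ k : ℕ, orderOf v = p ^ k) : IsPPart p v v := by
  refine ⟨1, mul_one v, Commute.one_right v, hv, ?_⟩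
  rw [orderOf_one]
  exact hp.one_lt.ne' ∘ Nat.dvd_one.mp

/-- the norm of the column of the principal block at a `p`-element -/
theorem principal_column_norm {p : ℕ} [Fact p.Prime] (hM : IsPModular p M) (v : G)
    (hv : ∃ k : ℕ, orderOf v = p ^ k) [Fintype (Subgroup.centralizer ({v} : Set G))]
    [Fintype (IrrCharacter G)] [Fintype (IrrCharacter (Subgroup.centralizer ({v} : Set G)))] :
    ∑ χ : IrrCharacter G, (if χ ∈ principalBlock M G then
        (χ : G → ℂ) v * conj ((χ : G → ℂ) v) else 0) =
      ∑ ψ : IrrCharacter (Subgroup.centralizer ({v} : Set G)),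
        (if ψ ∈ principalBlock M (Subgroup.centralizer ({v} : Set G)) then
          (ψ : Subgroup.centralizer ({v} : Set G) → ℂ) 1 *
            conj ((ψ : Subgroup.centralizer ({v} : Set G) → ℂ) 1) else 0) := by
  have hp : p.Prime := Fact.out
  have h1 := principal_section_norm hM v hv (1 : Subgroup.centralizer ({v} : Set G)) (by
    rw [orderOf_one]
    exact hp.one_lt.ne' ∘ Nat.dvd_one.mp)
  rw [Subgroup.coe_one, mul_one] at h1
  exact h1

/-- the columns of a block at two non-conjugate `p`-elements are orthogonal; for the principal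
block the norm is computed in the centralizer -/
theorem principal_column_orth {p : ℕ} [Fact p.Prime] (hM : IsPModular p M) (v v' : G)
    (hv : ∃ k : ℕ, orderOf v = p ^ k) (hv' : ∃ k : ℕ, orderOf v' = p ^ k)
    [Fintype (Subgroup.centralizer ({v} : Set G))]
    [Fintype (IrrCharacter G)] [Fintype (IrrCharacter (Subgroup.centralizer ({v} : Set G)))] :
    ∑ χ : IrrCharacter G, (if χ ∈ principalBlock M G then
        (χ : G → ℂ) v' * conj ((χ : G → ℂ) v) else 0) =
      if IsConj v v' then
        ∑ ψ : IrrCharacter (Subgroup.centralizer ({v} : Set G)),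
          (if ψ ∈ principalBlock M (Subgroup.centralizer ({v} : Set G)) then
            (ψ : Subgroup.centralizer ({v} : Set G) → ℂ) 1 *
              conj ((ψ : Subgroup.centralizer ({v} : Set G) → ℂ) 1) else 0)
      else 0 := by
  have hp : p.Prime := Fact.out
  by_cases hc : IsConj v v'
  · rw [if_pos hc, ← principal_column_norm hM v hv]
    obtain ⟨g, hg⟩ := isConj_iff.mp hc
    refine Finset.sum_congr rfl fun χ _ => ?_
    rw [← hg, Helper4.isClassFunction_of_isIrrCharacter χ.2 v g]
  · rw [if_neg hc]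
    have h1 := block_orthogonality hM v' v v' v (isPPart_self_of_pElement hp v' hv')
      (isPPart_self_of_pElement hp v hv) (fun h => hc h.symm)
      (isPBlock_principalBlock (M := M) (G := G))
    rw [finsum_mem_eq_sum_ite] at h1
    refine Eq.trans ?_ h1
    refine Finset.sum_congr rfl fun χ _ => ?_
    by_cases hχ : χ ∈ principalBlock M G
    · rw [if_pos hχ, if_pos hχ,
        Helper26.isCharacter_conj_eq_inv (Helper26.isCharacter_of_isIrrCharacter χ.2)]
    · rw [if_neg hχ, if_neg hχ]

/-- the sum of the squares of the degrees in a set of characters, as a complex number -/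
theorem sum_degree_sq_cast {H : Type*} [Group H] [Fintype H] [Fintype (IrrCharacter H)]
    (b : Set (IrrCharacter H)) :
    ∑ ψ : IrrCharacter H, (if ψ ∈ b then (ψ : H → ℂ) 1 * conj ((ψ : H → ℂ) 1) else 0) =
      (((∑ᶠ ψ ∈ b, ((charDegree (ψ : H → ℂ) : ℕ) : ℚ) ^ 2 : ℚ)) : ℂ) := by
  rw [finsum_mem_def, finsum_eq_sum_of_fintype]
  push_cast
  refine Finset.sum_congr rfl fun ψ _ => ?_
  rw [Set.indicator_apply]
  by_cases h : ψ ∈ b
  · rw [if_pos h, if_pos h]
    obtain ⟨-, hd, -⟩ := irr_degree_nat ψ.2
    rw [hd, Complex.conj_natCast]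
    push_cast
    ring
  · rw [if_neg h, if_neg h]
    simp

end Columns

section Conjugators

variable {G : Type*} [Group G]

/-- the number of elements of a subgroup `N` conjugating `v` to `v'` -/
theorem card_conjugators_subgroup (N : Subgroup G) [Fintype N] (v v' : G) :
    (∑ x : N, if (x : G) * v * (x : G)⁻¹ = v' then (1 : ℂ) else 0) =
      if ∃ n ∈ N, n * v * n⁻¹ = v' then
        (Nat.card ↥(N ⊓ Subgroup.centralizer ({v} : Set G)) : ℂ) else 0 := by
  by_cases h : ∃ n ∈ N, n * v * n⁻¹ = v'
  · rw [if_pos h]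
    obtain ⟨t0, ht0N, ht0⟩ := h
    have : Finite ↥(N ⊓ Subgroup.centralizer ({v} : Set G)) :=
      Finite.of_injective (fun c : ↥(N ⊓ Subgroup.centralizer ({v} : Set G)) =>
        (⟨(c : G), (Subgroup.mem_inf.mp c.2).1⟩ : N))
        (fun a b h => Subtype.ext (by
          have := congrArg (fun z : N => (z : G)) h
          exact this))
    have : Fintype ↥(N ⊓ Subgroup.centralizer ({v} : Set G)) := Fintype.ofFinite _
    rw [Nat.card_eq_fintype_card, ← Finset.card_univ, Finset.card_eq_sum_ones]
    push_cast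
    rw [← Finset.sum_filter]
    symm
    apply Finset.sum_bij (fun (c : ↥(N ⊓ Subgroup.centralizer ({v} : Set G))) _ =>
      (⟨t0 * (c : G), N.mul_mem ht0N (Subgroup.mem_inf.mp c.2).1⟩ : N))
    · intro c _
      rw [Finset.mem_filter]
      refine ⟨Finset.mem_univ _, ?_⟩
      have hc := (Subgroup.mem_inf.mp c.2).2
      rw [Subgroup.mem_centralizer_iff] at hc
      have hc1 : v * (c : G) = (c : G) * v := hc v rfl
      rw [← ht0]
      show t0 * (c : G) * v * (t0 * (c : G))⁻¹ = t0 * v * t0⁻¹
      calc t0 * (c : G) * v * (t0 * (c : G))⁻¹ = t0 * ((c : G) * v) * (c : G)⁻¹ * t0⁻¹ := by group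
        _ = t0 * (v * (c : G)) * (c : G)⁻¹ * t0⁻¹ := by rw [hc1]
        _ = t0 * v * t0⁻¹ := by group
    · intro c _ c' _ hcc
      have := congrArg Subtype.val hcc
      exact Subtype.ext (mul_left_cancel this)
    · intro t ht
      rw [Finset.mem_filter] at ht
      have ht1 := ht.2
      refine ⟨⟨t0⁻¹ * (t : G), Subgroup.mem_inf.mpr ⟨N.mul_mem (N.inv_mem ht0N) t.2, ?_⟩⟩,
        Finset.mem_univ _, ?_⟩
      · rw [Subgroup.mem_centralizer_iff]
        intro w hw
        rw [Set.mem_singleton_iff] at hw
        rw [hw]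
        have h2 : (t : G) * v * (t : G)⁻¹ = t0 * v * t0⁻¹ := ht1.trans ht0.symm
        have h3 : t0⁻¹ * (t : G) * v = v * (t0⁻¹ * (t : G)) := by
          calc t0⁻¹ * (t : G) * v = t0⁻¹ * ((t : G) * v * (t : G)⁻¹) * (t : G) := by group
            _ = t0⁻¹ * (t0 * v * t0⁻¹) * (t : G) := by rw [h2]
            _ = v * (t0⁻¹ * (t : G)) := by group
        exact h3.symm
      · apply Subtype.ext
        show t0 * (t0⁻¹ * (t : G)) = (t : G)
        group
    · intro c _
      rfl
  · rw [if_neg h]
    apply Finset.sum_eq_zero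
    intro t _
    rw [if_neg]
    intro ht
    exact h ⟨(t : G), t.2, ht⟩

theorem extendByZero_eq_sum (H : Subgroup G) [Fintype H] (η : H → ℂ) (g : G) :
    extendByZero H η g = ∑ v' : H, if (v' : G) = g then η v' else 0 := by
  unfold extendByZero
  by_cases hg : g ∈ H
  · have h1 : g = ((⟨g, hg⟩ : H) : G) := rfl
    rw [Finset.sum_eq_single (⟨g, hg⟩ : H)]
    · rw [if_pos rfl]
      conv_lhs => rw [h1]
      exact Subtype.val_injective.extend_apply η 0 _
    · intro b _ hb
      rw [if_neg]
      intro hbg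
      exact hb (Subtype.ext hbg)
    · intro h
      exact absurd (Finset.mem_univ _) h
  · rw [Function.extend_apply']
    · symm
      apply Finset.sum_eq_zero
      intro b _
      rw [if_neg]
      intro hbg
      exact hg (hbg ▸ b.2)
    · rintro ⟨b, hb⟩
      exact hg (hb ▸ b.2)

end Conjugators

end Cfsg.Agent.Lib.Helper28
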