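import Mathlib
import Cfsg.Agent.Lib.Helper28.SectionG
import Cfsg.Agent.Lib.Helper4.ClassMult

set_option autoImplicit false

/-!
# Tools for the columns of the principal `2`-block at an involution (helper28)
-/

namespace Cfsg.Agent.Lib.Helper28

open Cfsg Cfsg.Agent.Lib.Helper4
open scoped ComplexConjugate Classical

section Pow

variable {G : Type*} [Group G]

/-- the `p`-part of `g` is a power of `g` -/
theorem isPPart_eq_pow {p : ℕ} (hp : p.Prime) {g x : G} (h : IsPPart p g x) :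
    ∃ n : ℕ, x = g ^ n := by
  obtain ⟨y, hxy, hcomm, ⟨k, hk⟩, hy⟩ := h
  obtain ⟨N, hN⟩ : ∃ N : ℕ, N = orderOf y := ⟨_, rfl⟩
  have hyN : y ^ N = 1 := by rw [hN, pow_orderOf_eq_one]
  have h1 : g ^ N = x ^ N := by rw [← hxy, hcomm.mul_pow, hyN, mul_one]
  by_cases hk0 : k = 0
  · refine ⟨0, ?_⟩
    rw [pow_zero, ← orderOf_eq_one_iff, hk, hk0, pow_zero]
  · have hq : 1 < p ^ k := Nat.one_lt_pow hk0 hp.one_lt
    have hcop : Nat.Coprime N (p ^ k) := by
      rw [hN]
      exact Nat.Coprime.pow_right k ((Nat.Prime.coprime_iff_not_dvd hp).mpr hy).symm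
    obtain ⟨m, -, hm⟩ := Nat.exists_mul_mod_eq_one_of_coprime hcop hq
    have hx1 : x ^ (p ^ k) = 1 := by rw [← hk, pow_orderOf_eq_one]
    refine ⟨N * m, ?_⟩
    rw [pow_mul, h1, ← pow_mul, pow_eq_pow_mod _ hx1, hm, pow_one]

end Pow

section RealLemma

/-- a sign-counting lemma: three weighted relations force at least two positive weights -/
theorem two_le_card_pos {ι : Type*} (s : Finset ι) (r x y : ι → ℝ)
    (hx : ∀ i ∈ s, 0 < x i) (h1 : ∑ i ∈ s, r i * x i = 0) (h2 : ∑ i ∈ s, r i * y i = 0)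
    (h3 : ∑ i ∈ s, r i * y i ^ 2 / x i = 0) (i₁ : ι) (hi₁ : i₁ ∈ s) (hr1 : r i₁ ≠ 0)
    (hy1 : y i₁ = x i₁) (hne : ∀ i ∈ s, i ≠ i₁ → y i ≠ x i) :
    2 ≤ (s.filter (fun i => 0 < r i)).card := by
  by_contra hcon
  push Not at hcon
  -- there is a positive weight
  have hpos : (s.filter (fun i => 0 < r i)).Nonempty := by
    rw [Finset.nonempty_iff_ne_empty]
    intro hempty
    have hall : ∀ i ∈ s, r i * x i ≤ 0 := by
      intro i hi
      have : ¬ 0 < r i := by
        intro hri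
        have : i ∈ s.filter (fun i => 0 < r i) := Finset.mem_filter.mpr ⟨hi, hri⟩
        rw [hempty] at this
        exact absurd this (Finset.notMem_empty _)
      exact mul_nonpos_of_nonpos_of_nonneg (not_lt.mp this) (hx i hi).le
    have := (Finset.sum_eq_zero_iff_of_nonpos hall).mp h1 i₁ hi₁
    rcases mul_eq_zero.mp this with h | h
    · exact hr1 h
    · exact (hx i₁ hi₁).ne' h
  have hcard : (s.filter (fun i => 0 < r i)).card = 1 := by
    have := Finset.card_pos.mpr hpos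
    omega
  obtain ⟨i₀, hi₀⟩ := Finset.card_eq_one.mp hcard
  have hi₀mem : i₀ ∈ s.filter (fun i => 0 < r i) := by rw [hi₀]; exact Finset.mem_singleton_self _
  rw [Finset.mem_filter] at hi₀mem
  obtain ⟨hi₀s, hri₀⟩ := hi₀mem
  have hother : ∀ i ∈ s, i ≠ i₀ → r i ≤ 0 := by
    intro i hi hne'
    by_contra hri
    push Not at hri
    have : i ∈ s.filter (fun i => 0 < r i) := Finset.mem_filter.mpr ⟨hi, hri⟩
    rw [hi₀, Finset.mem_singleton] at this
    exact hne' this
  -- the quadratic relation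
  obtain ⟨ρ, hρ⟩ : ∃ ρ : ℝ, ρ = y i₀ / x i₀ := ⟨_, rfl⟩
  have hquad : ∑ i ∈ s, r i * (y i - ρ * x i) ^ 2 / x i = 0 := by
    have hterm : ∀ i ∈ s, r i * (y i - ρ * x i) ^ 2 / x i =
        r i * y i ^ 2 / x i - 2 * ρ * (r i * y i) + ρ ^ 2 * (r i * x i) := by
      intro i hi
      have hxi : x i ≠ 0 := (hx i hi).ne'
      field_simp
      ring
    rw [Finset.sum_congr rfl hterm, Finset.sum_add_distrib, Finset.sum_sub_distrib,
      ← Finset.mul_sum, ← Finset.mul_sum, h1, h2, h3]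
    ring
  have hnonpos : ∀ i ∈ s, r i * (y i - ρ * x i) ^ 2 / x i ≤ 0 := by
    intro i hi
    by_cases hii : i = i₀
    · rw [hii, hρ]
      have hxi : x i₀ ≠ 0 := (hx i₀ hi₀s).ne'
      have : y i₀ - y i₀ / x i₀ * x i₀ = 0 := by field_simp; ring
      rw [this]
      simp
    · apply div_nonpos_of_nonpos_of_nonneg _ (hx i hi).le
      exact mul_nonpos_of_nonpos_of_nonneg (hother i hi hii) (sq_nonneg _)
  have hzero := (Finset.sum_eq_zero_iff_of_nonpos hnonpos).mp hquad
  -- consequences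
  have hkey : ∀ i ∈ s, r i ≠ 0 → y i = ρ * x i := by
    intro i hi hri
    have h0 := hzero i hi
    have hxi : x i ≠ 0 := (hx i hi).ne'
    rw [div_eq_zero_iff] at h0
    rcases h0 with h0 | h0
    · rcases mul_eq_zero.mp h0 with h0 | h0
      · exact absurd h0 hri
      · have := pow_eq_zero_iff (two_ne_zero) |>.mp h0
        linarith
    · exact absurd h0 hxi
  have hρ1 : ρ = 1 := by
    have := hkey i₁ hi₁ hr1
    rw [hy1] at this
    have hxi : x i₁ ≠ 0 := (hx i₁ hi₁).ne'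
    have h' : x i₁ * 1 = x i₁ * ρ := by rw [mul_one, mul_comm]; exact this
    exact (mul_left_cancel₀ hxi h').symm
  have hall0 : ∀ i ∈ s, i ≠ i₁ → r i = 0 := by
    intro i hi hii
    by_contra hri
    have := hkey i hi hri
    rw [hρ1, one_mul] at this
    exact hne i hi hii this
  have hsum : ∑ i ∈ s, r i * x i = r i₁ * x i₁ := by
    rw [Finset.sum_eq_single i₁]
    · intro i hi hii
      rw [hall0 i hi hii, zero_mul]
    · intro h; exact absurd hi₁ h
  rw [hsum] at h1
  rcases mul_eq_zero.mp h1 with h | h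
  · exact hr1 h
  · exact (hx i₁ hi₁).ne' h

theorem two_le_card_neg {ι : Type*} (s : Finset ι) (r x y : ι → ℝ)
    (hx : ∀ i ∈ s, 0 < x i) (h1 : ∑ i ∈ s, r i * x i = 0) (h2 : ∑ i ∈ s, r i * y i = 0)
    (h3 : ∑ i ∈ s, r i * y i ^ 2 / x i = 0) (i₁ : ι) (hi₁ : i₁ ∈ s) (hr1 : r i₁ ≠ 0)
    (hy1 : y i₁ = x i₁) (hne : ∀ i ∈ s, i ≠ i₁ → y i ≠ x i) :
    2 ≤ (s.filter (fun i => r i < 0)).card := by
  have h := two_le_card_pos s (fun i => - r i) x y hx
    (by simp only [neg_mul, Finset.sum_neg_distrib, h1, neg_zero])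
    (by simp only [neg_mul, Finset.sum_neg_distrib, h2, neg_zero])
    (by simp only [neg_mul, neg_div, Finset.sum_neg_distrib, h3, neg_zero])
    i₁ hi₁ (neg_ne_zero.mpr hr1) hy1 hne
  have : s.filter (fun i => 0 < - r i) = s.filter (fun i => r i < 0) := by
    apply Finset.filter_congr
    intro i _
    exact neg_pos
  rwa [this] at h

end RealLemma

section Kernel

variable {G : Type*} [Group G] [Fintype G]

/-- the kernel of an irreducible character, as a normal subgroup -/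
theorem exists_kernel_subgroup (χ : IrrCharacter G) :
    ∃ K : Subgroup G, K.Normal ∧ ∀ g : G, g ∈ K ↔ (χ : G → ℂ) g = (χ : G → ℂ) 1 := by
  obtain ⟨n, ρ, hρ, hχ⟩ := χ.2
  refine ⟨MonoidHom.ker ρ, MonoidHom.normal_ker ρ, ?_⟩
  intro g
  rw [← hχ, Helper4.character_eq_one_iff_mem_ker]

/-- an irreducible character that is constant is the trivial character -/
theorem irr_eq_one_of_const (χ : IrrCharacter G)
    (h : ∀ g : G, (χ : G → ℂ) g = (χ : G → ℂ) 1) : (χ : G → ℂ) = fun _ => 1 := by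
  have h1 := Helper4.classInner_irr χ (trivIrr G)
  by_cases hχ : χ = trivIrr G
  · rw [hχ]; rfl
  · rw [if_neg hχ] at h1
    exfalso
    unfold classInner at h1
    have hne : (Nat.card G : ℂ) ≠ 0 := by exact_mod_cast Nat.card_pos.ne'
    have h2 : ∑ g : G, (χ : G → ℂ) g * conj (((trivIrr G : IrrCharacter G) : G → ℂ) g) =
        (Nat.card G : ℂ) * (χ : G → ℂ) 1 := by
      have : ∀ g : G, (χ : G → ℂ) g * conj (((trivIrr G : IrrCharacter G) : G → ℂ) g) =
          (χ : G → ℂ) 1 := by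
        intro g
        rw [h g]
        show (χ : G → ℂ) 1 * conj (1 : ℂ) = _
        rw [map_one, mul_one]
      rw [Finset.sum_congr rfl fun g _ => this g, Finset.sum_const, Finset.card_univ,
        nsmul_eq_mul, Nat.card_eq_fintype_card]
    rw [h2, ← mul_assoc, inv_mul_cancel₀ hne, one_mul] at h1
    obtain ⟨hd0, hd, -⟩ := irr_degree_nat χ.2
    rw [hd] at h1
    exact hd0 (by exact_mod_cast h1)

/-- class multiplication: `χ(t)² / χ(1)` as an average -/
theorem char_sq_div_degree (χ : IrrCharacter G) (t : G) :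
    (χ : G → ℂ) t ^ 2 / (χ : G → ℂ) 1 =
      (Nat.card G : ℂ)⁻¹ * ∑ k : G, (χ : G → ℂ) (t * (k * t * k⁻¹)) := by
  obtain ⟨n, ρ, hρ, hχ⟩ := χ.2
  have hne : (Nat.card G : ℂ) ≠ 0 := by exact_mod_cast Nat.card_pos.ne'
  rw [← hχ, Helper4.sum_char_mul_conj ρ hρ t t, Representation.char_one]
  rw [mul_div_assoc, mul_assoc, ← mul_assoc (Nat.card G : ℂ)⁻¹, inv_mul_cancel₀ hne, one_mul, sq,
    mul_div_assoc]

end Kernel

end Cfsg.Agent.Lib.Helper28
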