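import Mathlib
import Cfsg.Prelude.Def_Characters
import Cfsg.Agent.Lib.Helper4.CharOrtho
import Cfsg.Agent.Lib.Helper4.RepEigen

set_option autoImplicit false

/-!
# The dual of an irreducible representation is irreducible; complex conjugate characters
-/

namespace Cfsg.Agent.Lib.Helper28

open scoped ComplexConjugate

section Dual

variable {G : Type*} [Group G] {k : Type*} [Field k]
variable {V : Type*} [AddCommGroup V] [Module k V] [FiniteDimensional k V]

/-- the coannihilator of a subrepresentation of the dual is a subrepresentation -/
def dualCoannSubrep (ρ : Representation k G V) (σ : Subrepresentation ρ.dual) :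
    Subrepresentation ρ where
  toSubmodule := σ.toSubmodule.dualCoannihilator
  apply_mem_toSubmodule := by
    intro g v hv
    rw [Submodule.mem_dualCoannihilator] at hv ⊢
    intro f hf
    have h1 : ρ.dual g⁻¹ f ∈ σ.toSubmodule := σ.apply_mem_toSubmodule g⁻¹ hf
    have h2 := hv _ h1
    rw [Representation.dual_apply, inv_inv, Module.Dual.transpose_apply] at h2
    exact h2

/-- the dual of an irreducible finite-dimensional representation is irreducible -/
theorem isIrreducible_dual (ρ : Representation k G V) (h : ρ.IsIrreducible) :
    ρ.dual.IsIrreducible := by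
  have := h
  have hntV : Nontrivial V := by
    by_contra hnt
    rw [not_nontrivial_iff_subsingleton] at hnt
    obtain ⟨a, b, hab⟩ := (inferInstance : Nontrivial (Subrepresentation ρ))
    apply hab
    ext x
    have : x = 0 := Subsingleton.elim _ _
    subst this
    simp only [Submodule.zero_mem]
  have hntD : Nontrivial (Module.Dual k V) := by
    apply Module.nontrivial_of_finrank_pos (R := k)
    rw [Subspace.dual_finrank_eq]
    exact Module.finrank_pos
  have hbt : (⊥ : Subrepresentation ρ.dual) ≠ ⊤ := by
    intro h1
    have h2 : (⊥ : Submodule k (Module.Dual k V)) = ⊤ :=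
      congrArg Subrepresentation.toSubmodule h1
    exact bot_ne_top h2
  refine { exists_pair_ne := ⟨⊥, ⊤, hbt⟩, eq_bot_or_eq_top := fun σ => ?_ }
  have hσ : σ.toSubmodule.dualCoannihilator.dualAnnihilator = σ.toSubmodule :=
    Subspace.dualCoannihilator_dualAnnihilator_eq
  rcases eq_bot_or_eq_top (dualCoannSubrep ρ σ) with h1 | h1
  · right
    apply Subrepresentation.toSubmodule_injective
    have h2 : σ.toSubmodule.dualCoannihilator = ⊥ := congrArg Subrepresentation.toSubmodule h1
    rw [← hσ, h2]
    exact Submodule.dualAnnihilator_bot
  · left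
    apply Subrepresentation.toSubmodule_injective
    have h2 : σ.toSubmodule.dualCoannihilator = ⊤ := congrArg Subrepresentation.toSubmodule h1
    rw [← hσ, h2]
    exact Submodule.dualAnnihilator_top

end Dual

section Conj

variable {G : Type*} [Group G] [Finite G]

/-- the complex conjugate of an irreducible character is an irreducible character -/
theorem isIrrCharacter_conj {χ : G → ℂ} (h : Cfsg.IsIrrCharacter G χ) :
    Cfsg.IsIrrCharacter G (fun g => conj (χ g)) := by
  obtain ⟨n, ρ, hρ, rfl⟩ := h
  have h1 := Cfsg.Agent.Lib.Helper4.isIrrCharacter_of_irreducible ρ.dual (isIrreducible_dual ρ hρ)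
  have h2 : ρ.dual.character = fun g => conj (ρ.character g) := by
    funext g
    rw [Representation.char_dual, Cfsg.Agent.Lib.Helper4.character_inv]
  rwa [h2] at h1

/-- the complex conjugate of a character is a character -/
theorem isCharacter_conj {χ : G → ℂ} (h : Cfsg.IsCharacter G χ) :
    Cfsg.IsCharacter G (fun g => conj (χ g)) := by
  obtain ⟨n, ρ, rfl⟩ := h
  have h1 := Cfsg.Agent.Lib.Helper4.isCharacter_of_rep ρ.dual
  have h2 : ρ.dual.character = fun g => conj (ρ.character g) := by
    funext g
    rw [Representation.char_dual, Cfsg.Agent.Lib.Helper4.character_inv]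
  rwa [h2] at h1

/-- complex conjugation as an involution on the irreducible characters -/
noncomputable def irrConj (χ : Cfsg.IrrCharacter G) : Cfsg.IrrCharacter G :=
  ⟨fun g => conj ((χ : G → ℂ) g), isIrrCharacter_conj χ.2⟩

@[simp] theorem irrConj_apply (χ : Cfsg.IrrCharacter G) (g : G) :
    (irrConj χ : G → ℂ) g = conj ((χ : G → ℂ) g) := rfl

@[simp] theorem irrConj_irrConj (χ : Cfsg.IrrCharacter G) : irrConj (irrConj χ) = χ := by
  apply Subtype.ext
  funext g
  simp

end Conj

end Cfsg.Agent.Lib.Helper28
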