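import Mathlib
import Cfsg.Prelude.Def_Blocks
import Cfsg.Agent.Lib.Helper28.BrauerS
import Cfsg.Agent.Lib.Helper26.IndChar
import Cfsg.Agent.Lib.Helper26.CharInt
import Cfsg.Agent.Lib.Helper4.PrincipalNormal

set_option autoImplicit false

/-!
# A `p'`-degree character of the principal block over an extendible character (helper28)
-/

namespace Cfsg.Agent.Lib.Helper28

open Cfsg Cfsg.Agent.Lib.Helper4 Cfsg.Agent.Lib.Helper26
open scoped ComplexConjugate Classical

section

variable {G : Type*} [Group G] [Fintype G] {M : Ideal AlgInt}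

omit [Fintype G] in
theorem sum_eq_sum_inclusion {N H : Subgroup G} [Fintype N] [Fintype H] (hNH : N ≤ H)
    (f : H → ℂ) (hf : ∀ h : H, (h : G) ∉ N → f h = 0) :
    ∑ h : H, f h = ∑ n : N, f (Subgroup.inclusion hNH n) := by
  rw [← Finset.sum_image (f := f) (s := Finset.univ) (g := Subgroup.inclusion hNH)
    (fun a _ b _ h => Subgroup.inclusion_injective hNH h)]
  symm
  apply Finset.sum_subset (Finset.subset_univ _)
  intro h _ hh
  apply hf
  intro hmem
  apply hh
  rw [Finset.mem_image]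
  exact ⟨⟨(h : G), hmem⟩, Finset.mem_univ _, Subtype.ext rfl⟩

theorem principal_over_of_pReg_le {p : ℕ} [Fact p.Prime] (hM : IsPModular p M)
    (N H : Subgroup G) [instN : Fintype N] [Fintype H] (hNH : N ≤ H)
    (hreg : ∀ h : H, ¬ p ∣ orderOf h → (h : G) ∈ N) (hidx : ¬ p ∣ H.index)
    (θ : IrrCharacter N) (hθ : θ ∈ principalBlock M N)
    (hdeg : ¬ p ∣ charDegree (θ : N → ℂ))
    (η : IrrCharacter H)
    (hη : ∀ n : N, (η : H → ℂ) (Subgroup.inclusion hNH n) = (θ : N → ℂ) n) :
    ∃ χ : IrrCharacter G, χ ∈ principalBlock M G ∧ ¬ p ∣ charDegree (χ : G → ℂ) ∧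
      classInner (fun n : N => (χ : G → ℂ) n) (θ : N → ℂ) ≠ 0 := by
  have hp : p.Prime := Fact.out
  have hprime : M.IsPrime := hM.2.1.isPrime
  have hMtop : M ≠ ⊤ := hM.2.1.ne_top
  have : Fintype (IrrCharacter G) := Fintype.ofFinite _
  have : Fintype (IrrCharacter H) := Fintype.ofFinite _
  have : Fintype (IrrCharacter N) := Fintype.ofFinite _
  -- step 2
  have h1 : (η : H → ℂ) 1 = (θ : N → ℂ) 1 := by
    have := hη 1
    rwa [map_one] at this
  have hsumH : ∑ h : H, pRegInd H p h * (η : H → ℂ) h =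
      ∑ n : N, pRegInd N p n * (θ : N → ℂ) n := by
    rw [sum_eq_sum_inclusion hNH (fun h => pRegInd H p h * (η : H → ℂ) h)]
    · refine Finset.sum_congr rfl fun n _ => ?_
      rw [hη]
      congr 1
      unfold pRegInd
      rw [orderOf_injective (Subgroup.inclusion hNH) (Subgroup.inclusion_injective hNH) n]
    · intro h hh
      unfold pRegInd
      rw [if_pos, zero_mul]
      by_contra hnd
      exact hh (hreg h hnd)
  have hωH : omegaF (η : H → ℂ) (pRegInd H p) = omegaF (θ : N → ℂ) (pRegInd N p) := by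
    unfold omegaF
    rw [hsumH, h1]
  have hunit : ¬ MemLocalIdeal M (omegaF (θ : N → ℂ) (pRegInd N p)) :=
    omegaF_pRegInd_of_mem_principalBlock hM θ hθ
  have hωring : MemLocalRing M (omegaF (θ : N → ℂ) (pRegInd N p)) :=
    Helper28.omegaF_memLocalRing θ.2 _ (isClassFunction_pRegInd p)
      (fun g => pRegInd_memLocalRing hMtop p g)
  -- step 3
  have hΨchar : IsCharacter G (indFun H (η : H → ℂ)) :=
    isCharacter_indFun H (isCharacter_of_isIrrCharacter η.2)
  have hΨcl : IsClassFunction G (indFun H (η : H → ℂ)) := isClassFunction_indFun H _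
  have hnat : ∀ χ : IrrCharacter G, ∃ n : ℕ,
      classInner (indFun H (η : H → ℂ)) (χ : G → ℂ) = n := fun χ =>
    classInner_isCharacter_nat hΨchar (isCharacter_of_isIrrCharacter χ.2)
  choose a ha using hnat
  have hexp := classFunction_expansion (indFun H (η : H → ℂ)) hΨcl
  have hΨval : ∀ g : G, indFun H (η : H → ℂ) g =
      ∑ χ : IrrCharacter G, (a χ : ℂ) * (χ : G → ℂ) g := by
    intro g
    have h2 := congrFun hexp g
    rw [Finset.sum_apply] at h2
    rw [h2]
    refine Finset.sum_congr rfl fun χ _ => ?_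
    rw [Pi.smul_apply, ha, smul_eq_mul]
  have hS1 : ∑ g : G, pRegInd G p g * indFun H (η : H → ℂ) g =
      ∑ χ : IrrCharacter G,
        (a χ : ℂ) * ((χ : G → ℂ) 1 * omegaF (χ : G → ℂ) (pRegInd G p)) := by
    simp only [hΨval, Finset.mul_sum]
    rw [Finset.sum_comm]
    refine Finset.sum_congr rfl fun χ _ => ?_
    unfold omegaF
    rw [mul_div_cancel₀ _ (irr_one_ne_zero χ.2), Finset.mul_sum]
    refine Finset.sum_congr rfl fun g _ => by ring
  have hS2 : ∑ g : G, pRegInd G p g * indFun H (η : H → ℂ) g =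
      (H.index : ℂ) * ((θ : N → ℂ) 1 * omegaF (θ : N → ℂ) (pRegInd N p)) := by
    have hfr := classInner_indFun_left' H (η : H → ℂ) (pRegInd G p) (isClassFunction_pRegInd p)
    unfold classInner at hfr
    have hconjG : ∀ g : G, conj (pRegInd G p g) = pRegInd G p g := by
      intro g
      unfold pRegInd
      split_ifs <;> simp
    have hG : (Nat.card G : ℂ) ≠ 0 := card_ne_zero_complex
    have hH : (Nat.card H : ℂ) ≠ 0 := card_ne_zero_complex
    have hl : ∑ g : G, indFun H (η : H → ℂ) g * conj (pRegInd G p g) =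
        ∑ g : G, pRegInd G p g * indFun H (η : H → ℂ) g := by
      refine Finset.sum_congr rfl fun g _ => ?_
      rw [hconjG, mul_comm]
    have hr : ∑ h : H, (η : H → ℂ) h * conj ((pRegInd G p ∘ H.subtype) h) =
        ∑ h : H, pRegInd H p h * (η : H → ℂ) h := by
      refine Finset.sum_congr rfl fun h _ => ?_
      have : (pRegInd G p ∘ H.subtype) h = pRegInd H p h := by
        show pRegInd G p (h : G) = pRegInd H p h
        unfold pRegInd
        rw [Subgroup.orderOf_coe]
      rw [this, mul_comm]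
      congr 1
      unfold pRegInd
      split_ifs <;> simp
    rw [hl, hr] at hfr
    have hcard : (Nat.card G : ℂ) = (Nat.card H : ℂ) * (H.index : ℂ) := by
      rw [← Nat.cast_mul, H.card_mul_index]
    have hsum : ∑ h : H, pRegInd H p h * (η : H → ℂ) h =
        (η : H → ℂ) 1 * omegaF (η : H → ℂ) (pRegInd H p) := by
      unfold omegaF
      rw [mul_div_cancel₀ _ (irr_one_ne_zero η.2)]
    rw [hsum, hωH, h1] at hfr
    rw [hcard] at hfr
    have hI : (H.index : ℂ) ≠ 0 := by
      intro h0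
      rw [h0, mul_zero] at hcard
      exact hG hcard
    field_simp at hfr
    rw [hfr]
    ring
  have hSunit : ¬ MemLocalIdeal M
      ((H.index : ℂ) * ((θ : N → ℂ) 1 * omegaF (θ : N → ℂ) (pRegInd N p))) := by
    apply not_memLocalIdeal_mul (memLocalRing_natCast hMtop _)
    · rw [irr_one_eq_charDegree θ]
      exact memLocalRing_mul (memLocalRing_natCast hMtop _) hωring
    · exact not_memLocalIdeal_natCast hM ((Nat.Prime.coprime_iff_not_dvd hp).mpr hidx).symm
    · rw [irr_one_eq_charDegree θ]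
      apply not_memLocalIdeal_mul (memLocalRing_natCast hMtop _) hωring _ hunit
      exact not_memLocalIdeal_natCast hM ((Nat.Prime.coprime_iff_not_dvd hp).mpr hdeg).symm
  rw [← hS2, hS1] at hSunit
  -- step 4
  have hex : ∃ χ : IrrCharacter G, ¬ MemLocalIdeal M
      ((a χ : ℂ) * ((χ : G → ℂ) 1 * omegaF (χ : G → ℂ) (pRegInd G p))) := by
    by_contra hcon
    push Not at hcon
    exact hSunit (Helper28.memLocalIdeal_sum _ _ fun χ _ => hcon χ)
  obtain ⟨χ, hχ⟩ := hex
  have hχB : χ ∈ principalBlock M G := by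
    by_contra hnot
    apply hχ
    rw [omegaF_pRegInd_eq_zero hM χ hnot, mul_zero, mul_zero]
    exact memLocalIdeal_zero hMtop
  have hωχ : MemLocalRing M (omegaF (χ : G → ℂ) (pRegInd G p)) :=
    Helper28.omegaF_memLocalRing χ.2 _ (isClassFunction_pRegInd p)
      (fun g => pRegInd_memLocalRing hMtop p g)
  have hnatI : ∀ n : ℕ, p ∣ n → MemLocalIdeal M (n : ℂ) := by
    rintro n ⟨c, rfl⟩
    push_cast
    exact memLocalIdeal_mul_right (memLocalIdeal_natCast_p hM) (memLocalRing_natCast hMtop c)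
  have ha0 : ¬ p ∣ a χ := by
    intro hd
    apply hχ
    exact memLocalIdeal_mul_right (hnatI _ hd)
      (by rw [irr_one_eq_charDegree χ]; exact memLocalRing_mul (memLocalRing_natCast hMtop _) hωχ)
  have hdegχ : ¬ p ∣ charDegree (χ : G → ℂ) := by
    intro hd
    apply hχ
    rw [irr_one_eq_charDegree χ]
    exact memLocalIdeal_mul_left (memLocalRing_natCast hMtop _)
      (memLocalIdeal_mul_right (hnatI _ hd) hωχ)
  refine ⟨χ, hχB, hdegχ, ?_⟩
  -- step 5
  have haχ : a χ ≠ 0 := by
    intro h0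
    apply ha0
    rw [h0]
    exact dvd_zero p
  have hχcl : IsClassFunction G (χ : G → ℂ) := Helper4.isClassFunction_of_isIrrCharacter χ.2
  have hresH : IsCharacter H ((χ : G → ℂ) ∘ H.subtype) :=
    isCharacter_restrict H (isCharacter_of_isIrrCharacter χ.2)
  have hresHcl : IsClassFunction H ((χ : G → ℂ) ∘ H.subtype) := by
    intro x y
    show (χ : G → ℂ) ((y * x * y⁻¹ : H) : G) = (χ : G → ℂ) (x : G)
    rw [Subgroup.coe_mul, Subgroup.coe_mul, Subgroup.coe_inv]
    exact hχcl _ _
  have hm : ∀ ξ : IrrCharacter H, ∃ n : ℕ,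
      classInner ((χ : G → ℂ) ∘ H.subtype) (ξ : H → ℂ) = n := fun ξ =>
    classInner_isCharacter_nat hresH (isCharacter_of_isIrrCharacter ξ.2)
  choose m hm' using hm
  have hk : ∀ ξ : IrrCharacter H, ∃ n : ℕ,
      classInner ((ξ : H → ℂ) ∘ Subgroup.inclusion hNH) (θ : N → ℂ) = n := fun ξ =>
    classInner_isCharacter_nat
      (Cfsg.Agent.Lib.Helper2.isCharacter_comp_hom (isCharacter_of_isIrrCharacter ξ.2) _)
      (isCharacter_of_isIrrCharacter θ.2)
  choose k hk' using hk
  have hmη : m η ≠ 0 := by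
    have h2 := ha χ
    rw [classInner_indFun_left' H (η : H → ℂ) (χ : G → ℂ) hχcl, ← classInner_conj_symm,
      hm' η] at h2
    intro h0
    apply haχ
    rw [h0] at h2
    simp only [Nat.cast_zero, map_zero] at h2
    exact_mod_cast h2.symm
  have hkη : k η = 1 := by
    have h2 := hk' η
    have h3 : ((η : H → ℂ) ∘ Subgroup.inclusion hNH) = (θ : N → ℂ) := by
      funext n
      exact hη n
    rw [h3, classInner_irr θ θ, if_pos rfl] at h2
    exact_mod_cast h2.symm
  have hexpH := classFunction_expansion ((χ : G → ℂ) ∘ H.subtype) hresHcl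
  have hval : ∀ n : N, (χ : G → ℂ) n =
      ∑ ξ : IrrCharacter H, (m ξ : ℂ) * (ξ : H → ℂ) (Subgroup.inclusion hNH n) := by
    intro n
    have h2 := congrFun hexpH (Subgroup.inclusion hNH n)
    rw [Finset.sum_apply] at h2
    have h3 : ((χ : G → ℂ) ∘ H.subtype) (Subgroup.inclusion hNH n) = (χ : G → ℂ) n := rfl
    rw [← h3, h2]
    refine Finset.sum_congr rfl fun ξ _ => ?_
    rw [Pi.smul_apply, hm', smul_eq_mul]
  have hfinal : classInner (fun n : N => (χ : G → ℂ) n) (θ : N → ℂ) =
      ((∑ ξ : IrrCharacter H, m ξ * k ξ : ℕ) : ℂ) := by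
    push_cast
    have h2 : ∀ ξ : IrrCharacter H, ((m ξ : ℂ) * (k ξ : ℂ)) =
        (m ξ : ℂ) * classInner ((ξ : H → ℂ) ∘ Subgroup.inclusion hNH) (θ : N → ℂ) := by
      intro ξ
      rw [hk']
    simp only [h2]
    unfold classInner
    simp only [hval, Finset.sum_mul, Finset.mul_sum]
    rw [Finset.sum_comm]
    refine Finset.sum_congr rfl fun ξ _ => ?_
    refine Finset.sum_congr rfl fun n _ => ?_
    simp only [Function.comp_apply]
    ring
  rw [hfinal]
  have hpos : 0 < ∑ ξ : IrrCharacter H, m ξ * k ξ := by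
    apply Finset.sum_pos'
    · intro ξ _
      exact Nat.zero_le _
    · refine ⟨η, Finset.mem_univ _, ?_⟩
      rw [hkη, mul_one]
      exact Nat.pos_of_ne_zero hmη
  exact_mod_cast hpos.ne'

end

end Cfsg.Agent.Lib.Helper28
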