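import Cfsg.Prelude.Def_LieRecognition

set_option autoImplicit false
open Cfsg
open scoped Pointwise

namespace Cfsg.Agent.Lib.Helper28

variable {G Ω : Type*} [Group G] [MulAction G Ω] {a : Ω} {t : G} {Q : Subgroup G}

theorem rk1_ta_ne (hS : IsRankOneSetup G Ω a t Q) : t • a ≠ a :=
  fun h => hS.not_mem (MulAction.mem_stabilizer_iff.mpr h)

theorem rk1_t_inv (hS : IsRankOneSetup G Ω a t Q) : t⁻¹ = t :=
  inv_eq_of_mul_eq_one_left hS.mul_self

theorem rk1_tta (hS : IsRankOneSetup G Ω a t Q) : t • t • a = a := by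
  rw [smul_smul, hS.mul_self, one_smul]

theorem rk1_stab_le_normalizer (hS : IsRankOneSetup G Ω a t Q) :
    MulAction.stabilizer G a ≤ Subgroup.normalizer (Q : Set G) := by
  intro h hh
  rw [Subgroup.mem_normalizer_iff]
  intro x
  constructor
  · intro hx; exact hS.conj_mem h hh x hx
  · intro hx
    have := hS.conj_mem h⁻¹ (inv_mem hh) _ hx
    simpa [mul_assoc] using this

/-- every element of `G_a` is `q * d` with `q ∈ Q`, `d ∈ D`. -/
theorem rk1_stab_eq_mul (hS : IsRankOneSetup G Ω a t Q) {g : G} (hg : g ∈ MulAction.stabilizer G a) :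
    ∃ q ∈ Q, ∃ d ∈ MulAction.stabilizer G a ⊓ MulAction.stabilizer G (t • a), q * d = g := by
  have h1 : (MulAction.stabilizer G a ⊓ MulAction.stabilizer G (t • a)) ≤
      Subgroup.normalizer (Q : Set G) := inf_le_left.trans (rk1_stab_le_normalizer hS)
  have h2 := Subgroup.coe_mul_of_right_le_normalizer_left Q _ h1
  rw [hS.sup_eq] at h2
  have : g ∈ ((MulAction.stabilizer G a : Subgroup G) : Set G) := hg
  rw [h2] at this
  obtain ⟨q, hq, d, hd, rfl⟩ := this
  exact ⟨q, hq, d, hd, rfl⟩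

/-- `Q` is transitive on the points other than `a`. -/
theorem rk1_exists_Q_smul (hS : IsRankOneSetup G Ω a t Q) {d : Ω} (hd : d ≠ a) :
    ∃ q ∈ Q, q • (t • a) = d := by
  have hta := rk1_ta_ne hS
  obtain ⟨g, hga, hgd⟩ :=
    (MulAction.is_two_pretransitive_iff.mp hS.two_transitive) (Ne.symm hta) (Ne.symm hd)
  obtain ⟨q, hq, e, he, rfl⟩ := rk1_stab_eq_mul hS (MulAction.mem_stabilizer_iff.mpr hga)
  refine ⟨q, hq, ?_⟩
  rw [← hgd, mul_smul, MulAction.mem_stabilizer_iff.mp he.2]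

/-- `Q` acts freely on the points other than `a`. -/
theorem rk1_Q_free (hS : IsRankOneSetup G Ω a t Q) {d : Ω} (hd : d ≠ a) {q : G} (hq : q ∈ Q)
    (h : q • d = d) : q = 1 := by
  obtain ⟨r, hr, rfl⟩ := rk1_exists_Q_smul hS hd
  have h1 : r⁻¹ * q * r ∈ Q ⊓ MulAction.stabilizer G (t • a) := by
    refine Subgroup.mem_inf.mpr ⟨mul_mem (mul_mem (inv_mem hr) hq) hr, ?_⟩
    rw [MulAction.mem_stabilizer_iff, mul_smul, mul_smul, h, inv_smul_smul]
  rw [hS.inf_eq_bot, Subgroup.mem_bot] at h1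
  have : q = r * (r⁻¹ * q * r) * r⁻¹ := by group
  rw [this, h1]; group

/-- uniqueness in regularity -/
theorem rk1_Q_unique (hS : IsRankOneSetup G Ω a t Q) {d : Ω} (hd : d ≠ a) {q r : G} (hq : q ∈ Q)
    (hr : r ∈ Q) (h : q • d = r • d) : q = r := by
  have : r⁻¹ * q = 1 := by
    apply rk1_Q_free hS hd (mul_mem (inv_mem hr) hq)
    rw [mul_smul, h, inv_smul_smul]
  calc q = r * (r⁻¹ * q) := by group
    _ = r := by rw [this, mul_one]

/-- `t` normalizes `D`. -/
theorem rk1_t_conj_mem (hS : IsRankOneSetup G Ω a t Q) {d : G}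
    (hd : d ∈ MulAction.stabilizer G a ⊓ MulAction.stabilizer G (t • a)) :
    t * d * t ∈ MulAction.stabilizer G a ⊓ MulAction.stabilizer G (t • a) := by
  have h1 := MulAction.mem_stabilizer_iff.mp hd.1
  have h2 := MulAction.mem_stabilizer_iff.mp hd.2
  refine Subgroup.mem_inf.mpr ⟨?_, ?_⟩
  · rw [MulAction.mem_stabilizer_iff, mul_smul, mul_smul, h2, rk1_tta hS]
  · rw [MulAction.mem_stabilizer_iff, mul_smul, mul_smul, rk1_tta hS, h1]

end Cfsg.Agent.Lib.Helper28
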