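import Mathlib

set_option autoImplicit false

namespace Cfsg.Agent.Lib.Helper28

variable {G : Type*} [Group G]

theorem orderOf_two_iff' {x : G} : orderOf x = 2 ↔ x ≠ 1 ∧ x * x = 1 := by
  constructor
  · intro h
    refine ⟨fun h1 => by simp [h1] at h, ?_⟩
    have := pow_orderOf_eq_one x
    rwa [h, pow_two] at this
  · rintro ⟨h1, h2⟩
    exact orderOf_eq_prime (by rwa [pow_two]) h1

theorem inv_eq_self_of_mul_self {x : G} (h : x * x = 1) : x⁻¹ = x :=
  inv_eq_of_mul_eq_one_left h

/-- if `g` inverts `x` then `g ^ n` conjugates `x` to `x` (n even) or `x⁻¹` (n odd). -/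
theorem conj_pow_of_inverts {g x : G} (h : g * x * g⁻¹ = x⁻¹) (n : ℕ) :
    g ^ n * x * (g ^ n)⁻¹ = if Even n then x else x⁻¹ := by
  induction n with
  | zero => simp
  | succ n ih =>
    have hinv : g * x⁻¹ * g⁻¹ = x := by
      calc g * x⁻¹ * g⁻¹ = (g * x * g⁻¹)⁻¹ := by group
        _ = x := by rw [h, inv_inv]
    rw [pow_succ']
    have : g * g ^ n * x * (g * g ^ n)⁻¹ = g * (g ^ n * x * (g ^ n)⁻¹) * g⁻¹ := by group
    rw [this, ih]
    by_cases hn : Even n
    · have hn1 : ¬ Even (n + 1) := by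
        rw [Nat.even_add_one]; exact not_not.mpr hn
      rw [if_pos hn, if_neg hn1, h]
    · have hn1 : Even (n + 1) := by
        rw [Nat.even_add_one]; exact hn
      rw [if_neg hn, if_pos hn1, hinv]

end Cfsg.Agent.Lib.Helper28
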