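import Cfsg.Agent.Lib.Helper28.Invol

set_option autoImplicit false

namespace Cfsg.Agent.Lib.Helper28

variable {G : Type*} [Group G]

/-- `s` inverts `s * t` for involutions. -/
theorem inverts_mul_left {s t : G} (hs : s * s = 1) (ht : t * t = 1) :
    s * (s * t) * s⁻¹ = (s * t)⁻¹ := by
  rw [mul_inv_rev, inv_eq_self_of_mul_self hs, inv_eq_self_of_mul_self ht, ← mul_assoc s s t, hs,
    one_mul]

/-- `t` inverts `s * t` for involutions. -/
theorem inverts_mul_right {s t : G} (hs : s * s = 1) (ht : t * t = 1) :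
    t * (s * t) * t⁻¹ = (s * t)⁻¹ := by
  rw [mul_inv_rev, inv_eq_self_of_mul_self hs, inv_eq_self_of_mul_self ht, mul_assoc, mul_assoc, ht,
    mul_one]

/-- if `u` inverts `r` then `u` inverts all powers of `r` -/
theorem inverts_pow {u r : G} (h : u * r * u⁻¹ = r⁻¹) (k : ℕ) : u * r ^ k * u⁻¹ = (r ^ k)⁻¹ := by
  rw [← conj_pow, h, inv_pow]

/-- Two involutions whose product has odd order are conjugate. -/
theorem conj_of_odd_orderOf_mul {s t : G} (hs : s * s = 1) (ht : t * t = 1)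
    (hodd : Odd (orderOf (s * t))) : ∃ g : G, g * s * g⁻¹ = t := by
  obtain ⟨k, hk⟩ := hodd
  refine ⟨(s * t) ^ k, ?_⟩
  have h1 := inverts_pow (inverts_mul_left hs ht) k
  -- s * r^k * s⁻¹ = (r^k)⁻¹, hence s * (r^k)⁻¹ = r^k * s
  have h2 : s * ((s * t) ^ k)⁻¹ = (s * t) ^ k * s := by
    have : s * ((s * t) ^ k)⁻¹ * s⁻¹ = (s * t) ^ k := by
      calc s * ((s * t) ^ k)⁻¹ * s⁻¹ = (s * (s * t) ^ k * s⁻¹)⁻¹ := by group
        _ = (s * t) ^ k := by rw [h1, inv_inv]
    calc s * ((s * t) ^ k)⁻¹ = (s * ((s * t) ^ k)⁻¹ * s⁻¹) * s := by group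
      _ = (s * t) ^ k * s := by rw [this]
  have h3 : (s * t) ^ (2 * k + 1) = 1 := by rw [← hk]; exact pow_orderOf_eq_one _
  have h4 : (s * t) ^ k * (s * t) ^ k = (s * t)⁻¹ := by
    rw [← pow_add, ← two_mul]
    apply eq_inv_of_mul_eq_one_left
    rw [← pow_succ]; exact h3
  calc (s * t) ^ k * s * ((s * t) ^ k)⁻¹ = (s * t) ^ k * (s * ((s * t) ^ k)⁻¹) := by group
    _ = (s * t) ^ k * ((s * t) ^ k * s) := by rw [h2]
    _ = ((s * t) ^ k * (s * t) ^ k) * s := by group
    _ = (s * t)⁻¹ * s := by rw [h4]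
    _ = t := by
      rw [mul_inv_rev, inv_eq_self_of_mul_self hs, inv_eq_self_of_mul_self ht, mul_assoc, hs, mul_one]

/-- Two involutions whose product has even order commute with a common involution,
a power of their product. -/
theorem exists_central_invol_of_even_orderOf_mul {s t : G} (hs : s * s = 1) (ht : t * t = 1)
    (hpos : 0 < orderOf (s * t)) (heven : Even (orderOf (s * t))) :
    ∃ z : G, orderOf z = 2 ∧ z ∈ Subgroup.zpowers (s * t) ∧ s * z = z * s ∧ t * z = z * t := by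
  obtain ⟨m, hm⟩ := heven
  have hm0 : 0 < m := by omega
  have hz2 : (s * t) ^ m * (s * t) ^ m = 1 := by
    rw [← pow_add, ← hm]; exact pow_orderOf_eq_one _
  have hz1 : (s * t) ^ m ≠ 1 := pow_ne_one_of_lt_orderOf hm0.ne' (by omega)
  have hzi : ((s * t) ^ m)⁻¹ = (s * t) ^ m := inv_eq_self_of_mul_self hz2
  refine ⟨(s * t) ^ m, orderOf_two_iff'.mpr ⟨hz1, hz2⟩, Subgroup.pow_mem _ (Subgroup.mem_zpowers _) _,
    ?_, ?_⟩
  · have h1 := inverts_pow (inverts_mul_left hs ht) m
    rw [hzi] at h1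
    calc s * (s * t) ^ m = (s * (s * t) ^ m * s⁻¹) * s := by group
      _ = (s * t) ^ m * s := by rw [h1]
  · have h1 := inverts_pow (inverts_mul_right hs ht) m
    rw [hzi] at h1
    calc t * (s * t) ^ m = (t * (s * t) ^ m * t⁻¹) * t := by group
      _ = (s * t) ^ m * t := by rw [h1]

/-- class equation for one class: `|t^G| * |C(t)| = |G|`. -/
theorem card_conj_mul_card_centralizer [Finite G] (t : G) :
    Nat.card {y : G // IsConj t y} * Nat.card (Subgroup.centralizer ({t} : Set G)) = Nat.card G := by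
  rw [mul_comm, ← Subgroup.card_mul_index (Subgroup.centralizer ({t} : Set G)), Subgroup.index_eq_card]
  congr 1
  symm
  apply Nat.card_congr
  refine Equiv.ofBijective
    (Quotient.lift (fun g : G => (⟨g * t * g⁻¹, isConj_iff.mpr ⟨g, rfl⟩⟩ : {y : G // IsConj t y})) ?_) ⟨?_, ?_⟩
  · intro a b hab
    have hab' : a⁻¹ * b ∈ Subgroup.centralizer ({t} : Set G) := QuotientGroup.leftRel_apply.mp hab
    rw [Subgroup.mem_centralizer_singleton_iff] at hab'
    apply Subtype.ext
    show a * t * a⁻¹ = b * t * b⁻¹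
    calc a * t * a⁻¹ = a * (t * (a⁻¹ * b)) * b⁻¹ := by group
      _ = a * (a⁻¹ * b * t) * b⁻¹ := by rw [hab']
      _ = b * t * b⁻¹ := by group
  · intro x y
    induction x using Quotient.inductionOn with | _ a => ?_
    induction y using Quotient.inductionOn with | _ b => ?_
    intro h
    have h' : a * t * a⁻¹ = b * t * b⁻¹ := congrArg Subtype.val h
    apply Quotient.sound
    apply QuotientGroup.leftRel_apply.mpr
    rw [Subgroup.mem_centralizer_singleton_iff]
    calc a⁻¹ * b * t = a⁻¹ * (b * t * b⁻¹) * b := by group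
      _ = a⁻¹ * (a * t * a⁻¹) * b := by rw [h']
      _ = t * (a⁻¹ * b) := by group
  · rintro ⟨y, hy⟩
    obtain ⟨g, hg⟩ := isConj_iff.mp hy
    exact ⟨Quotient.mk _ g, Subtype.ext hg⟩

end Cfsg.Agent.Lib.Helper28
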