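import Mathlib
import Cfsg.Agent.Lib.Helper28.BrauerS
import Cfsg.Agent.Lib.Helper4.PrincipalNormal
import Cfsg.Agent.Lib.Helper7.ExtDet
import Cfsg.Agent.S4996

set_option autoImplicit false

/-!
# Alperin's isomorphic blocks, character version (helper28)

If `N ⊲ G` and `G = N C_G(P)` for a Sylow `p`-subgroup `P` of `G` then the members of the principal
block of `G` do not vanish on `C_G(P)`, hence restrict irreducibly to `N`.
-/

namespace Cfsg.Agent.Lib.Helper28

open Cfsg Cfsg.Agent.Lib.Helper4 Cfsg.Agent.Lib.Helper26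
open scoped ComplexConjugate Classical

section Alperin

variable {G : Type*} [Group G] [Fintype G] {M : Ideal AlgInt}

/-- a root of unity of order prime to `p` that is congruent to `1` is `1` -/
theorem eq_one_of_pow_eq_one_of_memLocalIdeal {p : ℕ} (hM : IsPModular p M) {ζ : ℂ} {m : ℕ}
    (hm : 0 < m) (hζ : ζ ^ m = 1) (hpm : ¬ p ∣ m) (h : MemLocalIdeal M (ζ - 1)) : ζ = 1 := by
  have hprime : M.IsPrime := hM.2.1.isPrime
  have hMtop : M ≠ ⊤ := hM.2.1.ne_top
  by_contra hne
  have hint : IsIntegral ℤ ζ := ⟨Polynomial.X ^ m - 1, Polynomial.monic_X_pow_sub_C 1 hm.ne',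
    by simp [hζ]⟩
  have hsum0 : ∑ j ∈ Finset.range m, ζ ^ j = 0 := by
    have h1 := geom_sum_mul ζ m
    rw [hζ, sub_self] at h1
    exact (mul_eq_zero.mp h1).resolve_right (sub_ne_zero.mpr hne)
  have hLI : MemLocalIdeal M (∑ j ∈ Finset.range m, (ζ ^ j - 1)) := by
    apply memLocalIdeal_sum
    intro j _
    rw [← geom_sum_mul ζ j]
    apply memLocalIdeal_mul_left _ h
    apply memLocalRing_sum
    intro i _
    exact memLocalRing_of_isIntegral hMtop (hint.pow i)
  rw [Finset.sum_sub_distrib, hsum0, Finset.sum_const, Finset.card_range, nsmul_eq_mul, mul_one,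
    zero_sub] at hLI
  have h2 := memLocalIdeal_neg hLI
  rw [neg_neg] at h2
  exact not_memLocalIdeal_natCast hM
    ((Nat.Prime.coprime_iff_not_dvd hM.1).mpr hpm).symm h2

/-- the central character of a member of the principal block at an element centralizing a Sylow
`p`-subgroup is a unit -/
theorem not_memLocalIdeal_centralChar_of_mem_centralizer {p : ℕ} [Fact p.Prime]
    (hM : IsPModular p M) (P : Sylow p G) {χ : IrrCharacter G} (hχ : χ ∈ principalBlock M G)
    {c : G} (hc : c ∈ Subgroup.centralizer ((P : Subgroup G) : Set G)) :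
    ¬ MemLocalIdeal M (centralChar (χ : G → ℂ) c) := by
  have hprime : M.IsPrime := hM.2.1.isPrime
  have hp : p.Prime := Fact.out
  intro hmem
  have h1 : MemLocalIdeal M (centralChar (fun _ : G => (1 : ℂ)) c - centralChar (χ : G → ℂ) c) :=
    hχ c
  have h2 := memLocalIdeal_add h1 hmem
  rw [sub_add_cancel] at h2
  have h3 : centralChar (fun _ : G => (1 : ℂ)) c =
      ((Subgroup.centralizer ({c} : Set G)).index : ℂ) := by
    unfold centralChar
    rw [mul_one, div_one]
  rw [h3] at h2
  have hle : (P : Subgroup G) ≤ Subgroup.centralizer ({c} : Set G) := by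
    intro x hx
    rw [Subgroup.mem_centralizer_singleton_iff]
    exact (Subgroup.mem_centralizer_iff.mp hc x hx)
  have hdvd : (Subgroup.centralizer ({c} : Set G)).index ∣ (P : Subgroup G).index :=
    Subgroup.index_dvd_of_le hle
  have hnd : ¬ p ∣ (Subgroup.centralizer ({c} : Set G)).index := fun hd =>
    P.not_dvd_index (hd.trans hdvd)
  exact not_memLocalIdeal_natCast hM ((Nat.Prime.coprime_iff_not_dvd hp).mpr hnd).symm h2

/-- every element of `G = N C` is `n c` -/
theorem exists_mul_of_sup_eq_top (N C : Subgroup G) [N.Normal] (hsup : N ⊔ C = ⊤) (x : G) :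
    ∃ n ∈ N, ∃ c ∈ C, n * c = x := by
  have hx : x ∈ ((N ⊔ C : Subgroup G) : Set G) := by
    rw [hsup]
    exact Set.mem_univ x
  rw [Subgroup.normal_mul] at hx
  exact Set.mem_mul.mp hx

/-- members of the principal block restrict irreducibly to `N` when `G = N C_G(P)` -/
theorem restrict_irr_of_mem_principalBlock {p : ℕ} [Fact p.Prime]
    (hM : IsPModular p M) (N : Subgroup G) [N.Normal] (P : Sylow p G)
    (hsup : N ⊔ Subgroup.centralizer ((P : Subgroup G) : Set G) = ⊤)
    {χ : IrrCharacter G} (hχ : χ ∈ principalBlock M G) :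
    IsIrrCharacter N (fun n : N => (χ : G → ℂ) n) := by
  have hMtop : M ≠ ⊤ := hM.2.1.ne_top
  by_contra hnot
  obtain ⟨x, hx⟩ := (Cfsg.Agent.S4996.result N χ).mp hnot
  obtain ⟨n, hn, c, hc, hnc⟩ := exists_mul_of_sup_eq_top N _ hsup x
  have h0 := hx ⟨n⁻¹, N.inv_mem hn⟩
  have h1 : ((⟨n⁻¹, N.inv_mem hn⟩ : N) : G) * x = c := by
    show n⁻¹ * x = c
    rw [← hnc]
    group
  rw [h1] at h0
  apply not_memLocalIdeal_centralChar_of_mem_centralizer hM P hχ hc
  unfold centralChar
  rw [h0, mul_zero, zero_div]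
  exact memLocalIdeal_zero hMtop

/-- **Alperin's isomorphic blocks**, character form, for the principal block -/
theorem alperin_principal {p : ℕ} [Fact p.Prime]
    (hM : IsPModular p M) (N : Subgroup G) [N.Normal] (hidx : ¬ p ∣ N.index) (P : Sylow p G)
    (hsup : N ⊔ Subgroup.centralizer ((P : Subgroup G) : Set G) = ⊤) :
    (∀ χ ∈ principalBlock M G, ∃ θ ∈ principalBlock M ↥N,
      ∀ n : N, (χ : G → ℂ) n = (θ : N → ℂ) n) ∧
    ∀ θ ∈ principalBlock M ↥N, ∃! χ : IrrCharacter G, χ ∈ principalBlock M G ∧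
      ∀ n : N, (χ : G → ℂ) n = (θ : N → ℂ) n := by
  have hprime : M.IsPrime := hM.2.1.isPrime
  have hMtop : M ≠ ⊤ := hM.2.1.ne_top
  have hp : p.Prime := Fact.out
  constructor
  · intro χ hχ
    have hirr := restrict_irr_of_mem_principalBlock hM N P hsup hχ
    refine ⟨⟨fun n : N => (χ : G → ℂ) n, hirr⟩, ?_, fun n => rfl⟩
    apply constituent_mem_principalBlock N hχ
    show classInner (fun n : N => (χ : G → ℂ) n) (fun n : N => (χ : G → ℂ) n) ≠ 0
    rw [classInner_irr hirr hirr, if_pos rfl]
    exact one_ne_zero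
  · intro θ hθ
    obtain ⟨χ, hχ, hcon⟩ := exists_over_principalBlock N hM hθ
    have hirr := restrict_irr_of_mem_principalBlock hM N P hsup hχ
    have hres : (fun n : N => (χ : G → ℂ) n) = (θ : N → ℂ) := by
      by_contra hne
      apply hcon
      show classInner (fun n : N => (χ : G → ℂ) n) (θ : N → ℂ) = 0
      rw [classInner_irr hirr θ.2, if_neg hne]
    refine ⟨χ, ⟨hχ, fun n => congrFun hres n⟩, ?_⟩
    rintro χ' ⟨hχ', hres'⟩
    obtain ⟨β, hβN, hβ⟩ := Cfsg.Agent.Lib.Helper7.ext_twist N (θ : N → ℂ) θ.2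
      (χ : G → ℂ) (χ' : G → ℂ) χ.2 χ'.2 (fun n => congrFun hres n) hres'
    -- `β` is trivial on `C_G(P)`
    have hβC : ∀ c ∈ Subgroup.centralizer ((P : Subgroup G) : Set G), β c = 1 := by
      intro c hc
      have hu := not_memLocalIdeal_centralChar_of_mem_centralizer hM P hχ hc
      have h1 : MemLocalIdeal M (centralChar (fun _ : G => (1 : ℂ)) c -
          centralChar (χ : G → ℂ) c) := hχ c
      have h2 : MemLocalIdeal M (centralChar (fun _ : G => (1 : ℂ)) c -
          centralChar (χ' : G → ℂ) c) := hχ' c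
      have h3 : centralChar (χ' : G → ℂ) c = ((β c : ℂˣ) : ℂ) * centralChar (χ : G → ℂ) c := by
        unfold centralChar
        rw [hβ]
        have hb1 : ((β 1 : ℂˣ) : ℂ) = 1 := by rw [map_one]; rfl
        show ((Subgroup.centralizer ({c} : Set G)).index : ℂ) *
            (((β c : ℂˣ) : ℂ) * (χ : G → ℂ) c) / (((β 1 : ℂˣ) : ℂ) * (χ : G → ℂ) 1) = _
        rw [hb1, one_mul]
        ring
      rw [h3] at h2
      have h4 := memLocalIdeal_sub h1 h2
      have h5 : centralChar (fun _ : G => (1 : ℂ)) c - centralChar (χ : G → ℂ) c -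
          (centralChar (fun _ : G => (1 : ℂ)) c -
            ((β c : ℂˣ) : ℂ) * centralChar (χ : G → ℂ) c) =
          (((β c : ℂˣ) : ℂ) - 1) * centralChar (χ : G → ℂ) c := by ring
      rw [h5] at h4
      -- `β c` is a root of unity of order dividing the index
      have hpow : ((β c : ℂˣ) : ℂ) ^ N.index = 1 := by
        have hmem : c ^ N.index ∈ N := Subgroup.pow_index_mem N c
        have := hβN ⟨c ^ N.index, hmem⟩
        have h6 : β (c ^ N.index) = 1 := this
        rw [map_pow] at h6
        have := congrArg (fun u : ℂˣ => (u : ℂ)) h6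
        simpa using this
      have hidxpos : 0 < N.index := Nat.pos_of_ne_zero (Subgroup.index_ne_zero_of_finite)
      have hint : IsIntegral ℤ ((β c : ℂˣ) : ℂ) :=
        ⟨Polynomial.X ^ N.index - 1, Polynomial.monic_X_pow_sub_C 1 hidxpos.ne', by simp [hpow]⟩
      have hR1 : MemLocalRing M (((β c : ℂˣ) : ℂ) - 1) :=
        memLocalRing_of_isIntegral hMtop (hint.sub isIntegral_one)
      have hR2 : MemLocalRing M (centralChar (χ : G → ℂ) c) :=
        memLocalRing_of_isIntegral hMtop (isIntegral_centralChar χ.2 c)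
      have h7 : MemLocalIdeal M (((β c : ℂˣ) : ℂ) - 1) := by
        by_contra hcon'
        exact not_memLocalIdeal_mul hR1 hR2 hcon' hu h4
      have h8 := eq_one_of_pow_eq_one_of_memLocalIdeal hM hidxpos hpow hidx h7
      exact Units.ext h8
    have hβ1 : ∀ g : G, β g = 1 := by
      intro g
      obtain ⟨n, hn, c, hc, hnc⟩ := exists_mul_of_sup_eq_top N _ hsup g
      rw [← hnc, map_mul, hβC c hc, mul_one]
      exact hβN ⟨n, hn⟩
    apply Subtype.ext
    rw [hβ]
    funext g
    rw [hβ1 g]
    simp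

end Alperin

end Cfsg.Agent.Lib.Helper28
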