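import Mathlib
import Cfsg.Agent.Lib.Helper28.BlockDefectA
import Cfsg.Agent.Lib.Helper28.BlockDefectB
import Cfsg.Agent.Lib.Helper28.BlockOsima
import Cfsg.Agent.Lib.Helper4.RepEigen
import Cfsg.Agent.Lib.Helper26.CharBasic

set_option autoImplicit false

/-!
# Block idempotent coefficients lie in the `p'`-cyclotomic field (helper28)
-/

namespace Cfsg.Agent.Lib.Helper28

open Cfsg Cfsg.Agent.Lib.Helper4 Cfsg.Agent.Lib.Helper26
open scoped ComplexConjugate Classical

variable {G : Type*} [Group G] [Fintype G] {M : Ideal AlgInt}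

/-- character values at `g` lie in `ℚ(exp(2πi/m))` whenever `o(g) ∣ m` -/
theorem character_mem_adjoin {V : Type*} [AddCommGroup V] [Module ℂ V] [FiniteDimensional ℂ V]
    (ρ : Representation ℂ G V) (g : G) {m : ℕ} (hm0 : m ≠ 0) (hm : orderOf g ∣ m) :
    ρ.character g ∈ IntermediateField.adjoin ℚ
      ({Complex.exp (2 * Real.pi * Complex.I / (m : ℂ))} : Set ℂ) := by
  haveI : NeZero m := ⟨hm0⟩
  have hprim := Complex.isPrimitiveRoot_exp m hm0
  rw [character_eq_sum]
  apply sum_mem
  intro μ hμ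
  have h1 : μ ^ orderOf g = 1 := eigenvalue_pow_orderOf ρ g μ ((mem_eigvals ρ g).mp hμ)
  have h2 : μ ^ m = 1 := by
    obtain ⟨c, hc⟩ := hm
    rw [hc, pow_mul, h1, one_pow]
  obtain ⟨i, _, hi⟩ := hprim.eq_pow_of_pow_eq_one h2
  apply mul_mem
  · rw [← hi]
    exact pow_mem (IntermediateField.subset_adjoin ℚ _ (Set.mem_singleton _)) i
  · exact natCast_mem _ _

theorem irr_mem_adjoin (χ : IrrCharacter G) (g : G) {m : ℕ} (hm0 : m ≠ 0)
    (hm : orderOf g ∣ m) :
    (χ : G → ℂ) g ∈ IntermediateField.adjoin ℚ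
      ({Complex.exp (2 * Real.pi * Complex.I / (m : ℂ))} : Set ℂ) := by
  obtain ⟨n, ρ, _, hρ⟩ := χ.2
  rw [← hρ]
  exact character_mem_adjoin ρ g hm0 hm

/-- `o(g)` divides the `p'`-part of `|G|` for `p`-regular `g` -/
theorem orderOf_dvd_pPrimePart {p : ℕ} (hp : p.Prime) (g : G) (hg : ¬ p ∣ orderOf g) :
    orderOf g ∣ Nat.card G / p ^ (Nat.card G).factorization p := by
  have h1 : orderOf g ∣ Nat.card G := orderOf_dvd_natCard g
  have h2 : Nat.card G = p ^ (Nat.card G).factorization p *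
      (Nat.card G / p ^ (Nat.card G).factorization p) :=
    (Nat.ordProj_mul_ordCompl_eq_self (Nat.card G) p).symm
  rw [h2] at h1
  have hcop : (orderOf g).Coprime (p ^ (Nat.card G).factorization p) :=
    Nat.Coprime.pow_right _ ((Nat.Prime.coprime_iff_not_dvd hp).mpr hg).symm
  exact hcop.dvd_of_dvd_mul_left h1

theorem blockCoeff_mem_adjoin {p : ℕ} (hM : IsPModular p M) {B : Set (IrrCharacter G)}
    (hB : IsPBlock M B) (g : G) :
    blockCoeff B g ∈ IntermediateField.adjoin ℚ ({Complex.exp (2 * Real.pi * Complex.I /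
      ((Nat.card G / p ^ (Nat.card G).factorization p : ℕ) : ℂ))} : Set ℂ) := by
  have : Fintype (IrrCharacter G) := Fintype.ofFinite _
  have : M.IsPrime := hM.2.1.isPrime
  have hp : p.Prime := hM.1
  by_cases hg : p ∣ orderOf g
  · rw [blockCoeff_eq_zero_of_pSingular hM B (osima hB) g hg]
    exact zero_mem _
  · have hm0 : Nat.card G / p ^ (Nat.card G).factorization p ≠ 0 :=
      (Nat.ordCompl_pos p Nat.card_pos.ne').ne'
    have hdvd : orderOf g⁻¹ ∣ Nat.card G / p ^ (Nat.card G).factorization p := by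
      rw [orderOf_inv]
      exact orderOf_dvd_pPrimePart hp g hg
    rw [blockCoeff_eq_sum]
    apply mul_mem
    · apply inv_mem
      exact natCast_mem _ _
    · apply sum_mem
      intro χ _
      by_cases hχ : χ ∈ B
      · rw [if_pos hχ]
        apply mul_mem
        · obtain ⟨_, h1, _⟩ := irr_degree_nat χ.2
          rw [h1]
          exact natCast_mem _ _
        · rw [isCharacter_conj_eq_inv (isCharacter_of_isIrrCharacter χ.2)]
          exact irr_mem_adjoin χ g⁻¹ hm0 hdvd
      · rw [if_neg hχ]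
        exact zero_mem _

end Cfsg.Agent.Lib.Helper28
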