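import Mathlib
import Cfsg.Prelude.Def_Characters
import Cfsg.Agent.Lib.Helper28.BrauerIndD
import Cfsg.Agent.Lib.Helper28.DualRep
import Cfsg.Agent.Lib.Helper26.CharInt
import Cfsg.Agent.Lib.Helper4.CharOrtho

set_option autoImplicit false

/-!
# Brauer's characterization with algebraic-integer coefficients (helper28)

A class function whose restrictions to all elementary subgroups have algebraic-integer inner
products with the irreducible characters has algebraic-integer inner products with the
irreducible characters of `G`.
-/

namespace Cfsg.Agent.Lib.Helper28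

open Cfsg Cfsg.Agent.Lib.Helper26 Cfsg.Agent.Lib.Helper7
open scoped ComplexConjugate

variable {G : Type*} [Group G] [Fintype G]

/-- inner products with characters are integral if those with irreducible characters are -/
theorem classInner_char_isIntegral {E : Type*} [Group E] [Fintype E] {f : E → ℂ}
    (hf : ∀ ψ : IrrCharacter E, IsIntegral ℤ (classInner f (ψ : E → ℂ))) {η : E → ℂ}
    (hη : IsCharacter E η) : IsIntegral ℤ (classInner f η) := by
  classical
  have : Fintype (IrrCharacter E) := Fintype.ofFinite _
  have hexp := Cfsg.Agent.Lib.Helper4.classFunction_expansion η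
    (Helper26.isClassFunction_of_isCharacter hη)
  rw [hexp, classInner_sum_right]
  apply IsIntegral.sum
  intro ψ _
  rw [classInner_smul_right]
  obtain ⟨n, hn⟩ := classInner_isCharacter_nat hη (isCharacter_of_isIrrCharacter ψ.2)
  rw [hn, Complex.conj_natCast]
  exact IsIntegral.mul (isIntegral_natCast _) (hf ψ)

theorem classInner_indFun_mul_isIntegral {θ : G → ℂ} (hθ : IsClassFunction G θ)
    (E : Subgroup G) [Fintype E] {φ : E → ℂ} (hφ : IsCharacter E φ)
    (hE : ∀ ψ : IrrCharacter E, IsIntegral ℤ (classInner (fun e : E => θ e) (ψ : E → ℂ)))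
    (χ : IrrCharacter G) : IsIntegral ℤ (classInner (indFun E φ * θ) (χ : G → ℂ)) := by
  have hχc : IsCharacter G (χ : G → ℂ) := isCharacter_of_isIrrCharacter χ.2
  rw [← indFun_mul_restrict E φ θ hθ,
    classInner_indFun_left' E _ _ (Helper26.isClassFunction_of_isCharacter hχc)]
  have hη : IsCharacter E ((fun e : E => conj (φ e)) * fun e : E => (χ : G → ℂ) e) :=
    isCharacter_mul (isCharacter_conj hφ) (isCharacter_restrict E hχc)
  have h1 : classInner (φ * fun n : E => θ n) ((χ : G → ℂ) ∘ E.subtype) =
      classInner (fun e : E => θ e)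
        ((fun e : E => conj (φ e)) * fun e : E => (χ : G → ℂ) e) := by
    unfold classInner
    congr 1
    apply Finset.sum_congr rfl
    intro e _
    simp only [Pi.mul_apply, Function.comp_apply, map_mul, Complex.conj_conj,
      Subgroup.coe_subtype]
    ring
  rw [h1]
  exact classInner_char_isIntegral hE hη

/-- **Brauer's characterization, algebraic-integer version** -/
theorem brauer_characterization_algInt (θ : G → ℂ) (hθ : IsClassFunction G θ)
    (hE : ∀ (E : Subgroup G) (p : ℕ), p.Prime → IsElementary p E →
      ∀ [Fintype E] (ψ : IrrCharacter E),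
        IsIntegral ℤ (classInner (fun e : E => θ e) (ψ : E → ℂ)))
    (χ : IrrCharacter G) : IsIntegral ℤ (classInner θ (χ : G → ℂ)) := by
  classical
  obtain ⟨l, hl, hsum⟩ := exists_list_of_mem_elemIndAll (one_mem_elemIndAll (G := G))
  have h1 : θ = (fun _ : G => (1 : ℂ)) * θ := by funext g; simp
  rw [h1, hsum, ← List.sum_map_mul_right]
  have key : ∀ (l : List ((E : Subgroup G) × ((E → ℂ) × ℤ))),
      (∀ t ∈ l, (∃ p : ℕ, p.Prime ∧ IsElementary p t.1) ∧ IsCharacter t.1 t.2.1) →
      IsIntegral ℤ (classInner
        (l.map fun t => (t.2.2 : ℂ) • indFun t.1 t.2.1 * θ).sum (χ : G → ℂ)) := by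
    intro l
    induction l with
    | nil =>
      intro _
      rw [List.map_nil, List.sum_nil, classInner_zero_left]
      exact isIntegral_zero
    | cons t l ih =>
      intro hl
      rw [List.map_cons, List.sum_cons, classInner_add_left]
      apply IsIntegral.add
      · obtain ⟨⟨p, hp, hEl⟩, hφ⟩ := hl t List.mem_cons_self
        have : Fintype t.1 := Fintype.ofFinite _
        rw [smul_mul_assoc, classInner_smul_left]
        exact IsIntegral.mul (isIntegral_intCast _)
          (classInner_indFun_mul_isIntegral hθ t.1 hφ (hE t.1 p hp hEl) χ)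
      · exact ih (fun t' ht' => hl t' (List.mem_cons_of_mem _ ht'))
  exact key l hl

end Cfsg.Agent.Lib.Helper28
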