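import Cfsg.Agent.Lib.Helper28.Invol2
import Cfsg.Agent.S0237
import Cfsg.Agent.S0238

set_option autoImplicit false

namespace Cfsg.Agent.Lib.Helper28

variable {G : Type*} [Group G]

/-- the extended centralizer `C*(x)`: elements conjugating `x` to `x` or `x⁻¹`. -/
def extCentralizer (x : G) : Subgroup G where
  carrier := {g | g * x * g⁻¹ = x ∨ g * x * g⁻¹ = x⁻¹}
  one_mem' := by left; simp
  mul_mem' := by
    intro a b ha hb
    have hinv : ∀ g y : G, g * y⁻¹ * g⁻¹ = (g * y * g⁻¹)⁻¹ := by intro g y; group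
    have h : a * b * x * (a * b)⁻¹ = a * (b * x * b⁻¹) * a⁻¹ := by group
    show a * b * x * (a * b)⁻¹ = x ∨ a * b * x * (a * b)⁻¹ = x⁻¹
    rw [h]
    rcases hb with hb | hb <;> rcases ha with ha | ha
    · left; rw [hb, ha]
    · right; rw [hb, ha]
    · right; rw [hb, hinv, ha]
    · left; rw [hb, hinv, ha, inv_inv]
  inv_mem' := by
    intro a ha
    show a⁻¹ * x * a⁻¹⁻¹ = x ∨ a⁻¹ * x * a⁻¹⁻¹ = x⁻¹
    rcases ha with ha | ha
    · left
      calc a⁻¹ * x * a⁻¹⁻¹ = a⁻¹ * (a * x * a⁻¹) * a := by rw [ha, inv_inv]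
        _ = x := by group
    · right
      have : a * x⁻¹ * a⁻¹ = x := by
        calc a * x⁻¹ * a⁻¹ = (a * x * a⁻¹)⁻¹ := by group
          _ = x := by rw [ha, inv_inv]
      calc a⁻¹ * x * a⁻¹⁻¹ = a⁻¹ * (a * x⁻¹ * a⁻¹) * a := by rw [this, inv_inv]
        _ = x⁻¹ := by group

theorem mem_extCentralizer {x g : G} :
    g ∈ extCentralizer x ↔ g * x * g⁻¹ = x ∨ g * x * g⁻¹ = x⁻¹ := Iff.rfl

/-- for a real element which is not an involution, `|C*(x)| = 2 |C(x)|`. -/
theorem card_extCentralizer [Finite G] {x : G} (hreal : IsConj x x⁻¹) (hx : x ≠ x⁻¹) :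
    Nat.card (extCentralizer x) = 2 * Nat.card (Subgroup.centralizer ({x} : Set G)) := by
  classical
  have h1 := Cfsg.Agent.S0237.result x hreal
  rw [two_mul]
  nth_rewrite 2 [← h1]
  rw [← Nat.card_sum]
  apply Nat.card_congr
  refine
    { toFun := fun g => if h : g.1 * x * g.1⁻¹ = x then
        Sum.inl ⟨g.1, Subgroup.mem_centralizer_singleton_iff.mpr (by
          calc g.1 * x = (g.1 * x * g.1⁻¹) * g.1 := by group
            _ = x * g.1 := by rw [h])⟩
        else Sum.inr ⟨g.1, g.2.resolve_left h⟩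
      invFun := fun s => match s with
        | Sum.inl c => ⟨c.1, Or.inl (by
            have := Subgroup.mem_centralizer_singleton_iff.mp c.2
            calc c.1 * x * c.1⁻¹ = (x * c.1) * c.1⁻¹ := by rw [this]
              _ = x := by group)⟩
        | Sum.inr g => ⟨g.1, Or.inr g.2⟩
      left_inv := ?_
      right_inv := ?_ }
  · rintro ⟨g, hg⟩
    by_cases h : g * x * g⁻¹ = x
    · simp [h]
    · simp [h]
  · rintro (c | g)
    · have := Subgroup.mem_centralizer_singleton_iff.mp c.2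
      have h : c.1 * x * c.1⁻¹ = x := by
        calc c.1 * x * c.1⁻¹ = (x * c.1) * c.1⁻¹ := by rw [this]
          _ = x := by group
      simp [h]
    · have h : ¬ g.1 * x * g.1⁻¹ = x := by
        rw [g.2]; exact fun h => hx h.symm
      simp [h]

end Cfsg.Agent.Lib.Helper28
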