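import Mathlib
import Cfsg.Prelude.Def_Characters

set_option autoImplicit false

/-!
# Subgroups of elementary groups are elementary (helper28)
-/

namespace Cfsg.Agent.Lib.Helper28

open Cfsg

theorem isElementary_subgroup {E : Type*} [Group E] [Finite E] {q : ℕ} (hq : q.Prime)
    (h : IsElementary q E) (U : Subgroup E) : IsElementary q U := by
  obtain ⟨c, hc, hcop, k, hk⟩ := h
  set N := Subgroup.zpowers c with hN
  have hNcent : N ≤ Subgroup.center E := by
    rw [hN, Subgroup.zpowers_le]; exact hc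
  have hNn : N.Normal := by
    constructor
    intro y hy g
    have := Subgroup.mem_center_iff.mp (hNcent hy) g
    have e : g * y * g⁻¹ = y := by rw [this]; group
    rw [e]; exact hy
  have hcyc : IsCyclic (N ⊓ U : Subgroup E) :=
    isCyclic_of_injective (Subgroup.inclusion (inf_le_left : N ⊓ U ≤ N))
      (Subgroup.inclusion_injective _)
  obtain ⟨d0, hd0⟩ := hcyc.exists_generator
  have hdN : (d0 : E) ∈ N := d0.2.1
  have hdU : (d0 : E) ∈ U := d0.2.2
  have hgen : ∀ y ∈ N ⊓ U, ∃ n : ℤ, (d0 : E) ^ n = y := by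
    intro y hy
    obtain ⟨n, hn⟩ := Subgroup.mem_zpowers_iff.mp (hd0 ⟨y, hy⟩)
    refine ⟨n, ?_⟩
    have := congrArg Subtype.val hn
    simpa using this
  refine ⟨⟨d0, hdU⟩, ?_, ?_, ?_⟩
  · rw [Subgroup.mem_center_iff]
    intro y
    apply Subtype.ext
    exact Subgroup.mem_center_iff.mp (hNcent hdN) y
  · have h1 : orderOf (⟨(d0 : E), hdU⟩ : U) = orderOf (d0 : E) := Subgroup.orderOf_mk _ _
    rw [h1]
    exact Nat.Coprime.coprime_dvd_left (orderOf_dvd_of_mem_zpowers hdN) hcop
  · have h1 : Subgroup.zpowers (⟨(d0 : E), hdU⟩ : U) = (N ⊓ U).subgroupOf U := by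
      ext y
      rw [Subgroup.mem_subgroupOf, Subgroup.mem_zpowers_iff]
      constructor
      · rintro ⟨n, rfl⟩
        simp only [Subgroup.coe_zpow]
        exact (N ⊓ U).zpow_mem d0.2 n
      · intro hy
        obtain ⟨n, hn⟩ := hgen y hy
        refine ⟨n, ?_⟩
        apply Subtype.ext
        simp only [Subgroup.coe_zpow]
        exact hn
    have h2 : ((N ⊓ U).subgroupOf U).index = (N ⊓ U).relIndex U := rfl
    rw [h1, h2, Subgroup.inf_relIndex_right]
    have h3 : N.relIndex U ∣ N.index := Subgroup.relIndex_dvd_index_of_normal N U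
    rw [hk] at h3
    obtain ⟨j, _, hj⟩ := (Nat.dvd_prime_pow hq).mp h3
    exact ⟨j, hj⟩

end Cfsg.Agent.Lib.Helper28
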