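import Mathlib

set_option autoImplicit false

/-!
# Schur's lemma consequences for complex irreducible representations (helper28)
-/

namespace Cfsg.Agent.Lib.Helper28

variable {G : Type*} [Group G] {V : Type*} [AddCommGroup V] [Module ℂ V] [FiniteDimensional ℂ V]

/-- Schur: an operator commuting with an irreducible representation is a scalar. -/
theorem schur_scalar (ρ : Representation ℂ G V) (hirr : ρ.IsIrreducible) (T : V →ₗ[ℂ] V)
    (hT : ∀ g v, T (ρ g v) = ρ g (T v)) : ∃ c : ℂ, T = c • LinearMap.id := by
  have := hirr
  let T' : Representation.IntertwiningMap ρ ρ := T.intertwiningMap_of_isIntertwiningMap ρ ρ hT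
  obtain ⟨c, hc⟩ :=
    (Representation.IsIrreducible.algebraMap_intertwiningMap_bijective_of_isAlgClosed (ρ := ρ)).2 T'
  refine ⟨c, ?_⟩
  have := congrArg Representation.IntertwiningMap.toLinearMap hc
  ext v
  have h2 := LinearMap.congr_fun this v
  simp only [Representation.IntertwiningMap.algebraMap_apply] at h2
  exact h2.symm

/-- an irreducible representation all of whose operators are scalars is one-dimensional -/
theorem finrank_eq_one_of_scalar (ρ : Representation ℂ G V) (hirr : ρ.IsIrreducible)
    (h : ∀ g, ∃ c : ℂ, ρ g = c • LinearMap.id) : Module.finrank ℂ V = 1 := by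
  have hnt : Nontrivial V := by
    by_contra hV
    rw [not_nontrivial_iff_subsingleton] at hV
    have h1 : (⊥ : Subrepresentation ρ) = ⊤ := by
      apply Subrepresentation.toSubmodule_injective
      exact Subsingleton.elim _ _
    exact hirr.exists_pair_ne.elim fun a ha => ha.elim fun b hab => by
      apply hab
      rcases hirr.eq_bot_or_eq_top a with ha | ha <;> rcases hirr.eq_bot_or_eq_top b with hb | hb
      · rw [ha, hb]
      · rw [ha, hb, h1]
      · rw [ha, hb, h1]
      · rw [ha, hb]
  obtain ⟨v, hv⟩ := exists_ne (0 : V)
  let W : Subrepresentation ρ :=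
    { toSubmodule := Submodule.span ℂ {v}
      apply_mem_toSubmodule := by
        intro g w hw
        obtain ⟨c, hc⟩ := h g
        rw [hc]
        simp only [LinearMap.smul_apply, LinearMap.id_coe, id_eq]
        exact Submodule.smul_mem _ _ hw }
  have hW : W ≠ ⊥ := by
    intro h0
    have h1 : v ∈ W.toSubmodule := Submodule.mem_span_singleton_self v
    rw [h0] at h1
    exact hv ((Submodule.mem_bot ℂ).mp h1)
  have hWtop : W = ⊤ := (hirr.eq_bot_or_eq_top W).resolve_left hW
  have h2 : Submodule.span ℂ {v} = ⊤ := congrArg Subrepresentation.toSubmodule hWtop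
  exact (finrank_eq_one_iff_of_nonzero v hv).mpr h2

/-- an irreducible representation with commuting operators is one-dimensional -/
theorem finrank_eq_one_of_commute (ρ : Representation ℂ G V) (hirr : ρ.IsIrreducible)
    (h : ∀ g k, ρ g * ρ k = ρ k * ρ g) : Module.finrank ℂ V = 1 := by
  apply finrank_eq_one_of_scalar ρ hirr
  intro g
  apply schur_scalar ρ hirr (ρ g)
  intro k v
  have := LinearMap.congr_fun (h g k) v
  exact this

end Cfsg.Agent.Lib.Helper28
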