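import Mathlib
import Cfsg.Prelude.Def_Characters
import Cfsg.Agent.S0169
import Cfsg.Agent.Lib.Helper28.Schur
import Cfsg.Agent.Lib.Helper4.RepEigen

set_option autoImplicit false

/-!
# A nonlinear irreducible character of an elementary group is induced from a proper subgroup
(helper28)
-/

namespace Cfsg.Agent.Lib.Helper28

open Cfsg Cfsg.Agent.Lib.Helper26 Cfsg.Agent.Lib.Helper4
open scoped ComplexConjugate

theorem exists_proper_induced {E : Type*} [Group E] [Fintype E] {q : ℕ} (hq : q.Prime)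
    (hE : IsElementary q E) (χ : E → ℂ) (hχ : IsIrrCharacter E χ) (hdeg : χ 1 ≠ 1) :
    ∃ (I : Subgroup E) (ψ : I → ℂ), I ≠ ⊤ ∧ IsIrrCharacter I ψ ∧ indFun I ψ = χ := by
  classical
  have : Fact q.Prime := ⟨hq⟩
  obtain ⟨n, ρ, hirr, hρχ⟩ := id hχ
  obtain ⟨c, hc, hcop, k, hk⟩ := hE
  have hinvρ : ∀ g : E, ρ g⁻¹ * ρ g = 1 := fun g => by rw [← map_mul, inv_mul_cancel, map_one]
  have hinvρ' : ∀ g : E, ρ g * ρ g⁻¹ = 1 := fun g => by rw [← map_mul, mul_inv_cancel, map_one]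
  -- the centre of the character
  let Zχ : Subgroup E :=
    { carrier := {g | ∀ h, ρ g * ρ h = ρ h * ρ g}
      one_mem' := by intro h; simp
      mul_mem' := by
        intro a b ha hb h
        simp only [Set.mem_setOf_eq] at ha hb ⊢
        rw [map_mul, mul_assoc, hb h, ← mul_assoc, ha h, mul_assoc]
      inv_mem' := by
        intro a ha h
        simp only [Set.mem_setOf_eq] at ha ⊢
        calc ρ a⁻¹ * ρ h = ρ a⁻¹ * ρ h * (ρ a * ρ a⁻¹) := by rw [hinvρ', mul_one]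
          _ = ρ a⁻¹ * (ρ h * ρ a) * ρ a⁻¹ := by simp only [mul_assoc]
          _ = ρ a⁻¹ * (ρ a * ρ h) * ρ a⁻¹ := by rw [ha h]
          _ = (ρ a⁻¹ * ρ a) * ρ h * ρ a⁻¹ := by simp only [mul_assoc]
          _ = ρ h * ρ a⁻¹ := by rw [hinvρ, one_mul] }
  have hZmem : ∀ g, g ∈ Zχ ↔ ∀ h, ρ g * ρ h = ρ h * ρ g := fun g => Iff.rfl
  have hZn : Zχ.Normal := by
    constructor
    intro g hg a h
    rw [hZmem] at hg
    have h1 := hg (a⁻¹ * h * a)
    calc ρ (a * g * a⁻¹) * ρ h = ρ a * (ρ g * ρ (a⁻¹ * h * a)) * ρ a⁻¹ := by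
          simp only [map_mul, mul_assoc]
          rw [hinvρ' a, mul_one]
      _ = ρ a * (ρ (a⁻¹ * h * a) * ρ g) * ρ a⁻¹ := by rw [h1]
      _ = ρ h * ρ (a * g * a⁻¹) := by
          simp only [map_mul, mul_assoc]
          rw [← mul_assoc (ρ a) (ρ a⁻¹), hinvρ' a, one_mul]
  have hcZ : Subgroup.zpowers c ≤ Zχ := by
    rw [Subgroup.zpowers_le, hZmem]
    intro h
    rw [← map_mul, ← map_mul, Subgroup.mem_center_iff.mp hc h]
  have hχ1 : χ 1 = (n : ℂ) := by
    rw [← hρχ, Representation.char_one, Module.finrank_fin_fun]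
  have hZne : Zχ ≠ ⊤ := by
    intro htop
    apply hdeg
    have h1 : Module.finrank ℂ (Fin n → ℂ) = 1 := by
      apply finrank_eq_one_of_commute ρ hirr
      intro g h
      have : g ∈ Zχ := by rw [htop]; trivial
      exact this h
    rw [Module.finrank_fin_fun] at h1
    rw [hχ1, h1, Nat.cast_one]
  -- the quotient is a nontrivial q-group
  have hidx : Zχ.index ∣ q ^ k := by
    rw [← hk]; exact Subgroup.index_dvd_of_le hcZ
  have hpg : IsPGroup q (E ⧸ Zχ) := by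
    apply IsPGroup.of_card_dvd_pow (n := k)
    rw [← Subgroup.index_eq_card]; exact hidx
  have hnt : Nontrivial (E ⧸ Zχ) := by
    rw [← Finite.one_lt_card_iff_nontrivial, ← Subgroup.index_eq_card]
    have h1 : Zχ.index ≠ 1 := fun h => hZne (Subgroup.index_eq_one.mp h)
    have h0 : Zχ.index ≠ 0 := Subgroup.index_ne_zero_of_finite
    omega
  have hcn := hpg.center_nontrivial
  obtain ⟨⟨zb, hzbc⟩, hzb1⟩ := exists_ne (1 : Subgroup.center (E ⧸ Zχ))
  obtain ⟨x, rfl⟩ := QuotientGroup.mk_surjective zb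
  have hxZ : x ∉ Zχ := by
    intro hx
    apply hzb1
    apply Subtype.ext
    exact (QuotientGroup.eq_one_iff x).mpr hx
  have hcomm : ∀ g : E, x * g * x⁻¹ * g⁻¹ ∈ Zχ := by
    intro g
    rw [← QuotientGroup.eq_one_iff]
    have := Subgroup.mem_center_iff.mp hzbc (g : E ⧸ Zχ)
    simp only [QuotientGroup.mk_mul, QuotientGroup.mk_inv]
    rw [← this]
    group
  -- the centralizer of `ρ x`
  let T : Subgroup E :=
    { carrier := {g | ρ g * ρ x = ρ x * ρ g}
      one_mem' := by simp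
      mul_mem' := by
        intro a b ha hb
        simp only [Set.mem_setOf_eq] at ha hb ⊢
        rw [map_mul, mul_assoc, hb, ← mul_assoc, ha, mul_assoc]
      inv_mem' := by
        intro a ha
        simp only [Set.mem_setOf_eq] at ha ⊢
        calc ρ a⁻¹ * ρ x = ρ a⁻¹ * ρ x * (ρ a * ρ a⁻¹) := by rw [hinvρ', mul_one]
          _ = ρ a⁻¹ * (ρ x * ρ a) * ρ a⁻¹ := by simp only [mul_assoc]
          _ = ρ a⁻¹ * (ρ a * ρ x) * ρ a⁻¹ := by rw [ha]
          _ = (ρ a⁻¹ * ρ a) * ρ x * ρ a⁻¹ := by simp only [mul_assoc]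
          _ = ρ x * ρ a⁻¹ := by rw [hinvρ, one_mul] }
  have hTmem : ∀ g, g ∈ T ↔ ρ g * ρ x = ρ x * ρ g := fun g => Iff.rfl
  have hxT : x ∈ T := by rw [hTmem]
  -- conjugates of x differ from x by an element of Zχ
  have hTn : T.Normal := by
    constructor
    intro g hg a
    rw [hTmem] at hg ⊢
    -- ρ (a⁻¹ x a) = ρ(z) ρ x with z ∈ Zχ
    have hz := hcomm a⁻¹
    have hz' : x * a⁻¹ * x⁻¹ * a⁻¹⁻¹ ∈ Zχ := hz
    have e1 : a⁻¹ * x * a = (x * a⁻¹ * x⁻¹ * a⁻¹⁻¹)⁻¹ * x := by group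
    have hzinv := Zχ.inv_mem hz'
    rw [hZmem] at hzinv
    have hcx : ρ g * ρ (a⁻¹ * x * a) = ρ (a⁻¹ * x * a) * ρ g := by
      rw [e1, map_mul, ← mul_assoc, ← hzinv g, mul_assoc, hg, ← mul_assoc]
    calc ρ (a * g * a⁻¹) * ρ x = ρ a * (ρ g * ρ (a⁻¹ * x * a)) * ρ a⁻¹ := by
          simp only [map_mul, mul_assoc]
          rw [hinvρ' a, mul_one]
      _ = ρ a * (ρ (a⁻¹ * x * a) * ρ g) * ρ a⁻¹ := by rw [hcx]
      _ = ρ x * ρ (a * g * a⁻¹) := by
          simp only [map_mul, mul_assoc]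
          rw [← mul_assoc (ρ a) (ρ a⁻¹), hinvρ' a, one_mul]
  have : Fintype T := Fintype.ofFinite T
  obtain ⟨θ, hθ, hcon⟩ := Cfsg.Agent.S0169.exists_constituent T χ hχ
  set I := Cfsg.Agent.S0169.inertia T θ with hIdef
  have : Fintype I := Fintype.ofFinite I
  have hTI : T ≤ I := Cfsg.Agent.S0169.le_inertia T θ
    (Cfsg.Agent.Lib.Helper26.isClassFunction_of_isIrrCharacter hθ)
  obtain ⟨ψ, hψ, hind, -⟩ := Cfsg.Agent.S0854.result T θ hθ I
    (Cfsg.Agent.S0169.mem_inertia T θ) hTI χ hχ hcon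
  refine ⟨I, ψ, ?_, hψ, hind⟩
  intro hItop
  -- θ is invariant: contradiction
  have hinv : ∀ (g : E) (t : T), θ ⟨g * t * g⁻¹, hTn.conj_mem (t : E) t.2 g⟩ = θ t := by
    intro g t
    have hg : g ∈ I := by rw [hItop]; trivial
    exact (Cfsg.Agent.S0169.mem_inertia T θ g).mp hg t
  have hcl := clifford_restrict T hχ hθ hcon
  have himage : Finset.univ.image (conjFunN T θ) = {θ} := by
    ext φ
    rw [Finset.mem_image, Finset.mem_singleton]
    constructor
    · rintro ⟨g, _, rfl⟩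
      funext t
      exact hinv g t
    · rintro rfl
      refine ⟨1, Finset.mem_univ _, ?_⟩
      funext t
      exact hinv 1 t
  rw [himage, Finset.sum_singleton] at hcl
  set e := classInner (χ ∘ T.subtype) θ with he
  have he0 : e ≠ 0 := hcon
  have hχT : ∀ t : T, χ t = e * θ t := by
    intro t
    have := congrFun hcl t
    simpa using this
  obtain ⟨m, τ, hτirr, hτθ⟩ := id hθ
  have hθ1 : θ 1 = (Module.finrank ℂ (Fin m → ℂ) : ℂ) := by
    rw [← hτθ, Representation.char_one]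
  -- kernel of ρ inside T lies in the kernel of τ
  have hker : ∀ t : T, ρ (t : E) = 1 → τ t = LinearMap.id := by
    intro t ht
    rw [← character_eq_finrank_iff τ t, hτθ, ← hθ1]
    have h1 : χ (t : E) = χ 1 := by
      have h0 : ρ (t : E) = ρ 1 := by rw [ht, map_one]
      rw [← hρχ]
      unfold Representation.character
      rw [h0]
    have h2 := hχT t
    have h3 := hχT 1
    rw [h1] at h2
    have h4 : χ ((1 : T) : E) = χ 1 := rfl
    rw [h4, h2] at h3
    exact (mul_left_cancel₀ he0 h3)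
  -- τ x commutes with τ T
  let x' : T := ⟨x, hxT⟩
  have hτcomm : ∀ (t : T) (v : Fin m → ℂ), τ x' (τ t v) = τ t (τ x' v) := by
    intro t v
    have h1 : ρ ((x' * t * x'⁻¹ * t⁻¹ : T) : E) = 1 := by
      have ht : ρ (t : E) * ρ x = ρ x * ρ (t : E) := t.2
      show ρ (x * (t : E) * x⁻¹ * (t : E)⁻¹) = 1
      rw [map_mul, map_mul, map_mul, ← ht, mul_assoc (ρ (t : E)), hinvρ' x, mul_one, hinvρ']
    have h2 := hker _ h1
    have h3 : τ x' * τ t = τ t * τ x' := by
      have : τ (x' * t * x'⁻¹ * t⁻¹) * (τ t * τ x') = τ x' * τ t := by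
        rw [← map_mul, ← map_mul, ← map_mul]
        congr 1
        group
      rw [← this, h2]
      rfl
    exact LinearMap.congr_fun h3 v
  obtain ⟨ω, hω⟩ := schur_scalar τ hτirr (τ x') (fun t v => hτcomm t v)
  have hnormθ : ‖θ x'‖ = (Module.finrank ℂ (Fin m → ℂ) : ℝ) := by
    rw [← hτθ]
    exact (norm_character_eq_finrank_iff τ x').mpr ⟨ω, hω⟩
  have hnormχ : ‖ρ.character x‖ = (Module.finrank ℂ (Fin n → ℂ) : ℝ) := by
    rw [hρχ]
    have h1 : χ x = e * θ x' := hχT x'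
    have h2 : χ 1 = e * θ 1 := hχT 1
    rw [h1, norm_mul, hnormθ]
    have h3 : ‖χ 1‖ = ‖e‖ * (Module.finrank ℂ (Fin m → ℂ) : ℝ) := by
      rw [h2, norm_mul, hθ1, Complex.norm_natCast]
    rw [← h3, hχ1, Complex.norm_natCast, Module.finrank_fin_fun]
  obtain ⟨ω', hω'⟩ := (norm_character_eq_finrank_iff ρ x).mp hnormχ
  apply hxZ
  rw [hZmem]
  intro h
  rw [hω']
  ext v
  simp

end Cfsg.Agent.Lib.Helper28
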