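import Mathlib
import Cfsg.Prelude.Def_Characters
import Cfsg.Agent.Lib.Helper28.MonoStep
import Cfsg.Agent.Lib.Helper28.ElemSub
import Cfsg.Agent.Lib.Helper7.IndTrans
import Cfsg.Agent.Lib.Helper24.LinBridge
import Cfsg.Agent.Lib.Helper26.CharBasic

set_option autoImplicit false

/-!
# Elementary groups are M-groups (helper28)

Every irreducible character of an elementary group is induced from a linear character of
a subgroup.
-/

namespace Cfsg.Agent.Lib.Helper28

open Cfsg Cfsg.Agent.Lib.Helper26 Cfsg.Agent.Lib.Helper7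

universe u

theorem monomial_aux : ∀ (n : ℕ) (E : Type u) [Group E] [Fintype E], Fintype.card E = n →
    (∃ q : ℕ, q.Prime ∧ IsElementary q E) → ∀ χ : E → ℂ, IsIrrCharacter E χ →
    ∃ (S : Subgroup E) (μ : S →* ℂˣ), indFun S (fun s => (μ s : ℂ)) = χ := by
  intro n
  induction n using Nat.strong_induction_on with
  | _ n ih =>
    intro E _ _ hcard hE χ hχ
    obtain ⟨q, hq, hE⟩ := hE
    classical
    by_cases hdeg : χ 1 = 1
    · obtain ⟨φ, hφ⟩ := Cfsg.Agent.Lib.Helper24.exists_hom_of_isCharacter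
        (isCharacter_of_isIrrCharacter hχ) hdeg
      refine ⟨⊤, φ.comp (Subgroup.subtype ⊤), ?_⟩
      have h1 := indFun_top χ (isClassFunction_of_isIrrCharacter hχ)
      rw [← h1]
      congr 1
      funext s
      rw [hφ]
      rfl
    · obtain ⟨I, ψ, hI, hψ, hind⟩ := exists_proper_induced hq hE χ hχ hdeg
      have hlt : Fintype.card I < n := by
        rw [← hcard]
        rw [← Nat.card_eq_fintype_card, ← Nat.card_eq_fintype_card]
        exact lt_of_le_of_ne (Subgroup.card_le_card_group I)
          (fun h => hI (Subgroup.eq_top_of_card_eq I h))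
      obtain ⟨S', μ', h'⟩ := ih _ hlt I rfl ⟨q, hq, isElementary_subgroup hq hE I⟩ ψ hψ
      refine ⟨S'.map I.subtype,
        μ'.comp (S'.equivMapOfInjective I.subtype I.subtype_injective).symm.toMonoidHom, ?_⟩
      rw [← hind, ← h', indFun_trans]
      rfl

theorem monomial {E : Type u} [Group E] [Fintype E] {q : ℕ} (hq : q.Prime)
    (hE : IsElementary q E) (χ : E → ℂ) (hχ : IsIrrCharacter E χ) :
    ∃ (S : Subgroup E) (μ : S →* ℂˣ), indFun S (fun s => (μ s : ℂ)) = χ :=
  monomial_aux _ E rfl ⟨q, hq, hE⟩ χ hχ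

end Cfsg.Agent.Lib.Helper28
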