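import Mathlib
import Cfsg.Prelude.Def_Characters
import Cfsg.Agent.Lib.Helper28.Monomial
import Cfsg.Agent.Lib.Helper28.BrauerIndD
import Cfsg.Agent.Lib.Helper4.CharOrtho
import Cfsg.Agent.Lib.Helper26.CharInt

set_option autoImplicit false

/-!
# Brauer's induction theorem with linear characters (helper28)
-/

namespace Cfsg.Agent.Lib.Helper28

open Cfsg Cfsg.Agent.Lib.Helper26 Cfsg.Agent.Lib.Helper7

variable {G : Type*} [Group G] [Fintype G]

/-- the span of the functions induced from linear characters of elementary subgroups -/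
noncomputable def linSpan (G : Type*) [Group G] [Fintype G] : Submodule ℤ (G → ℂ) :=
  Submodule.span ℤ {f | ∃ p : ℕ, p.Prime ∧ ∃ E : Subgroup G, IsElementary p E ∧
    ∃ μ : E →* ℂˣ, f = indFun E (fun e => (μ e : ℂ))}

theorem indFun_irr_mem_linSpan {p : ℕ} (hp : p.Prime) {E : Subgroup G} (hE : IsElementary p E)
    {φ : E → ℂ} (hφ : IsIrrCharacter E φ) : indFun E φ ∈ linSpan G := by
  classical
  have : Fintype E := Fintype.ofFinite E
  obtain ⟨S, μ, hμ⟩ := monomial hp hE φ hφ
  rw [← hμ, indFun_trans E S]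
  refine Submodule.subset_span ⟨p, hp, S.map E.subtype, ?_,
    μ.comp (S.equivMapOfInjective E.subtype E.subtype_injective).symm.toMonoidHom, rfl⟩
  exact isElementary_of_mulEquiv (S.equivMapOfInjective E.subtype E.subtype_injective)
    (isElementary_subgroup hp hE S)

theorem indFun_char_mem_linSpan {p : ℕ} (hp : p.Prime) {E : Subgroup G} (hE : IsElementary p E)
    {φ : E → ℂ} (hφ : IsCharacter E φ) : indFun E φ ∈ linSpan G := by
  classical
  have : Fintype E := Fintype.ofFinite E
  have : Fintype (IrrCharacter E) := Fintype.ofFinite _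
  have hexp := Cfsg.Agent.Lib.Helper4.classFunction_expansion φ
    (isClassFunction_of_isCharacter hφ)
  rw [hexp]
  have hsum : ∀ (s : Finset (IrrCharacter E)),
      indFun E (∑ χ ∈ s, classInner φ (χ : E → ℂ) • (χ : E → ℂ)) ∈ linSpan G := by
    intro s
    induction s using Finset.induction_on with
    | empty =>
      rw [Finset.sum_empty, indFun_zero]
      exact Submodule.zero_mem _
    | insert a s ha ih =>
      rw [Finset.sum_insert ha, indFun_add]
      refine Submodule.add_mem _ ?_ ih
      obtain ⟨n, hn⟩ := classInner_isCharacter_nat hφ (isCharacter_of_isIrrCharacter a.2)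
      rw [hn, indFun_smul]
      have h2 : ((n : ℂ) • indFun E (a : E → ℂ)) = (n : ℤ) • indFun E (a : E → ℂ) := by
        funext g; simp
      rw [h2]
      exact Submodule.smul_mem _ _ (indFun_irr_mem_linSpan hp hE a.2)
  exact hsum Finset.univ

theorem elemIndAll_le_linSpan : elemIndAll G ≤ linSpan G := by
  unfold elemIndAll
  rw [Submodule.span_le]
  rintro f ⟨p, hp, E, hE, φ, hφ, rfl⟩
  exact indFun_char_mem_linSpan hp hE hφ

theorem elemIndAll_mul_char {f ψ : G → ℂ} (hf : f ∈ elemIndAll G) (hψ : IsCharacter G ψ) :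
    f * ψ ∈ elemIndAll G := by
  unfold elemIndAll at hf
  induction hf using Submodule.span_induction with
  | mem x hx =>
    obtain ⟨p, hp, E, hE, φ, hφ, rfl⟩ := hx
    have : Fintype E := Fintype.ofFinite E
    rw [← indFun_mul_restrict E φ ψ (isClassFunction_of_isCharacter hψ)]
    exact Submodule.subset_span ⟨p, hp, E, hE, _,
      isCharacter_mul hφ (isCharacter_restrict E hψ), rfl⟩
  | zero => rw [zero_mul]; exact Submodule.zero_mem _
  | add x y hx hy h1 h2 => rw [add_mul]; exact Submodule.add_mem _ h1 h2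
  | smul r x hx h => rw [smul_mul_assoc]; exact Submodule.smul_mem _ _ h

/-- every character lies in the span of the characters induced from elementary subgroups -/
theorem char_mem_elemIndAll {χ : G → ℂ} (hχ : IsCharacter G χ) : χ ∈ elemIndAll G := by
  have h1 := elemIndAll_mul_char (one_mem_elemIndAll (G := G)) hχ
  have h2 : (fun _ : G => (1 : ℂ)) * χ = χ := by funext g; simp
  rw [h2] at h1
  exact h1

theorem char_mem_linSpan {χ : G → ℂ} (hχ : IsCharacter G χ) : χ ∈ linSpan G :=
  elemIndAll_le_linSpan (char_mem_elemIndAll hχ)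

/-- list form of membership in `linSpan` -/
theorem exists_list_of_mem_linSpan {f : G → ℂ} (hf : f ∈ linSpan G) :
    ∃ l : List ((E : Subgroup G) × ((E →* ℂˣ) × ℤ)),
      (∀ t ∈ l, ∃ p : ℕ, p.Prime ∧ IsElementary p t.1) ∧
      f = (l.map fun t => (t.2.2 : ℂ) • indFun t.1 (fun e => (t.2.1 e : ℂ))).sum := by
  unfold linSpan at hf
  induction hf using Submodule.span_induction with
  | mem x hx =>
    obtain ⟨p, hp, E, hE, μ, rfl⟩ := hx
    refine ⟨[⟨E, (μ, 1)⟩], ?_, ?_⟩
    · intro t ht
      rw [List.mem_singleton] at ht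
      subst ht
      exact ⟨p, hp, hE⟩
    · simp
  | zero => exact ⟨[], by simp, by simp⟩
  | add x y hx hy h1 h2 =>
    obtain ⟨l1, hl1, rfl⟩ := h1
    obtain ⟨l2, hl2, rfl⟩ := h2
    refine ⟨l1 ++ l2, ?_, ?_⟩
    · intro t ht
      rcases List.mem_append.mp ht with h | h
      · exact hl1 t h
      · exact hl2 t h
    · rw [List.map_append, List.sum_append]
  | smul r x hx h =>
    obtain ⟨l, hl, rfl⟩ := h
    refine ⟨l.map (fun t => ⟨t.1, (t.2.1, r * t.2.2)⟩), ?_, ?_⟩
    · intro t ht
      obtain ⟨t', ht', rfl⟩ := List.mem_map.mp ht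
      exact hl t' ht'
    · rw [List.map_map, List.smul_sum, List.map_map]
      congr 1
      apply List.map_congr_left
      intro t _
      show r • ((t.2.2 : ℂ) • indFun t.1 (fun e => (t.2.1 e : ℂ)))
        = ((r * t.2.2 : ℤ) : ℂ) • indFun t.1 (fun e => (t.2.1 e : ℂ))
      rw [Int.cast_mul, mul_smul]
      exact (Int.cast_smul_eq_zsmul ℂ r _).symm

end Cfsg.Agent.Lib.Helper28
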