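import Mathlib
import Cfsg.Agent.Lib.Helper28.SectionF
import Cfsg.Agent.Lib.Helper28.GreenVanK
import Cfsg.Agent.Lib.Helper16.PCore
import Cfsg.Agent.Lib.Helper26.GL2Cusp

set_option autoImplicit false

/-!
# Blocks with a central defect group (helper28)
-/

namespace Cfsg.Agent.Lib.Helper28

open Cfsg Cfsg.Agent.Lib.Helper4
open scoped ComplexConjugate Classical

variable {G : Type*} [Group G] [Fintype G] {M : Ideal AlgInt}

/-- a central defect group is the only defect group -/
theorem defectGroup_eq_of_central {p : ℕ} [Fact p.Prime] (hM : IsPModular p M)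
    {B : Set (IrrCharacter G)} (hB : IsPBlock M B) {P D : Subgroup G}
    (hP : IsDefectGroup p M B P) (hPZ : P ≤ Subgroup.center G)
    (hD : IsDefectGroup p M B D) : D = P := by
  have hPn : P.Normal := by
    constructor
    intro n hn g
    have := hPZ hn
    rw [Subgroup.mem_center_iff] at this
    have h1 : g * n * g⁻¹ = n := by
      rw [this g]; group
    rw [h1]; exact hn
  have hPp : IsPGroup p P := IsPGroup.of_card (card_defectGroup hM hB hP)
  have h1 : P ≤ D := (Cfsg.Agent.Lib.Helper16.le_pCore hPn hPp).trans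
    (Cfsg.Agent.S0912.result p M hM B hB D hD)
  have h2 : Nat.card D ≤ Nat.card P := by
    rw [card_defectGroup hM hB hP, card_defectGroup hM hB hD]
  exact (Subgroup.eq_of_le_of_card_ge h1 h2).symm

/-- characters in a block with central defect group `P` vanish off the elements with
`p`-part in `P` -/
theorem vanish_off_central_defect {p : ℕ} [Fact p.Prime] (hM : IsPModular p M)
    {B : Set (IrrCharacter G)} (hB : IsPBlock M B) {P : Subgroup G}
    (hP : IsDefectGroup p M B P) (hPZ : P ≤ Subgroup.center G) (χ : IrrCharacter G)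
    (hχ : χ ∈ B) (g x : G) (hx : IsPPart p g x) (hxP : x ∉ P) : (χ : G → ℂ) g = 0 := by
  have hprime : M.IsPrime := hM.2.1.isPrime
  apply irr_vanish_off_defectGroups hM χ g x hx
  intro D hD
  rw [← Helper28.block_eq_blockOf hB hχ] at hD
  rw [defectGroup_eq_of_central hM hB hP hPZ hD]
  exact hxP

/-- the sum of a function over the elements with `p`-part the central `p`-element `z` -/
theorem sum_pPart_eq_central {p : ℕ} (hp : p.Prime) (T : G → ℂ) (z : G)
    (hz : z ∈ Subgroup.center G) (hzp : ∃ k : ℕ, orderOf z = p ^ k) :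
    ∑ g : G, (if pPartOf hp g = z then T g else 0) =
      ∑ s : G, (if ¬ p ∣ orderOf s then T (z * s) else 0) := by
  rw [← Finset.sum_filter, ← Finset.sum_filter]
  symm
  apply Finset.sum_bij (fun (s : G) _ => z * s)
  · intro s hs
    rw [Finset.mem_filter] at hs ⊢
    refine ⟨Finset.mem_univ _, ?_⟩
    rw [pPartOf_eq_iff]
    rw [Subgroup.mem_center_iff] at hz
    exact ⟨s, rfl, (hz s).symm, hzp, hs.2⟩
  · intro s _ s' _ hss
    exact mul_left_cancel hss
  · intro g hg
    rw [Finset.mem_filter] at hg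
    obtain ⟨y, hxy, _, _, hy⟩ := (pPartOf_eq_iff hp g z).mp hg.2
    refine ⟨y, ?_, hxy⟩
    rw [Finset.mem_filter]
    exact ⟨Finset.mem_univ _, hy⟩
  · intro s _
    rfl

/-- the norm of `χ°` for `χ` in a block with central defect group -/
theorem sum_pRegular_normSq_central {p : ℕ} [Fact p.Prime] (hM : IsPModular p M)
    {B : Set (IrrCharacter G)} (hB : IsPBlock M B) {P : Subgroup G} [Fintype P]
    (hP : IsDefectGroup p M B P) (hPZ : P ≤ Subgroup.center G) (χ : IrrCharacter G)
    (hχ : χ ∈ B) :
    (Nat.card P : ℂ) * ∑ s : G, (if ¬ p ∣ orderOf s then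
      (χ : G → ℂ) s * conj ((χ : G → ℂ) s) else 0) = (Nat.card G : ℂ) := by
  have hp : p.Prime := Fact.out
  have hPp : IsPGroup p P := IsPGroup.of_card (card_defectGroup hM hB hP)
  have hzp : ∀ z : P, ∃ k : ℕ, orderOf (z : G) = p ^ k := by
    intro z
    obtain ⟨k, hk⟩ := IsPGroup.iff_orderOf.mp hPp z
    exact ⟨k, by rw [Subgroup.orderOf_coe]; exact hk⟩
  obtain ⟨T, hT⟩ : ∃ T : G → ℂ, T = fun g => (χ : G → ℂ) g * conj ((χ : G → ℂ) g) := ⟨_, rfl⟩
  have h1 : ∑ g : G, T g = (Nat.card G : ℂ) := by
    rw [hT]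
    have := sum_irr_mul_conj χ χ
    rw [if_pos rfl] at this
    exact this
  -- split according to the `p`-part
  have h2 : ∀ g : G, T g = ∑ z : P, if pPartOf hp g = (z : G) then T g else 0 := by
    intro g
    by_cases hg : pPartOf hp g ∈ P
    · rw [Finset.sum_eq_single (⟨pPartOf hp g, hg⟩ : P)]
      · rw [if_pos rfl]
      · intro z _ hz
        rw [if_neg]
        intro h
        exact hz (Subtype.ext h.symm)
      · intro h; exact absurd (Finset.mem_univ _) h
    · have h0 : T g = 0 := by
        rw [hT]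
        show (χ : G → ℂ) g * conj ((χ : G → ℂ) g) = 0
        rw [vanish_off_central_defect hM hB hP hPZ χ hχ g _ (isPPart_pPartOf hp g) hg, zero_mul]
      rw [h0]
      symm
      apply Finset.sum_eq_zero
      intro z _
      rw [ite_self]
  rw [← h1, Finset.sum_congr rfl fun g _ => h2 g, Finset.sum_comm]
  have h3 : ∀ z : P, ∑ g : G, (if pPartOf hp g = (z : G) then T g else 0) =
      ∑ s : G, (if ¬ p ∣ orderOf s then (χ : G → ℂ) s * conj ((χ : G → ℂ) s) else 0) := by
    intro z
    rw [sum_pPart_eq_central hp T (z : G) (hPZ z.2) (hzp z)]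
    refine Finset.sum_congr rfl fun s _ => ?_
    by_cases hs : p ∣ orderOf s
    · rw [if_neg (not_not.mpr hs), if_neg (not_not.mpr hs)]
    · rw [if_pos hs, if_pos hs, hT]
      show (χ : G → ℂ) ((z : G) * s) * conj ((χ : G → ℂ) ((z : G) * s)) = _
      rw [Complex.mul_conj, Complex.mul_conj, Complex.normSq_eq_norm_sq, Complex.normSq_eq_norm_sq,
        Cfsg.Agent.Lib.Helper26.PS.norm_char_center_mul χ.2 (z : G) (hPZ z.2) s]
  rw [Finset.sum_congr rfl fun z _ => h3 z, Finset.sum_const, Finset.card_univ, nsmul_eq_mul,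
    Nat.card_eq_fintype_card]

end Cfsg.Agent.Lib.Helper28
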