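import Mathlib
import Cfsg.Agent.Lib.Helper28.CentralDefectA

set_option autoImplicit false

/-!
# Blocks with a central defect group have `p`-regular rank one (helper28)
-/

namespace Cfsg.Agent.Lib.Helper28

open Cfsg Cfsg.Agent.Lib.Helper4
open scoped ComplexConjugate Classical

variable {G : Type*} [Group G] [Fintype G] {M : Ideal AlgInt}

/-- for `χ, ψ` in a block with central defect group, `∑_{s p-regular} χ(s) conj ψ(s) ≠ 0` -/
theorem sum_pRegular_mul_conj_ne_zero_central {p : ℕ} [Fact p.Prime] (hM : IsPModular p M)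
    {B : Set (IrrCharacter G)} (hB : IsPBlock M B) {P : Subgroup G} [Fintype P]
    (hP : IsDefectGroup p M B P) (hPZ : P ≤ Subgroup.center G) (χ ψ : IrrCharacter G)
    (hχ : χ ∈ B) (hψ : ψ ∈ B) :
    ∑ s : G, (if ¬ p ∣ orderOf s then (χ : G → ℂ) s * conj ((ψ : G → ℂ) s) else 0) ≠ 0 := by
  have hp : p.Prime := Fact.out
  have hprime : M.IsPrime := hM.2.1.isPrime
  have hMtop : M ≠ ⊤ := hM.2.1.ne_top
  obtain ⟨F, hF⟩ : ∃ F : G → ℂ, F = pRegularPart p (fun g => conj ((ψ : G → ℂ) g)) := ⟨_, rfl⟩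
  have hψcl := Helper4.isClassFunction_of_isIrrCharacter ψ.2
  have hχcl := Helper4.isClassFunction_of_isIrrCharacter χ.2
  have hFcl : IsClassFunction G F := by
    rw [hF]
    apply isClassFunction_pRegularPart
    intro g k
    show conj ((ψ : G → ℂ) (k * g * k⁻¹)) = conj ((ψ : G → ℂ) g)
    rw [hψcl g k]
  have hFR : ∀ g, MemLocalRing M (F g) := by
    intro g
    rw [hF, pRegularPart_apply]
    split_ifs
    · exact memLocalRing_of_isIntegral hMtop isIntegral_zero
    · apply memLocalRing_of_isIntegral hMtop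
      rw [Helper26.isCharacter_conj_eq_inv (Helper26.isCharacter_of_isIrrCharacter ψ.2)]
      exact Helper4.isIntegral_of_isIrrCharacter ψ.2 _
  have hsum : ∀ φ : IrrCharacter G, ∑ g, F g * (φ : G → ℂ) g =
      ∑ s : G, (if ¬ p ∣ orderOf s then (φ : G → ℂ) s * conj ((ψ : G → ℂ) s) else 0) := by
    intro φ
    refine Finset.sum_congr rfl fun g _ => ?_
    rw [hF, pRegularPart_apply]
    by_cases hg : p ∣ orderOf g
    · rw [if_pos hg, if_neg (not_not.mpr hg), zero_mul]
    · rw [if_neg hg, if_pos hg, mul_comm]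
  -- the value at `ψ`
  obtain ⟨hN0, hNd, -⟩ := irr_degree_nat ψ.2
  have hPc : (Nat.card P : ℂ) ≠ 0 := by exact_mod_cast Nat.card_pos.ne'
  have hNc : ((charDegree (ψ : G → ℂ) : ℕ) : ℂ) ≠ 0 := Nat.cast_ne_zero.mpr hN0
  have hindex : (P.index : ℂ) = (charDegree (ψ : G → ℂ) : ℂ) * omegaF (ψ : G → ℂ) F := by
    unfold omegaF
    rw [hsum ψ, hNd, mul_div_cancel₀ _ hNc]
    have h1 := sum_pRegular_normSq_central hM hB hP hPZ ψ hψ
    have h2 : (Nat.card G : ℂ) = (Nat.card P : ℂ) * (P.index : ℂ) := by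
      rw [← Nat.cast_mul, Subgroup.card_mul_index]
    rw [h2] at h1
    exact (mul_left_cancel₀ hPc h1).symm
  have hωR : MemLocalRing M (omegaF (ψ : G → ℂ) F) := Helper28.omegaF_memLocalRing ψ.2 F hFcl hFR
  have hidx0 : P.index ≠ 0 := Subgroup.index_ne_zero_of_finite
  have hle1 := factorization_le_of_eq_mul_memLocalRing hM hidx0 hindex hωR
  -- the other inequality, from the defect
  have hcardP := card_defectGroup hM hB hP
  have hle2 : P.index.factorization p ≤ (charDegree (ψ : G → ℂ)).factorization p := by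
    have h3 := sub_factorization_le_blockDefect (p := p) hψ
    have h4 : (Nat.card G).factorization p =
        (Nat.card P).factorization p + P.index.factorization p := by
      rw [← Subgroup.card_mul_index P, Nat.factorization_mul Nat.card_pos.ne' hidx0,
        Finsupp.add_apply]
    rw [hcardP, Nat.Prime.factorization_pow hp] at h4
    simp only [Finsupp.single_eq_same] at h4
    omega
  have hωJ : ¬ MemLocalIdeal M (omegaF (ψ : G → ℂ) F) := by
    intro hJ
    have := factorization_lt_of_eq_mul_memLocalIdeal hM hidx0 hindex hJ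
    omega
  -- transfer to `χ`
  have hsame : SameBlock M (χ : G → ℂ) (ψ : G → ℂ) := (Helper28.mem_block_iff hB hχ ψ).mp hψ
  have hdiff := Helper28.omegaF_sub_memLocalIdeal hχcl hψcl hsame F hFcl hFR
  have hχJ : ¬ MemLocalIdeal M (omegaF (χ : G → ℂ) F) := by
    intro hJ
    apply hωJ
    have := Helper28.memLocalIdeal_sub hJ hdiff
    rwa [sub_sub_cancel] at this
  intro h0
  apply hχJ
  unfold omegaF
  rw [hsum χ, h0, zero_div]
  exact memLocalIdeal_zero hMtop

/-- a block with central defect group `P` has at most `|P|` characters -/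
theorem card_le_of_central_defect {p : ℕ} [Fact p.Prime] (hM : IsPModular p M)
    {B : Set (IrrCharacter G)} (hB : IsPBlock M B) {P : Subgroup G} [Fintype P]
    (hP : IsDefectGroup p M B P) (hPZ : P ≤ Subgroup.center G) [Fintype (IrrCharacter G)] :
    (∑ χ : IrrCharacter G, if χ ∈ B then (1 : ℤ) else 0) ≤ (Nat.card P : ℤ) := by
  have hp : p.Prime := Fact.out
  have hprime : M.IsPrime := hM.2.1.isPrime
  have hGc : (Nat.card G : ℂ) ≠ 0 := by exact_mod_cast Nat.card_pos.ne'
  have hPc : (Nat.card P : ℂ) ≠ 0 := by exact_mod_cast Nat.card_pos.ne'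
  obtain ⟨θ, hθ⟩ := Helper28.block_nonempty hB
  obtain ⟨d, hd⟩ : ∃ d : ℕ, d = blockDefect p B := ⟨_, rfl⟩
  have hcardP : Nat.card P = p ^ d := by rw [hd]; exact card_defectGroup hM hB hP
  obtain ⟨f, hf⟩ : ∃ f : G → ℂ, f = fun g => (p ^ d : ℂ) * pRegularPart p (θ : G → ℂ) g :=
    ⟨_, rfl⟩
  have hfgen : IsGeneralizedCharacter G f := by
    rw [hf, hd]
    exact isGeneralizedCharacter_pow_blockDefect_pRegularPart hp hθ
  have hfcl : IsClassFunction G f := by
    rw [hf]
    intro g k
    show (p ^ d : ℂ) * pRegularPart p (θ : G → ℂ) (k * g * k⁻¹) = _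
    rw [isClassFunction_pRegularPart p (Helper4.isClassFunction_of_isIrrCharacter θ.2) g k]
  -- integer coefficients
  have hk : ∀ ψ : IrrCharacter G, ∃ k : ℤ, classInner f (ψ : G → ℂ) = (k : ℂ) := fun ψ =>
    Helper26.classInner_generalized_int hfgen
      (Helper26.isGeneralizedCharacter_of_isCharacter
        (Helper26.isCharacter_of_isIrrCharacter ψ.2))
  choose k hkdef using hk
  -- nonvanishing on `B`
  have hkne : ∀ ψ ∈ B, k ψ ≠ 0 := by
    intro ψ hψ h0
    have h1 := hkdef ψ
    rw [h0, Int.cast_zero] at h1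
    unfold classInner at h1
    have h2 : ∑ g : G, f g * conj ((ψ : G → ℂ) g) = (p ^ d : ℂ) *
        ∑ s : G, (if ¬ p ∣ orderOf s then (θ : G → ℂ) s * conj ((ψ : G → ℂ) s) else 0) := by
      rw [Finset.mul_sum, hf]
      refine Finset.sum_congr rfl fun g _ => ?_
      show (p ^ d : ℂ) * pRegularPart p (θ : G → ℂ) g * conj ((ψ : G → ℂ) g) = _
      rw [pRegularPart_apply]
      by_cases hg : p ∣ orderOf g
      · rw [if_pos hg, if_neg (not_not.mpr hg)]
        simp
      · rw [if_neg hg, if_pos hg, mul_assoc]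
    rw [h2] at h1
    have hpd : (p ^ d : ℂ) ≠ 0 := pow_ne_zero _ (Nat.cast_ne_zero.mpr hp.ne_zero)
    rcases mul_eq_zero.mp h1 with h3 | h3
    · exact inv_ne_zero hGc h3
    · rcases mul_eq_zero.mp h3 with h4 | h4
      · exact hpd h4
      · exact sum_pRegular_mul_conj_ne_zero_central hM hB hP hPZ θ ψ hθ hψ h4
  -- Parseval
  have hpars : ∑ ψ : IrrCharacter G, (k ψ) ^ 2 = (Nat.card P : ℤ) := by
    have hexp : ∀ s, f s = ∑ ψ : IrrCharacter G, (k ψ : ℂ) * (ψ : G → ℂ) s := by
      intro s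
      conv_lhs => rw [Helper4.classFunction_expansion f hfcl]
      rw [Finset.sum_apply]
      refine Finset.sum_congr rfl fun ψ _ => ?_
      rw [hkdef ψ]
      rfl
    have h1 := sum_norm_comb (H := G) (fun ψ : IrrCharacter G => (k ψ : ℂ))
    have h2 : ∑ s, f s * conj (f s) = (Nat.card G : ℂ) * ∑ ψ : IrrCharacter G,
        (k ψ : ℂ) * conj ((k ψ : ℂ)) := by
      rw [← h1]
      refine Finset.sum_congr rfl fun s _ => ?_
      rw [hexp s]
    have h3 : ∑ s, f s * conj (f s) = (p ^ d : ℂ) * (p ^ d : ℂ) *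
        ∑ s : G, (if ¬ p ∣ orderOf s then (θ : G → ℂ) s * conj ((θ : G → ℂ) s) else 0) := by
      rw [Finset.mul_sum, hf]
      refine Finset.sum_congr rfl fun g _ => ?_
      show (p ^ d : ℂ) * pRegularPart p (θ : G → ℂ) g *
        conj ((p ^ d : ℂ) * pRegularPart p (θ : G → ℂ) g) = _
      rw [pRegularPart_apply, map_mul, map_pow, Complex.conj_natCast]
      by_cases hg : p ∣ orderOf g
      · rw [if_pos hg, if_neg (not_not.mpr hg)]
        simp
      · rw [if_neg hg, if_pos hg]
        ring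
    have h4 := sum_pRegular_normSq_central hM hB hP hPZ θ hθ
    have h5 : (Nat.card P : ℂ) = (p ^ d : ℂ) := by rw [hcardP]; push_cast; rfl
    have h6 : ∑ ψ : IrrCharacter G, (k ψ : ℂ) * conj ((k ψ : ℂ)) = (Nat.card P : ℂ) := by
      apply mul_left_cancel₀ hGc
      rw [← h2, h3, ← h4, ← h5]
      ring
    have h7 : ((∑ ψ : IrrCharacter G, (k ψ) ^ 2 : ℤ) : ℂ) = ((Nat.card P : ℤ) : ℂ) := by
      push_cast
      rw [← h6]
      refine Finset.sum_congr rfl fun ψ _ => ?_
      rw [map_intCast, sq]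
    exact_mod_cast h7
  rw [← hpars]
  apply Finset.sum_le_sum
  intro ψ _
  by_cases hψ : ψ ∈ B
  · rw [if_pos hψ]
    have := hkne ψ hψ
    have h1 : 0 < (k ψ) ^ 2 := by positivity
    omega
  · rw [if_neg hψ]
    positivity

/-- **a block with central defect group has `p`-regular rank one** -/
theorem blockRank_eq_one_of_central_defect {p : ℕ} [Fact p.Prime] (hM : IsPModular p M)
    {B : Set (IrrCharacter G)} (hB : IsPBlock M B) {P : Subgroup G}
    (hP : IsDefectGroup p M B P) (hPZ : P ≤ Subgroup.center G) : blockRank p B = 1 := by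
  have hprime : M.IsPrime := hM.2.1.isPrime
  have : Fintype P := Fintype.ofFinite _
  have : Fintype (IrrCharacter G) := Fintype.ofFinite _
  have hGc : (Nat.card G : ℂ) ≠ 0 := by exact_mod_cast Nat.card_pos.ne'
  have hPc : (Nat.card P : ℂ) ≠ 0 := by exact_mod_cast Nat.card_pos.ne'
  have h1 := card_mul_blockRank hM hB
  -- `|P| · l(B) = k(B)`
  have h2 : (Nat.card P : ℂ) * (blockRank p B : ℂ) =
      ∑ χ : IrrCharacter G, if χ ∈ B then (1 : ℂ) else 0 := by
    apply mul_left_cancel₀ hGc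
    rw [← mul_assoc, mul_comm (Nat.card G : ℂ), mul_assoc, h1, Finset.sum_comm, Finset.mul_sum,
      Finset.mul_sum]
    refine Finset.sum_congr rfl fun χ _ => ?_
    by_cases hχ : χ ∈ B
    · simp only [if_pos hχ]
      rw [mul_one, ← sum_pRegular_normSq_central hM hB hP hPZ χ hχ]
      congr 1
      refine Finset.sum_congr rfl fun x _ => ?_
      rw [pRegularPart_apply]
      by_cases hx : p ∣ orderOf x
      · rw [if_pos hx, if_neg (not_not.mpr hx), zero_mul]
      · rw [if_neg hx, if_pos hx]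
    · simp only [if_neg hχ, Finset.sum_const_zero, mul_zero]
  have h3 : (Nat.card P : ℤ) * (blockRank p B : ℤ) =
      ∑ χ : IrrCharacter G, if χ ∈ B then (1 : ℤ) else 0 := by
    have : (((Nat.card P : ℤ) * (blockRank p B : ℤ) : ℤ) : ℂ) =
        ((∑ χ : IrrCharacter G, if χ ∈ B then (1 : ℤ) else 0 : ℤ) : ℂ) := by
      push_cast
      rw [h2]
    exact_mod_cast this
  have h4 := card_le_of_central_defect hM hB hP hPZ
  rw [← h3] at h4
  have hPpos : (0 : ℤ) < (Nat.card P : ℤ) := by exact_mod_cast Nat.card_pos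
  have hle : (blockRank p B : ℤ) ≤ 1 := by
    by_contra hcon
    push Not at hcon
    have : (Nat.card P : ℤ) * 2 ≤ (Nat.card P : ℤ) * (blockRank p B : ℤ) :=
      mul_le_mul_of_nonneg_left (by omega) hPpos.le
    omega
  have hge : (1 : ℤ) ≤ (blockRank p B : ℤ) := by
    by_contra hcon
    push Not at hcon
    have h0 : (blockRank p B : ℤ) = 0 := by omega
    rw [h0, mul_zero] at h3
    obtain ⟨θ, hθ⟩ := Helper28.block_nonempty hB
    have h5 : (1 : ℤ) ≤ ∑ χ : IrrCharacter G, if χ ∈ B then (1 : ℤ) else 0 := by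
      have := Finset.single_le_sum (f := fun χ : IrrCharacter G => if χ ∈ B then (1 : ℤ) else 0)
        (fun χ _ => by split_ifs <;> omega) (Finset.mem_univ θ)
      simpa [if_pos hθ] using this
    omega
  omega

end Cfsg.Agent.Lib.Helper28
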