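import Mathlib
import Cfsg.Prelude.Def_Characters

set_option autoImplicit false

/-!
# The `π`-part of an element as a power, and the power map on nilpotent groups (helper28)

For coprime `n`, `m` we fix an exponent `k ≡ 1 (mod n)`, `k ≡ 0 (mod m)`.  In a group of order
dividing `n * m`, `x ^ k` is the `π(n)`-part of `x`.  On a nilpotent group the map `x ↦ x ^ k`
is a homomorphism.
-/

namespace Cfsg.Agent.Lib.Helper28

open Cfsg

theorem exists_crt_exp {n m : ℕ} (h : Nat.Coprime n m) :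
    ∃ k : ℕ, k ≡ 1 [MOD n] ∧ k ≡ 0 [MOD m] :=
  ⟨Nat.chineseRemainder h 1 0, (Nat.chineseRemainder h 1 0).2.1,
    (Nat.chineseRemainder h 1 0).2.2⟩

section Pow

variable {G : Type*} [Group G] {n m k : ℕ}

theorem pow_k_eq_self (hk1 : k ≡ 1 [MOD n]) {x : G} (hx : x ^ n = 1) : x ^ k = x := by
  have h1 : k ≡ 1 [MOD orderOf x] := hk1.of_dvd (orderOf_dvd_of_pow_eq_one hx)
  have := pow_eq_pow_iff_modEq.mpr h1
  rw [this, pow_one]

theorem pow_k_eq_one (hk0 : k ≡ 0 [MOD m]) {x : G} (hx : x ^ m = 1) : x ^ k = 1 := by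
  have h1 : k ≡ 0 [MOD orderOf x] := hk0.of_dvd (orderOf_dvd_of_pow_eq_one hx)
  have := pow_eq_pow_iff_modEq.mpr h1
  rw [this, pow_zero]

theorem pow_k_pow_n (hk0 : k ≡ 0 [MOD m]) {x : G} (hx : x ^ (n * m) = 1) : (x ^ k) ^ n = 1 := by
  obtain ⟨c, hc⟩ := (Nat.modEq_zero_iff_dvd.mp hk0)
  rw [← pow_mul, hc, mul_comm m c, mul_assoc, mul_comm m n, mul_comm c, pow_mul, hx, one_pow]

theorem pow_k_pow_k (hk1 : k ≡ 1 [MOD n]) (hk0 : k ≡ 0 [MOD m]) {x : G}
    (hx : x ^ (n * m) = 1) : (x ^ k) ^ k = x ^ k :=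
  pow_k_eq_self hk1 (pow_k_pow_n hk0 hx)

/-- the complementary part `x * (x ^ k)⁻¹` has order dividing `m` -/
theorem compl_pow_m (hk1 : k ≡ 1 [MOD n]) {x : G} (hx : x ^ (n * m) = 1) :
    (x * (x ^ k)⁻¹) ^ m = 1 := by
  have hc : Commute x (x ^ k)⁻¹ := (Commute.refl x).pow_right k |>.inv_right
  rw [hc.mul_pow, inv_pow, ← pow_mul, mul_inv_eq_one]
  -- x ^ m = x ^ (k * m) since k * m ≡ m mod n * m
  apply pow_eq_pow_iff_modEq.mpr
  have h1 : k * m ≡ 1 * m [MOD n * m] := Nat.ModEq.mul_right' m hk1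
  rw [one_mul] at h1
  exact (h1.of_dvd (orderOf_dvd_of_pow_eq_one hx)).symm

end Pow

section Nilpotent

variable {E : Type*} [Group E] [Finite E]

/-- On a finite nilpotent group, if on the `p`-elements (for each prime `p`) the `k`-th power map
is either the identity or trivial, then the `k`-th power map is multiplicative. -/
theorem pow_mul_of_nilpotent [Group.IsNilpotent E] (k : ℕ)
    (h : ∀ (p : ℕ) [Fact p.Prime] (P : Sylow p E),
      (∀ y ∈ (P : Subgroup E), y ^ k = y) ∨ (∀ y ∈ (P : Subgroup E), y ^ k = 1))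
    (x y : E) : (x * y) ^ k = x ^ k * y ^ k := by
  classical
  obtain ⟨e⟩ := (Group.isNilpotent_of_finite_tfae (G := E)).out 0 4 rfl rfl |>.mp inferInstance
  have key : ∀ u v : (∀ p : (Nat.card E).primeFactors, ∀ P : Sylow p E, (↑P : Subgroup E)),
      (u * v) ^ k = u ^ k * v ^ k := by
    intro u v
    funext p P
    have : Fact (Nat.Prime (p : ℕ)) := ⟨Nat.prime_of_mem_primeFactors p.2⟩
    simp only [Pi.pow_apply, Pi.mul_apply]
    rcases h p P with h1 | h1
    · apply Subtype.ext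
      have a := h1 _ (u p P * v p P).2
      have b := h1 _ (u p P).2
      have c := h1 _ (v p P).2
      simp only [Subgroup.coe_pow, Subgroup.coe_mul] at a b c ⊢
      rw [a, b, c]
    · apply Subtype.ext
      have a := h1 _ (u p P * v p P).2
      have b := h1 _ (u p P).2
      have c := h1 _ (v p P).2
      simp only [Subgroup.coe_pow, Subgroup.coe_mul] at a b c ⊢
      rw [a, b, c, one_mul]
  obtain ⟨u, rfl⟩ := e.surjective x
  obtain ⟨v, rfl⟩ := e.surjective y
  rw [← map_mul, ← map_pow, ← map_pow, ← map_pow, ← map_mul, key]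

/-- elementary groups are nilpotent -/
theorem isNilpotent_of_isElementary {q : ℕ} (hq : q.Prime) (hE : IsElementary q E) :
    Group.IsNilpotent E := by
  have : Fact q.Prime := ⟨hq⟩
  obtain ⟨c, hc, hcop, j, hj⟩ := hE
  have hCcent : Subgroup.zpowers c ≤ Subgroup.center E := by
    rw [Subgroup.zpowers_le]; exact hc
  have hCn : (Subgroup.zpowers c).Normal := by
    constructor
    intro y hy g
    have := Subgroup.mem_center_iff.mp (hCcent hy) g
    have e : g * y * g⁻¹ = y := by rw [this]; group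
    rw [e]; exact hy
  have hpg : IsPGroup q (E ⧸ Subgroup.zpowers c) := by
    apply IsPGroup.of_card (n := j)
    rw [← Subgroup.index_eq_card]; exact hj
  have : Group.IsNilpotent (E ⧸ Subgroup.zpowers c) := hpg.isNilpotent
  apply Subgroup.isNilpotent_of_ker_le_center (QuotientGroup.mk' (Subgroup.zpowers c))
  rw [QuotientGroup.ker_mk']
  exact hCcent

/-- on an elementary group whose order divides `n * m` (coprime), the CRT power map is
multiplicative -/
theorem pow_mul_of_isElementary {q : ℕ} (hq : q.Prime) (hE : IsElementary q E) {n m k : ℕ}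
    (hnm : Nat.Coprime n m) (hcard : Nat.card E ∣ n * m) (hk1 : k ≡ 1 [MOD n])
    (hk0 : k ≡ 0 [MOD m]) (x y : E) : (x * y) ^ k = x ^ k * y ^ k := by
  have := isNilpotent_of_isElementary hq hE
  apply pow_mul_of_nilpotent k
  intro p hp P
  obtain ⟨a, ha⟩ := IsPGroup.iff_card.mp P.2
  have hdvd : p ^ a ∣ n * m := by
    rw [← ha]; exact (Subgroup.card_subgroup_dvd_card _).trans hcard
  by_cases hpn : p ∣ n
  · left
    intro y hy
    have hcop : Nat.Coprime (p ^ a) m :=
      Nat.Coprime.pow_left a (Nat.Coprime.coprime_dvd_left hpn hnm)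
    have h1 : p ^ a ∣ n := hcop.dvd_of_dvd_mul_right hdvd
    apply pow_k_eq_self hk1
    obtain ⟨c, hc⟩ := h1
    have h2 : y ^ (p ^ a) = 1 := by
      have := pow_card_eq_one' (G := (P : Subgroup E)) (x := ⟨y, hy⟩)
      rw [ha] at this
      exact congrArg Subtype.val this
    rw [hc, pow_mul, h2, one_pow]
  · right
    intro y hy
    have hcop : Nat.Coprime (p ^ a) n :=
      Nat.Coprime.pow_left a ((Nat.Prime.coprime_iff_not_dvd hp.out).mpr hpn)
    have h1 : p ^ a ∣ m := hcop.dvd_of_dvd_mul_left hdvd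
    apply pow_k_eq_one hk0
    obtain ⟨c, hc⟩ := h1
    have h2 : y ^ (p ^ a) = 1 := by
      have := pow_card_eq_one' (G := (P : Subgroup E)) (x := ⟨y, hy⟩)
      rw [ha] at this
      exact congrArg Subtype.val this
    rw [hc, pow_mul, h2, one_pow]

end Nilpotent

end Cfsg.Agent.Lib.Helper28
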