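import Mathlib
import Cfsg.Prelude.Def_Characters
import Cfsg.Agent.Lib.Helper28.PiPart

set_option autoImplicit false

/-!
# Splitting a `p`-elementary subgroup into its `p`-part and `p'`-part by power maps (helper28)
-/

namespace Cfsg.Agent.Lib.Helper28

open Cfsg

variable {G : Type*} [Group G] [Finite G]

/-- exponents `kp`, `kq` such that `e ↦ e ^ kp`, `e ↦ e ^ kq` are the projections of the
`p`-elementary group `E` onto its Sylow `p`-subgroup and its central `p'`-part; the `p'`-part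
lies in any normal subgroup of `p`-power index -/
theorem exists_split_exponents {p : ℕ} (hp : p.Prime) (N : Subgroup G) [hN : N.Normal]
    (hind : ∃ k : ℕ, N.index = p ^ k) (E : Subgroup G) (hE : IsElementary p E) :
    ∃ kp kq a : ℕ, (∀ e : E, (e ^ kp) ^ (p ^ a) = 1) ∧ (∀ e : E, e ^ kp * e ^ kq = e) ∧
      (∀ e f : E, (e * f) ^ kp = e ^ kp * f ^ kp) ∧ (∀ e f : E, (e * f) ^ kq = e ^ kq * f ^ kq) ∧
      (∀ e : E, ((e ^ kq : E) : G) ∈ N) ∧ (∀ e f : E, e ^ kq * f = f * e ^ kq) := by
  classical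
  have hE0 : Nat.card E ≠ 0 := Nat.card_pos.ne'
  obtain ⟨a, ha⟩ : ∃ a : ℕ, a = (Nat.card E).factorization p := ⟨_, rfl⟩
  obtain ⟨m, hm⟩ : ∃ m : ℕ, m = Nat.card E / p ^ (Nat.card E).factorization p := ⟨_, rfl⟩
  have hcard : Nat.card E = p ^ a * m := by
    rw [hm, ha]; exact (Nat.ordProj_mul_ordCompl_eq_self _ p).symm
  have hmp : m.Coprime p := by
    rw [hm]; exact (Nat.coprime_ordCompl hp hE0).symm
  have hnm : Nat.Coprime (p ^ a) m := (Nat.Coprime.pow_right a hmp).symm
  obtain ⟨kp, hkp1, hkp0⟩ := exists_crt_exp hnm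
  obtain ⟨kq, hkq1, hkq0⟩ := exists_crt_exp hnm.symm
  have hpow : ∀ e : E, e ^ (p ^ a * m) = 1 := fun e => by
    rw [← hcard]; exact pow_card_eq_one'
  have hpow' : ∀ e : E, e ^ (m * p ^ a) = 1 := fun e => by
    rw [mul_comm]; exact hpow e
  refine ⟨kp, kq, a, fun e => pow_k_pow_n hkp0 (hpow e), ?_,
    pow_mul_of_isElementary hp hE hnm (by rw [hcard]) hkp1 hkp0,
    pow_mul_of_isElementary hp hE hnm.symm (by rw [hcard, mul_comm]) hkq1 hkq0, ?_, ?_⟩
  · intro e
    rw [← pow_add]
    have h1 : kp + kq ≡ 1 [MOD p ^ a * m] := by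
      apply (Nat.modEq_and_modEq_iff_modEq_mul hnm).mp
      constructor
      · have := Nat.ModEq.add hkp1 hkq0
        simpa using this
      · have := Nat.ModEq.add hkp0 hkq1
        simpa using this
    have h2 : kp + kq ≡ 1 [MOD orderOf e] :=
      h1.of_dvd (orderOf_dvd_of_pow_eq_one (hpow e))
    have := pow_eq_pow_iff_modEq.mpr h2
    rw [this, pow_one]
  · intro e
    obtain ⟨k, hk⟩ := hind
    have h1 : ((e ^ kq : E) : G) ^ m = 1 := by
      have := pow_k_pow_n hkq0 (hpow' e)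
      have h2 := congrArg (Subtype.val : E → G) this
      simpa using h2
    rw [← QuotientGroup.eq_one_iff]
    have h3 : (((e ^ kq : E) : G) : G ⧸ N) ^ m = 1 := by
      rw [← QuotientGroup.mk_pow, h1]; rfl
    have h4 : (((e ^ kq : E) : G) : G ⧸ N) ^ (p ^ k) = 1 := by
      have : Nat.card (G ⧸ N) = p ^ k := by rw [← Subgroup.index_eq_card]; exact hk
      rw [← this]; exact pow_card_eq_one'
    have h5 := Nat.dvd_gcd (orderOf_dvd_of_pow_eq_one h3) (orderOf_dvd_of_pow_eq_one h4)
    have h6 : Nat.Coprime m (p ^ k) := Nat.Coprime.pow_right k hmp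
    rw [h6] at h5
    exact orderOf_eq_one_iff.mp (Nat.dvd_one.mp h5)
  · intro e f
    obtain ⟨c, hc, hcop, j, hj⟩ := hE
    have hCcent : Subgroup.zpowers c ≤ Subgroup.center E := by
      rw [Subgroup.zpowers_le]; exact hc
    haveI hCn : (Subgroup.zpowers c).Normal := by
      constructor
      intro y hy g
      have := Subgroup.mem_center_iff.mp (hCcent hy) g
      have e' : g * y * g⁻¹ = y := by rw [this]; group
      rw [e']; exact hy
    have h1 : e ^ (p ^ j) ∈ Subgroup.zpowers c := by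
      rw [← hj]; exact Subgroup.pow_index_mem _ e
    have h2 : p ^ j ∣ p ^ a := by
      have h3 : p ^ j ∣ Nat.card E := by
        rw [← hj]; exact Subgroup.index_dvd_card _
      rw [ha]
      exact pow_dvd_pow p ((hp.pow_dvd_iff_le_factorization hE0).mp h3)
    obtain ⟨t, ht⟩ := h2.trans (Nat.modEq_zero_iff_dvd.mp hkq0)
    have h4 : e ^ kq ∈ Subgroup.center E := by
      rw [ht, pow_mul]
      exact hCcent (Subgroup.pow_mem _ h1 t)
    exact (Subgroup.mem_center_iff.mp h4 f).symm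

end Cfsg.Agent.Lib.Helper28
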