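import Mathlib
import Cfsg.Prelude.Def_Characters
import Cfsg.Agent.Lib.Helper2.CharConj

set_option autoImplicit false

/-!
# Transport of the hypotheses of Isaacs 8.26 along conjugation (helper28)
-/

namespace Cfsg.Agent.Lib.Helper28

open Cfsg Cfsg.Agent.Lib.Helper2

variable {G : Type*} [Group G]

/-- `P ∩ N` is central in `P` and linear characters of `P ∩ N` extend to `P` -/
def SylowHyp (N P : Subgroup G) : Prop :=
  (∀ x ∈ P ⊓ N, ∀ y ∈ P, x * y = y * x) ∧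
    ∀ lam : ↥(P ⊓ N) → ℂ, IsCharacter ↥(P ⊓ N) lam → lam 1 = 1 →
      ∃ μ : ↥P → ℂ, IsCharacter ↥P μ ∧ μ 1 = 1 ∧ ∀ x : ↥(P ⊓ N), μ ⟨(x : G), x.2.1⟩ = lam x

theorem sylowHyp_of_conj (N : Subgroup G) [hN : N.Normal] (P P' : Subgroup G) (g : G)
    (h : ∀ x, x ∈ P' ↔ g⁻¹ * x * g ∈ P) (hP : SylowHyp N P) : SylowHyp N P' := by
  obtain ⟨hcent, hlin⟩ := hP
  have hNc : ∀ x, x ∈ N → g⁻¹ * x * g ∈ N := by
    intro x hx
    have := hN.conj_mem x hx g⁻¹
    simpa using this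
  have hNc' : ∀ x, x ∈ N → g * x * g⁻¹ ∈ N := fun x hx => hN.conj_mem x hx g
  have h' : ∀ y, y ∈ P → g * y * g⁻¹ ∈ P' := by
    intro y hy
    rw [h]
    have : g⁻¹ * (g * y * g⁻¹) * g = y := by group
    rwa [this]
  constructor
  · intro x hx y hy
    have h1 := hcent (g⁻¹ * x * g) ⟨(h x).mp hx.1, hNc x hx.2⟩ (g⁻¹ * y * g) ((h y).mp hy)
    have h2 : g⁻¹ * (x * y) * g = g⁻¹ * (y * x) * g := by
      have e1 : g⁻¹ * (x * y) * g = (g⁻¹ * x * g) * (g⁻¹ * y * g) := by group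
      have e2 : g⁻¹ * (y * x) * g = (g⁻¹ * y * g) * (g⁻¹ * x * g) := by group
      rw [e1, e2, h1]
    exact mul_left_cancel (mul_right_cancel h2)
  · intro lam' hlam' hlam1
    -- the conjugation isomorphisms
    let cN : ↥(P ⊓ N) →* ↥(P' ⊓ N) :=
      { toFun := fun y => ⟨g * y * g⁻¹, ⟨h' y y.2.1, hNc' y y.2.2⟩⟩
        map_one' := by apply Subtype.ext; simp
        map_mul' := fun a b => by
          apply Subtype.ext
          show g * ((a : G) * (b : G)) * g⁻¹ = (g * (a : G) * g⁻¹) * (g * (b : G) * g⁻¹)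
          group }
    let c : ↥P' →* ↥P :=
      { toFun := fun x => ⟨g⁻¹ * x * g, (h x).mp x.2⟩
        map_one' := by apply Subtype.ext; simp
        map_mul' := fun a b => by
          apply Subtype.ext
          show g⁻¹ * ((a : G) * (b : G)) * g = (g⁻¹ * (a : G) * g) * (g⁻¹ * (b : G) * g)
          group }
    have hlam : IsCharacter ↥(P ⊓ N) (lam' ∘ cN) := isCharacter_comp_hom hlam' cN
    have hlam1' : (lam' ∘ cN) 1 = 1 := by
      rw [Function.comp_apply, map_one]; exact hlam1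
    obtain ⟨μ, hμ, hμ1, hμe⟩ := hlin (lam' ∘ cN) hlam hlam1'
    refine ⟨μ ∘ c, isCharacter_comp_hom hμ c, ?_, ?_⟩
    · rw [Function.comp_apply, map_one]; exact hμ1
    · intro x
      have hx1 : g⁻¹ * (x : G) * g ∈ P ⊓ N := ⟨(h x).mp x.2.1, hNc x x.2.2⟩
      have h1 := hμe ⟨g⁻¹ * (x : G) * g, hx1⟩
      have h2 : cN ⟨g⁻¹ * (x : G) * g, hx1⟩ = x := by
        apply Subtype.ext
        show g * (g⁻¹ * (x : G) * g) * g⁻¹ = x
        group
      rw [Function.comp_apply, h2] at h1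
      rw [← h1]
      rfl

end Cfsg.Agent.Lib.Helper28
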