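import Mathlib
import Cfsg.Prelude.Def_Characters
import Cfsg.Agent.Lib.Helper28.SylowHyp
import Cfsg.Agent.Lib.Helper28.ElemSplit
import Cfsg.Agent.Lib.Helper28.Schur
import Cfsg.Agent.Lib.Helper24.LinBridge
import Cfsg.Agent.Lib.Helper26.CharBasic

set_option autoImplicit false

/-!
# Extending an irreducible character of `E ∩ N` to a `p`-elementary subgroup `E`
under the hypotheses of Isaacs 8.26 (helper28)
-/

namespace Cfsg.Agent.Lib.Helper28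

open Cfsg Cfsg.Agent.Lib.Helper26 Cfsg.Agent.Lib.Helper24

/-- extension of homomorphisms into `ℂˣ` from subgroups of a finite commutative group -/
theorem exists_hom_extension_of_comm {A : Type*} [inst : Group A] [Finite A]
    (hA : ∀ a b : A, a * b = b * a) (B : Subgroup A) (f : B →* ℂˣ) :
    ∃ F : A →* ℂˣ, ∀ b : B, F b = f b := by
  let _ : CommGroup A := { inst with mul_comm := hA }
  have : NeZero ((Monoid.exponent A : ℕ) : ℂ) :=
    ⟨by exact_mod_cast (Monoid.exponent_ne_zero_of_finite (G := A))⟩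
  obtain ⟨F, hF⟩ := MonoidHom.domRestrict_surjective (G := A) (M := ℂ) B f
  exact ⟨F, fun b => by rw [← hF]; rfl⟩

variable {G : Type*} [Group G] [Finite G]

theorem exists_linear_extension {p : ℕ} (hp : p.Prime) (N : Subgroup G) [hN : N.Normal]
    (hind : ∃ k : ℕ, N.index = p ^ k) (E : Subgroup G) (hE : IsElementary p E)
    (hSyl : ∀ Q : Subgroup G, IsPGroup p Q → ∃ P' : Subgroup G, Q ≤ P' ∧ SylowHyp N P')
    (φ : ↥(E ⊓ N) → ℂ) (hφ : IsIrrCharacter ↥(E ⊓ N) φ) :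
    ∃ ν : ↥E →* ℂˣ, ∀ x : ↥(E ⊓ N), ((ν ⟨x, x.2.1⟩ : ℂˣ) : ℂ) = φ x := by
  classical
  obtain ⟨kp, kq, a, F1, F3, F4p, F4q, F5, F6⟩ := exists_split_exponents hp N hind E hE
  let πp : E →* E := { toFun := fun e => e ^ kp, map_one' := one_pow _, map_mul' := F4p }
  have hQ : IsPGroup p ((πp.range).map E.subtype) := by
    rintro ⟨y, hy⟩
    obtain ⟨z, ⟨e, rfl⟩, rfl⟩ := hy
    refine ⟨a, Subtype.ext ?_⟩
    show ((πp e : E) : G) ^ (p ^ a) = 1
    have h := congrArg (Subtype.val : E → G) (F1 e)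
    rw [Subgroup.coe_pow, Subgroup.coe_one] at h
    exact h
  obtain ⟨P', hQP, hcent, hlin⟩ := hSyl _ hQ
  have hQmem : ∀ e : E, ((e ^ kp : E) : G) ∈ P' := fun e => hQP ⟨e ^ kp, ⟨e, rfl⟩, rfl⟩
  have hNpow : ∀ (x : ↥(E ⊓ N)) (k : ℕ), (((⟨x, x.2.1⟩ : E) ^ k : E) : G) ∈ N := by
    intro x k
    rw [Subgroup.coe_pow]
    exact N.pow_mem x.2.2 _
  -- commutativity of `E ⊓ N`
  have hcomm : ∀ x y : ↥(E ⊓ N), x * y = y * x := by
    intro x y
    obtain ⟨ex, hex⟩ : ∃ ex : E, ex = ⟨x, x.2.1⟩ := ⟨_, rfl⟩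
    obtain ⟨ey, hey⟩ : ∃ ey : E, ey = ⟨y, y.2.1⟩ := ⟨_, rfl⟩
    suffices h : ex * ey = ey * ex by
      apply Subtype.ext
      have := congrArg (Subtype.val : E → G) h
      rw [hex, hey] at this
      exact this
    have hxp : ((ex ^ kp : E) : G) ∈ P' ⊓ N := ⟨hQmem ex, by rw [hex]; exact hNpow x kp⟩
    have c1 : Commute (ex ^ kp) (ey ^ kp) := Subtype.ext (hcent _ hxp _ (hQmem ey))
    have c2 : ∀ f : E, Commute (ex ^ kq) f := fun f => F6 ex f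
    have c3 : ∀ f : E, Commute f (ey ^ kq) := fun f => (F6 ey f).symm
    have h4 : Commute (ex ^ kp * ex ^ kq) (ey ^ kp * ey ^ kq) :=
      Commute.mul_right (Commute.mul_left c1 (c2 _)) (c3 _)
    rw [F3, F3] at h4
    exact h4
  -- `φ` is linear
  have hφ1 : φ 1 = 1 := by
    obtain ⟨d, ρ, hirr, hρ⟩ := hφ
    have h3 := finrank_eq_one_of_commute ρ hirr (fun g k => by
      rw [← map_mul, ← map_mul, hcomm g k])
    rw [← hρ, Representation.char_one, h3]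
    simp
  obtain ⟨φ', hφ'⟩ := exists_hom_of_isCharacter (isCharacter_of_isIrrCharacter hφ) hφ1
  have hAcomm : ∀ a b : ↥(P' ⊓ N), a * b = b * a := fun a b =>
    Subtype.ext (hcent a a.2 b b.2.1)
  let f : ↥(E.subgroupOf (P' ⊓ N)) →* ℂˣ :=
    { toFun := fun b => φ' ⟨((b : ↥(P' ⊓ N)) : G), ⟨Subgroup.mem_subgroupOf.mp b.2, b.1.2.2⟩⟩
      map_one' := by
        have : (⟨(((1 : ↥(E.subgroupOf (P' ⊓ N))) : ↥(P' ⊓ N)) : G),
          ⟨Subgroup.mem_subgroupOf.mp (1 : ↥(E.subgroupOf (P' ⊓ N))).2,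
            (1 : ↥(E.subgroupOf (P' ⊓ N))).1.2.2⟩⟩ : ↥(E ⊓ N)) = 1 := rfl
        rw [this, map_one]
      map_mul' := fun b c => by
        rw [← map_mul]
        rfl }
  obtain ⟨F, hF⟩ := exists_hom_extension_of_comm hAcomm (E.subgroupOf (P' ⊓ N)) f
  have hlam : IsCharacter ↥(P' ⊓ N) (fun a => ((F a : ℂˣ) : ℂ)) := isCharacter_of_hom F
  obtain ⟨μc, hμc, hμ1, hμe⟩ := hlin _ hlam (by simp)
  obtain ⟨μ, hμ⟩ := exists_hom_of_isCharacter hμc hμ1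
  let fp : ↥E →* ↥P' :=
    { toFun := fun e => ⟨((e ^ kp : E) : G), hQmem e⟩
      map_one' := by apply Subtype.ext; simp
      map_mul' := fun e f => by
        apply Subtype.ext
        show (((e * f) ^ kp : E) : G) = ((e ^ kp : E) : G) * ((f ^ kp : E) : G)
        rw [F4p]; rfl }
  let fq : ↥E →* ↥(E ⊓ N) :=
    { toFun := fun e => ⟨((e ^ kq : E) : G), ⟨(e ^ kq).2, F5 e⟩⟩
      map_one' := by apply Subtype.ext; simp
      map_mul' := fun e f => by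
        apply Subtype.ext
        show (((e * f) ^ kq : E) : G) = ((e ^ kq : E) : G) * ((f ^ kq : E) : G)
        rw [F4q]; rfl }
  refine ⟨(μ.comp fp) * (φ'.comp fq), ?_⟩
  intro x
  obtain ⟨e, he⟩ : ∃ e : E, e = ⟨x, x.2.1⟩ := ⟨_, rfl⟩
  rw [← he]
  have hx1 : ((e ^ kp : E) : G) ∈ E ⊓ N := ⟨(e ^ kp).2, by rw [he]; exact hNpow x kp⟩
  have key : μ (fp e) = φ' ⟨((e ^ kp : E) : G), hx1⟩ := by
    apply Units.ext
    have h1 : ((μ (fp e) : ℂˣ) : ℂ) = μc (fp e) := by rw [hμ]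
    have h2 := hμe ⟨((e ^ kp : E) : G), ⟨hQmem e, hx1.2⟩⟩
    have h3 := hF ⟨⟨((e ^ kp : E) : G), ⟨hQmem e, hx1.2⟩⟩, Subgroup.mem_subgroupOf.mpr hx1.1⟩
    rw [h1]
    calc μc (fp e) = ((F ⟨((e ^ kp : E) : G), ⟨hQmem e, hx1.2⟩⟩ : ℂˣ) : ℂ) := h2
      _ = ((φ' ⟨((e ^ kp : E) : G), hx1⟩ : ℂˣ) : ℂ) := by rw [h3]; rfl
  have hprod : (⟨((e ^ kp : E) : G), hx1⟩ : ↥(E ⊓ N)) * fq e = x := by
    apply Subtype.ext
    have h9 := congrArg (Subtype.val : E → G) (F3 e)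
    have h10 : (e : G) = x := by rw [he]
    rw [← h10, ← h9]
    rfl
  show (((μ (fp e)) * (φ' (fq e)) : ℂˣ) : ℂ) = φ x
  rw [key, ← map_mul, hprod, hφ']

end Cfsg.Agent.Lib.Helper28
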