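import Mathlib
import Cfsg.Prelude.Def_Characters
import Cfsg.Agent.Lib.Helper26.IndChar
import Cfsg.Agent.Lib.Helper26.FrobeniusKernel
import Cfsg.Agent.Lib.Helper4.CharOrtho

set_option autoImplicit false

/-!
# Dade's theorem, part A: the induced invariant character and a reciprocity computation
(helper28)
-/

namespace Cfsg.Agent.Lib.Helper28

open Cfsg Cfsg.Agent.Lib.Helper26 Cfsg.Agent.Lib.Helper4
open scoped ComplexConjugate

variable {G : Type*} [Group G] [Fintype G] (N : Subgroup G) [hN : N.Normal]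

open Classical in
/-- the character induced from an invariant function of a normal subgroup -/
theorem indFun_invariant_apply (ϑ : N → ℂ)
    (hinv : ∀ (g : G) (n : N), ϑ ⟨g * n * g⁻¹, hN.conj_mem (n : G) n.2 g⟩ = ϑ n) (g : G) :
    indFun N ϑ g = if h : g ∈ N then (N.index : ℂ) * ϑ ⟨g, h⟩ else 0 := by
  classical
  unfold indFun
  by_cases h : g ∈ N
  · rw [dif_pos h]
    have h1 : ∀ x : G, extendByZero N ϑ (x⁻¹ * g * x) = ϑ ⟨g, h⟩ := by
      intro x
      have hm : x⁻¹ * g * x ∈ N := by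
        have := hN.conj_mem g h x⁻¹
        simpa using this
      rw [extendByZero_apply_mem N ϑ _ hm]
      have := hinv x⁻¹ ⟨g, h⟩
      rw [← this]
      congr 1
      apply Subtype.ext
      simp
    rw [Finset.sum_congr rfl (fun x _ => h1 x), Finset.sum_const, Finset.card_univ,
      nsmul_eq_mul, ← mul_assoc]
    congr 1
    have hN0 : (Nat.card N : ℂ) ≠ 0 := by exact_mod_cast Nat.card_pos.ne'
    have h2 : (Fintype.card G : ℂ) = (Nat.card N : ℂ) * (N.index : ℂ) := by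
      rw [← Nat.cast_mul, Subgroup.card_mul_index, Nat.card_eq_fintype_card]
    rw [h2, ← mul_assoc, inv_mul_cancel₀ hN0, one_mul]
  · rw [dif_neg h]
    rw [Finset.sum_eq_zero, mul_zero]
    intro x _
    apply extendByZero_apply_not_mem
    intro hm
    apply h
    have := hN.conj_mem _ hm x
    simpa [mul_assoc] using this

/-- the squared absolute value of the induced character -/
noncomputable def indSq (ϑ : N → ℂ) : G → ℂ := fun g => indFun N ϑ g * conj (indFun N ϑ g)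

open Classical in
theorem indSq_apply (ϑ : N → ℂ)
    (hinv : ∀ (g : G) (n : N), ϑ ⟨g * n * g⁻¹, hN.conj_mem (n : G) n.2 g⟩ = ϑ n) (g : G) :
    indSq N ϑ g = if h : g ∈ N then (N.index : ℂ) ^ 2 * (ϑ ⟨g, h⟩ * conj (ϑ ⟨g, h⟩)) else 0 := by
  unfold indSq
  rw [indFun_invariant_apply N ϑ hinv g]
  by_cases h : g ∈ N
  · rw [dif_pos h, dif_pos h]
    simp only [map_mul, Complex.conj_natCast]
    ring
  · rw [dif_neg h, dif_neg h, zero_mul]

theorem conj_indSq (ϑ : N → ℂ) (g : G) : conj (indSq N ϑ g) = indSq N ϑ g := by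
  unfold indSq
  rw [map_mul, Complex.conj_conj, mul_comm]

theorem isClassFunction_indSq {ϑ : N → ℂ} (hϑ : IsCharacter N ϑ) :
    IsClassFunction G (indSq N ϑ) := by
  have h := Helper26.isClassFunction_of_isCharacter (isCharacter_indFun N hϑ)
  intro g k
  unfold indSq
  rw [h g k]

/-- a sum over `E` of a function supported on `N` as a sum over `E ⊓ N` -/
theorem sum_dite_mem_eq_sum_inf (E : Subgroup G) [Fintype E] [Fintype ↥(E ⊓ N)]
    (f : ∀ e : E, (e : G) ∈ N → ℂ) [DecidablePred fun e : E => (e : G) ∈ N] :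
    ∑ e : E, (if h : (e : G) ∈ N then f e h else 0) =
      ∑ d : ↥(E ⊓ N), f ⟨d, d.2.1⟩ d.2.2 := by
  classical
  have h1 : ∑ e : E, (if h : (e : G) ∈ N then f e h else 0) =
      ∑ e ∈ Finset.univ.filter (fun e : E => (e : G) ∈ N),
        (if h : (e : G) ∈ N then f e h else 0) := by
    symm
    apply Finset.sum_filter_of_ne
    intro e _ hne
    by_contra hn
    rw [dif_neg hn] at hne
    exact hne rfl
  rw [h1, Finset.sum_subtype (Finset.univ.filter (fun e : E => (e : G) ∈ N))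
    (p := fun e : E => (e : G) ∈ N) (fun e => by simp)]
  let eqv : {e : E // (e : G) ∈ N} ≃ ↥(E ⊓ N) :=
    { toFun := fun e => ⟨e.1.1, ⟨e.1.2, e.2⟩⟩
      invFun := fun d => ⟨⟨d.1, d.2.1⟩, d.2.2⟩
      left_inv := fun e => rfl
      right_inv := fun d => rfl }
  apply Fintype.sum_equiv eqv
  intro e
  rw [dif_pos e.2]
  rfl

theorem classInner_indFun_indSq {ϑ : N → ℂ} (hϑ : IsCharacter N ϑ)
    (hinv : ∀ (g : G) (n : N), ϑ ⟨g * n * g⁻¹, hN.conj_mem (n : G) n.2 g⟩ = ϑ n)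
    (E : Subgroup G) [Fintype E] [Fintype ↥(E ⊓ N)] (φ : E → ℂ) :
    classInner (indFun E φ) (indSq N ϑ) = (N.index : ℂ) ^ 2 * (Nat.card E : ℂ)⁻¹ *
      ∑ d : ↥(E ⊓ N), φ ⟨d, d.2.1⟩ * (ϑ ⟨d, d.2.2⟩ * conj (ϑ ⟨d, d.2.2⟩)) := by
  classical
  rw [classInner_indFun_left' E φ _ (isClassFunction_indSq N hϑ)]
  unfold classInner
  have h1 : ∀ e : E, φ e * conj ((indSq N ϑ ∘ E.subtype) e) =
      if h : (e : G) ∈ N then
        (N.index : ℂ) ^ 2 * (φ e * (ϑ ⟨e, h⟩ * conj (ϑ ⟨e, h⟩))) else 0 := by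
    intro e
    show φ e * conj (indSq N ϑ (e : G)) = _
    rw [conj_indSq, indSq_apply N ϑ hinv]
    by_cases h : (e : G) ∈ N
    · rw [dif_pos h, dif_pos h]; ring
    · rw [dif_neg h, dif_neg h, mul_zero]
  rw [Finset.sum_congr rfl (fun e _ => h1 e),
    sum_dite_mem_eq_sum_inf N E
      (fun e h => (N.index : ℂ) ^ 2 * (φ e * (ϑ ⟨e, h⟩ * conj (ϑ ⟨e, h⟩)))),
    ← Finset.mul_sum]
  ring

end Cfsg.Agent.Lib.Helper28
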