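import Mathlib

set_option autoImplicit false

/-!
# Invariant weighted sums under `p`-group actions (helper28)
-/

namespace Cfsg.Agent.Lib.Helper28

/-- If a `p`-group acts on a finite set and `f` is an invariant `ℕ`-valued weight whose total
is prime to `p`, then some fixed point has weight prime to `p`. -/
theorem exists_fixed_not_dvd {P X : Type*} [Group P] [MulAction P X] [Fintype X] {p : ℕ}
    [hp : Fact p.Prime] (hP : IsPGroup p P) (f : X → ℕ) (hf : ∀ (g : P) (x : X), f (g • x) = f x)
    (h : ¬ p ∣ ∑ x, f x) : ∃ x : X, (∀ g : P, g • x = x) ∧ ¬ p ∣ f x := by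
  classical
  by_contra hne
  push Not at hne
  apply h
  have hsum : ∑ x, f x = ∑ c ∈ Finset.univ.image f,
      (Finset.univ.filter (fun x => f x = c)).card • c := Finset.sum_comp (fun c => c) f
  rw [hsum]
  apply Finset.dvd_sum
  intro c _
  rw [smul_eq_mul]
  by_cases hc : p ∣ c
  · exact Dvd.dvd.mul_left hc _
  · apply Dvd.dvd.mul_right
    -- the level set carries an action without fixed points
    let Xc := {x : X // f x = c}
    letI : MulAction P Xc :=
      { smul := fun g x => ⟨g • x.1, by rw [hf]; exact x.2⟩
        one_smul := fun x => Subtype.ext (one_smul P x.1)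
        mul_smul := fun g k x => Subtype.ext (mul_smul g k x.1) }
    have hmod := hP.card_modEq_card_fixedPoints Xc
    have hempty : IsEmpty (MulAction.fixedPoints P Xc) := by
      constructor
      rintro ⟨x, hx⟩
      apply hc
      have h1 : ∀ g : P, g • x.1 = x.1 := fun g => congrArg Subtype.val (hx g)
      have := hne x.1 h1
      rwa [x.2] at this
    have h0 : Nat.card (MulAction.fixedPoints P Xc) = 0 := Nat.card_of_isEmpty
    rw [h0] at hmod
    have h2 : p ∣ Nat.card Xc := (Nat.modEq_zero_iff_dvd).mp hmod
    rw [Nat.card_eq_fintype_card, Fintype.card_subtype] at h2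
    exact h2

end Cfsg.Agent.Lib.Helper28
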