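import Mathlib
import Cfsg.Prelude.Def_Characters
import Cfsg.Agent.Lib.Helper26.IndChar
import Cfsg.Agent.Lib.Helper26.CharInt
import Cfsg.Agent.Lib.Helper26.Clifford
import Cfsg.Agent.Lib.Helper4.CharOrtho
import Cfsg.Agent.Lib.Helper7.Gallagher
import Cfsg.Agent.Lib.Helper28.PGroupSum

set_option autoImplicit false

/-!
# Dade's theorem, part B: an invariant constituent of multiplicity prime to `p` (helper28)
-/

namespace Cfsg.Agent.Lib.Helper28

open Cfsg Cfsg.Agent.Lib.Helper26 Cfsg.Agent.Lib.Helper7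
open scoped ComplexConjugate

section
variable {E : Type*} [Group E] [Fintype E] (M : Subgroup E) [hM : M.Normal]

theorem conjFunN_one (f : M → ℂ) : conjFunN M f 1 = f := by
  funext n
  unfold conjFunN
  congr 1
  apply Subtype.ext
  simp

theorem conjFunN_conjFunN (f : M → ℂ) (g k : E) :
    conjFunN M (conjFunN M f g) k = conjFunN M f (g * k) := by
  funext n
  unfold conjFunN
  congr 1
  apply Subtype.ext
  simp [mul_assoc]

theorem classInner_conjFunN [Fintype M] (a b : M → ℂ) (g : E) :
    classInner (conjFunN M a g) (conjFunN M b g) = classInner a b := by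
  unfold classInner
  congr 1
  refine Fintype.sum_equiv (MulAut.conjNormal g : M ≃* M).toEquiv _ _ (fun n => ?_)
  have h2 : ∀ c : M → ℂ, conjFunN M c g n = c ((MulAut.conjNormal g : M ≃* M) n) := by
    intro c
    unfold conjFunN
    congr 1
  rw [h2 a, h2 b]
  rfl

/-- the conjugation action of `E` on the irreducible characters of a normal subgroup -/
noncomputable def irrConjAction : MulAction E (IrrCharacter M) where
  smul g α := ⟨conjFunN M α.1 g⁻¹, isIrrCharacter_conjFunN M α.2 g⁻¹⟩
  one_smul α := Subtype.ext (by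
    show conjFunN M α.1 1⁻¹ = α.1
    rw [inv_one, conjFunN_one])
  mul_smul g k α := Subtype.ext (by
    show conjFunN M α.1 (g * k)⁻¹ = conjFunN M (conjFunN M α.1 k⁻¹) g⁻¹
    rw [conjFunN_conjFunN, mul_inv_rev])

theorem irrConjAction_smul_val (g : E) (α : IrrCharacter M) :
    ((irrConjAction M).smul g α).1 = conjFunN M α.1 g⁻¹ := rfl

/-- If `M ⊴ E` has `p`-power index, `ψ` is an `E`-invariant character of `M`, `φ` a character of
`E` and `[φ_M ψ, ψ]` is prime to `p`, then `ψ` has an `E`-invariant irreducible constituent of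
multiplicity prime to `p`. -/
theorem exists_invariant_constituent [Fintype M] (p : ℕ) [hp : Fact p.Prime]
    (hind : ∃ k : ℕ, M.index = p ^ k)
    {ψ : M → ℂ} (hψ : IsCharacter M ψ) (hψinv : ∀ g : E, conjFunN M ψ g = ψ)
    {φ : E → ℂ} (hφ : IsCharacter E φ) {I : ℕ} (hI : ¬ p ∣ I)
    (hII : classInner ((φ ∘ M.subtype) * ψ) ψ = I) :
    ∃ α : M → ℂ, IsIrrCharacter M α ∧ (∀ g : E, conjFunN M α g = α) ∧
      ∃ m : ℕ, ¬ p ∣ m ∧ classInner ψ α = m := by
  classical
  haveI : Fintype (IrrCharacter M) := Fintype.ofFinite _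
  letI act : MulAction E (IrrCharacter M) := irrConjAction M
  have hsmul : ∀ (g : E) (α : IrrCharacter M), (g • α).1 = conjFunN M α.1 g⁻¹ := fun g α => rfl
  have hχ : IsCharacter M ((φ ∘ M.subtype) * ψ) :=
    isCharacter_mul (isCharacter_restrict M hφ) hψ
  have hχinv : ∀ g : E, conjFunN M ((φ ∘ M.subtype) * ψ) g = (φ ∘ M.subtype) * ψ := by
    intro g
    funext n
    have h1 := congrFun (hψinv g) n
    unfold conjFunN at h1 ⊢
    simp only [Pi.mul_apply, Function.comp_apply, Subgroup.coe_subtype]
    rw [h1]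
    congr 1
    exact isClassFunction_of_isCharacter hφ (n : E) g
  choose nn hnn using fun β : IrrCharacter M =>
    classInner_isCharacter_nat hψ (isCharacter_of_isIrrCharacter β.2)
  choose mm hmm using fun β : IrrCharacter M =>
    classInner_isCharacter_nat hχ (isCharacter_of_isIrrCharacter β.2)
  have hsum : (I : ℂ) = ∑ β : IrrCharacter M, ((nn β * mm β : ℕ) : ℂ) := by
    rw [← hII]
    have hexp := Cfsg.Agent.Lib.Helper4.classFunction_expansion ψ
      (isClassFunction_of_isCharacter hψ)
    calc classInner ((φ ∘ M.subtype) * ψ) ψ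
        = classInner ((φ ∘ M.subtype) * ψ)
            (∑ χ : IrrCharacter M, classInner ψ (χ : M → ℂ) • (χ : M → ℂ)) := by rw [← hexp]
      _ = ∑ β : IrrCharacter M, ((nn β * mm β : ℕ) : ℂ) := by
        rw [classInner_sum_right]
        apply Finset.sum_congr rfl
        intro β _
        rw [classInner_smul_right, hnn, hmm, Complex.conj_natCast]
        push_cast
        ring
  have hsumN : I = ∑ β : IrrCharacter M, nn β * mm β := by exact_mod_cast hsum
  have hnn_inv : ∀ (g : E) (β : IrrCharacter M), nn (g • β) = nn β := by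
    intro g β
    have : ((nn (g • β) : ℕ) : ℂ) = nn β := by
      rw [← hnn, ← hnn, hsmul, ← classInner_conjFunN M ψ β.1 g⁻¹, hψinv]
    exact_mod_cast this
  have hmm_inv : ∀ (g : E) (β : IrrCharacter M), mm (g • β) = mm β := by
    intro g β
    have : ((mm (g • β) : ℕ) : ℂ) = mm β := by
      rw [← hmm, ← hmm, hsmul, ← classInner_conjFunN M _ β.1 g⁻¹, hχinv]
    exact_mod_cast this
  obtain ⟨P⟩ : Nonempty (Sylow p E) := inferInstance
  obtain ⟨β, hβfix, hβ⟩ := exists_fixed_not_dvd (P := ↥(P : Subgroup E)) (X := IrrCharacter M)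
    (p := p) P.isPGroup' (fun β => nn β * mm β)
    (fun g β => by
      show nn ((g : E) • β) * mm ((g : E) • β) = nn β * mm β
      rw [hnn_inv, hmm_inv])
    (by rw [← hsumN]; exact hI)
  -- `β` is fixed by all of `E`
  have hPS : (P : Subgroup E) ≤ MulAction.stabilizer E β := by
    intro g hg
    rw [MulAction.mem_stabilizer_iff]
    exact hβfix ⟨g, hg⟩
  have hMS : M ≤ MulAction.stabilizer E β := by
    intro m hm
    rw [MulAction.mem_stabilizer_iff]
    apply Subtype.ext
    rw [hsmul]
    funext n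
    unfold conjFunN
    have hcl := isClassFunction_of_isIrrCharacter β.2 n (⟨m, hm⟩⁻¹ : M)
    rw [← hcl]
    congr 1
  have hS1 : (MulAction.stabilizer E β).index = 1 := by
    obtain ⟨k, hk⟩ := hind
    have h1 : (MulAction.stabilizer E β).index ∣ p ^ k := by
      rw [← hk]
      exact Subgroup.index_dvd_of_le hMS
    obtain ⟨j, _, hj⟩ := (Nat.dvd_prime_pow hp.out).mp h1
    rcases Nat.eq_zero_or_pos j with h0 | hpos
    · rw [hj, h0, pow_zero]
    · exfalso
      apply P.not_dvd_index
      refine dvd_trans ?_ (Subgroup.index_dvd_of_le hPS)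
      rw [hj]
      exact dvd_pow_self p hpos.ne'
  have hStop : MulAction.stabilizer E β = ⊤ := Subgroup.index_eq_one.mp hS1
  refine ⟨β.1, β.2, ?_, nn β, ?_, hnn β⟩
  · intro g
    have hg : g⁻¹ ∈ MulAction.stabilizer E β := by rw [hStop]; exact Subgroup.mem_top _
    rw [MulAction.mem_stabilizer_iff] at hg
    have := congrArg Subtype.val hg
    rw [hsmul, inv_inv] at this
    exact this
  · intro hdvd
    exact hβ (Dvd.dvd.mul_right hdvd _)

end

end Cfsg.Agent.Lib.Helper28
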