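import Mathlib
import Cfsg.Prelude.Def_Characters
import Cfsg.Agent.Lib.Helper28.DadeA
import Cfsg.Agent.Lib.Helper28.BrauerIndC
import Cfsg.Agent.Lib.Helper26.CharInt
import Cfsg.Agent.Lib.Helper2.CharConj
import Cfsg.Agent.Lib.Helper7.Gallagher

set_option autoImplicit false

/-!
# Dade's theorem, part C: a `p`-elementary subgroup covering `G/N` (helper28)
-/

namespace Cfsg.Agent.Lib.Helper28

open Cfsg Cfsg.Agent.Lib.Helper26 Cfsg.Agent.Lib.Helper7
open scoped ComplexConjugate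

section
variable {G : Type*} [Group G] [Fintype G] (N : Subgroup G) [hN : N.Normal]

/-- the inclusion of `N.subgroupOf E` into `N` -/
def subgroupOfHom (E : Subgroup G) : ↥(N.subgroupOf E) →* N where
  toFun n := ⟨(n.1 : G), Subgroup.mem_subgroupOf.mp n.2⟩
  map_one' := rfl
  map_mul' _ _ := rfl

/-- restriction of a function on `N` to `N.subgroupOf E` -/
def resSub (E : Subgroup G) (ϑ : N → ℂ) : ↥(N.subgroupOf E) → ℂ :=
  fun n => ϑ ⟨(n.1 : G), Subgroup.mem_subgroupOf.mp n.2⟩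

omit [Fintype G] hN in
theorem isCharacter_resSub (E : Subgroup G) {ϑ : N → ℂ} (hϑ : IsCharacter N ϑ) :
    IsCharacter ↥(N.subgroupOf E) (resSub N E ϑ) :=
  Cfsg.Agent.Lib.Helper2.isCharacter_comp_hom hϑ (subgroupOfHom N E)

omit [Fintype G] hN in
/-- a sum over `E` of a function supported on `N` as a sum over `N.subgroupOf E` -/
theorem sum_dite_mem_eq_sum_subgroupOf (E : Subgroup G) [Fintype E] [Fintype ↥(N.subgroupOf E)]
    (f : ∀ e : E, (e : G) ∈ N → ℂ) [DecidablePred fun e : E => (e : G) ∈ N] :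
    ∑ e : E, (if h : (e : G) ∈ N then f e h else 0) =
      ∑ n : ↥(N.subgroupOf E), f n.1 (Subgroup.mem_subgroupOf.mp n.2) := by
  classical
  have h1 : ∑ e : E, (if h : (e : G) ∈ N then f e h else 0) =
      ∑ e ∈ Finset.univ.filter (fun e : E => (e : G) ∈ N),
        (if h : (e : G) ∈ N then f e h else 0) := by
    symm
    apply Finset.sum_filter_of_ne
    intro e _ hne
    by_contra hn
    rw [dif_neg hn] at hne
    exact hne rfl
  rw [h1, Finset.sum_subtype (Finset.univ.filter (fun e : E => (e : G) ∈ N))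
    (p := fun e : E => (e : G) ∈ N) (fun e => by simp)]
  let eqv : {e : E // (e : G) ∈ N} ≃ ↥(N.subgroupOf E) :=
    { toFun := fun e => ⟨e.1, Subgroup.mem_subgroupOf.mpr e.2⟩
      invFun := fun d => ⟨d.1, Subgroup.mem_subgroupOf.mp d.2⟩
      left_inv := fun e => rfl
      right_inv := fun d => rfl }
  apply Fintype.sum_equiv eqv
  intro e
  rw [dif_pos e.2]
  rfl

omit [Fintype G] in
theorem index_mul_card_subgroupOf (E : Subgroup G) :
    N.index * Nat.card ↥(N.subgroupOf E) = (E ⊔ N).index * Nat.card E := by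
  have h1 : Nat.card ↥(N.subgroupOf E) * (N.subgroupOf E).index = Nat.card E :=
    Subgroup.card_mul_index _
  have h2 : (N.subgroupOf E).index = N.relIndex E := rfl
  have h3 : N.relIndex (E ⊔ N) = N.relIndex E := Subgroup.relIndex_sup_right E N
  have h4 : N.relIndex (E ⊔ N) * (E ⊔ N).index = N.index :=
    Subgroup.relIndex_mul_index le_sup_right
  rw [← h4, h3, ← h2, ← h1]
  ring

theorem classInner_indFun_indSq_sub {ϑ : N → ℂ} (hϑ : IsCharacter N ϑ)
    (hinv : ∀ (g : G) (n : N), ϑ ⟨g * n * g⁻¹, hN.conj_mem (n : G) n.2 g⟩ = ϑ n)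
    (E : Subgroup G) [Fintype E] [Fintype ↥(N.subgroupOf E)] (φ : E → ℂ) :
    classInner (indFun E φ) (indSq N ϑ) = (N.index : ℂ) * ((E ⊔ N).index : ℂ) *
      classInner ((φ ∘ (N.subgroupOf E).subtype) * resSub N E ϑ) (resSub N E ϑ) := by
  classical
  rw [classInner_indFun_left' E φ _ (isClassFunction_indSq N hϑ)]
  unfold classInner
  have h1 : ∀ e : E, φ e * conj ((indSq N ϑ ∘ E.subtype) e) =
      if h : (e : G) ∈ N then
        (N.index : ℂ) ^ 2 * (φ e * (ϑ ⟨e, h⟩ * conj (ϑ ⟨e, h⟩))) else 0 := by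
    intro e
    show φ e * conj (indSq N ϑ (e : G)) = _
    rw [conj_indSq, indSq_apply N ϑ hinv]
    by_cases h : (e : G) ∈ N
    · rw [dif_pos h, dif_pos h]; ring
    · rw [dif_neg h, dif_neg h, mul_zero]
  rw [Finset.sum_congr rfl (fun e _ => h1 e),
    sum_dite_mem_eq_sum_subgroupOf N E
      (fun e h => (N.index : ℂ) ^ 2 * (φ e * (ϑ ⟨e, h⟩ * conj (ϑ ⟨e, h⟩)))),
    ← Finset.mul_sum]
  have h2 : ∀ n : ↥(N.subgroupOf E),
      φ n.1 * (ϑ ⟨(n.1 : G), Subgroup.mem_subgroupOf.mp n.2⟩ *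
        conj (ϑ ⟨(n.1 : G), Subgroup.mem_subgroupOf.mp n.2⟩)) =
      ((φ ∘ (N.subgroupOf E).subtype) * resSub N E ϑ) n * conj (resSub N E ϑ n) := by
    intro n
    simp only [Pi.mul_apply, Function.comp_apply, Subgroup.coe_subtype, resSub]
    ring
  rw [Finset.sum_congr rfl (fun n _ => h2 n)]
  have hid : ((N.index : ℕ) : ℂ) * (Nat.card ↥(N.subgroupOf E) : ℂ) =
      ((E ⊔ N).index : ℂ) * (Nat.card E : ℂ) := by
    exact_mod_cast index_mul_card_subgroupOf N E
  have hE0 : (Nat.card E : ℂ) ≠ 0 := by exact_mod_cast Nat.card_pos.ne'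
  have hM0 : (Nat.card ↥(N.subgroupOf E) : ℂ) ≠ 0 := by exact_mod_cast Nat.card_pos.ne'
  have h3 : (N.index : ℂ) * (Nat.card E : ℂ)⁻¹ =
      ((E ⊔ N).index : ℂ) * (Nat.card ↥(N.subgroupOf E) : ℂ)⁻¹ := by
    field_simp
    linear_combination hid
  generalize (∑ n : ↥(N.subgroupOf E),
    ((φ ∘ (N.subgroupOf E).subtype) * resSub N E ϑ) n * conj (resSub N E ϑ n)) = S
  calc (Nat.card E : ℂ)⁻¹ * ((N.index : ℂ) ^ 2 * S)
      = (N.index : ℂ) * ((N.index : ℂ) * (Nat.card E : ℂ)⁻¹) * S := by ring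
    _ = _ := by rw [h3]; ring

omit hN in
theorem classInner_mem_span {S : Set (G → ℂ)} {Ψ : G → ℂ} {c : ℂ}
    (h : ∀ f ∈ S, ∃ z : ℤ, classInner f Ψ = c * z) {f : G → ℂ}
    (hf : f ∈ Submodule.span ℤ S) : ∃ z : ℤ, classInner f Ψ = c * z := by
  induction hf using Submodule.span_induction with
  | mem x hx => exact h x hx
  | zero => exact ⟨0, by rw [classInner_zero_left]; simp⟩
  | add x y hx hy h1 h2 =>
    obtain ⟨z1, h1⟩ := h1
    obtain ⟨z2, h2⟩ := h2
    exact ⟨z1 + z2, by rw [classInner_add_left, h1, h2]; push_cast; ring⟩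
  | smul r x hx h1 =>
    obtain ⟨z, h1⟩ := h1
    refine ⟨r * z, ?_⟩
    rw [← Int.cast_smul_eq_zsmul ℂ r x, classInner_smul_left, h1]
    push_cast
    ring

theorem classInner_const_indSq {ϑ : N → ℂ} (hϑ : IsIrrCharacter N ϑ)
    (hinv : ∀ (g : G) (n : N), ϑ ⟨g * n * g⁻¹, hN.conj_mem (n : G) n.2 g⟩ = ϑ n) (c : ℂ) :
    classInner (fun _ : G => c) (indSq N ϑ) = c * (N.index : ℂ) := by
  haveI : Fintype N := Fintype.ofFinite _
  have h1 := classInner_indFun_self_of_inv N ϑ hϑ hinv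
  rw [← h1]
  unfold classInner
  have h2 : ∀ g : G, (fun _ : G => c) g * conj (indSq N ϑ g) =
      c * (indFun N ϑ g * conj (indFun N ϑ g)) := by
    intro g
    rw [conj_indSq]
    rfl
  rw [Finset.sum_congr rfl (fun g _ => h2 g), ← Finset.mul_sum]
  ring

/-- **Dade's theorem, first half**: there is a `p`-elementary subgroup `E` covering `G/N` and a
character `φ` of `E` with `[φ_M ϑ_M, ϑ_M]` prime to `p`, where `M = E ∩ N`. -/
theorem exists_elementary_sup_top (p : ℕ) (hp : p.Prime) (hind : ∃ k : ℕ, N.index = p ^ k)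
    {ϑ : N → ℂ} (hϑ : IsIrrCharacter N ϑ)
    (hinv : ∀ (g : G) (n : N), ϑ ⟨g * n * g⁻¹, hN.conj_mem (n : G) n.2 g⟩ = ϑ n) :
    ∃ (E : Subgroup G) (φ : E → ℂ) (I : ℕ), IsElementary p E ∧ IsCharacter E φ ∧ E ⊔ N = ⊤ ∧
      ¬ p ∣ I ∧ ∀ [Fintype ↥(N.subgroupOf E)],
        classInner ((φ ∘ (N.subgroupOf E).subtype) * resSub N E ϑ) (resSub N E ϑ) = I := by
  classical
  by_contra hcon
  have hϑc : IsCharacter N ϑ := isCharacter_of_isIrrCharacter hϑ
  obtain ⟨k, hk⟩ := hind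
  have hgen : ∀ f ∈ {f : G → ℂ | ∃ E : Subgroup G, IsElementary p E ∧ ∃ φ : E → ℂ,
      IsCharacter E φ ∧ f = indFun E φ},
      ∃ z : ℤ, classInner f (indSq N ϑ) = ((N.index : ℂ) * (p : ℂ)) * z := by
    rintro f ⟨E, hE, φ, hφ, rfl⟩
    haveI instE : Fintype E := Fintype.ofFinite _
    have instM : Fintype ↥(N.subgroupOf E) := Fintype.ofFinite _
    have hres := isCharacter_resSub N E hϑc
    obtain ⟨I, hI⟩ := classInner_isCharacter_nat
      (isCharacter_mul (isCharacter_restrict (N.subgroupOf E) hφ) hres) hres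
    rw [classInner_indFun_indSq_sub N hϑc hinv E φ, hI]
    by_cases htop : E ⊔ N = ⊤
    · have hpI : p ∣ I := by
        by_contra hnd
        apply hcon
        refine ⟨E, φ, I, hE, hφ, htop, hnd, ?_⟩
        intro inst
        obtain rfl : inst = instM := Subsingleton.elim _ _
        exact hI
      obtain ⟨z, rfl⟩ := hpI
      exact ⟨(E ⊔ N).index * z, by push_cast; ring⟩
    · have h1 : (E ⊔ N).index ∣ p ^ k := by
        rw [← hk]
        exact Subgroup.index_dvd_of_le le_sup_right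
      obtain ⟨j, _, hj⟩ := (Nat.dvd_prime_pow hp).mp h1
      have hj0 : j ≠ 0 := by
        rintro rfl
        rw [pow_zero] at hj
        exact htop (Subgroup.index_eq_one.mp hj)
      obtain ⟨z, hz⟩ : p ∣ (E ⊔ N).index := by
        rw [hj]
        exact dvd_pow_self p hj0
      rw [hz]
      exact ⟨z * I, by push_cast; ring⟩
  obtain ⟨m0, hm0, hmem⟩ := const_mem_elemInd (G := G) p hp
  unfold elemInd at hmem
  obtain ⟨z, hz⟩ := classInner_mem_span hgen hmem
  rw [classInner_const_indSq N hϑ hinv] at hz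
  apply hm0
  have hidx : (N.index : ℂ) ≠ 0 := by
    have : N.index ≠ 0 := by rw [hk]; exact pow_ne_zero _ hp.ne_zero
    exact_mod_cast this
  have h2 : (m0 : ℂ) = (p : ℂ) * z := by
    apply mul_right_cancel₀ hidx
    rw [hz]
    ring
  have h3 : m0 = (p : ℤ) * z := by exact_mod_cast h2
  exact ⟨z, h3⟩

end

end Cfsg.Agent.Lib.Helper28
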