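import Mathlib
import Cfsg.Prelude.Def_Blocks
import Cfsg.Agent.Lib.Helper28.PrimeCoreB
import Cfsg.Agent.Lib.Helper28.BlockOrthPReg
import Cfsg.Agent.Lib.Helper28.BlockDefectE
import Cfsg.Agent.Lib.Helper28.SectionF

set_option autoImplicit false

/-!
# Blocks of `G ⧸ N` for a normal `p`-subgroup `N`, part A (helper28)

Central characters of inflated characters, the set of characters of `G ⧸ N` whose inflation
lies in a block `B`, and the equality of block idempotent coefficients on `p`-regular elements.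
-/

namespace Cfsg.Agent.Lib.Helper28

open Cfsg Cfsg.Agent.Lib.Helper4 Cfsg.Agent.Lib.Helper26
open scoped ComplexConjugate Classical

section

variable {G : Type*} [Group G] [Fintype G] {M : Ideal AlgInt}

omit [Fintype G] in
theorem centralizer_le_comap_mk (N : Subgroup G) [N.Normal] (g : G) :
    Subgroup.centralizer ({g} : Set G) ≤
      (Subgroup.centralizer ({(g : G ⧸ N)} : Set (G ⧸ N))).comap (QuotientGroup.mk' N) := by
  intro c hc
  rw [Subgroup.mem_comap, Subgroup.mem_centralizer_singleton_iff]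
  rw [Subgroup.mem_centralizer_singleton_iff] at hc
  show (QuotientGroup.mk' N c) * (QuotientGroup.mk' N g) =
    (QuotientGroup.mk' N g) * (QuotientGroup.mk' N c)
  rw [← map_mul, ← map_mul, hc]

/-- the ratio of the class size of `g` in `G` to the class size of its image in `G ⧸ N` -/
noncomputable def quotRatio (N : Subgroup G) [N.Normal] (g : G) : ℕ :=
  (Subgroup.centralizer ({g} : Set G)).relIndex
    ((Subgroup.centralizer ({(g : G ⧸ N)} : Set (G ⧸ N))).comap (QuotientGroup.mk' N))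

omit [Fintype G] in
theorem quotRatio_mul_index (N : Subgroup G) [N.Normal] (g : G) :
    quotRatio N g * (Subgroup.centralizer ({(g : G ⧸ N)} : Set (G ⧸ N))).index =
      (Subgroup.centralizer ({g} : Set G)).index := by
  unfold quotRatio
  have h := Subgroup.relIndex_mul_index (centralizer_le_comap_mk N g)
  rwa [Subgroup.index_comap_of_surjective _ (QuotientGroup.mk'_surjective N)] at h

theorem quotRatio_mul_card (N : Subgroup G) [N.Normal] (g : G) :
    quotRatio N g * Nat.card (Subgroup.centralizer ({g} : Set G)) =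
      Nat.card N * Nat.card (Subgroup.centralizer ({(g : G ⧸ N)} : Set (G ⧸ N))) := by
  have h1 := quotRatio_mul_index N g
  have h2 := (Subgroup.centralizer ({g} : Set G)).card_mul_index
  have h3 := (Subgroup.centralizer ({(g : G ⧸ N)} : Set (G ⧸ N))).card_mul_index
  have h4 := Subgroup.card_eq_card_quotient_mul_card_subgroup N
  have hpos : 0 < (Subgroup.centralizer ({(g : G ⧸ N)} : Set (G ⧸ N))).index :=
    Nat.pos_of_ne_zero Subgroup.index_ne_zero_of_finite
  apply Nat.eq_of_mul_eq_mul_right hpos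
  calc quotRatio N g * Nat.card (Subgroup.centralizer ({g} : Set G)) *
        (Subgroup.centralizer ({(g : G ⧸ N)} : Set (G ⧸ N))).index
      = (quotRatio N g * (Subgroup.centralizer ({(g : G ⧸ N)} : Set (G ⧸ N))).index) *
        Nat.card (Subgroup.centralizer ({g} : Set G)) := by ring
    _ = Nat.card G := by rw [h1, mul_comm, h2]
    _ = Nat.card (G ⧸ N) * Nat.card N := h4
    _ = Nat.card N * Nat.card (Subgroup.centralizer ({(g : G ⧸ N)} : Set (G ⧸ N))) *
        (Subgroup.centralizer ({(g : G ⧸ N)} : Set (G ⧸ N))).index := by rw [← h3]; ring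

omit [Fintype G] in
theorem centralChar_inflIrrQ (N : Subgroup G) [N.Normal] (ψ : IrrCharacter (G ⧸ N)) (g : G) :
    centralChar (inflIrrQ N ψ : G → ℂ) g =
      (quotRatio N g : ℂ) * centralChar (ψ : G ⧸ N → ℂ) (g : G ⧸ N) := by
  unfold centralChar
  rw [← quotRatio_mul_index N g, inflIrrQ_apply, inflIrrQ_apply, QuotientGroup.mk_one]
  push_cast
  ring

omit [Fintype G] in
theorem sameBlock_inflIrrQ [M.IsPrime] (N : Subgroup G) [N.Normal]
    {ψ ψ' : IrrCharacter (G ⧸ N)}
    (h : SameBlock M (ψ : G ⧸ N → ℂ) (ψ' : G ⧸ N → ℂ)) :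
    SameBlock M (inflIrrQ N ψ : G → ℂ) (inflIrrQ N ψ' : G → ℂ) := by
  intro g
  rw [centralChar_inflIrrQ, centralChar_inflIrrQ, ← mul_sub]
  exact memLocalIdeal_mul_left
    (memLocalRing_natCast (Ideal.IsPrime.ne_top inferInstance) _) (h _)

/-- the irreducible characters of `G ⧸ N` whose inflation lies in `B` -/
def quotSet (N : Subgroup G) [N.Normal] (B : Set (IrrCharacter G)) :
    Set (IrrCharacter (G ⧸ N)) :=
  {ψ | inflIrrQ N ψ ∈ B}

theorem quotSet_saturated [M.IsPrime] (N : Subgroup G) [N.Normal] {B : Set (IrrCharacter G)}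
    (hB : IsPBlock M B) {ψ ψ' : IrrCharacter (G ⧸ N)} (hψ : ψ ∈ quotSet N B)
    (h : SameBlock M (ψ : G ⧸ N → ℂ) (ψ' : G ⧸ N → ℂ)) : ψ' ∈ quotSet N B := by
  show inflIrrQ N ψ' ∈ B
  exact (Helper28.mem_block_iff hB hψ _).mpr (sameBlock_inflIrrQ N h)

/-- the multiplicity of `χ` in the inflated regular character of `G ⧸ N` -/
theorem sum_normal_char (N : Subgroup G) [N.Normal] [Fintype (G ⧸ N)]
    [Fintype (IrrCharacter (G ⧸ N))] (χ : IrrCharacter G) :
    (Nat.card (G ⧸ N) : ℂ) * ∑ g : G, (if g ∈ N then (χ : G → ℂ) g else 0) =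
      (Nat.card G : ℂ) * ∑ ψ : IrrCharacter (G ⧸ N),
        if inflIrrQ N ψ = χ then (ψ : G ⧸ N → ℂ) 1 else 0 := by
  have hreg : ∀ g : G, ∑ ψ : IrrCharacter (G ⧸ N),
      (ψ : G ⧸ N → ℂ) 1 * conj ((ψ : G ⧸ N → ℂ) (g : G ⧸ N)) =
      if g ∈ N then (Nat.card (G ⧸ N) : ℂ) else 0 := by
    intro g
    rw [column_orthogonality]
    by_cases hg : g ∈ N
    · have h1 : (g : G ⧸ N) = 1 := (QuotientGroup.eq_one_iff g).mpr hg
      rw [h1, if_pos (IsConj.refl _), if_pos hg]
      have htop : Subgroup.centralizer ({(1 : G ⧸ N)} : Set (G ⧸ N)) = ⊤ := by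
        rw [Subgroup.centralizer_eq_top_iff_subset]
        intro z hz
        rw [Set.mem_singleton_iff] at hz
        rw [hz]
        exact Subgroup.one_mem _
      rw [htop, Subgroup.card_top]
    · rw [if_neg hg, if_neg]
      intro hc
      apply hg
      rw [← QuotientGroup.eq_one_iff]
      exact isConj_one_right.mp hc
  have hT1 : ∑ g : G, (∑ ψ : IrrCharacter (G ⧸ N),
      (ψ : G ⧸ N → ℂ) 1 * conj ((ψ : G ⧸ N → ℂ) (g : G ⧸ N))) * (χ : G → ℂ) g =
      (Nat.card (G ⧸ N) : ℂ) * ∑ g : G, (if g ∈ N then (χ : G → ℂ) g else 0) := by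
    rw [Finset.mul_sum]
    refine Finset.sum_congr rfl fun g _ => ?_
    rw [hreg g]
    split_ifs <;> simp
  have hT2 : ∑ g : G, (∑ ψ : IrrCharacter (G ⧸ N),
      (ψ : G ⧸ N → ℂ) 1 * conj ((ψ : G ⧸ N → ℂ) (g : G ⧸ N))) * (χ : G → ℂ) g =
      (Nat.card G : ℂ) * ∑ ψ : IrrCharacter (G ⧸ N),
        if inflIrrQ N ψ = χ then (ψ : G ⧸ N → ℂ) 1 else 0 := by
    simp only [Finset.sum_mul]
    rw [Finset.sum_comm, Finset.mul_sum]
    refine Finset.sum_congr rfl fun ψ _ => ?_
    have h1 : ∑ g : G, (ψ : G ⧸ N → ℂ) 1 * conj ((ψ : G ⧸ N → ℂ) (g : G ⧸ N)) *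
        (χ : G → ℂ) g = (ψ : G ⧸ N → ℂ) 1 *
        ∑ g : G, (χ : G → ℂ) g * conj ((inflIrrQ N ψ : G → ℂ) g) := by
      rw [Finset.mul_sum]
      refine Finset.sum_congr rfl fun g _ => ?_
      rw [inflIrrQ_apply]
      ring
    rw [h1, sum_irr_mul_conj]
    by_cases h : inflIrrQ N ψ = χ
    · rw [if_pos h, if_pos h.symm]; ring
    · rw [if_neg h, if_neg (fun h' => h h'.symm)]; ring
  rw [← hT1, hT2]

/-- on `p`-regular elements, the idempotent coefficients of `B` and of the set of characters of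
`G ⧸ N` inflating into `B` agree, when `N` is a normal `p`-subgroup -/
theorem blockCoeff_quotSet {p : ℕ} (hM : IsPModular p M) (N : Subgroup G) [N.Normal]
    (hN : IsPGroup p N) {B : Set (IrrCharacter G)} (hB : IsPBlock M B) (g : G)
    (hg : ¬ p ∣ orderOf g) :
    blockCoeff (quotSet N B) (g : G ⧸ N) = blockCoeff B g := by
  have : Fintype (G ⧸ N) := Fintype.ofFinite _
  have : Fintype (IrrCharacter G) := Fintype.ofFinite _
  have : Fintype (IrrCharacter (G ⧸ N)) := Fintype.ofFinite _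
  have : Fact p.Prime := ⟨hM.1⟩
  have hprime : M.IsPrime := hM.2.1.isPrime
  have hG : (Nat.card G : ℂ) ≠ 0 := card_ne_zero_complex
  have hQ : (Nat.card (G ⧸ N) : ℂ) ≠ 0 := card_ne_zero_complex
  rw [blockCoeff_eq_sum, blockCoeff_eq_sum]
  have h1 : ∀ ψ : IrrCharacter (G ⧸ N),
      (if ψ ∈ quotSet N B then (ψ : G ⧸ N → ℂ) 1 * conj ((ψ : G ⧸ N → ℂ) (g : G ⧸ N)) else 0) =
      ∑ χ : IrrCharacter G, if χ ∈ B then
        (if inflIrrQ N ψ = χ then (ψ : G ⧸ N → ℂ) 1 else 0) * conj ((χ : G → ℂ) g) else 0 := by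
    intro ψ
    rw [Finset.sum_eq_single (inflIrrQ N ψ)]
    · rw [if_pos rfl]
      rfl
    · intro χ _ hne
      rw [if_neg (show ¬ inflIrrQ N ψ = χ from fun h => hne h.symm), zero_mul, ite_self]
    · intro h
      exact absurd (Finset.mem_univ _) h
  have h2 : ∑ ψ : IrrCharacter (G ⧸ N),
      (if ψ ∈ quotSet N B then (ψ : G ⧸ N → ℂ) 1 * conj ((ψ : G ⧸ N → ℂ) (g : G ⧸ N)) else 0) =
      ∑ χ : IrrCharacter G, if χ ∈ B then
        (∑ ψ : IrrCharacter (G ⧸ N), if inflIrrQ N ψ = χ then (ψ : G ⧸ N → ℂ) 1 else 0) *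
          conj ((χ : G → ℂ) g) else 0 := by
    simp only [h1]
    rw [Finset.sum_comm]
    refine Finset.sum_congr rfl fun χ _ => ?_
    split_ifs
    · rw [Finset.sum_mul]
    · simp
  have h3 : ∀ χ : IrrCharacter G,
      (∑ ψ : IrrCharacter (G ⧸ N), if inflIrrQ N ψ = χ then (ψ : G ⧸ N → ℂ) 1 else 0) =
      (Nat.card (G ⧸ N) : ℂ) / (Nat.card G : ℂ) *
        ∑ n : G, (if n ∈ N then (χ : G → ℂ) n else 0) := by
    intro χ
    have := sum_normal_char N χ
    field_simp
    rw [mul_comm, ← this]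
  have h4 : ∑ χ : IrrCharacter G, (if χ ∈ B then
      (∑ ψ : IrrCharacter (G ⧸ N), if inflIrrQ N ψ = χ then (ψ : G ⧸ N → ℂ) 1 else 0) *
        conj ((χ : G → ℂ) g) else 0) =
      (Nat.card (G ⧸ N) : ℂ) / (Nat.card G : ℂ) * ∑ n : G, (if n ∈ N then
        ∑ χ : IrrCharacter G, (if χ ∈ B then (χ : G → ℂ) n * conj ((χ : G → ℂ) g) else 0)
        else 0) := by
    simp only [h3]
    have h5 : ∀ n : G, (if n ∈ N then
        ∑ χ : IrrCharacter G, (if χ ∈ B then (χ : G → ℂ) n * conj ((χ : G → ℂ) g) else 0)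
        else 0) = ∑ χ : IrrCharacter G, (if χ ∈ B then
          (if n ∈ N then (χ : G → ℂ) n else 0) * conj ((χ : G → ℂ) g) else 0) := by
      intro n
      by_cases hn : n ∈ N
      · simp only [if_pos hn]
      · simp only [if_neg hn, zero_mul, ite_self, Finset.sum_const_zero]
    simp only [h5]
    rw [Finset.sum_comm, Finset.mul_sum]
    refine Finset.sum_congr rfl fun χ _ => ?_
    split_ifs with hχ
    · rw [Finset.mul_sum, Finset.mul_sum, Finset.sum_mul]
      refine Finset.sum_congr rfl fun n _ => ?_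
      ring
    · simp [hχ]
  have h6 : ∑ n : G, (if n ∈ N then
      ∑ χ : IrrCharacter G, (if χ ∈ B then (χ : G → ℂ) n * conj ((χ : G → ℂ) g) else 0)
      else 0) =
      ∑ χ : IrrCharacter G, (if χ ∈ B then (χ : G → ℂ) 1 * conj ((χ : G → ℂ) g) else 0) := by
    rw [Finset.sum_eq_single (1 : G)]
    · rw [if_pos (Subgroup.one_mem N)]
    · intro n _ hn1
      by_cases hn : n ∈ N
      · rw [if_pos hn]
        have hsing : p ∣ orderOf n := by
          obtain ⟨k, hk⟩ := (IsPGroup.iff_orderOf.mp hN) ⟨n, hn⟩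
          rw [Subgroup.orderOf_mk] at hk
          rcases Nat.eq_zero_or_pos k with h0 | hpos
          · rw [h0, pow_zero, orderOf_eq_one_iff] at hk
            exact absurd hk hn1
          · rw [hk]
            exact dvd_pow_self p (Nat.pos_iff_ne_zero.mp hpos)
        have hw := weak_orthogonality_of_memLocalRing hM B (fun x => osima hB x) g n hg hsing
        have hconj : ∑ χ : IrrCharacter G,
            (if χ ∈ B then (χ : G → ℂ) n * conj ((χ : G → ℂ) g) else 0) =
            conj (∑ χ : IrrCharacter G,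
              (if χ ∈ B then (χ : G → ℂ) g * conj ((χ : G → ℂ) n) else 0)) := by
          rw [map_sum]
          refine Finset.sum_congr rfl fun χ _ => ?_
          split_ifs
          · rw [map_mul, Complex.conj_conj, mul_comm]
          · simp
        rw [hconj, hw, map_zero]
      · rw [if_neg hn]
    · intro h
      exact absurd (Finset.mem_univ _) h
  rw [h2, h4, h6]
  field_simp

end

end Cfsg.Agent.Lib.Helper28
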