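import Mathlib
import Cfsg.Prelude.Def_Blocks
import Cfsg.Agent.Lib.Helper28.QuotPA
import Cfsg.Agent.Lib.Helper28.BlockDefectC
import Cfsg.Agent.Lib.Helper4.BlockIndTrans

set_option autoImplicit false

/-!
# Blocks of `G ⧸ N` for a normal `p`-subgroup `N`, part B (helper28)

Every block `B` of `G` contains a block of `G ⧸ N` whose defect groups are the images of the
defect groups of `B`.
-/

namespace Cfsg.Agent.Lib.Helper28

open Cfsg Cfsg.Agent.Lib.Helper4 Cfsg.Agent.Lib.Helper26
open scoped ComplexConjugate Classical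

section

variable {G : Type*} [Group G] [Fintype G] {M : Ideal AlgInt}

theorem isDefectGroup_of_card {p : ℕ} [Fact p.Prime] {B : Set (IrrCharacter G)} {g : G}
    (hg : IsDefectClass M B g) (D : Subgroup G)
    (hle : D ≤ Subgroup.centralizer ({g} : Set G))
    (hcard : Nat.card D = p ^ (Nat.card (Subgroup.centralizer ({g} : Set G))).factorization p) :
    IsDefectGroup p M B D := by
  refine ⟨g, hg, Sylow.ofCard (D.subgroupOf (Subgroup.centralizer ({g} : Set G))) ?_, ?_⟩
  · rw [Nat.card_congr (Subgroup.subgroupOfEquivOfLe hle).toEquiv, hcard]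
  · rw [Sylow.coe_ofCard, Subgroup.subgroupOf_map_subtype, inf_of_le_left hle]

theorem isDefectGroup_data {p : ℕ} [Fact p.Prime] {B : Set (IrrCharacter G)} {D : Subgroup G}
    (h : IsDefectGroup p M B D) :
    ∃ g : G, IsDefectClass M B g ∧ D ≤ Subgroup.centralizer ({g} : Set G) ∧
      Nat.card D = p ^ (Nat.card (Subgroup.centralizer ({g} : Set G))).factorization p := by
  obtain ⟨g, hg, P, rfl⟩ := h
  refine ⟨g, hg, Subgroup.map_subtype_le _, ?_⟩
  rw [Subgroup.card_map_of_injective (Subgroup.subtype_injective _)]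
  exact P.card_eq_multiplicity

theorem isDefectGroup_map_conj {p : ℕ} [Fact p.Prime] {B : Set (IrrCharacter G)}
    {D : Subgroup G} (h : IsDefectGroup p M B D) (k : G) :
    IsDefectGroup p M B (D.map (MulAut.conj k).toMonoidHom) := by
  obtain ⟨g, hg, hle, hcard⟩ := isDefectGroup_data h
  apply isDefectGroup_of_card (isDefectClass_conj hg k)
  · rintro _ ⟨d, hd, rfl⟩
    have h1 := Subgroup.mem_centralizer_singleton_iff.mp (hle hd)
    rw [Subgroup.mem_centralizer_singleton_iff]
    show k * d * k⁻¹ * (k * g * k⁻¹) = k * g * k⁻¹ * (k * d * k⁻¹)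
    have h2 : k * d * k⁻¹ * (k * g * k⁻¹) = k * (d * g) * k⁻¹ := by group
    have h3 : k * g * k⁻¹ * (k * d * k⁻¹) = k * (g * d) * k⁻¹ := by group
    rw [h2, h3, h1]
  · rw [Subgroup.card_map_of_injective (MulAut.conj k).injective, hcard, card_centralizer_conj]

theorem card_comap_mk (N : Subgroup G) [N.Normal] (K : Subgroup (G ⧸ N)) :
    Nat.card (K.comap (QuotientGroup.mk' N)) = Nat.card N * Nat.card K := by
  have h1 := (K.comap (QuotientGroup.mk' N)).card_mul_index
  rw [Subgroup.index_comap_of_surjective _ (QuotientGroup.mk'_surjective N)] at h1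
  have h2 := K.card_mul_index
  have h3 := Subgroup.card_eq_card_quotient_mul_card_subgroup N
  have hpos : 0 < K.index := Nat.pos_of_ne_zero Subgroup.index_ne_zero_of_finite
  apply Nat.eq_of_mul_eq_mul_right hpos
  rw [h1, h3, ← h2]
  ring

/-- some block of `G ⧸ N` inside `quotSet N B` has a non-vanishing idempotent coefficient at the
image of a defect class of `B` -/
theorem exists_quot_block {p : ℕ} (hM : IsPModular p M) (N : Subgroup G) [N.Normal]
    (hN : IsPGroup p N) {B : Set (IrrCharacter G)} (hB : IsPBlock M B) {x : G}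
    (hx : IsDefectClass M B x) :
    ∃ b : Set (IrrCharacter (G ⧸ N)), IsPBlock M b ∧ b ⊆ quotSet N B ∧
      ¬ MemLocalIdeal M (blockCoeff b (x : G ⧸ N)) := by
  have : Fintype (G ⧸ N) := Fintype.ofFinite _
  have : Fintype (IrrCharacter (G ⧸ N)) := Fintype.ofFinite _
  have : Fintype {b : Set (IrrCharacter (G ⧸ N)) // IsPBlock M b} := Fintype.ofFinite _
  have hprime : M.IsPrime := hM.2.1.isPrime
  have hMtop : M ≠ ⊤ := hM.2.1.ne_top
  have hreg := defectClass_pRegular hM hB hx
  have h1 := blockCoeff_quotSet hM N hN hB x hreg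
  by_contra hcon
  push Not at hcon
  apply hx.2.1
  rw [← h1, blockCoeff_eq_sum,
    sum_irr_eq_sum_blocks (M := M) (fun ψ : IrrCharacter (G ⧸ N) =>
      if ψ ∈ quotSet N B then (ψ : G ⧸ N → ℂ) 1 * conj ((ψ : G ⧸ N → ℂ) (x : G ⧸ N)) else 0),
    Finset.mul_sum]
  apply memLocalIdeal_sum
  intro b _
  by_cases hb : b.1 ⊆ quotSet N B
  · have h2 : (Nat.card (G ⧸ N) : ℂ)⁻¹ * ∑ ψ : IrrCharacter (G ⧸ N), (if ψ ∈ b.1 then
        (if ψ ∈ quotSet N B then
          (ψ : G ⧸ N → ℂ) 1 * conj ((ψ : G ⧸ N → ℂ) (x : G ⧸ N)) else 0) else 0) =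
        blockCoeff b.1 (x : G ⧸ N) := by
      rw [blockCoeff_eq_sum]
      congr 1
      refine Finset.sum_congr rfl fun ψ _ => ?_
      by_cases h3 : ψ ∈ b.1
      · rw [if_pos h3, if_pos h3, if_pos (hb h3)]
      · rw [if_neg h3, if_neg h3]
    rw [h2]
    exact hcon b.1 b.2 hb
  · have hdisj : ∀ ψ ∈ b.1, ψ ∉ quotSet N B := by
      intro ψ hψ hψq
      apply hb
      intro ψ' hψ'
      exact quotSet_saturated N hB hψq ((Helper28.mem_block_iff b.2 hψ ψ').mp hψ')
    have h2 : ∑ ψ : IrrCharacter (G ⧸ N), (if ψ ∈ b.1 then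
        (if ψ ∈ quotSet N B then
          (ψ : G ⧸ N → ℂ) 1 * conj ((ψ : G ⧸ N → ℂ) (x : G ⧸ N)) else 0) else 0) = 0 := by
      refine Finset.sum_eq_zero fun ψ _ => ?_
      by_cases h3 : ψ ∈ b.1
      · rw [if_pos h3, if_neg (hdisj ψ h3)]
      · rw [if_neg h3]
    rw [h2, mul_zero]
    exact memLocalIdeal_zero hMtop

theorem quot_defectClass {p : ℕ} (hM : IsPModular p M) (N : Subgroup G) [N.Normal]
    {B : Set (IrrCharacter G)} {x : G} (hx : IsDefectClass M B x)
    {b : Set (IrrCharacter (G ⧸ N))} (hb : IsPBlock M b) (hsub : b ⊆ quotSet N B)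
    (hne : ¬ MemLocalIdeal M (blockCoeff b (x : G ⧸ N))) :
    IsDefectClass M b (x : G ⧸ N) ∧ ¬ p ∣ quotRatio N x := by
  have : Fintype (G ⧸ N) := Fintype.ofFinite _
  have hprime : M.IsPrime := hM.2.1.isPrime
  have hMtop : M ≠ ⊤ := hM.2.1.ne_top
  have key : ∀ ψ ∈ b, ¬ MemLocalIdeal M
      ((quotRatio N x : ℂ) * centralChar (ψ : G ⧸ N → ℂ) (x : G ⧸ N)) := by
    intro ψ hψ
    rw [← centralChar_inflIrrQ]
    exact hx.2.2 _ (hsub hψ)
  refine ⟨⟨osima hb _, hne, ?_⟩, ?_⟩
  · intro ψ hψ h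
    exact key ψ hψ (memLocalIdeal_mul_left (memLocalRing_natCast hMtop _) h)
  · intro hdvd
    obtain ⟨ψ, hψ⟩ := Helper28.block_nonempty hb
    apply key ψ hψ
    apply memLocalIdeal_mul_right _
      (memLocalRing_of_isIntegral hMtop (isIntegral_centralChar ψ.2 _))
    obtain ⟨c, hc⟩ := hdvd
    rw [hc]
    push_cast
    exact memLocalIdeal_mul_right (memLocalIdeal_natCast_p hM) (memLocalRing_natCast hMtop c)

theorem quot_defectGroup {p : ℕ} [Fact p.Prime] (N : Subgroup G) [N.Normal]
    (hN : IsPGroup p N) {x : G} (hr : ¬ p ∣ quotRatio N x)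
    {b : Set (IrrCharacter (G ⧸ N))} (hxb : IsDefectClass M b (x : G ⧸ N))
    (D : Subgroup G) (hle : D ≤ Subgroup.centralizer ({x} : Set G))
    (hcard : Nat.card D = p ^ (Nat.card (Subgroup.centralizer ({x} : Set G))).factorization p) :
    IsDefectGroup p M b (D.map (QuotientGroup.mk' N)) := by
  have : Fintype (G ⧸ N) := Fintype.ofFinite _
  have hp : p.Prime := Fact.out
  have hle' : D.map (QuotientGroup.mk' N) ≤
      Subgroup.centralizer ({(x : G ⧸ N)} : Set (G ⧸ N)) := by
    rintro _ ⟨d, hd, rfl⟩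
    exact centralizer_le_comap_mk N x (hle hd)
  apply isDefectGroup_of_card hxb _ hle'
  obtain ⟨n, hn⟩ := IsPGroup.iff_card.mp hN
  have hrel := quotRatio_mul_card N x
  have hr0 : quotRatio N x ≠ 0 := by
    intro h0
    apply hr
    rw [h0]
    exact dvd_zero p
  have hfac : (Nat.card (Subgroup.centralizer ({x} : Set G))).factorization p =
      n + (Nat.card (Subgroup.centralizer ({(x : G ⧸ N)} : Set (G ⧸ N)))).factorization p := by
    have h1 : (quotRatio N x * Nat.card (Subgroup.centralizer ({x} : Set G))).factorization p =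
        (Nat.card N * Nat.card (Subgroup.centralizer
          ({(x : G ⧸ N)} : Set (G ⧸ N)))).factorization p := by rw [hrel]
    rw [Nat.factorization_mul hr0 Nat.card_pos.ne', Nat.factorization_mul Nat.card_pos.ne'
      Nat.card_pos.ne', Finsupp.add_apply, Finsupp.add_apply,
      Nat.factorization_eq_zero_of_not_dvd hr, hn, Nat.Prime.factorization_pow hp,
      Finsupp.single_eq_same, zero_add] at h1
    exact h1
  have hDp : IsPGroup p D := IsPGroup.of_card hcard
  have hmapp : IsPGroup p (D.map (QuotientGroup.mk' N)) := hDp.map _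
  obtain ⟨k, hk⟩ := IsPGroup.iff_card.mp hmapp
  have hk1 : k ≤ (Nat.card (Subgroup.centralizer ({(x : G ⧸ N)} : Set (G ⧸ N)))).factorization p := by
    have hdvd : p ^ k ∣ Nat.card (Subgroup.centralizer ({(x : G ⧸ N)} : Set (G ⧸ N))) := by
      rw [← hk]
      exact Subgroup.card_dvd_of_le hle'
    exact (hp.pow_dvd_iff_le_factorization Nat.card_pos.ne').mp hdvd
  have hk2 : (Nat.card (Subgroup.centralizer ({x} : Set G))).factorization p ≤ n + k := by
    have h1 : Nat.card D ≤
        Nat.card ((D.map (QuotientGroup.mk' N)).comap (QuotientGroup.mk' N)) :=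
      Subgroup.card_le_of_le (Subgroup.le_comap_map _ _)
    rw [card_comap_mk, hcard, hn, hk, ← pow_add] at h1
    exact (Nat.pow_le_pow_iff_right hp.one_lt).mp h1
  rw [hk]
  congr 1
  omega

/-- **blocks of the quotient by a normal `p`-subgroup** -/
theorem quot_block_main {p : ℕ} [Fact p.Prime] (hM : IsPModular p M) (N : Subgroup G)
    [N.Normal] (hN : IsPGroup p N) (B : Set (IrrCharacter G)) (hB : IsPBlock M B) :
    ∃ Bbar : Set (IrrCharacter (G ⧸ N)), IsPBlock M Bbar ∧
      (∀ χ ∈ Bbar, ∀ ψ : IrrCharacter G,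
        (ψ : G → ℂ) = (χ : G ⧸ N → ℂ) ∘ QuotientGroup.mk → ψ ∈ B) ∧
      ∀ Dbar : Subgroup (G ⧸ N), IsDefectGroup p M Bbar Dbar ↔
        ∃ P : Subgroup G, IsDefectGroup p M B P ∧ Dbar = P.map (QuotientGroup.mk' N) := by
  have : Fintype (G ⧸ N) := Fintype.ofFinite _
  obtain ⟨x, hx⟩ := exists_defectClass hM hB
  obtain ⟨b, hb, hsub, hne⟩ := exists_quot_block hM N hN hB hx
  obtain ⟨hxb, hr⟩ := quot_defectClass hM N hx hb hsub hne
  obtain ⟨P0⟩ : Nonempty (Sylow p (Subgroup.centralizer ({x} : Set G))) := inferInstance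
  have hD0B : IsDefectGroup p M B
      ((P0 : Subgroup (Subgroup.centralizer ({x} : Set G))).map
        (Subgroup.centralizer ({x} : Set G)).subtype) := ⟨x, hx, P0, rfl⟩
  set D0 : Subgroup G := (P0 : Subgroup (Subgroup.centralizer ({x} : Set G))).map
        (Subgroup.centralizer ({x} : Set G)).subtype with hD0
  have hD0le : D0 ≤ Subgroup.centralizer ({x} : Set G) := Subgroup.map_subtype_le _
  have hD0card : Nat.card D0 =
      p ^ (Nat.card (Subgroup.centralizer ({x} : Set G))).factorization p := by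
    rw [hD0, Subgroup.card_map_of_injective (Subgroup.subtype_injective _)]
    exact P0.card_eq_multiplicity
  have hD0b : IsDefectGroup p M b (D0.map (QuotientGroup.mk' N)) :=
    quot_defectGroup N hN hr hxb D0 hD0le hD0card
  have hcomm : ∀ (y : G) (D : Subgroup G),
      (D.map (MulAut.conj y).toMonoidHom).map (QuotientGroup.mk' N) =
      (D.map (QuotientGroup.mk' N)).map (MulAut.conj (QuotientGroup.mk' N y)).toMonoidHom := by
    intro y D
    rw [Subgroup.map_map, Subgroup.map_map]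
    congr 1
  refine ⟨b, hb, ?_, ?_⟩
  · intro χ hχ ψ hψ
    have h1 : ψ = inflIrrQ N χ := Subtype.ext hψ
    rw [h1]
    exact hsub hχ
  · intro Dbar
    constructor
    · intro hD
      obtain ⟨ybar, hy⟩ := isDefectGroup_conj hM hb hD0b hD
      obtain ⟨y, rfl⟩ := QuotientGroup.mk'_surjective N ybar
      refine ⟨D0.map (MulAut.conj y).toMonoidHom, isDefectGroup_map_conj hD0B y, ?_⟩
      rw [hcomm, hy]
    · rintro ⟨P, hP, rfl⟩
      obtain ⟨y, hy⟩ := isDefectGroup_conj hM hB hD0B hP
      rw [← hy, hcomm]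
      exact isDefectGroup_map_conj hD0b _

end

end Cfsg.Agent.Lib.Helper28
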