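import Mathlib
import Cfsg.Prelude.Def_Blocks
import Cfsg.Agent.Lib.Helper28.QuotPB
import Cfsg.Agent.S0911

set_option autoImplicit false

/-!
# Blocks of `G ⧸ N` dominated by a block of `G`: defect groups (helper28)
-/

namespace Cfsg.Agent.Lib.Helper28

open Cfsg Cfsg.Agent.Lib.Helper4 Cfsg.Agent.Lib.Helper26
open scoped ComplexConjugate Classical

section

/-- two subgroups of `H` of Sylow order in `H` are conjugate under `H` -/
theorem exists_conj_of_card_sylow {Γ : Type*} [Group Γ] [Finite Γ] {p : ℕ} [Fact p.Prime]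
    (H S₁ S₂ : Subgroup Γ) (h1 : S₁ ≤ H) (h2 : S₂ ≤ H)
    (hc1 : Nat.card S₁ = p ^ (Nat.card H).factorization p)
    (hc2 : Nat.card S₂ = p ^ (Nat.card H).factorization p) :
    ∃ c : Γ, c ∈ H ∧ S₁.map (MulAut.conj c).toMonoidHom = S₂ := by
  have hT1 : Nat.card (S₁.subgroupOf H) = p ^ (Nat.card H).factorization p := by
    rw [Nat.card_congr (Subgroup.subgroupOfEquivOfLe h1).toEquiv, hc1]
  have hT2 : Nat.card (S₂.subgroupOf H) = p ^ (Nat.card H).factorization p := by
    rw [Nat.card_congr (Subgroup.subgroupOfEquivOfLe h2).toEquiv, hc2]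
  obtain ⟨c, hc⟩ := MulAction.exists_smul_eq H (Sylow.ofCard _ hT1) (Sylow.ofCard _ hT2)
  refine ⟨(c : Γ), c.2, ?_⟩
  have h3 : (S₂.subgroupOf H) = (S₁.subgroupOf H).map (MulAut.conj c).toMonoidHom := by
    have := congrArg (fun T : Sylow p H => (T : Subgroup H)) hc
    simp only [Sylow.coe_subgroup_smul, Sylow.coe_ofCard, Subgroup.pointwise_smul_def] at this
    rw [← this]
    rfl
  apply Subgroup.eq_of_le_of_card_ge
  · rintro _ ⟨d, hd, rfl⟩
    have hd' : (⟨d, h1 hd⟩ : H) ∈ S₁.subgroupOf H := Subgroup.mem_subgroupOf.mpr hd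
    have h4 : (MulAut.conj c) ⟨d, h1 hd⟩ ∈ S₂.subgroupOf H := by
      rw [h3]
      exact ⟨_, hd', rfl⟩
    exact Subgroup.mem_subgroupOf.mp h4
  · rw [Subgroup.card_map_of_injective (MulAut.conj (c : Γ)).injective, hc1, hc2]

variable {G : Type*} [Group G] [Fintype G] {M : Ideal AlgInt}

/-- if `p ∤ |C̃ : C_G(x)|`, a Sylow `p`-subgroup of `C_G(x)` maps onto a Sylow `p`-subgroup of
the centralizer of the image of `x` in `G ⧸ N` -/
theorem card_map_mk_of_not_dvd {p : ℕ} [Fact p.Prime] (N : Subgroup G) [N.Normal]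
    {x : G} (hr : ¬ p ∣ quotRatio N x)
    (D : Subgroup G) (hle : D ≤ Subgroup.centralizer ({x} : Set G))
    (hcard : Nat.card D = p ^ (Nat.card (Subgroup.centralizer ({x} : Set G))).factorization p) :
    D.map (QuotientGroup.mk' N) ≤ Subgroup.centralizer ({(x : G ⧸ N)} : Set (G ⧸ N)) ∧
    Nat.card (D.map (QuotientGroup.mk' N)) =
      p ^ (Nat.card (Subgroup.centralizer ({(x : G ⧸ N)} : Set (G ⧸ N)))).factorization p := by
  have : Fintype (G ⧸ N) := Fintype.ofFinite _
  have hp : p.Prime := Fact.out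
  have hle' : D.map (QuotientGroup.mk' N) ≤
      Subgroup.centralizer ({(x : G ⧸ N)} : Set (G ⧸ N)) := by
    rintro _ ⟨d, hd, rfl⟩
    exact centralizer_le_comap_mk N x (hle hd)
  refine ⟨hle', ?_⟩
  have hrel := quotRatio_mul_card N x
  have hr0 : quotRatio N x ≠ 0 := by
    intro h0
    apply hr
    rw [h0]
    exact dvd_zero p
  have hfac : (Nat.card (Subgroup.centralizer ({x} : Set G))).factorization p =
      (Nat.card N).factorization p +
        (Nat.card (Subgroup.centralizer ({(x : G ⧸ N)} : Set (G ⧸ N)))).factorization p := by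
    have h1 : (quotRatio N x * Nat.card (Subgroup.centralizer ({x} : Set G))).factorization p =
        (Nat.card N * Nat.card (Subgroup.centralizer
          ({(x : G ⧸ N)} : Set (G ⧸ N)))).factorization p := by rw [hrel]
    rw [Nat.factorization_mul hr0 Nat.card_pos.ne', Nat.factorization_mul Nat.card_pos.ne'
      Nat.card_pos.ne', Finsupp.add_apply, Finsupp.add_apply,
      Nat.factorization_eq_zero_of_not_dvd hr, zero_add] at h1
    exact h1
  have hDp : IsPGroup p D := IsPGroup.of_card hcard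
  have hmapp : IsPGroup p (D.map (QuotientGroup.mk' N)) := hDp.map _
  obtain ⟨k, hk⟩ := IsPGroup.iff_card.mp hmapp
  have hk1 : k ≤ (Nat.card (Subgroup.centralizer ({(x : G ⧸ N)} : Set (G ⧸ N)))).factorization p := by
    have hdvd : p ^ k ∣ Nat.card (Subgroup.centralizer ({(x : G ⧸ N)} : Set (G ⧸ N))) := by
      rw [← hk]
      exact Subgroup.card_dvd_of_le hle'
    exact (hp.pow_dvd_iff_le_factorization Nat.card_pos.ne').mp hdvd
  have hk2 : (Nat.card (Subgroup.centralizer ({x} : Set G))).factorization p ≤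
      (Nat.card N).factorization p + k := by
    have h1 : Nat.card D ∣
        Nat.card ((D.map (QuotientGroup.mk' N)).comap (QuotientGroup.mk' N)) :=
      Subgroup.card_dvd_of_le (Subgroup.le_comap_map _ _)
    rw [card_comap_mk, hcard, hk] at h1
    have h2 := (hp.pow_dvd_iff_le_factorization
      (mul_ne_zero Nat.card_pos.ne' (pow_ne_zero k hp.ne_zero))).mp h1
    rw [Nat.factorization_mul Nat.card_pos.ne' (pow_ne_zero k hp.ne_zero), Finsupp.add_apply,
      Nat.Prime.factorization_pow hp, Finsupp.single_eq_same] at h2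
    exact h2
  rw [hk]
  congr 1
  omega

/-- a defect group of a block of `G ⧸ N` dominated by `B` lies in the image of a defect group
of `B` -/
theorem quot_defect_le {p : ℕ} [Fact p.Prime] (hM : IsPModular p M) (N : Subgroup G)
    [N.Normal] {Bbar : Set (IrrCharacter (G ⧸ N))} (hBbar : IsPBlock M Bbar)
    {B : Set (IrrCharacter G)} (hB : IsPBlock M B) (hsub : Bbar ⊆ quotSet N B)
    {Dbar : Subgroup (G ⧸ N)} (hDbar : IsDefectGroup p M Bbar Dbar) :
    ∃ P : Subgroup G, IsDefectGroup p M B P ∧ Dbar ≤ P.map (QuotientGroup.mk' N) := by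
  have : Fintype (G ⧸ N) := Fintype.ofFinite _
  have hprime : M.IsPrime := hM.2.1.isPrime
  have hMtop : M ≠ ⊤ := hM.2.1.ne_top
  obtain ⟨h, hh⟩ := exists_defectClass hM hB
  obtain ⟨ψ, hψ⟩ := Helper28.block_nonempty hBbar
  have key : ¬ MemLocalIdeal M
      ((quotRatio N h : ℂ) * centralChar (ψ : G ⧸ N → ℂ) (h : G ⧸ N)) := by
    rw [← centralChar_inflIrrQ]
    exact hh.2.2 _ (hsub hψ)
  have hω : ¬ MemLocalIdeal M (centralChar (ψ : G ⧸ N → ℂ) (h : G ⧸ N)) := fun hcon =>
    key (memLocalIdeal_mul_left (memLocalRing_natCast hMtop _) hcon)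
  have hr : ¬ p ∣ quotRatio N h := by
    intro hdvd
    apply key
    apply memLocalIdeal_mul_right _
      (memLocalRing_of_isIntegral hMtop (isIntegral_centralChar ψ.2 _))
    obtain ⟨c, hc⟩ := hdvd
    rw [hc]
    push_cast
    exact memLocalIdeal_mul_right (memLocalIdeal_natCast_p hM) (memLocalRing_natCast hMtop c)
  obtain ⟨P0⟩ : Nonempty (Sylow p (Subgroup.centralizer ({h} : Set G))) := inferInstance
  have hD0B : IsDefectGroup p M B
      ((P0 : Subgroup (Subgroup.centralizer ({h} : Set G))).map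
        (Subgroup.centralizer ({h} : Set G)).subtype) := ⟨h, hh, P0, rfl⟩
  set D0 : Subgroup G := (P0 : Subgroup (Subgroup.centralizer ({h} : Set G))).map
        (Subgroup.centralizer ({h} : Set G)).subtype with hD0
  have hD0le : D0 ≤ Subgroup.centralizer ({h} : Set G) := Subgroup.map_subtype_le _
  have hD0card : Nat.card D0 =
      p ^ (Nat.card (Subgroup.centralizer ({h} : Set G))).factorization p := by
    rw [hD0, Subgroup.card_map_of_injective (Subgroup.subtype_injective _)]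
    exact P0.card_eq_multiplicity
  obtain ⟨hmle, hmcard⟩ := card_map_mk_of_not_dvd N hr D0 hD0le hD0card
  obtain ⟨gbar, hgbar, Pbar, rfl⟩ := hDbar
  obtain ⟨xbar, Qbar, hle⟩ := (Cfsg.Agent.S0911.result p M hM Bbar hBbar gbar hgbar Pbar
    (h : G ⧸ N)).2 ⟨ψ, hψ, hω⟩
  have hQle : (Qbar : Subgroup (Subgroup.centralizer ({(h : G ⧸ N)} : Set (G ⧸ N)))).map
      (Subgroup.centralizer ({(h : G ⧸ N)} : Set (G ⧸ N))).subtype ≤
      Subgroup.centralizer ({(h : G ⧸ N)} : Set (G ⧸ N)) := Subgroup.map_subtype_le _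
  have hQcard : Nat.card ((Qbar : Subgroup (Subgroup.centralizer
      ({(h : G ⧸ N)} : Set (G ⧸ N)))).map
      (Subgroup.centralizer ({(h : G ⧸ N)} : Set (G ⧸ N))).subtype) =
      p ^ (Nat.card (Subgroup.centralizer ({(h : G ⧸ N)} : Set (G ⧸ N)))).factorization p := by
    rw [Subgroup.card_map_of_injective (Subgroup.subtype_injective _)]
    exact Qbar.card_eq_multiplicity
  obtain ⟨cbar, -, hcbar⟩ := exists_conj_of_card_sylow _ _ _ hmle hQle hmcard hQcard
  obtain ⟨y, hy⟩ := QuotientGroup.mk'_surjective N (xbar⁻¹ * cbar)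
  refine ⟨D0.map (MulAut.conj y).toMonoidHom, isDefectGroup_map_conj hD0B y, ?_⟩
  intro d hd
  have h1 := hle ⟨d, hd, rfl⟩
  rw [← hcbar] at h1
  obtain ⟨_, ⟨e, he, rfl⟩, he2⟩ := h1
  refine ⟨y * e * y⁻¹, ⟨e, he, rfl⟩, ?_⟩
  rw [map_mul, map_mul, map_inv, hy]
  have he3 : cbar * (QuotientGroup.mk' N e) * cbar⁻¹ = xbar * d * xbar⁻¹ := he2
  have : xbar⁻¹ * cbar * (QuotientGroup.mk' N) e * (xbar⁻¹ * cbar)⁻¹ =
      xbar⁻¹ * (cbar * (QuotientGroup.mk' N e) * cbar⁻¹) * xbar := by group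
  rw [this, he3]
  group

end

end Cfsg.Agent.Lib.Helper28
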