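import Mathlib
import Cfsg.Prelude.Def_Blocks
import Cfsg.Agent.Lib.Helper28.BrauerU
import Cfsg.Agent.Lib.Helper28.QuotPC
import Cfsg.Agent.Lib.Helper28.QuotRankA
import Cfsg.Agent.Lib.Helper28.PrimeCoreB
import Cfsg.Agent.Lib.Helper4.ClassSep

set_option autoImplicit false

/-!
# Deficiency classes, part A: block theory (helper28)

A group has deficiency class `r` when it has no non-principal block of defect `≥ r`.
Deficiency classes pass to centralizers of abelian `p`-subgroups, and drop by one in the
quotient by a central subgroup of order `p`.  A group of deficiency class `r` with a central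
`p`-subgroup of order `p ^ r` has a single block and no normal `p'`-subgroup.
-/

namespace Cfsg.Agent.Lib.Helper28

open Cfsg Cfsg.Agent.Lib.Helper4 Cfsg.Agent.Lib.Helper26
open scoped ComplexConjugate Classical

/-- deficiency class `r`: no non-principal block of defect `≥ r` -/
def DefClass (p : ℕ) (M : Ideal AlgInt) (K : Type*) [Group K] (r : ℕ) : Prop :=
  ∀ B : Set (IrrCharacter K), IsPBlock M B → B ≠ principalBlock M K → blockDefect p B < r

section DefCls

variable {G : Type*} [Group G] [Fintype G] {M : Ideal AlgInt}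

omit [Fintype G] in
/-- a central `p`-subgroup lies in every defect group -/
theorem central_le_defectGroup {p : ℕ} [Fact p.Prime] {B : Set (IrrCharacter G)}
    {D : Subgroup G} (hD : IsDefectGroup p M B D) (Z : Subgroup G) (hZ : IsPGroup p Z)
    (hZc : Z ≤ Subgroup.center G) : Z ≤ D := by
  obtain ⟨g, hg, P, rfl⟩ := hD
  have hZC : Z ≤ Subgroup.centralizer ({g} : Set G) :=
    hZc.trans (Subgroup.center_le_centralizer _)
  have hn : (Z.subgroupOf (Subgroup.centralizer ({g} : Set G))).Normal := by
    constructor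
    intro n hn c
    rw [Subgroup.mem_subgroupOf] at hn ⊢
    have hcen : (n : G) ∈ Subgroup.center G := hZc hn
    rw [Subgroup.mem_center_iff] at hcen
    have : ((c * n * c⁻¹ : Subgroup.centralizer ({g} : Set G)) : G) = (n : G) := by
      rw [Subgroup.coe_mul, Subgroup.coe_mul, Subgroup.coe_inv, hcen (c : G), mul_assoc,
        mul_inv_cancel, mul_one]
    rw [this]
    exact hn
  have hpg : IsPGroup p (Z.subgroupOf (Subgroup.centralizer ({g} : Set G))) :=
    hZ.comap_subtype
  have hle := hpg.le_sylow_of_normal P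
  intro z hz
  exact ⟨⟨z, hZC hz⟩, hle (by rw [Subgroup.mem_subgroupOf]; exact hz), rfl⟩

/-- a central subgroup of order `p ^ k` bounds all defects from below -/
theorem le_blockDefect_of_central {p : ℕ} [Fact p.Prime] (hM : IsPModular p M)
    (Z : Subgroup G) (hZc : Z ≤ Subgroup.center G) {k : ℕ} (hZ : Nat.card Z = p ^ k)
    {B : Set (IrrCharacter G)} (hB : IsPBlock M B) : k ≤ blockDefect p B := by
  have hp : p.Prime := hM.1
  obtain ⟨D, hD⟩ := exists_isDefectGroup hM hB
  have h1 := central_le_defectGroup hD Z (IsPGroup.of_card hZ) hZc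
  have h2 := card_defectGroup hM hB hD
  have h3 : Nat.card Z ≤ Nat.card D := Nat.le_of_dvd Nat.card_pos (Subgroup.card_dvd_of_le h1)
  rw [hZ, h2] at h3
  exact (Nat.pow_le_pow_iff_right hp.one_lt).mp h3

/-- deficiency classes pass to centralizers of abelian `p`-subgroups -/
theorem defClass_centralizer_sub {p : ℕ} [Fact p.Prime] (hM : IsPModular p M) (r : ℕ)
    (hG : DefClass p M G r) (F : Subgroup G) (hF : IsPGroup p F)
    (hab : F ≤ Subgroup.centralizer (F : Set G)) :
    DefClass p M (Subgroup.centralizer (F : Set G)) r := by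
  intro b hb hne
  have : Fintype (Subgroup.centralizer (F : Set G)) := Fintype.ofFinite _
  obtain ⟨B, hind⟩ := exists_induced_block hM F (Subgroup.centralizer (F : Set G)) hF hab
    le_rfl (Subgroup.centralizer_le_normalizer _) hb
  have hB0 : B ≠ principalBlock M G := by
    rintro rfl
    exact hne ((third_main_theorem hM _ b ⟨_, hind⟩).mp hind)
  exact lt_of_le_of_lt (blockDefect_le_of_induced hM _ hind) (hG B hind.2.1 hB0)

/-- deficiency class `r` and a central subgroup of order `p ^ r`: a single block -/
theorem single_block_of_central {p : ℕ} [Fact p.Prime] (hM : IsPModular p M) (r : ℕ)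
    (hG : DefClass p M G r) (Z : Subgroup G) (hZc : Z ≤ Subgroup.center G)
    (hZ : Nat.card Z = p ^ r) (B : Set (IrrCharacter G)) (hB : IsPBlock M B) :
    B = principalBlock M G := by
  by_contra hne
  have h1 := hG B hB hne
  have h2 := le_blockDefect_of_central hM Z hZc hZ hB
  omega

/-- a group with a single block has no nontrivial normal `p'`-subgroup -/
theorem normal_coprime_eq_bot_of_single_block {p : ℕ} [Fact p.Prime] (hM : IsPModular p M)
    (hsingle : ∀ B : Set (IrrCharacter G), IsPBlock M B → B = principalBlock M G)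
    (H : Subgroup G) [H.Normal] (hH : (Nat.card H).Coprime p) : H = ⊥ := by
  have hMtop : M ≠ ⊤ := hM.2.1.ne_top
  rw [Subgroup.eq_bot_iff_forall]
  intro h hh
  have hall : ∀ χ : IrrCharacter G, (χ : G → ℂ) h = (χ : G → ℂ) 1 := by
    intro χ
    have hχ : χ ∈ principalBlock M G := by
      rw [← hsingle (blockOf M (χ : G → ℂ)) ⟨χ, rfl⟩]
      exact Helper28.sameBlock_refl hMtop _
    exact principalBlock_trivial_on hM H hH hχ h hh
  have := isConj_of_forall_irr_eq h 1 hall
  exact isConj_one_left.mp this

/-- in the quotient by a central subgroup of order `p` the deficiency class drops by one -/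
theorem defClass_quot {p : ℕ} [Fact p.Prime] (hM : IsPModular p M) (r : ℕ)
    (hG : DefClass p M G r) (Z : Subgroup G) [Z.Normal] (hZc : Z ≤ Subgroup.center G)
    (hZ : Nat.card Z = p) : DefClass p M (G ⧸ Z) (r - 1) := by
  intro Bbar hBbar hne
  have hp : p.Prime := hM.1
  have : Fintype (G ⧸ Z) := Fintype.ofFinite _
  have hprime : M.IsPrime := hM.2.1.isPrime
  have hMtop : M ≠ ⊤ := hM.2.1.ne_top
  have hZp : IsPGroup p Z := IsPGroup.of_card (n := 1) (by rw [hZ, pow_one])
  obtain ⟨ψ, hψ⟩ := Helper28.block_nonempty hBbar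
  set B : Set (IrrCharacter G) := blockOf M (inflIrrQ Z ψ : G → ℂ) with hBdef
  have hB : IsPBlock M B := ⟨inflIrrQ Z ψ, rfl⟩
  have hχB : inflIrrQ Z ψ ∈ B := Helper28.sameBlock_refl hMtop _
  have hsub : Bbar ⊆ quotSet Z B := by
    intro ψ' hψ'
    exact quotSet_saturated Z hB (show ψ ∈ quotSet Z B from hχB)
      ((Helper28.mem_block_iff hBbar hψ ψ').mp hψ')
  have hsup : Z ⊔ Subgroup.centralizer (Z : Set G) = ⊤ := by
    have : Subgroup.centralizer (Z : Set G) = ⊤ := by
      rw [eq_top_iff]
      intro g _
      rw [Subgroup.mem_centralizer_iff]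
      intro z hz
      have := hZc hz
      rw [Subgroup.mem_center_iff] at this
      exact (this g).symm
    rw [this, sup_top_eq]
  have hB0 : B ≠ principalBlock M G := by
    intro hcon
    apply hne
    have h1 : inflIrrQ Z ψ ∈ principalBlock M G := hcon ▸ hχB
    have h2 := (inflation_mem_principalBlock_iff hM Z hZp hsup ψ (inflIrrQ Z ψ)
      (by funext g; exact inflIrrQ_apply Z ψ g)).mp h1
    exact Helper28.block_eq_of_mem hBbar isPBlock_principalBlock hψ h2
  have hdB := hG B hB hB0
  obtain ⟨Dbar, hDbar⟩ := exists_isDefectGroup hM hBbar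
  obtain ⟨P, hP, hle⟩ := quot_defect_le hM Z hBbar hB hsub hDbar
  have hc1 := card_defectGroup hM hBbar hDbar
  have hc2 := card_defectGroup hM hB hP
  have hZP : Z ≤ P := central_le_defectGroup hP Z hZp hZc
  have hcomap : (P.map (QuotientGroup.mk' Z)).comap (QuotientGroup.mk' Z) = P := by
    rw [QuotientGroup.comap_map_mk']
    exact sup_eq_right.mpr hZP
  have hc3 := card_comap_mk Z (P.map (QuotientGroup.mk' Z))
  rw [hcomap, hc2, hZ] at hc3
  have hc4 : Nat.card Dbar ≤ Nat.card (P.map (QuotientGroup.mk' Z)) :=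
    Nat.le_of_dvd Nat.card_pos (Subgroup.card_dvd_of_le hle)
  rw [hc1] at hc4
  have hc5 : p ^ (blockDefect p Bbar + 1) ≤ p ^ blockDefect p B := by
    rw [pow_succ, hc3, mul_comm]
    exact Nat.mul_le_mul_left p hc4
  have := (Nat.pow_le_pow_iff_right hp.one_lt).mp hc5
  omega

end DefCls

end Cfsg.Agent.Lib.Helper28
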