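import Mathlib
import Cfsg.Prelude.Def_Blocks
import Cfsg.Agent.Lib.Helper28.DefClsA

set_option autoImplicit false

/-!
# Deficiency classes, part B: reduction to `C_G(x) / ⟨x⟩` and the odd core (helper28)

For an involution `x` of an elementary abelian `2`-subgroup `E` of a group `G` of deficiency
class `r` (for the prime `2`), the group `C_G(x) / ⟨x⟩` has deficiency class `r - 1` and contains
the elementary abelian subgroup `E / ⟨x⟩`.  By induction on `r`: a group of deficiency class `r`
with an elementary abelian subgroup of order at least `2 ^ (r + 1)` has no nontrivial normal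
subgroup of odd order.
-/

namespace Cfsg.Agent.Lib.Helper28

open Cfsg Cfsg.Agent.Lib.Helper4 Cfsg.Agent.Lib.Helper26
open scoped ComplexConjugate Classical

universe u

section CentralInv

variable {K : Type*} [Group K]

/-- an elementary abelian `2`-subgroup, spelled out -/
def IsElem2 (E : Subgroup K) : Prop :=
  (∀ x ∈ E, ∀ y ∈ E, x * y = y * x) ∧ ∀ x ∈ E, x * x = 1

theorem zpowers_le_center_of_central {z : K} (hz : ∀ k : K, k * z = z * k) :
    Subgroup.zpowers z ≤ Subgroup.center K := by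
  rw [Subgroup.zpowers_le, Subgroup.mem_center_iff]
  exact hz

theorem normal_of_le_center' (Z : Subgroup K) (hZ : Z ≤ Subgroup.center K) : Z.Normal := by
  constructor
  intro n hn g
  have := hZ hn
  rw [Subgroup.mem_center_iff] at this
  rw [this g, mul_assoc, mul_inv_cancel, mul_one]
  exact hn

theorem card_zpowers_of_involution {z : K} (hz1 : z ≠ 1) (hz2 : z * z = 1) :
    Nat.card (Subgroup.zpowers z) = 2 := by
  rw [Nat.card_zpowers]
  exact orderOf_eq_prime (by rw [pow_two]; exact hz2) hz1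

theorem isElem2_map {L : Type*} [Group L] (f : K →* L) {E : Subgroup K} (hE : IsElem2 E) :
    IsElem2 (E.map f) := by
  constructor
  · rintro _ ⟨a, ha, rfl⟩ _ ⟨b, hb, rfl⟩
    rw [← map_mul, ← map_mul, hE.1 a ha b hb]
  · rintro _ ⟨a, ha, rfl⟩
    rw [← map_mul, hE.2 a ha, map_one]

theorem card_map_mk_of_le [Finite K] (Z : Subgroup K) [Z.Normal] (E : Subgroup K)
    (hZE : Z ≤ E) : Nat.card E = Nat.card Z * Nat.card (E.map (QuotientGroup.mk' Z)) := by
  have : Fintype K := Fintype.ofFinite K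
  have h := card_comap_mk Z (E.map (QuotientGroup.mk' Z))
  rw [QuotientGroup.comap_map_mk', sup_eq_right.mpr hZE] at h
  exact h

/-- an element of odd-order subgroup with trivial square is trivial -/
theorem eq_one_of_sq_of_odd (N : Subgroup K) [Finite N] (hodd : Odd (Nat.card N)) {n : K}
    (hn : n ∈ N) (h2 : n * n = 1) : n = 1 := by
  have h1 : orderOf n ∣ 2 := orderOf_dvd_of_pow_eq_one (by rw [pow_two]; exact h2)
  have h3 : orderOf n ∣ Nat.card N := by
    have := orderOf_dvd_natCard (⟨n, hn⟩ : N)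
    rwa [Subgroup.orderOf_mk] at this
  rcases (Nat.dvd_prime Nat.prime_two).mp h1 with h | h
  · exact orderOf_eq_one_iff.mp h
  · rw [h] at h3
    exact absurd hodd (by rw [Nat.not_odd_iff_even]; exact (even_iff_two_dvd).mpr h3)

/-- a fixed-point-free involution of a finite normal subgroup inverts it -/
theorem inverts_of_fpf_involution (N : Subgroup K) [Finite N] [hN : N.Normal] (t : K)
    (ht : t * t = 1) (hfpf : ∀ n ∈ N, t * n = n * t → n = 1) :
    ∀ n ∈ N, t * n * t⁻¹ = n⁻¹ := by
  have htinv : t⁻¹ = t := inv_eq_of_mul_eq_one_left ht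
  let φ : N → N := fun n =>
    ⟨(n : K)⁻¹ * (t * n * t⁻¹), N.mul_mem (N.inv_mem n.2) (hN.conj_mem n n.2 t)⟩
  have hinj : Function.Injective φ := by
    intro a b hab
    have h1 : (a : K)⁻¹ * (t * a * t⁻¹) = (b : K)⁻¹ * (t * b * t⁻¹) := congrArg Subtype.val hab
    have h2' : (b : K) * (a : K)⁻¹ = t * ((b : K) * (a : K)⁻¹) * t⁻¹ := by
      calc (b : K) * (a : K)⁻¹
          = (b : K) * ((a : K)⁻¹ * (t * a * t⁻¹)) * (t * a * t⁻¹)⁻¹ := by group
        _ = (b : K) * ((b : K)⁻¹ * (t * b * t⁻¹)) * (t * a * t⁻¹)⁻¹ := by rw [h1]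
        _ = t * ((b : K) * (a : K)⁻¹) * t⁻¹ := by group
    have h2 : t * ((b : K) * (a : K)⁻¹) = ((b : K) * (a : K)⁻¹) * t := by
      calc t * ((b : K) * (a : K)⁻¹) = t * ((b : K) * (a : K)⁻¹) * t⁻¹ * t := by group
        _ = ((b : K) * (a : K)⁻¹) * t := by rw [← h2']
    have h3 := hfpf _ (N.mul_mem b.2 (N.inv_mem a.2)) h2
    apply Subtype.ext
    exact (mul_inv_eq_one.mp h3).symm
  have hsurj := Finite.surjective_of_injective hinj
  intro n hn
  obtain ⟨k, hk⟩ := hsurj ⟨n, hn⟩
  have hk' : (k : K)⁻¹ * (t * k * t⁻¹) = n := congrArg Subtype.val hk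
  rw [← hk', htinv, mul_inv_rev, mul_inv_rev, mul_inv_rev, inv_inv, htinv]
  simp only [mul_assoc, ht, mul_one]

end CentralInv

section Reduce

variable {G : Type u} [Group G] [Fintype G] {M : Ideal AlgInt}

/-- **the reduction**: `Q = C_G(x) / ⟨x⟩` for an involution `x` of an elementary abelian
subgroup `E` -/
theorem exists_reduction (hM : IsPModular 2 M) (r : ℕ) (hG : DefClass 2 M G r) (x : G)
    (hx1 : x ≠ 1) (hx2 : x * x = 1) (E : Subgroup G) (hE : IsElem2 E) (hxE : x ∈ E) :
    ∃ (Q : Type u) (_ : Group Q) (_ : Finite Q), DefClass 2 M Q (r - 1) ∧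
      Nat.card (Subgroup.centralizer ({x} : Set G)) = 2 * Nat.card Q ∧
      (∃ Ebar : Subgroup Q, IsElem2 Ebar ∧ Nat.card E = 2 * Nat.card Ebar) ∧
      (∀ N : Subgroup G, N.Normal → Odd (Nat.card N) →
        (∀ Nbar : Subgroup Q, Nbar.Normal → Odd (Nat.card Nbar) → Nbar = ⊥) →
        ∀ n ∈ N, x * n = n * x → n = 1) := by
  have hxC : x ∈ Subgroup.centralizer ({x} : Set G) := by
    rw [Subgroup.mem_centralizer_iff]
    intro y hy
    rw [Set.mem_singleton_iff] at hy
    rw [hy]
  obtain ⟨xC, hxCdef⟩ : ∃ xC : Subgroup.centralizer ({x} : Set G), xC = ⟨x, hxC⟩ := ⟨_, rfl⟩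
  have hxCval : (xC : G) = x := by rw [hxCdef]
  have hcen : ∀ k : Subgroup.centralizer ({x} : Set G), k * xC = xC * k := by
    intro k
    apply Subtype.ext
    have := k.2
    rw [Subgroup.mem_centralizer_iff] at this
    rw [Subgroup.coe_mul, Subgroup.coe_mul, hxCval]
    exact (this x rfl).symm
  have hZc : Subgroup.zpowers xC ≤ Subgroup.center (Subgroup.centralizer ({x} : Set G)) :=
    zpowers_le_center_of_central hcen
  haveI hZn : (Subgroup.zpowers xC).Normal := normal_of_le_center' _ hZc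
  have hxC1 : xC ≠ 1 := fun h => hx1 (by rw [← hxCval, h]; rfl)
  have hxC2 : xC * xC = 1 := by
    apply Subtype.ext
    rw [Subgroup.coe_mul, hxCval]
    exact hx2
  have hZcard : Nat.card (Subgroup.zpowers xC) = 2 := card_zpowers_of_involution hxC1 hxC2
  have : Fintype (Subgroup.centralizer ({x} : Set G)) := Fintype.ofFinite _
  have hord : orderOf x = 2 := orderOf_eq_prime (by rw [pow_two]; exact hx2) hx1
  have hCdef : DefClass 2 M (Subgroup.centralizer ({x} : Set G)) r := fun b hb hne =>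
    deficiency_class_centralizer hM r hG x ⟨1, by rw [pow_one]; exact hord⟩ b hb hne
  refine ⟨Subgroup.centralizer ({x} : Set G) ⧸ Subgroup.zpowers xC, inferInstance, inferInstance,
    defClass_quot hM r hCdef _ hZc hZcard, ?_, ?_, ?_⟩
  · rw [Subgroup.card_eq_card_quotient_mul_card_subgroup (Subgroup.zpowers xC), hZcard, mul_comm]
  · have hEC : E ≤ Subgroup.centralizer ({x} : Set G) := by
      intro e he
      rw [Subgroup.mem_centralizer_iff]
      intro y hy
      rw [Set.mem_singleton_iff] at hy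
      rw [hy]
      exact hE.1 x hxE e he
    refine ⟨(E.subgroupOf (Subgroup.centralizer ({x} : Set G))).map
      (QuotientGroup.mk' (Subgroup.zpowers xC)), isElem2_map _ ⟨?_, ?_⟩, ?_⟩
    · intro a ha b hb
      apply Subtype.ext
      rw [Subgroup.coe_mul, Subgroup.coe_mul]
      exact hE.1 _ (Subgroup.mem_subgroupOf.mp ha) _ (Subgroup.mem_subgroupOf.mp hb)
    · intro a ha
      apply Subtype.ext
      rw [Subgroup.coe_mul]
      exact hE.2 _ (Subgroup.mem_subgroupOf.mp ha)
    · have hZE : Subgroup.zpowers xC ≤ E.subgroupOf (Subgroup.centralizer ({x} : Set G)) := by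
        rw [Subgroup.zpowers_le, Subgroup.mem_subgroupOf, hxCval]
        exact hxE
      have h1 := card_map_mk_of_le (Subgroup.zpowers xC)
        (E.subgroupOf (Subgroup.centralizer ({x} : Set G))) hZE
      rw [hZcard] at h1
      rw [← h1]
      exact (Nat.card_congr (Subgroup.subgroupOfEquivOfLe hEC).toEquiv).symm
  · intro N hN hodd hQ n hn hcomm
    haveI := hN
    have hNCodd : Odd (Nat.card (N.subgroupOf (Subgroup.centralizer ({x} : Set G)))) := by
      have hdvd : Nat.card (N.subgroupOf (Subgroup.centralizer ({x} : Set G))) ∣ Nat.card N := by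
        rw [← Subgroup.inf_subgroupOf_right,
          Nat.card_congr (Subgroup.subgroupOfEquivOfLe
            (inf_le_right : N ⊓ Subgroup.centralizer ({x} : Set G) ≤ _)).toEquiv]
        exact Subgroup.card_dvd_of_le inf_le_left
      exact hodd.of_dvd_nat hdvd
    have hNbarN : ((N.subgroupOf (Subgroup.centralizer ({x} : Set G))).map
        (QuotientGroup.mk' (Subgroup.zpowers xC))).Normal :=
      Subgroup.Normal.map inferInstance _ (QuotientGroup.mk'_surjective _)
    have hNbarodd : Odd (Nat.card ((N.subgroupOf (Subgroup.centralizer ({x} : Set G))).map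
        (QuotientGroup.mk' (Subgroup.zpowers xC)))) :=
      hNCodd.of_dvd_nat (Subgroup.card_map_dvd _ _)
    have hbot := hQ _ hNbarN hNbarodd
    have hle : N.subgroupOf (Subgroup.centralizer ({x} : Set G)) ≤ Subgroup.zpowers xC := by
      rw [← QuotientGroup.ker_mk' (Subgroup.zpowers xC), ← Subgroup.map_eq_bot_iff]
      exact hbot
    have hd2 : Nat.card (N.subgroupOf (Subgroup.centralizer ({x} : Set G))) ∣ 2 :=
      hZcard ▸ Subgroup.card_dvd_of_le hle
    have hc1 : Nat.card (N.subgroupOf (Subgroup.centralizer ({x} : Set G))) = 1 := by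
      rcases (Nat.dvd_prime Nat.prime_two).mp hd2 with h | h
      · exact h
      · rw [h] at hNCodd
        exact absurd hNCodd (by decide)
    have hNCbot : N.subgroupOf (Subgroup.centralizer ({x} : Set G)) = ⊥ :=
      Subgroup.card_eq_one.mp hc1
    have hnC : n ∈ Subgroup.centralizer ({x} : Set G) := by
      rw [Subgroup.mem_centralizer_iff]
      intro y hy
      rw [Set.mem_singleton_iff] at hy
      rw [hy]
      exact hcomm
    have hmem : (⟨n, hnC⟩ : Subgroup.centralizer ({x} : Set G)) ∈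
        N.subgroupOf (Subgroup.centralizer ({x} : Set G)) := by
      rw [Subgroup.mem_subgroupOf]
      exact hn
    rw [hNCbot, Subgroup.mem_bot] at hmem
    exact congrArg Subtype.val hmem

end Reduce

section OddCore

variable {M : Ideal AlgInt}

/-- **the odd core is trivial** -/
theorem oddCore_trivial (hM : IsPModular 2 M) : ∀ (r : ℕ) (G : Type u) [Group G] [Finite G],
    DefClass 2 M G r → (∃ E : Subgroup G, IsElem2 E ∧ 2 ^ (r + 1) ≤ Nat.card E) →
    ∀ N : Subgroup G, N.Normal → Odd (Nat.card N) → N = ⊥ := by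
  intro r
  induction r with
  | zero =>
    intro G _ _ hG _ N hN hodd
    have : Fintype G := Fintype.ofFinite G
    haveI := hN
    refine normal_coprime_eq_bot_of_single_block hM ?_ N ?_
    · intro B hB
      by_contra hne
      exact absurd (hG B hB hne) (Nat.not_lt_zero _)
    · exact Nat.coprime_two_right.mpr hodd
  | succ r ih =>
    intro G _ _ hG hE N hN hodd
    obtain ⟨E, hE, hcard⟩ := hE
    have : Fintype G := Fintype.ofFinite G
    haveI := hN
    have hfpf : ∀ x ∈ E, x ≠ 1 → ∀ n ∈ N, x * n = n * x → n = 1 := by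
      intro x hxE hx1
      obtain ⟨Q, _, _, hQdef, _, ⟨Ebar, hEbar, hEbarcard⟩, hred⟩ :=
        exists_reduction hM (r + 1) hG x hx1 (hE.2 x hxE) E hE hxE
      apply hred N hN hodd
      intro Nbar hNbarN hNbarodd
      refine ih Q (by simpa using hQdef) ⟨Ebar, hEbar, ?_⟩ Nbar hNbarN hNbarodd
      rw [hEbarcard, pow_succ] at hcard
      omega
    -- two distinct involutions
    have h4 : 2 < Nat.card E := by
      have : 2 ^ (r + 1 + 1) = 4 * 2 ^ r := by ring
      have hpos : 0 < 2 ^ r := Nat.pos_of_ne_zero (by positivity)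
      omega
    have : Fintype E := Fintype.ofFinite _
    rw [Nat.card_eq_fintype_card, Fintype.two_lt_card_iff] at h4
    obtain ⟨a, b, c, hab, hac, hbc⟩ := h4
    obtain ⟨x₁, x₂, hx₁, hx₂, hne⟩ : ∃ x₁ x₂ : E, x₁ ≠ 1 ∧ x₂ ≠ 1 ∧ x₁ ≠ x₂ := by
      by_cases ha : a = 1
      · exact ⟨b, c, fun h => hab (ha.trans h.symm), fun h => hac (ha.trans h.symm), hbc⟩
      · by_cases hb : b = 1
        · exact ⟨a, c, ha, fun h => hbc (hb.trans h.symm), hac⟩
        · exact ⟨a, b, ha, hb, hab⟩
    have hx₁' : (x₁ : G) ≠ 1 := fun h => hx₁ (Subtype.ext h)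
    have hx₂' : (x₂ : G) ≠ 1 := fun h => hx₂ (Subtype.ext h)
    have hsq₁ := hE.2 _ x₁.2
    have hsq₂ := hE.2 _ x₂.2
    have hx₃' : (x₁ : G) * (x₂ : G) ≠ 1 := by
      intro h
      apply hne
      apply Subtype.ext
      have h1 : (x₂ : G) = (x₁ : G)⁻¹ := (inv_eq_of_mul_eq_one_right h).symm
      have h2 : (x₁ : G)⁻¹ = (x₁ : G) := inv_eq_of_mul_eq_one_left hsq₁
      rw [h1, h2]
    have hsq₃ := hE.2 _ (E.mul_mem x₁.2 x₂.2)
    have hi₁ := inverts_of_fpf_involution N (x₁ : G) hsq₁ (hfpf _ x₁.2 hx₁')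
    have hi₂ := inverts_of_fpf_involution N (x₂ : G) hsq₂ (hfpf _ x₂.2 hx₂')
    have hi₃ := inverts_of_fpf_involution N ((x₁ : G) * (x₂ : G)) hsq₃
      (hfpf _ (E.mul_mem x₁.2 x₂.2) hx₃')
    rw [Subgroup.eq_bot_iff_forall]
    intro n hn
    apply eq_one_of_sq_of_odd N hodd hn
    have h1 : (x₁ : G) * (x₂ : G) * n * ((x₁ : G) * (x₂ : G))⁻¹ = n := by
      calc (x₁ : G) * (x₂ : G) * n * ((x₁ : G) * (x₂ : G))⁻¹
          = (x₁ : G) * ((x₂ : G) * n * (x₂ : G)⁻¹) * (x₁ : G)⁻¹ := by group
        _ = (x₁ : G) * n⁻¹ * (x₁ : G)⁻¹ := by rw [hi₂ n hn]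
        _ = (n⁻¹)⁻¹ := hi₁ n⁻¹ (N.inv_mem hn)
        _ = n := inv_inv n
    have h2 := hi₃ n hn
    rw [h1] at h2
    calc n * n = n * n⁻¹ := by rw [← h2]
      _ = 1 := mul_inv_cancel n

end OddCore

end Cfsg.Agent.Lib.Helper28
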