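import Mathlib
import Cfsg.Agent.Lib.Helper24.BrauerFowler

set_option autoImplicit false

/-!
# Deficiency classes, part C: a Brauer–Fowler chain bound (helper28)

If every nontrivial normal subgroup of `G` contains an involution whose centralizer has order at
most `c`, then `|G|` is bounded in terms of `c` and the `2`-adic valuation of `|G|`.
-/

namespace Cfsg.Agent.Lib.Helper28

open Cfsg.Agent.Lib.Helper24
open scoped Classical Nat

section Chain

variable {G : Type*} [Group G]

/-- Brauer–Fowler counting inside a normal subgroup -/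
theorem exists_small_class_in_normal [Fintype G] (X : Subgroup G) [hX : X.Normal] (t : G)
    (htX : t ∈ X) (ht : orderOf t = 2)
    (hbig : 2 * (Nat.card (Subgroup.centralizer ({t} : Set G))) ^ 2 < Nat.card G) :
    ∃ x ∈ X, x ≠ 1 ∧ (Subgroup.centralizer ({x} : Set G)).index ≤
      2 * (Nat.card (Subgroup.centralizer ({t} : Set G))) ^ 2 := by
  obtain ⟨n, hn⟩ : ∃ n, n = Nat.card (Subgroup.centralizer ({t} : Set G)) := ⟨_, rfl⟩
  obtain ⟨g, hg⟩ : ∃ g, g = Nat.card G := ⟨_, rfl⟩
  rw [← hn, ← hg] at hbig
  rw [← hn]
  obtain ⟨B, hB⟩ : ∃ B, B = 2 * n ^ 2 := ⟨_, rfl⟩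
  rw [← hB] at hbig ⊢
  have hgpos : 0 < g := hg ▸ Nat.card_pos
  by_contra hcon
  push Not at hcon
  set K : Finset G := Finset.univ.filter (fun g => IsConj t g) with hK
  have hKX : ∀ a ∈ K, a ∈ X := by
    intro a ha
    rw [hK, Finset.mem_filter] at ha
    obtain ⟨c, hc⟩ := isConj_iff.mp ha.2
    rw [← hc]
    exact hX.conj_mem t htX c
  have hKcard : K.card * n = g := by
    have := card_conj_mul_card_centralizer t
    rw [Nat.card_eq_fintype_card, Fintype.card_subtype] at this
    rw [hn, hg]; exact this
  have hsum : K.card * K.card =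
      ∑ x : G, ((K ×ˢ K).filter (fun p : G × G => p.1 * p.2 = x)).card := by
    rw [← Finset.card_product]
    exact Finset.card_eq_sum_card_fiberwise (fun p _ => Finset.mem_univ _)
  set Xf : Finset G := Finset.univ.filter (fun g => g ∈ X) with hXf
  have hsum' : ∑ x : G, ((K ×ˢ K).filter (fun p : G × G => p.1 * p.2 = x)).card =
      ∑ x ∈ Xf, ((K ×ˢ K).filter (fun p : G × G => p.1 * p.2 = x)).card := by
    symm
    apply Finset.sum_subset (Finset.filter_subset _ _)
    intro x _ hx
    rw [Finset.card_eq_zero, Finset.filter_eq_empty_iff]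
    intro p hp hpx
    apply hx
    rw [Finset.mem_product] at hp
    refine Finset.mem_filter.mpr ⟨Finset.mem_univ _, ?_⟩
    rw [← hpx]
    exact X.mul_mem (hKX _ hp.1) (hKX _ hp.2)
  have hle : K.card * K.card ≤ ∑ x ∈ Xf, Nat.card (Subgroup.centralizer ({x} : Set G)) := by
    rw [hsum, hsum']
    exact Finset.sum_le_sum (fun x _ => card_fiber_le_card_centralizer t ht x)
  have h1X : (1 : G) ∈ Xf := by
    rw [hXf, Finset.mem_filter]
    exact ⟨Finset.mem_univ _, X.one_mem⟩
  have hsplit : ∑ x ∈ Xf, Nat.card (Subgroup.centralizer ({x} : Set G)) =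
      g + ∑ x ∈ Xf.erase (1 : G), Nat.card (Subgroup.centralizer ({x} : Set G)) := by
    rw [← Finset.add_sum_erase _ _ h1X]
    congr 1
    have : Subgroup.centralizer ({(1 : G)} : Set G) = ⊤ := by
      rw [eq_top_iff]
      intro y _
      rw [Subgroup.mem_centralizer_iff]
      intro h hh
      rw [Set.mem_singleton_iff] at hh
      rw [hh, one_mul, mul_one]
    rw [this, hg]; exact Subgroup.card_top
  have hbound : ∀ x ∈ Xf.erase (1 : G),
      B * Nat.card (Subgroup.centralizer ({x} : Set G)) ≤ g - 1 := by
    intro x hx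
    have hx1 : x ≠ 1 := Finset.ne_of_mem_erase hx
    have hxX : x ∈ X := by
      have := Finset.mem_of_mem_erase hx
      rw [hXf, Finset.mem_filter] at this
      exact this.2
    have h1 := hcon x hxX hx1
    have h2 := Subgroup.card_mul_index (Subgroup.centralizer ({x} : Set G))
    have hpos : 0 < Nat.card (Subgroup.centralizer ({x} : Set G)) := Nat.card_pos
    rw [← hg] at h2
    have h3 : Nat.card (Subgroup.centralizer ({x} : Set G)) * (B + 1) ≤ g := by
      rw [← h2]; exact Nat.mul_le_mul_left _ h1
    rw [Nat.mul_add, mul_one] at h3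
    rw [mul_comm B]
    generalize Nat.card (Subgroup.centralizer ({x} : Set G)) * B = cB at h3 ⊢
    omega
  have hcardX : (Xf.erase (1 : G)).card ≤ g - 1 := by
    have h1 : (Xf.erase (1 : G)).card ≤ ((Finset.univ : Finset G).erase 1).card :=
      Finset.card_le_card (Finset.erase_subset_erase _ (Finset.filter_subset _ _))
    rw [Finset.card_erase_of_mem (Finset.mem_univ _), Finset.card_univ,
      ← Nat.card_eq_fintype_card, ← hg] at h1
    exact h1
  have hsum2 : B * ∑ x ∈ Xf.erase (1 : G),
      Nat.card (Subgroup.centralizer ({x} : Set G)) ≤ (g - 1) * (g - 1) := by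
    rw [Finset.mul_sum]
    calc ∑ x ∈ Xf.erase (1 : G), B * Nat.card (Subgroup.centralizer ({x} : Set G))
        ≤ ∑ _x ∈ Xf.erase (1 : G), (g - 1) := Finset.sum_le_sum hbound
      _ = (Xf.erase (1 : G)).card * (g - 1) := by rw [Finset.sum_const, smul_eq_mul]
      _ ≤ (g - 1) * (g - 1) := Nat.mul_le_mul_right _ hcardX
  have h4 : B * (K.card * K.card) ≤ B * g + (g - 1) * (g - 1) := by
    calc B * (K.card * K.card)
        ≤ B * (g + ∑ x ∈ Xf.erase (1 : G),
            Nat.card (Subgroup.centralizer ({x} : Set G))) := by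
          rw [← hsplit]; exact Nat.mul_le_mul_left _ hle
      _ = B * g + B * ∑ x ∈ Xf.erase (1 : G),
            Nat.card (Subgroup.centralizer ({x} : Set G)) := by ring
      _ ≤ B * g + (g - 1) * (g - 1) := Nat.add_le_add_left hsum2 _
  have h5 : B * (K.card * K.card) = 2 * g * g := by
    rw [hB, ← hKcard]; ring
  rw [h5] at h4
  obtain ⟨k, hk⟩ : ∃ k, g = k + 1 := ⟨g - 1, by omega⟩
  rw [hk] at h4 hbig
  simp only [Nat.add_sub_cancel] at h4
  nlinarith

theorem index_normalCore_le_factorial [Finite G] (H : Subgroup G) :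
    H.normalCore.index ≤ (H.index)! := by
  have h : H.normalCore.index ∣ H.index ! := by
    rw [Subgroup.normalCore_eq_ker, Subgroup.index_ker, Subgroup.index_eq_card, ← Nat.card_perm]
    exact Subgroup.card_subgroup_dvd_card (MulAction.toPermHom G (G ⧸ H)).range
  exact Nat.le_of_dvd (Nat.factorial_pos _) h

theorem card_mul_dvd_of_disjoint_commute [Finite G] (A K H : Subgroup G) (hA : A ≤ H)
    (hK : K ≤ H) (hd : A ⊓ K = ⊥) (hcomm : ∀ a ∈ A, ∀ k ∈ K, a * k = k * a) :
    Nat.card A * Nat.card K ∣ Nat.card H := by
  have hc : ∀ (a : A) (k : K), Commute (A.subtype a) (K.subtype k) := fun a k =>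
    (commute_iff_eq _ _).mpr (hcomm a a.2 k k.2)
  have hinj : Function.Injective
      (MonoidHom.noncommCoprod A.subtype K.subtype hc) := by
    rw [MonoidHom.noncommCoprod_injective]
    refine ⟨Subgroup.subtype_injective _, Subgroup.subtype_injective _, ?_⟩
    rw [Subgroup.range_subtype, Subgroup.range_subtype, disjoint_iff]
    exact hd
  have hrange : (MonoidHom.noncommCoprod A.subtype K.subtype hc).range ≤ H := by
    rw [MonoidHom.noncommCoprod_range, Subgroup.range_subtype, Subgroup.range_subtype]
    exact sup_le hA hK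
  have h1 : Nat.card (A × K) = Nat.card (MonoidHom.noncommCoprod A.subtype K.subtype hc).range :=
    Nat.card_congr (MonoidHom.ofInjective hinj).toEquiv
  rw [← Nat.card_prod, h1]
  exact Subgroup.card_dvd_of_le hrange

theorem two_dvd_card_of_involution [Finite G] (H : Subgroup G) {z : G} (hz : z ∈ H)
    (hord : orderOf z = 2) : 2 ∣ Nat.card H := by
  have := orderOf_dvd_natCard (⟨z, hz⟩ : H)
  rwa [Subgroup.orderOf_mk, hord] at this

/-- **the chain bound** -/
theorem chain_bound (c a : ℕ) [Finite G]
    (h1 : ∀ H : Subgroup G, H.Normal → H ≠ ⊥ → ∃ z ∈ H, orderOf z = 2 ∧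
      Nat.card (Subgroup.centralizer ({z} : Set G)) ≤ c)
    (h2 : (Nat.card G).factorization 2 ≤ a) :
    Nat.card G ≤ 2 * c ^ 2 + ((2 * c ^ 2)!) ^ a := by
  have : Fintype G := Fintype.ofFinite G
  by_cases hbig : Nat.card G ≤ 2 * c ^ 2
  · exact hbig.trans (Nat.le_add_right _ _)
  push Not at hbig
  -- every normal subgroup has trivial centre
  have hheart : ∀ X : Subgroup G, X.Normal → X ⊓ Subgroup.centralizer (X : Set G) = ⊥ := by
    intro X hX
    by_contra hne
    haveI := hX
    have hZn : (X ⊓ Subgroup.centralizer (X : Set G)).Normal := inferInstance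
    obtain ⟨z, hz, hord, hcz⟩ := h1 _ hZn hne
    obtain ⟨hzX, hzc⟩ := Subgroup.mem_inf.mp hz
    rw [Subgroup.mem_centralizer_iff] at hzc
    have hXC : X ≤ Subgroup.centralizer ({z} : Set G) := by
      intro y hy
      rw [Subgroup.mem_centralizer_iff]
      intro w hw
      rw [Set.mem_singleton_iff] at hw
      rw [hw]
      exact (hzc y hy).symm
    have hcl : Nat.card {g : G // IsConj z g} ≤ Nat.card X := by
      refine Nat.card_le_card_of_injective
        (fun g => (⟨g.1, ?_⟩ : X)) ?_
      · obtain ⟨d, hd⟩ := isConj_iff.mp g.2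
        rw [← hd]
        exact hX.conj_mem z hzX d
      · intro g g' hgg
        apply Subtype.ext
        exact congrArg (fun w : X => (w : G)) hgg
    have hcc := card_conj_mul_card_centralizer z
    have hXc : Nat.card X ≤ c :=
      (Nat.le_of_dvd Nat.card_pos (Subgroup.card_dvd_of_le hXC)).trans hcz
    have : Nat.card G ≤ c * c := by
      rw [← hcc]
      exact Nat.mul_le_mul (hcl.trans hXc) hcz
    nlinarith
  obtain ⟨s, hs⟩ : ∃ s, s = 2 * c ^ 2 := ⟨_, rfl⟩
  rw [← hs] at hbig ⊢
  have claim : ∀ j : ℕ, ∀ H : Subgroup G, H.Normal → (Nat.card H).factorization 2 ≤ j →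
      Nat.card H ≤ (s !) ^ j := by
    intro j
    induction j with
    | zero =>
      intro H hH hv
      have hbot : H = ⊥ := by
        by_contra hne
        obtain ⟨z, hz, hord, _⟩ := h1 H hH hne
        have h2H := two_dvd_card_of_involution H hz hord
        have := Nat.Prime.factorization_pos_of_dvd Nat.prime_two Nat.card_pos.ne' h2H
        omega
      rw [hbot, Subgroup.card_bot, pow_zero]
    | succ j ih =>
      intro H hH hv
      by_cases hbot : H = ⊥
      · rw [hbot, Subgroup.card_bot]
        exact Nat.one_le_pow _ _ (Nat.factorial_pos _)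
      obtain ⟨t, htH, htord, htc⟩ := h1 H hH hbot
      haveI := hH
      have hbig' : 2 * (Nat.card (Subgroup.centralizer ({t} : Set G))) ^ 2 < Nat.card G := by
        refine lt_of_le_of_lt ?_ hbig
        rw [hs]
        exact Nat.mul_le_mul_left 2 (Nat.pow_le_pow_left htc 2)
      obtain ⟨x, hxH, hx1, hxidx⟩ := exists_small_class_in_normal H t htH htord hbig'
      have hxs : (Subgroup.centralizer ({x} : Set G)).index ≤ s := by
        refine hxidx.trans ?_
        rw [hs]
        exact Nat.mul_le_mul_left 2 (Nat.pow_le_pow_left htc 2)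
      have hAH : Subgroup.normalClosure ({x} : Set G) ≤ H :=
        Subgroup.normalClosure_le_normal (by
          intro y hy
          rw [Set.mem_singleton_iff] at hy
          rw [hy]
          exact hxH)
      have hxA : x ∈ Subgroup.normalClosure ({x} : Set G) :=
        Subgroup.subset_normalClosure (Set.mem_singleton x)
      have hAne : Subgroup.normalClosure ({x} : Set G) ≠ ⊥ := by
        intro h
        rw [h, Subgroup.mem_bot] at hxA
        exact hx1 hxA
      have hNCA : (Subgroup.centralizer ({x} : Set G)).normalCore ≤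
          Subgroup.centralizer ((Subgroup.normalClosure ({x} : Set G) : Subgroup G) : Set G) := by
        rw [Subgroup.le_centralizer_iff]
        apply Subgroup.normalClosure_le_normal
        intro y hy
        rw [Set.mem_singleton_iff] at hy
        rw [hy, SetLike.mem_coe, Subgroup.mem_centralizer_iff]
        intro g hg
        have := Subgroup.normalCore_le _ hg
        rw [Subgroup.mem_centralizer_iff] at this
        exact (this x rfl).symm
      have hdisj : Subgroup.normalClosure ({x} : Set G) ⊓
          (H ⊓ (Subgroup.centralizer ({x} : Set G)).normalCore) = ⊥ := by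
        have := hheart (Subgroup.normalClosure ({x} : Set G)) inferInstance
        rw [eq_bot_iff] at this ⊢
        refine le_trans ?_ this
        intro y hy
        exact ⟨hy.1, hNCA hy.2.2⟩
      have hcomm : ∀ a ∈ Subgroup.normalClosure ({x} : Set G),
          ∀ k ∈ H ⊓ (Subgroup.centralizer ({x} : Set G)).normalCore, a * k = k * a := by
        intro a ha k hk
        have := hNCA hk.2
        rw [Subgroup.mem_centralizer_iff] at this
        exact this a ha
      have hdvd := card_mul_dvd_of_disjoint_commute (Subgroup.normalClosure ({x} : Set G))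
        (H ⊓ (Subgroup.centralizer ({x} : Set G)).normalCore) H hAH inf_le_left hdisj hcomm
      obtain ⟨z, hzA, hzord, _⟩ := h1 (Subgroup.normalClosure ({x} : Set G)) inferInstance hAne
      have h2A := two_dvd_card_of_involution _ hzA hzord
      have hvK : (Nat.card ↥(H ⊓ (Subgroup.centralizer ({x} : Set G)).normalCore)).factorization 2
          ≤ j := by
        have hle := (Nat.factorization_le_iff_dvd
          (Nat.mul_ne_zero Nat.card_pos.ne' Nat.card_pos.ne') Nat.card_pos.ne').mpr hdvd 2
        rw [Nat.factorization_mul Nat.card_pos.ne' Nat.card_pos.ne', Finsupp.add_apply] at hle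
        have := Nat.Prime.factorization_pos_of_dvd Nat.prime_two Nat.card_pos.ne' h2A
        omega
      have hKb := ih _ inferInstance hvK
      have hrel : Nat.card ↥(H ⊓ (Subgroup.centralizer ({x} : Set G)).normalCore) *
          (Subgroup.centralizer ({x} : Set G)).normalCore.relIndex H = Nat.card H := by
        have := Subgroup.relIndex_mul_relIndex _ _ _ (bot_le :
          (⊥ : Subgroup G) ≤ H ⊓ (Subgroup.centralizer ({x} : Set G)).normalCore)
          (inf_le_left : H ⊓ (Subgroup.centralizer ({x} : Set G)).normalCore ≤ H)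
        rwa [Subgroup.relIndex_bot_left, Subgroup.relIndex_bot_left,
          Subgroup.inf_relIndex_left] at this
      have hidx : (Subgroup.centralizer ({x} : Set G)).normalCore.relIndex H ≤ s ! := by
        have hd1 : (Subgroup.centralizer ({x} : Set G)).normalCore.relIndex H ∣
            (Subgroup.centralizer ({x} : Set G)).normalCore.index :=
          Subgroup.relIndex_dvd_index_of_normal _ _
        have hpos : 0 < (Subgroup.centralizer ({x} : Set G)).normalCore.index :=
          Nat.pos_of_ne_zero Subgroup.index_ne_zero_of_finite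
        exact (Nat.le_of_dvd hpos hd1).trans
          ((index_normalCore_le_factorial _).trans (Nat.factorial_le hxs))
      rw [← hrel, pow_succ]
      exact Nat.mul_le_mul hKb hidx
  have hfin := claim a ⊤ inferInstance (by rwa [Subgroup.card_top])
  rw [Subgroup.card_top] at hfin
  omega

end Chain

end Cfsg.Agent.Lib.Helper28
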