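import Mathlib

set_option autoImplicit false

/-!
# Landau's theorem: the order of a finite group is bounded in terms of its class number (helper28)
-/

namespace Cfsg.Agent.Lib.Helper28

universe v

/-- egyptian fractions: if `D * ∑ h i = A * T` with at most `k` positive divisors `h i` of `T`,
then all the quotients `T / h i` are bounded in terms of `k` and a bound of `D` -/
theorem egypt_bound (k : ℕ) : ∀ D₀ : ℕ, ∃ N : ℕ, ∀ (ι : Type v) [DecidableEq ι] (s : Finset ι)
    (h : ι → ℕ) (T A D : ℕ), s.card ≤ k → 0 < T → 0 < A → D ≤ D₀ →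
    (∀ i ∈ s, 0 < h i ∧ h i ∣ T) → D * ∑ i ∈ s, h i = A * T → ∀ i ∈ s, T / h i ≤ N := by
  induction k with
  | zero =>
    intro D₀
    refine ⟨0, ?_⟩
    intro ι _ s h T A D hs _ _ _ _ _ i hi
    have : s = ∅ := Finset.card_eq_zero.mp (Nat.le_zero.mp hs)
    rw [this] at hi
    simp at hi
  | succ k ih =>
    intro D₀
    obtain ⟨N', hN'⟩ := ih ((k + 1) * D₀ * D₀)
    refine ⟨max N' ((k + 1) * D₀), ?_⟩
    intro ι _ s h T A D hs hT hA hD hh hsum i hi
    have hsne : s.Nonempty := ⟨i, hi⟩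
    obtain ⟨i₀, hi₀, hmax⟩ := Finset.exists_max_image s h hsne
    obtain ⟨h0pos, n₀, hn₀⟩ := hh i₀ hi₀
    have hn₀pos : 0 < n₀ := by
      rcases Nat.eq_zero_or_pos n₀ with h0 | h0
      · rw [h0, mul_zero] at hn₀
        omega
      · exact h0
    have hDpos : 0 < D := by
      rcases Nat.eq_zero_or_pos D with h0 | h0
      · rw [h0, zero_mul] at hsum
        have : 0 < A * T := Nat.mul_pos hA hT
        omega
      · exact h0
    have hdiv0 : T / h i₀ = n₀ := by
      rw [hn₀, Nat.mul_div_cancel_left _ h0pos]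
    -- bound on n₀
    have hsumle : ∑ j ∈ s, h j ≤ (k + 1) * h i₀ := by
      calc ∑ j ∈ s, h j ≤ ∑ _j ∈ s, h i₀ := Finset.sum_le_sum hmax
        _ = s.card * h i₀ := by rw [Finset.sum_const, smul_eq_mul]
        _ ≤ (k + 1) * h i₀ := Nat.mul_le_mul_right _ hs
    have hAn : A * n₀ ≤ D * (k + 1) := by
      have h1 : A * T ≤ D * ((k + 1) * h i₀) := by
        rw [← hsum]
        exact Nat.mul_le_mul_left _ hsumle
      rw [hn₀] at h1
      have h2 : (A * n₀) * h i₀ ≤ (D * (k + 1)) * h i₀ := by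
        calc (A * n₀) * h i₀ = A * (h i₀ * n₀) := by ring
          _ ≤ D * ((k + 1) * h i₀) := h1
          _ = (D * (k + 1)) * h i₀ := by ring
      exact Nat.le_of_mul_le_mul_right h2 h0pos
    have hn₀le : n₀ ≤ (k + 1) * D₀ := by
      calc n₀ = 1 * n₀ := (one_mul _).symm
        _ ≤ A * n₀ := Nat.mul_le_mul_right _ hA
        _ ≤ D * (k + 1) := hAn
        _ ≤ D₀ * (k + 1) := Nat.mul_le_mul_right _ hD
        _ = (k + 1) * D₀ := mul_comm _ _
    by_cases hii : i = i₀
    · rw [hii, hdiv0]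
      exact le_trans hn₀le (le_max_right _ _)
    · -- the other indices
      have his' : i ∈ s.erase i₀ := Finset.mem_erase.mpr ⟨hii, hi⟩
      have hcard' : (s.erase i₀).card ≤ k := by
        rw [Finset.card_erase_of_mem hi₀]
        omega
      have hsplit : ∑ j ∈ s, h j = h i₀ + ∑ j ∈ s.erase i₀, h j :=
        (Finset.add_sum_erase s h hi₀).symm
      have hpos' : 0 < ∑ j ∈ s.erase i₀, h j :=
        lt_of_lt_of_le (hh i hi).1 (Finset.single_le_sum (fun j _ => Nat.zero_le (h j)) his')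
      -- D * n₀ * Σ' + D * T = A * n₀ * T
      have hkey : D * n₀ * ∑ j ∈ s.erase i₀, h j + D * T = A * n₀ * T := by
        have h1 : D * (h i₀ + ∑ j ∈ s.erase i₀, h j) = A * T := by rw [← hsplit, hsum]
        have h2 : n₀ * (D * (h i₀ + ∑ j ∈ s.erase i₀, h j)) = n₀ * (A * T) := by rw [h1]
        have h3 : D * T = n₀ * (D * h i₀) := by rw [hn₀]; ring
        rw [h3]
        calc D * n₀ * ∑ j ∈ s.erase i₀, h j + n₀ * (D * h i₀)
            = n₀ * (D * (h i₀ + ∑ j ∈ s.erase i₀, h j)) := by ring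
          _ = n₀ * (A * T) := h2
          _ = A * n₀ * T := by ring
      have hlt : D < A * n₀ := by
        have h1 : D * T < A * n₀ * T := by
          have : 0 < D * n₀ * ∑ j ∈ s.erase i₀, h j :=
            Nat.mul_pos (Nat.mul_pos hDpos hn₀pos) hpos'
          omega
        exact Nat.lt_of_mul_lt_mul_right h1
      have hA' : 0 < A * n₀ - D := Nat.sub_pos_of_lt hlt
      have hsum' : (D * n₀) * ∑ j ∈ s.erase i₀, h j = (A * n₀ - D) * T := by
        rw [Nat.sub_mul]
        omega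
      have hD' : D * n₀ ≤ (k + 1) * D₀ * D₀ := by
        calc D * n₀ ≤ D₀ * ((k + 1) * D₀) := Nat.mul_le_mul hD hn₀le
          _ = (k + 1) * D₀ * D₀ := by ring
      have := hN' ι (s.erase i₀) h T (A * n₀ - D) (D * n₀) hcard' hT hA' hD'
        (fun j hj => hh j (Finset.mem_of_mem_erase hj)) hsum' i his'
      exact le_trans this (le_max_left _ _)

end Cfsg.Agent.Lib.Helper28
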