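import Mathlib
import Cfsg.Agent.Lib.Helper28.LandauA

set_option autoImplicit false

/-!
# Landau's theorem for groups (helper28)
-/

namespace Cfsg.Agent.Lib.Helper28

universe u

/-- **Landau**: the order of a finite group is bounded in terms of its class number -/
theorem landau_bound (k : ℕ) : ∃ N : ℕ, ∀ (G : Type u) [Group G] [Finite G],
    Nat.card (ConjClasses G) ≤ k → Nat.card G ≤ N := by
  obtain ⟨N, hN⟩ := egypt_bound.{u} k 1
  refine ⟨N, ?_⟩
  intro G _ _ hk
  classical
  have : Fintype G := Fintype.ofFinite G
  have : Fintype (ConjClasses G) := Fintype.ofFinite _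
  have hsum := sum_conjClasses_card_eq_card G
  have hT : 0 < Fintype.card G := Fintype.card_pos
  have hdvd : ∀ c ∈ (Finset.univ : Finset (ConjClasses G)),
      0 < c.carrier.toFinset.card ∧ c.carrier.toFinset.card ∣ Fintype.card G := by
    intro c _
    obtain ⟨g, rfl⟩ := ConjClasses.exists_rep c
    constructor
    · rw [Finset.card_pos]
      exact ⟨g, by simp [ConjClasses.mem_carrier_mk]⟩
    · rw [Set.toFinset_card, ConjClasses.card_carrier g]
      exact Nat.div_dvd_of_dvd ⟨_, (MulAction.card_orbit_mul_card_stabilizer_eq_card_group (ConjAct G) g).symm.trans (mul_comm _ _)⟩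
  have hcard : (Finset.univ : Finset (ConjClasses G)).card ≤ k := by
    rw [Finset.card_univ, ← Nat.card_eq_fintype_card]
    exact hk
  have h1 := hN (ConjClasses G) Finset.univ (fun c => c.carrier.toFinset.card)
    (Fintype.card G) 1 1 hcard hT one_pos le_rfl hdvd (by rw [one_mul, one_mul, hsum])
    (ConjClasses.mk 1) (Finset.mem_univ _)
  have h2 : (ConjClasses.mk (1 : G)).carrier.toFinset.card = 1 := by
    rw [Finset.card_eq_one]
    refine ⟨1, ?_⟩
    ext x
    simp only [Set.mem_toFinset, ConjClasses.mem_carrier_iff_mk_eq, Finset.mem_singleton]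
    constructor
    · intro hx
      have := ConjClasses.mk_eq_mk_iff_isConj.mp hx
      exact isConj_one_left.mp this
    · rintro rfl
      rfl
  simp only [h2, Nat.div_one] at h1
  rw [Nat.card_eq_fintype_card]
  exact h1

end Cfsg.Agent.Lib.Helper28
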