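import Cfsg.Agent.Lib.Helper28.HeightZeroG

set_option autoImplicit false

namespace Cfsg.Agent.Lib.Helper28

open Cfsg Cfsg.Agent.Lib.Helper4 Cfsg.Agent.Lib.Helper26
open scoped ComplexConjugate Classical

section

variable {G : Type*} [Group G] [Fintype G] {M : Ideal AlgInt}

/-- Parseval's identity for class functions -/
theorem parseval_classInner [Fintype (IrrCharacter G)] {f : G → ℂ} (hf : IsClassFunction G f) :
    classInner f f = ∑ ψ : IrrCharacter G,
      classInner f (ψ : G → ℂ) * conj (classInner f (ψ : G → ℂ)) := by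
  conv_lhs => rw [Helper4.classFunction_expansion f hf]
  rw [classInner_sum_left]
  refine Finset.sum_congr rfl fun ψ _ => ?_
  rw [classInner_smul_left, ← Helper4.classFunction_expansion f hf, classInner_conj_symm]

theorem classInner_pRegularPart_self (p : ℕ) (χ : G → ℂ) :
    classInner (pRegularPart p χ) (pRegularPart p χ) = classInner (pRegularPart p χ) χ := by
  unfold classInner
  congr 1
  refine Finset.sum_congr rfl fun g _ => ?_
  rw [pRegularPart_apply]
  split_ifs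
  · simp
  · rfl

set_option maxHeartbeats 1600000 in
/-- **Brauer–Feit**: `Σ_{ψ ∈ B} p^(2 h(ψ)) ≤ p^(2d)/4 + 1` -/
theorem brauer_feit_core [Fintype (IrrCharacter G)] {p : ℕ} [Fact p.Prime]
    (hM : IsPModular p M) {B : Set (IrrCharacter G)} (hB : IsPBlock M B) :
    ∑ ψ : IrrCharacter G, (if ψ ∈ B then p ^ (2 * blockHeight p B (ψ : G → ℂ)) else 0) ≤
      p ^ (2 * blockDefect p B) / 4 + 1 := by
  have hprime : M.IsPrime := hM.2.1.isPrime
  have hMtop : M ≠ ⊤ := hM.2.1.ne_top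
  have hp : p.Prime := Fact.out
  have hpc : (p : ℂ) ≠ 0 := Nat.cast_ne_zero.mpr hp.ne_zero
  obtain ⟨θ0, hθ0⟩ := Helper28.block_nonempty hB
  have hSne : ((fun χ : IrrCharacter G =>
      (charDegree (χ : G → ℂ)).factorization p) '' B).Nonempty := ⟨_, θ0, hθ0, rfl⟩
  obtain ⟨χ, hχ, hχm⟩ := Nat.sInf_mem hSne
  have hmin : ∀ ψ ∈ B, (charDegree (χ : G → ℂ)).factorization p ≤
      (charDegree (ψ : G → ℂ)).factorization p := by
    intro ψ hψ
    show (fun χ : IrrCharacter G => (charDegree (χ : G → ℂ)).factorization p) χ ≤ _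
    rw [hχm]
    exact Nat.sInf_le ⟨ψ, hψ, rfl⟩
  have hdef := blockDefect_eq_of_min hχ hmin
  have hu := unit_of_height_zero hM hB hχ hmin
  obtain ⟨hχ0, hχ1, hχdvd⟩ := irr_degree_nat χ.2
  have hva : (charDegree (χ : G → ℂ)).factorization p ≤ (Nat.card G).factorization p :=
    (Nat.factorization_le_iff_dvd hχ0 Nat.card_pos.ne').mpr hχdvd p
  set a := (Nat.card G).factorization p with ha
  set v := (charDegree (χ : G → ℂ)).factorization p with hv
  set d := blockDefect p B with hd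
  have hdav : d = a - v := hdef
  -- the integers `m ψ = p^d ⟨χ°, ψ⟩`
  have hm : ∀ ψ : IrrCharacter G, ∃ m : ℤ, (p : ℂ) ^ (a - v) *
      classInner (pRegularPart p (χ : G → ℂ)) (ψ : G → ℂ) = m :=
    fun ψ => exists_int_classInner_pRegularPart hp χ ψ
  choose m hm using hm
  -- heights
  have hheight : ∀ ψ ∈ B, (p : ℤ) ^ (2 * blockHeight p B (ψ : G → ℂ)) ≤ (m ψ) ^ 2 := by
    intro ψ hψ
    have hsame := (Helper28.mem_block_iff hB hχ ψ).mp hψ
    have hu' := (unit_transfer hM hsame).mp hu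
    have hk : (p : ℂ) ^ a * classInner (pRegularPart p (χ : G → ℂ)) (ψ : G → ℂ) =
        (((p : ℤ) ^ v * m ψ : ℤ) : ℂ) := by
      push_cast
      rw [← hm ψ, ← mul_assoc, ← pow_add]
      congr 2
      omega
    obtain ⟨hk0, hkv⟩ := natAbs_factorization_of_unit hM hk hu'
    have hm0 : m ψ ≠ 0 := by
      rintro h0
      rw [h0, mul_zero] at hk0
      exact hk0 rfl
    have hmn0 : (m ψ).natAbs ≠ 0 := Int.natAbs_ne_zero.mpr hm0
    rw [Int.natAbs_mul, Int.natAbs_pow, Int.natAbs_natCast,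
      Nat.factorization_mul (pow_ne_zero _ hp.pos.ne') hmn0, Finsupp.add_apply,
      hp.factorization_pow, Finsupp.single_eq_same] at hkv
    have hht : blockHeight p B (ψ : G → ℂ) = (m ψ).natAbs.factorization p := by
      unfold blockHeight
      rw [← hχm]
      show _ - v = _
      omega
    have hdvd : p ^ blockHeight p B (ψ : G → ℂ) ∣ (m ψ).natAbs := by
      rw [hht]; exact Nat.ordProj_dvd _ _
    have hle : p ^ blockHeight p B (ψ : G → ℂ) ≤ (m ψ).natAbs :=
      Nat.le_of_dvd (Nat.pos_of_ne_zero hmn0) hdvd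
    have hle' : ((p : ℤ) ^ blockHeight p B (ψ : G → ℂ)) ≤ ((m ψ).natAbs : ℤ) := by
      exact_mod_cast hle
    rw [← Int.natAbs_sq (m ψ), pow_mul']
    exact pow_le_pow_left₀ (by positivity) hle' 2
  have hχh : blockHeight p B (χ : G → ℂ) = 0 := (blockHeight_eq_zero_iff hχ).mpr hmin
  -- Parseval
  obtain ⟨r, hr, hr0, hr1, -⟩ := pRegular_norm hp χ
  have hχcf := Helper4.isClassFunction_of_isIrrCharacter χ.2
  have hpars := parseval_classInner (isClassFunction_pRegularPart p hχcf)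
  rw [classInner_pRegularPart_self] at hpars
  have hmout : ∀ ψ : IrrCharacter G, ψ ∉ B → m ψ = 0 := by
    intro ψ hψ
    have h0 := classInner_pRegularPart_eq_zero hM χ ψ
      (fun h => hψ ((Helper28.mem_block_iff hB hχ ψ).mpr h))
    have := hm ψ
    rw [h0, mul_zero] at this
    exact_mod_cast this.symm
  have hsumsq : ∑ ψ : IrrCharacter G, (m ψ) ^ 2 = (p : ℤ) ^ d * m χ := by
    have hC : ((∑ ψ : IrrCharacter G, (m ψ) ^ 2 : ℤ) : ℂ) = (((p : ℤ) ^ d * m χ : ℤ) : ℂ) := by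
      push_cast
      rw [← hm χ, ← hdav, hpars, Finset.mul_sum, Finset.mul_sum]
      refine Finset.sum_congr rfl fun ψ _ => ?_
      have hconj : conj (classInner (pRegularPart p (χ : G → ℂ)) (ψ : G → ℂ)) =
          classInner (pRegularPart p (χ : G → ℂ)) (ψ : G → ℂ) := by
        have h1 : classInner (pRegularPart p (χ : G → ℂ)) (ψ : G → ℂ) =
            ((p : ℂ) ^ (a - v))⁻¹ * (m ψ : ℂ) := by
          rw [← hm ψ, ← mul_assoc, inv_mul_cancel₀ (pow_ne_zero _ hpc), one_mul]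
        rw [h1, map_mul, map_inv₀, map_pow, Complex.conj_natCast, map_intCast]
      rw [hconj, ← hm ψ, hdav]
      ring
    exact_mod_cast hC
  -- bounds on `m χ`
  have hmχR : ((p : ℝ) ^ d) * r = (m χ : ℝ) := by
    have : ((((p : ℝ) ^ d) * r : ℝ) : ℂ) = ((m χ : ℝ) : ℂ) := by
      push_cast
      rw [← hr, hdav]
      exact hm χ
    exact_mod_cast this
  have hpR : (0 : ℝ) < (p : ℝ) := by exact_mod_cast hp.pos
  have hmχle : m χ ≤ (p : ℤ) ^ d := by
    have : (m χ : ℝ) ≤ (p : ℝ) ^ d := by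
      rw [← hmχR]
      calc (p : ℝ) ^ d * r ≤ (p : ℝ) ^ d * 1 := mul_le_mul_of_nonneg_left hr1 (by positivity)
        _ = _ := mul_one _
    exact_mod_cast this
  -- the sum of weights
  have hw : ∀ ψ : IrrCharacter G, ψ ≠ χ →
      (if ψ ∈ B then ((p : ℤ) ^ (2 * blockHeight p B (ψ : G → ℂ))) else 0) ≤ (m ψ) ^ 2 := by
    intro ψ _
    split_ifs with hψ
    · exact hheight ψ hψ
    · positivity
  have hZ : ∑ ψ : IrrCharacter G,
      (if ψ ∈ B then ((p : ℤ) ^ (2 * blockHeight p B (ψ : G → ℂ))) else 0) ≤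
      1 + ((p : ℤ) ^ d * m χ - (m χ) ^ 2) := by
    rw [← Finset.add_sum_erase Finset.univ _ (Finset.mem_univ χ), if_pos hχ, hχh, mul_zero,
      pow_zero]
    have h1 : ∑ ψ ∈ Finset.univ.erase χ,
        (if ψ ∈ B then ((p : ℤ) ^ (2 * blockHeight p B (ψ : G → ℂ))) else 0) ≤
        ∑ ψ ∈ Finset.univ.erase χ, (m ψ) ^ 2 :=
      Finset.sum_le_sum fun ψ hψ => hw ψ (Finset.ne_of_mem_erase hψ)
    have h2 : ∑ ψ ∈ Finset.univ.erase χ, (m ψ) ^ 2 = (p : ℤ) ^ d * m χ - (m χ) ^ 2 := by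
      rw [← hsumsq, ← Finset.add_sum_erase Finset.univ _ (Finset.mem_univ χ)]
      ring
    linarith
  have h4 : 4 * ((p : ℤ) ^ d * m χ - (m χ) ^ 2) ≤ ((p : ℤ) ^ d) ^ 2 := by
    nlinarith [sq_nonneg ((p : ℤ) ^ d - 2 * m χ)]
  -- back to `ℕ`
  have hT : ∃ T : ℕ, (T : ℤ) = (p : ℤ) ^ d * m χ - (m χ) ^ 2 := by
    refine ⟨((p : ℤ) ^ d * m χ - (m χ) ^ 2).toNat, Int.toNat_of_nonneg ?_⟩
    have hmχ0 : 0 ≤ m χ := by
      have : (0 : ℝ) ≤ (m χ : ℝ) := by rw [← hmχR]; positivity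
      exact_mod_cast this
    nlinarith
  obtain ⟨T, hT⟩ := hT
  have hTle : T ≤ p ^ (2 * d) / 4 := by
    rw [Nat.le_div_iff_mul_le (by norm_num)]
    have : ((T * 4 : ℕ) : ℤ) ≤ ((p ^ (2 * d) : ℕ) : ℤ) := by
      push_cast
      rw [hT, pow_mul']
      linarith
    exact_mod_cast this
  have hN : ((∑ ψ : IrrCharacter G,
      (if ψ ∈ B then p ^ (2 * blockHeight p B (ψ : G → ℂ)) else 0) : ℕ) : ℤ) ≤ ((1 + T : ℕ) : ℤ) := by
    push_cast
    rw [hT]
    convert hZ using 2 with ψ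
  have hN' : ∑ ψ : IrrCharacter G,
      (if ψ ∈ B then p ^ (2 * blockHeight p B (ψ : G → ℂ)) else 0) ≤ 1 + T := by
    exact_mod_cast hN
  omega

end

end Cfsg.Agent.Lib.Helper28
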