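import Mathlib
import Cfsg.Prelude.Def_Blocks
import Cfsg.Agent.Lib.Helper28.DefClsB
import Cfsg.Agent.Lib.Helper28.DefClsC
import Cfsg.Agent.Lib.Helper2.NilpotentBasic
import Cfsg.Agent.S4718

set_option autoImplicit false

/-!
# Deficiency classes, part D: the order bound (helper28)

Groups of deficiency class `r` (for the prime `2`) with Sylow `2`-subgroups of order `2 ^ a`
containing an elementary abelian subgroup of order at least `2 ^ (r + 1)` have bounded order.
-/

namespace Cfsg.Agent.Lib.Helper28

open Cfsg Cfsg.Agent.Lib.Helper4 Cfsg.Agent.Lib.Helper26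
open scoped ComplexConjugate Classical Nat

universe u

section Aux

variable {G : Type*} [Group G]

/-- the closure of pairwise commuting involutions is elementary abelian -/
theorem isElem2_closure (S : Set G) (hcomm : ∀ x ∈ S, ∀ y ∈ S, x * y = y * x)
    (hsq : ∀ x ∈ S, x * x = 1) : IsElem2 (Subgroup.closure S) := by
  have hc : ∀ x ∈ Subgroup.closure S, ∀ y ∈ Subgroup.closure S, x * y = y * x := by
    intro x hx y hy
    letI := Subgroup.closureCommGroupOfComm hcomm
    have := mul_comm (⟨x, hx⟩ : Subgroup.closure S) ⟨y, hy⟩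
    exact congrArg Subtype.val this
  refine ⟨hc, ?_⟩
  intro x hx
  induction hx using Subgroup.closure_induction with
  | mem x hx => exact hsq x hx
  | one => exact mul_one 1
  | mul a b ha hb iha ihb =>
    calc a * b * (a * b) = a * (b * a) * b := by group
      _ = a * (a * b) * b := by rw [hc b hb a ha]
      _ = (a * a) * (b * b) := by group
      _ = 1 := by rw [iha, ihb, mul_one]
  | inv a ha iha =>
    calc a⁻¹ * a⁻¹ = (a * a)⁻¹ := by group
      _ = 1 := by rw [iha, inv_one]

/-- adjoin a commuting involution to an elementary abelian subgroup -/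
theorem exists_elem2_adjoin (E : Subgroup G) (hE : IsElem2 E) (z : G) (hz2 : z * z = 1)
    (hzE : ∀ e ∈ E, z * e = e * z) :
    ∃ E' : Subgroup G, IsElem2 E' ∧ E ≤ E' ∧ z ∈ E' := by
  refine ⟨Subgroup.closure ((E : Set G) ∪ {z}), isElem2_closure _ ?_ ?_, ?_, ?_⟩
  · rintro x (hx | hx) y (hy | hy)
    · exact hE.1 x hx y hy
    · rw [Set.mem_singleton_iff] at hy
      rw [hy]
      exact (hzE x hx).symm
    · rw [Set.mem_singleton_iff] at hx
      rw [hx]
      exact hzE y hy
    · rw [Set.mem_singleton_iff] at hx hy
      rw [hx, hy]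
  · rintro x (hx | hx)
    · exact hE.2 x hx
    · rw [Set.mem_singleton_iff] at hx
      rw [hx]
      exact hz2
  · intro e he
    exact Subgroup.subset_closure (Or.inl he)
  · exact Subgroup.subset_closure (Or.inr rfl)

/-- a normal subgroup of even order contains an involution of the centre of a given Sylow
`2`-subgroup -/
theorem exists_central_involution_in_normal [Finite G] (P : Sylow 2 G) (H : Subgroup G)
    [hH : H.Normal] (heven : 2 ∣ Nat.card H) :
    ∃ z ∈ H, z ∈ (P : Subgroup G) ∧ orderOf z = 2 ∧ ∀ y ∈ (P : Subgroup G), z * y = y * z := by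
  -- an involution of `H` inside `P`
  obtain ⟨y, hy⟩ := exists_prime_orderOf_dvd_card' (G := H) 2 heven
  have hyord : orderOf (y : G) = 2 := by rw [Subgroup.orderOf_coe]; exact hy
  have hpg : IsPGroup 2 (Subgroup.zpowers (y : G)) := by
    apply IsPGroup.of_card (n := 1)
    rw [Nat.card_zpowers, hyord, pow_one]
  obtain ⟨Q, hQ⟩ := hpg.exists_le_sylow
  obtain ⟨g, hg⟩ := MulAction.exists_smul_eq G Q P
  have hyQ : (y : G) ∈ (Q : Subgroup G) := hQ (Subgroup.mem_zpowers _)
  have hyP : g * (y : G) * g⁻¹ ∈ (P : Subgroup G) := by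
    rw [← hg, Sylow.coe_subgroup_smul]
    exact Subgroup.smul_mem_pointwise_smul _ (MulAut.conj g) _ hyQ
  have hyH : g * (y : G) * g⁻¹ ∈ H := hH.conj_mem _ y.2 g
  have hne1 : g * (y : G) * g⁻¹ ≠ 1 := by
    intro h
    have : (y : G) = 1 := by
      have := congrArg (fun w => g⁻¹ * w * g) h
      simpa [mul_assoc] using this
    rw [this, orderOf_one] at hyord
    omega
  -- inside the nilpotent group `P`
  haveI : Group.IsNilpotent (P : Subgroup G) := P.isPGroup'.isNilpotent
  have hHP : H.subgroupOf (P : Subgroup G) ≠ ⊥ := by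
    intro h
    have hmem : (⟨g * (y : G) * g⁻¹, hyP⟩ : (P : Subgroup G)) ∈ H.subgroupOf (P : Subgroup G) := by
      rw [Subgroup.mem_subgroupOf]
      exact hyH
    rw [h, Subgroup.mem_bot] at hmem
    exact hne1 (congrArg Subtype.val hmem)
  have hW := Cfsg.Agent.Lib.Helper2.normal_inf_center_ne_bot (H.subgroupOf (P : Subgroup G)) hHP
  have hWp : IsPGroup 2 ↥(H.subgroupOf (P : Subgroup G) ⊓ Subgroup.center (P : Subgroup G)) :=
    P.isPGroup'.to_subgroup _
  have hW2 : 2 ∣ Nat.card ↥(H.subgroupOf (P : Subgroup G) ⊓ Subgroup.center (P : Subgroup G)) := by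
    rcases hWp.card_eq_or_dvd with h | h
    · exact absurd (Subgroup.card_eq_one.mp h) hW
    · exact h
  obtain ⟨w, hw⟩ := exists_prime_orderOf_dvd_card'
    (G := ↥(H.subgroupOf (P : Subgroup G) ⊓ Subgroup.center (P : Subgroup G))) 2 hW2
  obtain ⟨hwH, hwZ⟩ := Subgroup.mem_inf.mp w.2
  refine ⟨((w : (P : Subgroup G)) : G), Subgroup.mem_subgroupOf.mp hwH, (w : (P : Subgroup G)).2,
    ?_, ?_⟩
  · rw [Subgroup.orderOf_coe, Subgroup.orderOf_coe]
    exact hw
  · intro v hv
    rw [Subgroup.mem_center_iff] at hwZ
    have := hwZ ⟨v, hv⟩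
    exact (congrArg Subtype.val this).symm

end Aux

section Main

/-- **the order bound for deficiency classes** -/
theorem defClass_order_bound (a : ℕ) : ∃ N : ℕ, ∀ (G : Type u) [Group G] [Finite G]
    (M : Ideal AlgInt) (r : ℕ) (P : Sylow 2 G), IsPModular 2 M → Nat.card P = 2 ^ a →
    DefClass 2 M G r →
    (∃ E : Subgroup G, E ≤ (P : Subgroup G) ∧ IsElem2 E ∧ 2 ^ (r + 1) ≤ Nat.card E) →
    Nat.card G ≤ N := by
  induction a using Nat.strong_induction_on with
  | _ a ih =>
    choose! Nf hNf using ih
    obtain ⟨N0, hN0⟩ := Cfsg.Agent.S4718.result.{u} 2 a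
    obtain ⟨c, hc⟩ : ∃ c, c = 2 * (Finset.range a).sup Nf := ⟨_, rfl⟩
    refine ⟨N0 + (2 * c ^ 2 + ((2 * c ^ 2)!) ^ a), ?_⟩
    intro G _ _ M r P hM hP hG hE
    obtain ⟨E, hEP, hE, hEcard⟩ := hE
    have : Fintype G := Fintype.ofFinite G
    have hva : (Nat.card G).factorization 2 = a := by
      have h1 := P.card_eq_multiplicity
      rw [hP] at h1
      exact (Nat.pow_right_injective (le_refl 2) h1).symm
    rcases Nat.eq_zero_or_pos r with hr0 | hrpos
    · -- a single block
      have hall : ∀ B : Set (IrrCharacter G), IsPBlock M B → B = principalBlock M G := by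
        intro B hB
        by_contra hne
        have := hG B hB hne
        omega
      exact (hN0 G M hM hva hall).trans (Nat.le_add_right _ _)
    · -- centralizers of involutions in large elementary abelian subgroups are bounded
      have hcent : ∀ (x : G) (E' : Subgroup G), IsElem2 E' → x ∈ E' → x ≠ 1 →
          2 ^ (r + 1) ≤ Nat.card E' → Nat.card (Subgroup.centralizer ({x} : Set G)) ≤ c := by
        intro x E' hE' hxE' hx1 hE'card
        obtain ⟨Q, _, _, hQdef, hcardC, ⟨Ebar, hEbar, hEbarcard⟩, _⟩ :=
          exists_reduction hM r hG x hx1 (hE'.2 x hxE') E' hE' hxE'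
        have hEbar2 : IsPGroup 2 Ebar := by
          intro e
          refine ⟨1, ?_⟩
          apply Subtype.ext
          rw [pow_one, pow_two]
          exact hEbar.2 _ e.2
        obtain ⟨P', hP'⟩ := hEbar2.exists_le_sylow
        have ha' : (Nat.card Q).factorization 2 < a := by
          have hdvd : Nat.card (Subgroup.centralizer ({x} : Set G)) ∣ Nat.card G :=
            Subgroup.card_subgroup_dvd_card _
          rw [hcardC] at hdvd
          have hle := (Nat.factorization_le_iff_dvd
            (Nat.mul_ne_zero two_ne_zero Nat.card_pos.ne') Nat.card_pos.ne').mpr hdvd 2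
          rw [Nat.factorization_mul two_ne_zero Nat.card_pos.ne', Finsupp.add_apply,
            Nat.Prime.factorization_self Nat.prime_two, hva] at hle
          omega
        have hbar : 2 ^ (r - 1 + 1) ≤ Nat.card Ebar := by
          have h1 : r - 1 + 1 = r := by omega
          rw [h1]
          rw [hEbarcard, pow_succ] at hE'card
          omega
        have hQb := hNf _ ha' Q M (r - 1) P' hM P'.card_eq_multiplicity hQdef
          ⟨Ebar, hP', hEbar, hbar⟩
        have hsup : Nf ((Nat.card Q).factorization 2) ≤ (Finset.range a).sup Nf :=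
          Finset.le_sup (f := Nf) (Finset.mem_range.mpr ha')
        rw [hcardC, hc]
        omega
      -- every nontrivial normal subgroup contains an involution with small centralizer
      have h1 : ∀ H : Subgroup G, H.Normal → H ≠ ⊥ → ∃ z ∈ H, orderOf z = 2 ∧
          Nat.card (Subgroup.centralizer ({z} : Set G)) ≤ c := by
        intro H hH hne
        haveI := hH
        have heven : 2 ∣ Nat.card H := by
          by_contra hodd
          apply hne
          refine oddCore_trivial hM r G hG ⟨E, hE, hEcard⟩ H hH ?_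
          rw [Nat.odd_iff]
          omega
        obtain ⟨z, hzH, hzP, hzord, hzcen⟩ := exists_central_involution_in_normal P H heven
        have hz2 : z * z = 1 := by
          rw [← pow_two, ← hzord, pow_orderOf_eq_one]
        have hz1 : z ≠ 1 := by
          intro h
          rw [h, orderOf_one] at hzord
          omega
        obtain ⟨E', hE', hEE', hzE'⟩ :=
          exists_elem2_adjoin E hE z hz2 (fun e he => hzcen e (hEP he))
        refine ⟨z, hzH, hzord, hcent z E' hE' hzE' hz1 (hEcard.trans ?_)⟩
        exact Nat.le_of_dvd Nat.card_pos (Subgroup.card_dvd_of_le hEE')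
      have := chain_bound c a h1 hva.le
      omega

end Main

end Cfsg.Agent.Lib.Helper28
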