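import Mathlib
import Cfsg.Agent.Lib.Helper28.CentralDefectB
import Cfsg.Agent.Lib.Helper28.BrauerO
import Cfsg.Agent.Lib.Helper28.BrauerR
import Cfsg.Agent.Lib.Helper28.BlockWeakOrth
import Cfsg.Agent.Lib.Helper26.FTLemmaB
import Cfsg.Agent.S0912

set_option autoImplicit false

/-!
# Blocks with a defect group of order two: the local block (helper28)
-/

namespace Cfsg.Agent.Lib.Helper28

open Cfsg Cfsg.Agent.Lib.Helper4 Cfsg.Agent.Lib.Helper26
open scoped ComplexConjugate Classical

section Basic

variable {G : Type*} [Group G]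

theorem mem_zpowers_of_orderOf_two {x : G} (hx : orderOf x = 2) (g : G) :
    g ∈ Subgroup.zpowers x ↔ g = 1 ∨ g = x := by
  constructor
  · intro hg
    obtain ⟨k, rfl⟩ := Subgroup.mem_zpowers_iff.mp hg
    have h2 : x ^ (2 : ℤ) = 1 := by
      have := pow_orderOf_eq_one x
      rw [hx] at this
      exact_mod_cast this
    rcases Int.emod_two_eq_zero_or_one k with h | h
    · left
      have hk : k = 2 * (k / 2) := by omega
      rw [hk, zpow_mul, h2, one_zpow]
    · right
      have hk : k = 2 * (k / 2) + 1 := by omega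
      rw [hk, zpow_add, zpow_mul, h2, one_zpow, one_mul, zpow_one]
  · rintro (rfl | rfl)
    · exact one_mem _
    · exact Subgroup.mem_zpowers _

theorem centralizer_eq_normalizer_of_orderOf_two [Fintype G] {x : G} (hx : orderOf x = 2) :
    Subgroup.centralizer ({x} : Set G) =
      Subgroup.normalizer ((Subgroup.zpowers x : Subgroup G) : Set G) := by
  apply le_antisymm (zpowers_centralizer_setup x).2.2
  intro g hg
  rw [Subgroup.mem_normalizer_iff] at hg
  have h1 := (hg x).mp (Subgroup.mem_zpowers x)
  rw [mem_zpowers_of_orderOf_two hx] at h1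
  rw [Subgroup.mem_centralizer_iff]
  intro z hz
  rw [Set.mem_singleton_iff] at hz
  subst hz
  rcases h1 with h1 | h1
  · exfalso
    have h2 : z = 1 := by
      have := congrArg (fun t => g⁻¹ * t * g) h1
      simpa [mul_assoc] using this
    rw [h2, orderOf_one] at hx
    omega
  · have := congrArg (fun t => t * g) h1
    simp only [inv_mul_cancel_right] at this
    exact this.symm

theorem isPGroup_zpowers_of_orderOf_two {x : G} (hx : orderOf x = 2) :
    IsPGroup 2 (Subgroup.zpowers x) := by
  apply IsPGroup.of_card (n := 1)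
  rw [Nat.card_zpowers, hx, pow_one]

end Basic

section Local

variable {G : Type*} [Group G] [Fintype G] {M : Ideal AlgInt}

/-- the block of `C_G(x)` inducing a block with defect group `⟨x⟩` has defect group `⟨x⟩` -/
theorem defOne_defectGroup_centralizer (hM : IsPModular 2 M) (x : G) (hx : orderOf x = 2)
    {B : Set (IrrCharacter G)} (hBD : IsDefectGroup 2 M B (Subgroup.zpowers x))
    [Fintype (Subgroup.centralizer ({x} : Set G))]
    {b : Set (IrrCharacter (Subgroup.centralizer ({x} : Set G)))}
    (hb : IsInducedBlock M (Subgroup.centralizer ({x} : Set G)) b B) :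
    IsDefectGroup 2 M b
      ((Subgroup.zpowers x).subgroupOf (Subgroup.centralizer ({x} : Set G))) := by
  have : Fact (Nat.Prime 2) := ⟨Nat.prime_two⟩
  have hB := hb.2.1
  obtain ⟨E, hE⟩ := exists_isDefectGroup hM hb.1
  have h912 := Cfsg.Agent.S0912.result 2 M hM b hb.1 E hE
  have hn : ((Subgroup.zpowers x).subgroupOf (Subgroup.centralizer ({x} : Set G))).Normal :=
    Subgroup.normal_subgroupOf_of_le_normalizer (zpowers_centralizer_setup x).2.2
  have hp' : IsPGroup 2
      ((Subgroup.zpowers x).subgroupOf (Subgroup.centralizer ({x} : Set G))) :=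
    (isPGroup_zpowers_of_orderOf_two hx).comap_subtype
  have hle := (Helper16.le_pCore hn hp').trans h912
  obtain ⟨E', hE', hle'⟩ := exists_defectGroup_ge_of_induced hM _ hb.1 hB hb E hE
  have hc1 := card_defectGroup hM hB hE'
  have hc2 := card_defectGroup hM hB hBD
  have hcard : Nat.card E ≤
      Nat.card ((Subgroup.zpowers x).subgroupOf (Subgroup.centralizer ({x} : Set G))) := by
    have h1 := Subgroup.card_le_of_le hle'
    rw [Subgroup.card_map_of_injective (Subgroup.subtype_injective _), hc1, ← hc2] at h1
    rwa [Nat.card_congr (Subgroup.subgroupOfEquivOfLe (zpowers_centralizer_setup x).1).toEquiv]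
  have heq := Subgroup.eq_of_le_of_card_ge hle hcard
  rw [heq]
  exact hE

/-- transport of the uniqueness in the First Main Theorem along `N = N_G(D)` -/
theorem inducing_block_unique_of_eq {p : ℕ} [Fact p.Prime] (hM : IsPModular p M)
    (D : Subgroup G) (hDp : IsPGroup p D) (N : Subgroup G)
    (hN : N = Subgroup.normalizer (D : Set G)) [Fintype N]
    {b1 b2 : Set (IrrCharacter N)} {B : Set (IrrCharacter G)}
    (hb1 : IsPBlock M b1) (hb2 : IsPBlock M b2) (hB : IsPBlock M B)
    (hDb1 : IsDefectGroup p M b1 (D.subgroupOf N))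
    (hind1 : IsInducedBlock M N b1 B) (hind2 : IsInducedBlock M N b2 B) : b1 = b2 := by
  subst hN
  exact inducing_block_unique hM D hDp hb1 hb2 hB hDb1 hind1 hind2

/-- only one block of `C_G(x)` induces a block with defect group `⟨x⟩` -/
theorem defOne_block_unique (hM : IsPModular 2 M) (x : G) (hx : orderOf x = 2)
    {B : Set (IrrCharacter G)} (hBD : IsDefectGroup 2 M B (Subgroup.zpowers x))
    [Fintype (Subgroup.centralizer ({x} : Set G))]
    {b b' : Set (IrrCharacter (Subgroup.centralizer ({x} : Set G)))}
    (hb : IsInducedBlock M (Subgroup.centralizer ({x} : Set G)) b B)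
    (hb' : IsInducedBlock M (Subgroup.centralizer ({x} : Set G)) b' B) : b' = b := by
  have : Fact (Nat.Prime 2) := ⟨Nat.prime_two⟩
  exact (inducing_block_unique_of_eq hM (Subgroup.zpowers x)
    (isPGroup_zpowers_of_orderOf_two hx) _ (centralizer_eq_normalizer_of_orderOf_two hx)
    hb.1 hb'.1 hb.2.1 (defOne_defectGroup_centralizer hM x hx hBD hb) hb hb').symm

end Local

end Cfsg.Agent.Lib.Helper28
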