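import Mathlib
import Cfsg.Agent.Lib.Helper28.DefOneA

set_option autoImplicit false

/-!
# Blocks whose defect group is generated by a central involution (helper28)
-/

namespace Cfsg.Agent.Lib.Helper28

open Cfsg Cfsg.Agent.Lib.Helper4 Cfsg.Agent.Lib.Helper26
open scoped ComplexConjugate Classical

variable {G : Type*} [Group G] [Fintype G] {M : Ideal AlgInt}

/-- `|P| · l(B) = k(B)` for a block with central defect group `P` -/
theorem card_mul_blockRank_central {p : ℕ} [Fact p.Prime] (hM : IsPModular p M)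
    {B : Set (IrrCharacter G)} (hB : IsPBlock M B) {P : Subgroup G}
    (hP : IsDefectGroup p M B P) (hPZ : P ≤ Subgroup.center G) [Fintype (IrrCharacter G)] :
    (Nat.card P : ℂ) * (blockRank p B : ℂ) =
      ∑ χ : IrrCharacter G, if χ ∈ B then (1 : ℂ) else 0 := by
  have hprime : M.IsPrime := hM.2.1.isPrime
  have : Fintype P := Fintype.ofFinite _
  have hGc : (Nat.card G : ℂ) ≠ 0 := by exact_mod_cast Nat.card_pos.ne'
  have h1 := card_mul_blockRank hM hB
  apply mul_left_cancel₀ hGc
  rw [← mul_assoc, mul_comm (Nat.card G : ℂ), mul_assoc, h1, Finset.sum_comm, Finset.mul_sum,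
    Finset.mul_sum]
  refine Finset.sum_congr rfl fun χ _ => ?_
  by_cases hχ : χ ∈ B
  · simp only [if_pos hχ]
    rw [mul_one, ← sum_pRegular_normSq_central hM hB hP hPZ χ hχ]
    congr 1
    refine Finset.sum_congr rfl fun x _ => ?_
    rw [pRegularPart_apply]
    by_cases hx : p ∣ orderOf x
    · rw [if_pos hx, if_neg (not_not.mpr hx), zero_mul]
    · rw [if_neg hx, if_pos hx]
  · simp only [if_neg hχ, Finset.sum_const_zero, mul_zero]

/-- a central involution acts on an irreducible character by a sign -/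
theorem irr_central_involution_sign (ξ : IrrCharacter G) (z : G)
    (hzZ : z ∈ Subgroup.center G) (hzz : z * z = 1) :
    ∃ c : ℤ, (c = 1 ∨ c = -1) ∧ ∀ h : G, (ξ : G → ℂ) (z * h) = (c : ℂ) * (ξ : G → ℂ) h := by
  obtain ⟨ζ, -, hζ⟩ := Cfsg.Agent.Lib.Helper26.FTLemma.center_scalar ξ.2 z hzZ
  obtain ⟨hne, h1, -⟩ := irr_degree_nat ξ.2
  have h10 : (ξ : G → ℂ) 1 ≠ 0 := by
    rw [h1]
    exact_mod_cast hne
  have h2 : ζ * ζ = 1 := by
    have e1 := hζ (z * 1)
    rw [hζ 1, ← mul_assoc, hzz, one_mul] at e1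
    have e2 : (ζ * ζ - 1) * (ξ : G → ℂ) 1 = 0 := by
      linear_combination -e1
    rcases mul_eq_zero.mp e2 with h | h
    · linear_combination h
    · exact absurd h h10
  have h3 : (ζ - 1) * (ζ + 1) = 0 := by linear_combination h2
  rcases mul_eq_zero.mp h3 with h | h
  · refine ⟨1, Or.inl rfl, fun g => ?_⟩
    rw [hζ g]
    have : ζ = 1 := by linear_combination h
    rw [this]
    push_cast
    rfl
  · refine ⟨-1, Or.inr rfl, fun g => ?_⟩
    rw [hζ g]
    have : ζ = -1 := by linear_combination h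
    rw [this]
    push_cast
    rfl

/-- **structure of a block with defect group generated by a central involution** -/
theorem central_involution_block (hM : IsPModular 2 M)
    {b : Set (IrrCharacter G)} (hb : IsPBlock M b) {P : Subgroup G}
    (hP : IsDefectGroup 2 M b P) (hPZ : P ≤ Subgroup.center G) (hcard : Nat.card P = 2)
    (z : G) (hzP : z ∈ P) (hz : orderOf z = 2) (θ : IrrCharacter G) (hθ : θ ∈ b)
    (hθz : (θ : G → ℂ) z = (θ : G → ℂ) 1) :
    (∀ ξ ∈ b, ∀ s : G, ¬ 2 ∣ orderOf s → (ξ : G → ℂ) s = (θ : G → ℂ) s) ∧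
    (2 * ∑ s : G, (if ¬ 2 ∣ orderOf s then (θ : G → ℂ) s * conj ((θ : G → ℂ) s) else 0) =
      (Nat.card G : ℂ)) ∧ blockRank 2 b = 1 := by
  have : Fact (Nat.Prime 2) := ⟨Nat.prime_two⟩
  have hprime : M.IsPrime := hM.2.1.isPrime
  have : Fintype P := Fintype.ofFinite _
  have : Fintype (IrrCharacter G) := Fintype.ofFinite _
  have hl := blockRank_eq_one_of_central_defect hM hb hP hPZ
  refine ⟨?_, ?_, hl⟩
  · -- `k(b) = 2`
    have hk := card_mul_blockRank_central hM hb hP hPZ
    rw [hl, hcard] at hk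
    obtain ⟨S, hS⟩ : ∃ S : Finset (IrrCharacter G), S = Finset.univ.filter (fun ξ => ξ ∈ b) :=
      ⟨_, rfl⟩
    have hScard : S.card = 2 := by
      have h1 : ((S.card : ℕ) : ℂ) = 2 := by
        rw [hS, Finset.card_eq_sum_ones, Finset.sum_filter]
        push_cast
        rw [← hk]
        norm_num
      exact_mod_cast h1
    obtain ⟨a, a', haa', hSeq⟩ := Finset.card_eq_two.mp hScard
    have hmemS : ∀ ξ : IrrCharacter G, ξ ∈ b ↔ ξ ∈ S := by
      intro ξ
      rw [hS, Finset.mem_filter]
      simp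
    obtain ⟨θ', hθ'ne, hbθ⟩ : ∃ θ' : IrrCharacter G, θ' ≠ θ ∧
        S = {θ, θ'} := by
      have hθS := (hmemS θ).mp hθ
      rw [hSeq, Finset.mem_insert, Finset.mem_singleton] at hθS
      rcases hθS with rfl | rfl
      · exact ⟨a', haa'.symm, hSeq⟩
      · exact ⟨a, haa', by rw [hSeq, Finset.pair_comm]⟩
    have hθ'b : θ' ∈ b := by
      rw [hmemS, hbθ]
      simp
    -- weak orthogonality
    have hz2 : (2 : ℕ) ∣ orderOf z := by rw [hz]
    have hzz : z * z = 1 := by
      have := pow_orderOf_eq_one z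
      rw [hz, pow_two] at this
      exact this
    have hortho : ∀ s : G, ¬ 2 ∣ orderOf s →
        (θ : G → ℂ) s * conj ((θ : G → ℂ) z) + (θ' : G → ℂ) s * conj ((θ' : G → ℂ) z) = 0 := by
      intro s hs
      have h1 := weak_orthogonality_of_memLocalRing hM b (fun g => osima hb g) s z hs hz2
      rw [← Finset.sum_filter, ← hS, hbθ, Finset.sum_pair hθ'ne.symm] at h1
      exact h1
    obtain ⟨c', hc', hc'mul⟩ := irr_central_involution_sign θ' z (hPZ hzP) hzz
    obtain ⟨hne, h1, -⟩ := irr_degree_nat θ.2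
    obtain ⟨hne', h1', -⟩ := irr_degree_nat θ'.2
    have hθ'z : (θ' : G → ℂ) z = (c' : ℂ) * (charDegree (θ' : G → ℂ) : ℂ) := by
      have := hc'mul 1
      rw [mul_one, h1'] at this
      exact this
    have hconj1 : conj ((θ : G → ℂ) z) = (charDegree (θ : G → ℂ) : ℂ) := by
      rw [hθz, h1, Complex.conj_natCast]
    have hconj2 : conj ((θ' : G → ℂ) z) = (c' : ℂ) * (charDegree (θ' : G → ℂ) : ℂ) := by
      rw [hθ'z, map_mul, Complex.conj_natCast, map_intCast]
    have hord1 : ¬ 2 ∣ orderOf (1 : G) := by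
      rw [orderOf_one]
      norm_num
    have e1 := hortho 1 hord1
    rw [hconj1, hconj2, h1, h1'] at e1
    -- the sign is `-1` and the degrees agree
    have hc'neg : c' = -1 := by
      rcases hc' with h | h
      · exfalso
        rw [h] at e1
        have e2 : ((charDegree (θ : G → ℂ) * charDegree (θ : G → ℂ) +
            charDegree (θ' : G → ℂ) * charDegree (θ' : G → ℂ) : ℕ) : ℂ) = 0 := by
          push_cast
          linear_combination e1
        have e3 : charDegree (θ : G → ℂ) * charDegree (θ : G → ℂ) +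
            charDegree (θ' : G → ℂ) * charDegree (θ' : G → ℂ) = 0 := by exact_mod_cast e2
        have : charDegree (θ : G → ℂ) * charDegree (θ : G → ℂ) = 0 := by omega
        rcases Nat.mul_eq_zero.mp this with h0 | h0 <;> exact hne h0
      · exact h
    have hdeg : charDegree (θ' : G → ℂ) = charDegree (θ : G → ℂ) := by
      rw [hc'neg] at e1
      have e2 : ((charDegree (θ : G → ℂ) * charDegree (θ : G → ℂ) : ℕ) : ℂ) =
          ((charDegree (θ' : G → ℂ) * charDegree (θ' : G → ℂ) : ℕ) : ℂ) := by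
        push_cast
        push_cast at e1
        linear_combination e1
      have e3 : charDegree (θ : G → ℂ) * charDegree (θ : G → ℂ) =
          charDegree (θ' : G → ℂ) * charDegree (θ' : G → ℂ) := by exact_mod_cast e2
      exact (Nat.mul_self_inj.mp e3).symm
    have hθ's : ∀ s : G, ¬ 2 ∣ orderOf s → (θ' : G → ℂ) s = (θ : G → ℂ) s := by
      intro s hs
      have e2 := hortho s hs
      rw [hconj1, hconj2, hc'neg, hdeg] at e2
      have hd0 : (charDegree (θ : G → ℂ) : ℂ) ≠ 0 := by exact_mod_cast hne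
      apply mul_right_cancel₀ hd0
      push_cast at e2
      linear_combination -e2
    intro ξ hξ s hs
    have hξS := (hmemS ξ).mp hξ
    rw [hbθ, Finset.mem_insert, Finset.mem_singleton] at hξS
    rcases hξS with rfl | rfl
    · rfl
    · exact hθ's s hs
  · have h1 := sum_pRegular_normSq_central hM hb hP hPZ θ hθ
    rw [hcard] at h1
    exact_mod_cast h1

end Cfsg.Agent.Lib.Helper28
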