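import Mathlib
import Cfsg.Agent.Lib.Helper28.DefOneB
import Cfsg.Agent.Lib.Helper28.SectionF
import Cfsg.Agent.Lib.Helper28.BlockRankD
import Cfsg.Agent.Lib.Helper26.CharInt
import Cfsg.Agent.Lib.Helper26.IndChar

set_option autoImplicit false

/-!
# Sections with a unique inducing block; integrality of the generalized decomposition
numbers at a central involution (helper28)
-/

namespace Cfsg.Agent.Lib.Helper28

open Cfsg Cfsg.Agent.Lib.Helper4 Cfsg.Agent.Lib.Helper26
open scoped ComplexConjugate Classical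

variable {G : Type*} [Group G] [Fintype G] {M : Ideal AlgInt}

/-- second main theorem, pointwise, when only `e` induces `B` -/
theorem section_eq_blockPart_of_unique {p : ℕ} [Fact p.Prime] (hM : IsPModular p M) (u : G)
    (hu : ∃ k : ℕ, orderOf u = p ^ k) (C : Subgroup G) [Fintype C]
    (hC : ∀ g : G, g ∈ C ↔ g * u = u * g) {e : Set (IrrCharacter C)}
    {B : Set (IrrCharacter G)} (hind : IsInducedBlock M C e B)
    (hall : ∀ e' : Set (IrrCharacter C), IsPBlock M e' → e' ≠ e →
      ∃ B' : Set (IrrCharacter G), B' ≠ B ∧ IsInducedBlock M C e' B')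
    (χ : IrrCharacter G) (hχ : χ ∈ B) (s : C) (hs : ¬ p ∣ orderOf s) :
    (χ : G → ℂ) (u * (s : G)) = blockPart e (shiftRes u C (χ : G → ℂ)) s := by
  have hprime : M.IsPrime := hM.2.1.isPrime
  have hMtop : M ≠ ⊤ := hM.2.1.ne_top
  have : Fintype (IrrCharacter C) := Fintype.ofFinite _
  have : Fintype {b : Set (IrrCharacter C) // IsPBlock M b} := Fintype.ofFinite _
  have hcl := isClassFunction_shiftRes u C hC (Helper4.isClassFunction_of_isIrrCharacter χ.2)
  have hexp := congrFun (Helper4.classFunction_expansion _ hcl) s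
  rw [Finset.sum_apply] at hexp
  simp only [Pi.smul_apply, smul_eq_mul] at hexp
  have h1 : shiftRes u C (χ : G → ℂ) s = (χ : G → ℂ) (u * (s : G)) := rfl
  rw [← h1, hexp, sum_irr_eq_sum_blocks (M := M)]
  rw [Finset.sum_eq_single (⟨e, hind.1⟩ : {b : Set (IrrCharacter C) // IsPBlock M b})]
  · rw [blockPart_apply_sum]
    refine Finset.sum_congr rfl fun ψ _ => ?_
    by_cases h : ψ ∈ e
    · rw [if_pos h, if_pos h]
    · rw [if_neg h, if_neg h, zero_mul]
  · intro e' _ he'
    have hne : e'.1 ≠ e := fun h => he' (Subtype.ext h)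
    obtain ⟨B', hB'ne, hind'⟩ := hall e'.1 e'.2 hne
    have hχ' : χ ∉ B' := by
      intro hmem
      exact hB'ne (block_eq_of_mem hind'.2.1 hind.2.1 hmem hχ)
    have h0 := section_blockPart_eq_zero hM u hu C hC hind' χ hχ' s hs
    rw [blockPart_apply_sum] at h0
    refine Eq.trans ?_ h0
    refine Finset.sum_congr rfl fun ψ _ => ?_
    by_cases h : ψ ∈ e'.1
    · rw [if_pos h, if_pos h]
    · rw [if_neg h, if_neg h, zero_mul]
  · intro h
    exact absurd (Finset.mem_univ _) h

omit [Fintype G] in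
/-- moving a central involution across the inner product -/
theorem classInner_shiftRes_central (u : G) (C : Subgroup G) [Fintype C] (huC : u ∈ C)
    (huu : u * u = 1) (χ : G → ℂ) (ξ : C → ℂ) (c : ℂ)
    (hc : ∀ h : C, ξ ((⟨u, huC⟩ : C) * h) = c * ξ h) :
    classInner (shiftRes u C χ) ξ = conj c * classInner (χ ∘ C.subtype) ξ := by
  unfold classInner
  rw [mul_left_comm]
  congr 1
  rw [Finset.mul_sum]
  symm
  apply Fintype.sum_equiv (Equiv.mulLeft (⟨u, huC⟩ : C))
  intro h
  show conj c * (χ (h : G) * conj (ξ h)) =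
    χ (u * (((⟨u, huC⟩ : C) * h : C) : G)) * conj (ξ ((⟨u, huC⟩ : C) * h))
  rw [hc, map_mul]
  have h2 : u * (((⟨u, huC⟩ : C) * h : C) : G) = h := by
    push_cast
    rw [← mul_assoc, huu, one_mul]
  rw [h2]
  ring

/-- the inner products with the shifted restriction are integers -/
theorem exists_int_classInner_shiftRes (u : G) (C : Subgroup G) [Fintype C] (huC : u ∈ C)
    (huu : u * u = 1) (huZ : (⟨u, huC⟩ : C) ∈ Subgroup.center C) (χ : IrrCharacter G)
    (ξ : IrrCharacter C) :
    ∃ k : ℤ, classInner (shiftRes u C (χ : G → ℂ)) (ξ : C → ℂ) = k := by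
  obtain ⟨c, -, hcmul⟩ := irr_central_involution_sign ξ ⟨u, huC⟩ huZ (Subtype.ext huu)
  obtain ⟨n, hn⟩ := Helper26.classInner_isCharacter_nat
    (Helper26.isCharacter_restrict C (isCharacter_of_isIrrCharacter χ.2))
    (isCharacter_of_isIrrCharacter ξ.2)
  refine ⟨c * n, ?_⟩
  rw [classInner_shiftRes_central u C huC huu _ _ (c : ℂ) hcmul, hn, map_intCast]
  push_cast
  rfl

/-- a character vanishing on the `p`-singular elements is alone in its block -/
theorem block_eq_singleton_of_vanish_pSingular {p : ℕ} [Fact p.Prime]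
    (hM : IsPModular p M) {B : Set (IrrCharacter G)} (hB : IsPBlock M B) (χ : IrrCharacter G)
    (hχ : χ ∈ B) (hvan : ∀ g : G, p ∣ orderOf g → (χ : G → ℂ) g = 0) : B = {χ} := by
  have : M.IsPrime := hM.2.1.isPrime
  have hp : p.Prime := hM.1
  obtain ⟨k, hk⟩ := degree_of_vanish_pSingular
    (isGeneralizedCharacter_of_isCharacter (isCharacter_of_isIrrCharacter χ.2)) hvan
  obtain ⟨hne, h1, hdvd0⟩ := irr_degree_nat χ.2
  rw [h1] at hk
  have hk' : ((charDegree (χ : G → ℂ) : ℤ) : ℂ) =
      (((p ^ (Nat.card G).factorization p : ℕ) : ℤ) * k : ℤ) := by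
    push_cast
    push_cast at hk
    exact hk
  have hk'' : (charDegree (χ : G → ℂ) : ℤ) = ((p ^ (Nat.card G).factorization p : ℕ) : ℤ) * k :=
    by exact_mod_cast hk'
  have hdvd : p ^ (Nat.card G).factorization p ∣ charDegree (χ : G → ℂ) := by
    have : ((p ^ (Nat.card G).factorization p : ℕ) : ℤ) ∣ (charDegree (χ : G → ℂ) : ℤ) :=
      ⟨k, hk''⟩
    exact_mod_cast this
  have hfle := (hp.pow_dvd_iff_le_factorization hne).mp hdvd
  obtain ⟨b0, hb0⟩ := hdvd0
  have hb0ne : b0 ≠ 0 := by
    rintro rfl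
    rw [mul_zero] at hb0
    exact Nat.card_pos.ne' hb0
  have hfac : (Nat.card G).factorization p =
      (charDegree (χ : G → ℂ)).factorization p + b0.factorization p := by
    rw [hb0, Nat.factorization_mul hne hb0ne, Finsupp.add_apply]
  have hb0p : b0.factorization p = 0 := by omega
  have hndvd : ¬ p ∣ Nat.card G / charDegree (χ : G → ℂ) := by
    rw [hb0, Nat.mul_div_cancel_left _ (Nat.pos_of_ne_zero hne)]
    intro hpb
    have := (hp.dvd_iff_one_le_factorization hb0ne).mp hpb
    omega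
  have h914 := (Cfsg.Agent.S0914.result p M hM χ).mp hndvd
  rw [block_eq_blockOf hB hχ, h914]

end Cfsg.Agent.Lib.Helper28
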