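import Mathlib
import Cfsg.Agent.Lib.Helper28.DefOneC

set_option autoImplicit false

/-!
# Blocks with a defect group of order two: the values on the section of the involution
(helper28)
-/

namespace Cfsg.Agent.Lib.Helper28

open Cfsg Cfsg.Agent.Lib.Helper4 Cfsg.Agent.Lib.Helper26
open scoped ComplexConjugate Classical

variable {G : Type*} [Group G] [Fintype G] {M : Ideal AlgInt}

/-- the generalized decomposition numbers at the involution: integers with square sum two -/
theorem defOne_values (hM : IsPModular 2 M) (x : G) (hx : orderOf x = 2)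
    (B : Set (IrrCharacter G)) (hB : IsPBlock M B)
    (hBD : IsDefectGroup 2 M B (Subgroup.zpowers x))
    [Fintype (Subgroup.centralizer ({x} : Set G))] [Fintype (IrrCharacter G)]
    (b : Set (IrrCharacter ↥(Subgroup.centralizer ({x} : Set G))))
    (hb : IsInducedBlock M (Subgroup.centralizer ({x} : Set G)) b B)
    (θ : IrrCharacter ↥(Subgroup.centralizer ({x} : Set G))) (hθ : θ ∈ b)
    (hθx : ∀ z : ↥(Subgroup.centralizer ({x} : Set G)), (z : G) = x →
      (θ : ↥(Subgroup.centralizer ({x} : Set G)) → ℂ) z =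
        (θ : ↥(Subgroup.centralizer ({x} : Set G)) → ℂ) 1) :
    ∃ kf : IrrCharacter G → ℤ,
      (∀ χ ∈ B, ∀ s : ↥(Subgroup.centralizer ({x} : Set G)), ¬ 2 ∣ orderOf s →
        (χ : G → ℂ) (x * (s : G)) =
          (kf χ : ℂ) * (θ : ↥(Subgroup.centralizer ({x} : Set G)) → ℂ) s) ∧
      (∑ χ : IrrCharacter G, if χ ∈ B then (kf χ) ^ 2 else 0) = 2 := by
  have : Fact (Nat.Prime 2) := ⟨Nat.prime_two⟩
  have hprime : M.IsPrime := hM.2.1.isPrime
  have : Fintype (IrrCharacter (Subgroup.centralizer ({x} : Set G))) := Fintype.ofFinite _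
  have : Fintype {b : Set (IrrCharacter (Subgroup.centralizer ({x} : Set G))) // IsPBlock M b} :=
    Fintype.ofFinite _
  have hC : ∀ g : G, g ∈ Subgroup.centralizer ({x} : Set G) ↔ g * x = x * g := by
    intro g
    rw [Subgroup.mem_centralizer_iff]
    constructor
    · intro h; exact (h x rfl).symm
    · intro h w hw
      rw [Set.mem_singleton_iff] at hw
      rw [hw, h]
  have hxC : x ∈ Subgroup.centralizer ({x} : Set G) := (hC x).mpr rfl
  have hxx : x * x = 1 := by
    have := pow_orderOf_eq_one x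
    rwa [hx, pow_two] at this
  have hxZ : (⟨x, hxC⟩ : Subgroup.centralizer ({x} : Set G)) ∈
      Subgroup.center (Subgroup.centralizer ({x} : Set G)) := by
    rw [Subgroup.mem_center_iff]
    intro h
    apply Subtype.ext
    push_cast
    exact (hC h).mp h.2
  have hxp : ∃ k : ℕ, orderOf x = 2 ^ k := ⟨1, by rw [hx, pow_one]⟩
  obtain ⟨hPH, hCH, hHN⟩ := zpowers_centralizer_setup x
  -- the local block
  have hPb := defOne_defectGroup_centralizer hM x hx hBD hb
  have hPZ : (Subgroup.zpowers x).subgroupOf (Subgroup.centralizer ({x} : Set G)) ≤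
      Subgroup.center (Subgroup.centralizer ({x} : Set G)) := by
    intro h hh
    rw [Subgroup.mem_subgroupOf, mem_zpowers_of_orderOf_two hx] at hh
    rcases hh with hh | hh
    · have : h = 1 := Subtype.ext hh
      rw [this]
      exact Subgroup.one_mem _
    · have : h = ⟨x, hxC⟩ := Subtype.ext hh
      rw [this]
      exact hxZ
  have hcardP : Nat.card ((Subgroup.zpowers x).subgroupOf
      (Subgroup.centralizer ({x} : Set G))) = 2 := by
    rw [Nat.card_congr (Subgroup.subgroupOfEquivOfLe hPH).toEquiv, Nat.card_zpowers, hx]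
  have hzP : (⟨x, hxC⟩ : Subgroup.centralizer ({x} : Set G)) ∈
      (Subgroup.zpowers x).subgroupOf (Subgroup.centralizer ({x} : Set G)) := by
    rw [Subgroup.mem_subgroupOf]
    exact Subgroup.mem_zpowers x
  have horder : orderOf (⟨x, hxC⟩ : Subgroup.centralizer ({x} : Set G)) = 2 := by
    rw [← Subgroup.orderOf_coe]
    exact hx
  obtain ⟨hagree, hnormθ, hl⟩ := central_involution_block hM hb.1 hPb hPZ hcardP
    ⟨x, hxC⟩ hzP horder θ hθ (hθx ⟨x, hxC⟩ rfl)
  have hall : ∀ e' : Set (IrrCharacter (Subgroup.centralizer ({x} : Set G))), IsPBlock M e' →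
      e' ≠ b → ∃ B' : Set (IrrCharacter G), B' ≠ B ∧
        IsInducedBlock M (Subgroup.centralizer ({x} : Set G)) e' B' := by
    intro e' he' hne
    obtain ⟨B', hB'⟩ := exists_induced_block hM (Subgroup.zpowers x)
      (Subgroup.centralizer ({x} : Set G)) (isPGroup_zpowers_of_orderOf_two hx) hPH hCH hHN he'
    refine ⟨B', ?_, hB'⟩
    rintro rfl
    exact hne (defOne_block_unique hM x hx hBD hb hB')
  -- the integers
  choose kk hkk using fun (χ : IrrCharacter G)
      (ξ : IrrCharacter (Subgroup.centralizer ({x} : Set G))) =>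
    exists_int_classInner_shiftRes x (Subgroup.centralizer ({x} : Set G)) hxC hxx hxZ χ ξ
  obtain ⟨kf, hkf⟩ : ∃ kf : IrrCharacter G → ℤ, kf = fun χ =>
      ∑ ξ : IrrCharacter (Subgroup.centralizer ({x} : Set G)), if ξ ∈ b then kk χ ξ else 0 :=
    ⟨_, rfl⟩
  have hkfc : ∀ χ : IrrCharacter G, (kf χ : ℂ) =
      ∑ ξ : IrrCharacter (Subgroup.centralizer ({x} : Set G)),
        if ξ ∈ b then (kk χ ξ : ℂ) else 0 := by
    intro χ
    rw [hkf]
    simp only
    rw [Int.cast_sum]
    refine Finset.sum_congr rfl fun ξ _ => ?_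
    by_cases h : ξ ∈ b
    · rw [if_pos h, if_pos h]
    · rw [if_neg h, if_neg h, Int.cast_zero]
  have hval : ∀ χ ∈ B, ∀ s : ↥(Subgroup.centralizer ({x} : Set G)), ¬ 2 ∣ orderOf s →
      (χ : G → ℂ) (x * (s : G)) =
        (kf χ : ℂ) * (θ : ↥(Subgroup.centralizer ({x} : Set G)) → ℂ) s := by
    intro χ hχ s hs
    rw [section_eq_blockPart_of_unique hM x hxp _ hC hb hall χ hχ s hs, blockPart_apply_sum,
      hkfc, Finset.sum_mul]
    refine Finset.sum_congr rfl fun ξ _ => ?_
    by_cases h : ξ ∈ b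
    · rw [if_pos h, if_pos h, hkk, hagree ξ h s hs]
    · rw [if_neg h, if_neg h, zero_mul, zero_mul]
  refine ⟨kf, hval, ?_⟩
  -- the square sum
  have hcount := section_count hM x hxp hB
  have hR : (∑ b' : {b : Set (IrrCharacter (Subgroup.centralizer ({x} : Set G))) // IsPBlock M b},
      if IsInducedBlock M (Subgroup.centralizer ({x} : Set G)) b'.1 B then
        (blockRank 2 b'.1 : ℂ) else 0) = 1 := by
    rw [Finset.sum_eq_single (⟨b, hb.1⟩ :
      {b : Set (IrrCharacter (Subgroup.centralizer ({x} : Set G))) // IsPBlock M b})]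
    · rw [if_pos hb, hl, Nat.cast_one]
    · intro b' _ hne
      rw [if_neg]
      intro hind
      exact hne (Subtype.ext (defOne_block_unique hM x hx hBD hb hind))
    · intro h
      exact absurd (Finset.mem_univ _) h
  rw [hR, mul_one] at hcount
  obtain ⟨K, hK⟩ : ∃ K : ℂ, K = ∑ χ : IrrCharacter G, if χ ∈ B then ((kf χ : ℂ)) ^ 2 else 0 :=
    ⟨_, rfl⟩
  obtain ⟨T, hT⟩ : ∃ T : ℂ, T = ∑ s : ↥(Subgroup.centralizer ({x} : Set G)),
      (if ¬ 2 ∣ orderOf s then (θ : ↥(Subgroup.centralizer ({x} : Set G)) → ℂ) s *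
        conj ((θ : ↥(Subgroup.centralizer ({x} : Set G)) → ℂ) s) else 0) := ⟨_, rfl⟩
  have hL : ∑ s : Subgroup.centralizer ({x} : Set G), (if ¬ 2 ∣ orderOf s then
        ∑ χ : IrrCharacter G, (if χ ∈ B then
          (χ : G → ℂ) (x * (s : G)) * conj ((χ : G → ℂ) (x * (s : G))) else 0) else 0) =
      K * T := by
    rw [hK, hT, Finset.mul_sum]
    refine Finset.sum_congr rfl fun s _ => ?_
    by_cases hs : 2 ∣ orderOf s
    · rw [if_neg (not_not.mpr hs), if_neg (not_not.mpr hs), mul_zero]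
    · rw [if_pos hs, if_pos hs, Finset.sum_mul]
      refine Finset.sum_congr rfl fun χ _ => ?_
      by_cases hχ : χ ∈ B
      · rw [if_pos hχ, if_pos hχ, hval χ hχ s hs, map_mul, map_intCast]
        ring
      · rw [if_neg hχ, if_neg hχ, zero_mul]
  rw [hL] at hcount
  rw [← hT] at hnormθ
  have hCne : (Nat.card (Subgroup.centralizer ({x} : Set G)) : ℂ) ≠ 0 := by
    exact_mod_cast Nat.card_pos.ne'
  have hTne : T ≠ 0 := by
    rintro h0
    rw [h0, mul_zero] at hnormθ
    exact hCne hnormθ.symm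
  have hK2 : K = 2 := by
    apply mul_right_cancel₀ hTne
    rw [hcount, hnormθ]
  have hcast : ((∑ χ : IrrCharacter G, if χ ∈ B then (kf χ) ^ 2 else 0 : ℤ) : ℂ) = ((2 : ℤ) : ℂ) := by
    rw [Int.cast_sum]
    push_cast
    rw [← hK2, hK]
  exact_mod_cast hcast

end Cfsg.Agent.Lib.Helper28
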