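import Mathlib
import Cfsg.Agent.Lib.Helper28.DefOneD
import Cfsg.Agent.Lib.Helper28.GreenVanF
import Cfsg.Agent.Lib.Helper4.BlockIndTrans

set_option autoImplicit false

/-!
# Blocks with a defect group of order two (helper28)
-/

namespace Cfsg.Agent.Lib.Helper28

open Cfsg Cfsg.Agent.Lib.Helper4 Cfsg.Agent.Lib.Helper26
open scoped ComplexConjugate Classical

variable {G : Type*} [Group G] [Fintype G] {M : Ideal AlgInt}

/-- a member of `B` vanishing on the section of `x` is alone in `B` -/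
theorem defOne_singleton_of_zero (hM : IsPModular 2 M) (x : G) (hx : orderOf x = 2)
    (B : Set (IrrCharacter G)) (hB : IsPBlock M B)
    (hBD : IsDefectGroup 2 M B (Subgroup.zpowers x)) (χ : IrrCharacter G) (hχ : χ ∈ B)
    (hzero : ∀ s : ↥(Subgroup.centralizer ({x} : Set G)), ¬ 2 ∣ orderOf s →
      (χ : G → ℂ) (x * (s : G)) = 0) : B = {χ} := by
  have : Fact (Nat.Prime 2) := ⟨Nat.prime_two⟩
  have hprime : M.IsPrime := hM.2.1.isPrime
  have hp : Nat.Prime 2 := Nat.prime_two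
  have hcl := Helper4.isClassFunction_of_isIrrCharacter χ.2
  apply block_eq_singleton_of_vanish_pSingular hM hB χ hχ
  intro g hg
  obtain ⟨u, hu⟩ : ∃ u : G, IsPPart 2 g u := ⟨_, isPPart_pPartOf hp g⟩
  by_cases hD : ∀ D : Subgroup G, IsDefectGroup 2 M (blockOf M (χ : G → ℂ)) D → u ∉ D
  · exact irr_vanish_off_defectGroups hM χ g u hu hD
  · push Not at hD
    obtain ⟨D', hD', huD'⟩ := hD
    rw [← block_eq_blockOf hB hχ] at hD'
    obtain ⟨t, ht⟩ := Helper4.isDefectGroup_conj hM hB hBD hD'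
    rw [← ht] at huD'
    obtain ⟨y, hy, hyu⟩ := huD'
    obtain ⟨w, hw1, hw2, -, hw4⟩ := hu
    have hyu' : t * y * t⁻¹ = u := hyu
    have hy' := (mem_zpowers_of_orderOf_two hx y).mp hy
    rcases hy' with rfl | rfl
    · exfalso
      have hu1 : u = 1 := by
        rw [← hyu']
        group
      rw [hu1, one_mul] at hw1
      rw [hw1] at hw4
      exact hw4 hg
    · have hcomm : y * (t⁻¹ * w * t) = t⁻¹ * w * t * y := by
        have h := hw2.eq
        rw [← hyu'] at h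
        calc y * (t⁻¹ * w * t) = t⁻¹ * (t * y * t⁻¹ * w) * t := by group
          _ = t⁻¹ * (w * (t * y * t⁻¹)) * t := by rw [h]
          _ = t⁻¹ * w * t * y := by group
      have hwC : t⁻¹ * w * t ∈ Subgroup.centralizer ({y} : Set G) := by
        rw [Subgroup.mem_centralizer_iff]
        intro z hz
        rw [Set.mem_singleton_iff] at hz
        rw [hz]
        exact hcomm
      have hord : orderOf (t⁻¹ * w * t) = orderOf w := by
        have := (MulAut.conj t⁻¹).orderOf_eq w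
        rwa [MulAut.conj_apply, inv_inv] at this
      have hodd : ¬ 2 ∣ orderOf (⟨t⁻¹ * w * t, hwC⟩ : Subgroup.centralizer ({y} : Set G)) := by
        rw [← Subgroup.orderOf_coe]
        show ¬ 2 ∣ orderOf (t⁻¹ * w * t)
        rw [hord]
        exact hw4
      have h0 := hzero ⟨t⁻¹ * w * t, hwC⟩ hodd
      have e : y * (t⁻¹ * w * t) = t⁻¹ * g * t⁻¹⁻¹ := by
        rw [← hw1, ← hyu']
        group
      rw [← hcl g t⁻¹, ← e]
      exact h0

/-- **blocks with a defect group of order two** -/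
theorem defOne_main (hM : IsPModular 2 M) (x : G) (hx : orderOf x = 2)
    (B : Set (IrrCharacter G)) (hB : IsPBlock M B)
    (hBD : IsDefectGroup 2 M B (Subgroup.zpowers x))
    (b : Set (IrrCharacter ↥(Subgroup.centralizer ({x} : Set G))))
    (hb : IsInducedBlock M (Subgroup.centralizer ({x} : Set G)) b B)
    (θ : IrrCharacter ↥(Subgroup.centralizer ({x} : Set G))) (hθ : θ ∈ b)
    (hθx : ∀ z : ↥(Subgroup.centralizer ({x} : Set G)), (z : G) = x →
      (θ : ↥(Subgroup.centralizer ({x} : Set G)) → ℂ) z =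
        (θ : ↥(Subgroup.centralizer ({x} : Set G)) → ℂ) 1) :
    Nat.card B = 2 ∧
      (∀ χ ∈ B, ∀ ψ ∈ B, ∀ g : G, ¬ 2 ∣ orderOf g → (χ : G → ℂ) g = (ψ : G → ℂ) g) ∧
      ∃ χ₁ ∈ B, ∃ χ₂ ∈ B, χ₁ ≠ χ₂ ∧ ∃ ε₁ ε₂ : ℤ, (ε₁ = 1 ∨ ε₁ = -1) ∧ (ε₂ = 1 ∨ ε₂ = -1) ∧
        ε₁ * ε₂ = -1 ∧
        ∀ y : ↥(Subgroup.centralizer ({x} : Set G)), ¬ 2 ∣ orderOf y →
          (χ₁ : G → ℂ) (x * y) =
            (ε₁ : ℂ) * (θ : ↥(Subgroup.centralizer ({x} : Set G)) → ℂ) y ∧
          (χ₂ : G → ℂ) (x * y) =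
            (ε₂ : ℂ) * (θ : ↥(Subgroup.centralizer ({x} : Set G)) → ℂ) y := by
  have : Fact (Nat.Prime 2) := ⟨Nat.prime_two⟩
  have hprime : M.IsPrime := hM.2.1.isPrime
  have : Fintype (Subgroup.centralizer ({x} : Set G)) := Fintype.ofFinite _
  have : Fintype (IrrCharacter G) := Fintype.ofFinite _
  obtain ⟨kf, hval, hsum⟩ := defOne_values hM x hx B hB hBD b hb θ hθ hθx
  have hsing : ∀ χ ∈ B, kf χ = 0 → B = {χ} := by
    intro χ hχ h0
    apply defOne_singleton_of_zero hM x hx B hB hBD χ hχ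
    intro s hs
    rw [hval χ hχ s hs, h0, Int.cast_zero, zero_mul]
  obtain ⟨S, hS⟩ : ∃ S : Finset (IrrCharacter G),
      S = Finset.univ.filter (fun χ => χ ∈ B ∧ kf χ ≠ 0) := ⟨_, rfl⟩
  have hmemS : ∀ χ, χ ∈ S ↔ χ ∈ B ∧ kf χ ≠ 0 := by
    intro χ
    rw [hS, Finset.mem_filter]
    simp
  have hsumS : ∑ χ ∈ S, (kf χ) ^ 2 = 2 := by
    rw [← hsum, hS, Finset.sum_filter]
    refine Finset.sum_congr rfl fun χ _ => ?_
    by_cases hχ : χ ∈ B
    · by_cases hk : kf χ = 0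
      · rw [if_neg (fun h => h.2 hk), if_pos hχ, hk]
        norm_num
      · rw [if_pos ⟨hχ, hk⟩, if_pos hχ]
    · rw [if_neg (fun h => hχ h.1), if_neg hχ]
  have hge1 : ∀ χ ∈ S, (1 : ℤ) ≤ (kf χ) ^ 2 := by
    intro χ hχ
    have h1 := ((hmemS χ).mp hχ).2
    have h2 : (kf χ) ^ 2 ≠ 0 := pow_ne_zero 2 h1
    have h3 := sq_nonneg (kf χ)
    omega
  have hcard_le : (S.card : ℤ) ≤ 2 := by
    rw [← hsumS, Finset.card_eq_sum_ones, Nat.cast_sum]
    push_cast
    exact Finset.sum_le_sum hge1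
  have hcard : S.card = 2 := by
    have hle : S.card ≤ 2 := by exact_mod_cast hcard_le
    interval_cases hc : S.card
    · exfalso
      rw [Finset.card_eq_zero] at hc
      rw [hc, Finset.sum_empty] at hsumS
      omega
    · exfalso
      obtain ⟨a, ha⟩ := Finset.card_eq_one.mp hc
      rw [ha, Finset.sum_singleton] at hsumS
      have h1 : kf a ≤ 1 ∨ 2 ≤ kf a := by omega
      have h2 : -1 ≤ kf a ∨ kf a ≤ -2 := by omega
      rcases h1 with h1 | h1
      · rcases h2 with h2 | h2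
        · interval_cases kf a <;> omega
        · nlinarith
      · nlinarith
    · rfl
  obtain ⟨χ₁, χ₂, hne, hSeq⟩ := Finset.card_eq_two.mp hcard
  have hχ₁S : χ₁ ∈ S := by rw [hSeq]; simp
  have hχ₂S : χ₂ ∈ S := by rw [hSeq]; simp
  have hB₁ : χ₁ ∈ B := ((hmemS χ₁).mp hχ₁S).1
  have hB₂ : χ₂ ∈ B := ((hmemS χ₂).mp hχ₂S).1
  rw [hSeq, Finset.sum_pair hne] at hsumS
  have hg1 := hge1 χ₁ hχ₁S
  have hg2 := hge1 χ₂ hχ₂S
  have hsq1 : (kf χ₁) ^ 2 = 1 := by omega
  have hsq2 : (kf χ₂) ^ 2 = 1 := by omega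
  have hk1 : kf χ₁ = 1 ∨ kf χ₁ = -1 := by
    have h : (kf χ₁ - 1) * (kf χ₁ + 1) = 0 := by linear_combination hsq1
    rcases mul_eq_zero.mp h with h | h
    · left; omega
    · right; omega
  have hk2 : kf χ₂ = 1 ∨ kf χ₂ = -1 := by
    have h : (kf χ₂ - 1) * (kf χ₂ + 1) = 0 := by linear_combination hsq2
    rcases mul_eq_zero.mp h with h | h
    · left; omega
    · right; omega
  have hBsub : ∀ χ ∈ B, χ = χ₁ ∨ χ = χ₂ := by
    intro χ hχ
    by_cases hk : kf χ = 0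
    · exfalso
      have h1 := hsing χ hχ hk
      rw [h1, Set.mem_singleton_iff] at hB₁
      rw [hB₁, hk] at hsq1
      norm_num at hsq1
    · have h1 : χ ∈ S := (hmemS χ).mpr ⟨hχ, hk⟩
      rw [hSeq, Finset.mem_insert, Finset.mem_singleton] at h1
      exact h1
  have hBeq : B = {χ₁, χ₂} := by
    ext χ
    constructor
    · intro hχ
      rcases hBsub χ hχ with rfl | rfl
      · exact Set.mem_insert _ _
      · exact Set.mem_insert_of_mem _ rfl
    · rintro (rfl | rfl)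
      · exact hB₁
      · exact hB₂
  have hcardB : Nat.card B = 2 := by
    rw [hBeq, Nat.card_coe_set_eq, Set.ncard_pair hne]
  -- orthogonality
  have hfilter : Finset.univ.filter (fun χ : IrrCharacter G => χ ∈ B) = {χ₁, χ₂} := by
    ext χ
    rw [Finset.mem_filter, Finset.mem_insert, Finset.mem_singleton]
    constructor
    · intro h
      exact hBsub χ h.2
    · rintro (rfl | rfl)
      · exact ⟨Finset.mem_univ _, hB₁⟩
      · exact ⟨Finset.mem_univ _, hB₂⟩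
  obtain ⟨hdne, hd1, -⟩ := irr_degree_nat θ.2
  have hd0 : (charDegree (θ : ↥(Subgroup.centralizer ({x} : Set G)) → ℂ) : ℂ) ≠ 0 := by
    exact_mod_cast hdne
  have hord1 : ¬ 2 ∣ orderOf (1 : ↥(Subgroup.centralizer ({x} : Set G))) := by
    rw [orderOf_one]
    norm_num
  have hx1 : ∀ χ ∈ B, (χ : G → ℂ) x =
      (kf χ : ℂ) * (charDegree (θ : ↥(Subgroup.centralizer ({x} : Set G)) → ℂ) : ℂ) := by
    intro χ hχ
    have := hval χ hχ 1 hord1
    rw [Subgroup.coe_one, mul_one, hd1] at this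
    exact this
  have h2x : 2 ∣ orderOf x := by rw [hx]
  have hkey : ∀ g : G, ¬ 2 ∣ orderOf g →
      (kf χ₁ : ℂ) * (χ₁ : G → ℂ) g + (kf χ₂ : ℂ) * (χ₂ : G → ℂ) g = 0 := by
    intro g hg
    have hw := weak_orthogonality_of_memLocalRing hM B (fun g => osima hB g) g x hg h2x
    rw [← Finset.sum_filter, hfilter, Finset.sum_pair hne, hx1 χ₁ hB₁, hx1 χ₂ hB₂, map_mul,
      map_mul, map_intCast, map_intCast, Complex.conj_natCast] at hw
    apply mul_right_cancel₀ hd0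
    linear_combination hw
  -- degrees
  obtain ⟨hn1, hdeg1, -⟩ := irr_degree_nat χ₁.2
  obtain ⟨hn2, hdeg2, -⟩ := irr_degree_nat χ₂.2
  have hordG : ¬ 2 ∣ orderOf (1 : G) := by
    rw [orderOf_one]
    norm_num
  have hkey1 := hkey 1 hordG
  rw [hdeg1, hdeg2] at hkey1
  have hkey1' : kf χ₁ * (charDegree (χ₁ : G → ℂ) : ℤ) + kf χ₂ * (charDegree (χ₂ : G → ℂ) : ℤ) = 0 := by
    have : ((kf χ₁ * (charDegree (χ₁ : G → ℂ) : ℤ) + kf χ₂ * (charDegree (χ₂ : G → ℂ) : ℤ) : ℤ) : ℂ)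
        = ((0 : ℤ) : ℂ) := by
      push_cast
      exact hkey1
    exact_mod_cast this
  have hn1' : (0 : ℤ) < (charDegree (χ₁ : G → ℂ) : ℤ) := by
    have := Nat.pos_of_ne_zero hn1
    exact_mod_cast this
  have hn2' : (0 : ℤ) < (charDegree (χ₂ : G → ℂ) : ℤ) := by
    have := Nat.pos_of_ne_zero hn2
    exact_mod_cast this
  have hopp : kf χ₂ = -kf χ₁ := by
    rcases hk1 with h1 | h1 <;> rcases hk2 with h2 | h2 <;> rw [h1, h2] at hkey1' ⊢ <;>
      first | rfl | (exfalso; omega)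
  have heq : ∀ g : G, ¬ 2 ∣ orderOf g → (χ₁ : G → ℂ) g = (χ₂ : G → ℂ) g := by
    intro g hg
    have h := hkey g hg
    rw [hopp] at h
    have hk1c : (kf χ₁ : ℂ) ≠ 0 := by
      rcases hk1 with h1 | h1 <;> rw [h1] <;> norm_num
    apply mul_left_cancel₀ hk1c
    push_cast at h
    linear_combination h
  refine ⟨hcardB, ?_, χ₁, hB₁, χ₂, hB₂, hne, kf χ₁, kf χ₂, hk1, hk2, ?_, ?_⟩
  · intro χ hχ ψ hψ g hg
    rcases hBsub χ hχ with rfl | rfl <;> rcases hBsub ψ hψ with rfl | rfl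
    · rfl
    · exact heq g hg
    · exact (heq g hg).symm
    · rfl
  · rw [hopp]
    rcases hk1 with h1 | h1 <;> rw [h1] <;> norm_num
  · intro y hy
    exact ⟨hval χ₁ hB₁ y hy, hval χ₂ hB₂ y hy⟩

end Cfsg.Agent.Lib.Helper28
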