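import Mathlib
import Cfsg.Agent.Lib.Helper28.DefZeroClassC

set_option autoImplicit false

/-!
# Involutions inverting `p`-elements with odd centralizers (helper28)
-/

namespace Cfsg.Agent.Lib.Helper28

open scoped Pointwise

section

variable {G : Type*} [Group G] [Finite G]

theorem not_odd_centralizer_of_involution (s y : G) (hs2 : s * s = 1) (hs1 : s ≠ 1)
    (hsy : s * y = y * s) : ¬ Odd (Nat.card (Subgroup.centralizer ({y} : Set G))) := by
  intro hodd
  have hso : orderOf s = 2 := orderOf_eq_prime (by rw [pow_two]; exact hs2) hs1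
  have hmem : s ∈ Subgroup.centralizer ({y} : Set G) := by
    rw [Subgroup.mem_centralizer_iff]
    intro h hh
    rw [Set.mem_singleton_iff] at hh
    subst hh
    exact hsy.symm
  have h1 : orderOf (⟨s, hmem⟩ : Subgroup.centralizer ({y} : Set G)) ∣
      Nat.card (Subgroup.centralizer ({y} : Set G)) := orderOf_dvd_natCard _
  rw [← Subgroup.orderOf_coe, hso, ← even_iff_two_dvd] at h1
  exact (Nat.not_even_iff_odd.mpr hodd) h1

/-- an involution inverting a non-identity `p`-element `x`, where centralizers of non-identity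
`p`-elements have odd order, inverts a Sylow `p`-subgroup of `C_G(x)` containing `x` -/
theorem exists_inverted_sylow_centralizer (p : ℕ) [Fact p.Prime]
    (hodd : ∀ y : G, y ≠ 1 → (∃ k : ℕ, orderOf y = p ^ k) →
      Odd (Nat.card (Subgroup.centralizer ({y} : Set G))))
    (s x : G) (hs2 : s * s = 1) (hs1 : s ≠ 1) (hx1 : x ≠ 1)
    (hxp : ∃ k : ℕ, orderOf x = p ^ k) (hsx : s * x * s⁻¹ = x⁻¹) :
    ∃ Q : Subgroup G, x ∈ Q ∧ Q ≤ Subgroup.centralizer ({x} : Set G) ∧ IsPGroup p Q ∧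
      Nat.card Q = p ^ (Nat.card (Subgroup.centralizer ({x} : Set G))).factorization p ∧
      ∀ y ∈ Q, s * y * s⁻¹ = y⁻¹ := by
  set C : Subgroup G := Subgroup.centralizer ({x} : Set G) with hCdef
  have hx' : x = s * x⁻¹ * s⁻¹ := by
    have h1 : (s * x * s⁻¹)⁻¹ = s * x⁻¹ * s⁻¹ := by group
    rw [hsx, inv_inv] at h1
    exact h1
  have hgC : ∀ c ∈ C, s * c * s⁻¹ ∈ C := by
    intro c hc
    rw [hCdef, Subgroup.mem_centralizer_iff] at hc ⊢
    intro h hh
    rw [Set.mem_singleton_iff] at hh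
    subst hh
    have hcomm : Commute h c := hc h rfl
    have hcx : h⁻¹ * c = c * h⁻¹ := hcomm.inv_left
    calc h * (s * c * s⁻¹) = (s * h⁻¹ * s⁻¹) * (s * c * s⁻¹) := by rw [← hx']
      _ = s * (h⁻¹ * c) * s⁻¹ := by group
      _ = s * (c * h⁻¹) * s⁻¹ := by rw [hcx]
      _ = (s * c * s⁻¹) * (s * h⁻¹ * s⁻¹) := by group
      _ = (s * c * s⁻¹) * h := by rw [← hx']
  obtain ⟨Q, hQ⟩ := exists_invariant_sylow p C (hodd x hx1 hxp) s hs2 hgC
  have hxC : x ∈ C := by
    rw [hCdef, Subgroup.mem_centralizer_iff]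
    intro h hh
    rw [Set.mem_singleton_iff] at hh
    subst hh
    rfl
  have hxQ : (⟨x, hxC⟩ : C) ∈ Q := by
    apply mem_sylow_of_central Q
    · intro y
      apply Subtype.ext
      have := Subgroup.mem_centralizer_iff.mp y.2 x rfl
      exact this.symm
    · obtain ⟨k, hk⟩ := hxp
      exact ⟨k, by rw [← hk]; exact (Subgroup.orderOf_coe (⟨x, hxC⟩ : C)).symm⟩
  have hQp : IsPGroup p ((Q : Subgroup C).map C.subtype) := Q.isPGroup'.map _
  have hinvar : ∀ y ∈ (Q : Subgroup C).map C.subtype,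
      s * y * s⁻¹ ∈ (Q : Subgroup C).map C.subtype := by
    intro y hy
    obtain ⟨c, hc, rfl⟩ := Subgroup.mem_map.mp hy
    exact Subgroup.mem_map.mpr ⟨_, hQ c hc, rfl⟩
  refine ⟨(Q : Subgroup C).map C.subtype, ?_, ?_, hQp, ?_, ?_⟩
  · exact Subgroup.mem_map.mpr ⟨⟨x, hxC⟩, hxQ, rfl⟩
  · exact Subgroup.map_subtype_le _
  · rw [Subgroup.card_map_of_injective C.subtype_injective]
    exact Q.card_eq_multiplicity
  · apply inverts_of_fixedPointFree _ s hs2 hinvar
    intro y hy hfix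
    by_contra hy1
    obtain ⟨k, hk⟩ := (IsPGroup.iff_orderOf.mp hQp) ⟨y, hy⟩
    have hk' : orderOf y = p ^ k := by
      rw [← hk]
      exact Subgroup.orderOf_coe (⟨y, hy⟩ : (Q : Subgroup C).map C.subtype)
    have hsy : s * y = y * s := mul_inv_eq_iff_eq_mul.mp hfix
    exact not_odd_centralizer_of_involution s y hs2 hs1 hsy (hodd y hy1 ⟨k, hk'⟩)

end

end Cfsg.Agent.Lib.Helper28
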