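import Mathlib
import Cfsg.Prelude.Def_Blocks
import Cfsg.Agent.Lib.Helper28.DefZeroClassB
import Cfsg.Agent.Lib.Helper28.DefZeroClassD

set_option autoImplicit false

/-!
# Groups of even order in which centralizers of `p`-elements have odd order (helper28)
-/

namespace Cfsg.Agent.Lib.Helper28

open Cfsg
open scoped Pointwise

section

variable {G : Type*} [Group G] [Fintype G]

/-- a `p`-subgroup of a subgroup `C` has order at most `p ^ ν_p(|C|)` -/
theorem card_le_of_isPGroup_le {p : ℕ} [Fact p.Prime] {R C : Subgroup G} (hR : IsPGroup p R)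
    (hRC : R ≤ C) : Nat.card R ≤ p ^ (Nat.card C).factorization p := by
  have hp : p.Prime := Fact.out
  obtain ⟨m, hm⟩ := IsPGroup.iff_card.mp hR
  have h1 : Nat.card R ∣ Nat.card C := Subgroup.card_dvd_of_le hRC
  rw [hm] at h1 ⊢
  have h2 : m ≤ (Nat.card C).factorization p :=
    (hp.pow_dvd_iff_le_factorization Nat.card_pos.ne').mp h1
  exact Nat.pow_le_pow_right hp.pos h2

theorem sylow_even_normalizer_of_no_defect_zero (p : ℕ) [Fact p.Prime]
    (h2G : 2 ∣ Nat.card G)
    (hC : ∀ g : G, g ≠ 1 → (∃ k : ℕ, orderOf g = p ^ k) →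
      Odd (Nat.card (Subgroup.centralizer ({g} : Set G))))
    (hno : ∀ χ : IrrCharacter G,
      (charDegree (χ : G → ℂ)).factorization p ≠ (Nat.card G).factorization p)
    (P : Sylow p G) :
    Even (Nat.card (Subgroup.normalizer ((P : Subgroup G) : Set G))) ∧
      IsMulCommutative (P : Subgroup G) := by
  have hp : p.Prime := Fact.out
  -- an involution
  obtain ⟨t, ht⟩ := exists_prime_orderOf_dvd_card' 2 h2G
  have ht2 : t * t = 1 := by rw [← pow_two, ← ht, pow_orderOf_eq_one]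
  have ht1 : t ≠ 1 := by
    intro h
    rw [h, orderOf_one] at ht
    norm_num at ht
  have hpt : ¬ p ∣ Nat.card (Subgroup.centralizer ({t} : Set G)) := by
    intro hdvd
    obtain ⟨x, hx⟩ := exists_prime_orderOf_dvd_card' p hdvd
    have hxo : orderOf (x : G) = p := by rw [Subgroup.orderOf_coe]; exact hx
    have hx1 : (x : G) ≠ 1 := by
      intro h
      rw [h, orderOf_one] at hxo
      exact hp.one_lt.ne hxo
    have hcomm : t * (x : G) = (x : G) * t := Subgroup.mem_centralizer_iff.mp x.2 t rfl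
    exact not_odd_centralizer_of_involution t (x : G) ht2 ht1 hcomm
      (hC (x : G) hx1 ⟨1, by rw [hxo, pow_one]⟩)
  obtain ⟨g, h, hg, hh, hne, k, hk⟩ := exists_conj_pair_of_no_defect_zero p hno t hpt
  have hg2 : g * g = 1 := by
    obtain ⟨c, rfl⟩ := isConj_iff.mp hg
    have : c * t * c⁻¹ * (c * t * c⁻¹) = c * (t * t) * c⁻¹ := by group
    rw [this, ht2]; group
  have hh2 : h * h = 1 := by
    obtain ⟨c, rfl⟩ := isConj_iff.mp hh
    have : c * t * c⁻¹ * (c * t * c⁻¹) = c * (t * t) * c⁻¹ := by group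
    rw [this, ht2]; group
  have hg1 : g ≠ 1 := by
    rintro rfl
    obtain ⟨c, hc⟩ := isConj_iff.mp hg
    apply ht1
    have : t = c⁻¹ * (c * t * c⁻¹) * c := by group
    rw [this, hc]; group
  have hginv : g⁻¹ = g := inv_eq_of_mul_eq_one_right hg2
  have hhinv : h⁻¹ = h := inv_eq_of_mul_eq_one_right hh2
  set u : G := g * h⁻¹ with hu
  have hgu : g * u * g⁻¹ = u⁻¹ := by
    rw [hu, hhinv, mul_inv_rev, hginv, hhinv, ← mul_assoc, hg2, one_mul]
  -- first step
  obtain ⟨Q₁, huQ₁, hQ₁C, hQ₁p, hQ₁card, hQ₁inv⟩ :=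
    exists_inverted_sylow_centralizer p hC g u hg2 hg1 hne ⟨k, hk⟩ hgu
  obtain ⟨P₀, hP₀⟩ := hQ₁p.exists_le_sylow
  have huP₀ : u ∈ P₀ := hP₀ huQ₁
  haveI : Nontrivial (P₀ : Subgroup G) :=
    ⟨⟨⟨u, huP₀⟩, 1, fun h => hne (congrArg Subtype.val h)⟩⟩
  haveI := P₀.isPGroup'.center_nontrivial
  obtain ⟨z', hz'⟩ := exists_ne (1 : Subgroup.center (P₀ : Subgroup G))
  set z : G := ((z' : (P₀ : Subgroup G)) : G) with hz
  have hz1 : z ≠ 1 := by
    intro h
    apply hz'
    apply Subtype.ext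
    apply Subtype.ext
    exact h
  have hzP₀ : z ∈ P₀ := (z' : (P₀ : Subgroup G)).2
  have hzcomm : ∀ y ∈ P₀, y * z = z * y := by
    intro y hy
    have := Subgroup.mem_center_iff.mp z'.2 ⟨y, hy⟩
    exact congrArg Subtype.val this
  obtain ⟨kz, hkz⟩ := (IsPGroup.iff_orderOf.mp P₀.isPGroup') ⟨z, hzP₀⟩
  have hzp : orderOf z = p ^ kz := by
    rw [← hkz]
    exact Subgroup.orderOf_coe (⟨z, hzP₀⟩ : (P₀ : Subgroup G))
  -- `z ∈ Q₁`
  have hzQ₁ : z ∈ Q₁ := by
    set R : Subgroup G := Q₁ ⊔ Subgroup.zpowers z with hR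
    have hRP₀ : R ≤ P₀ := sup_le hP₀ (by rw [Subgroup.zpowers_le]; exact hzP₀)
    have hRp : IsPGroup p R := P₀.isPGroup'.to_le hRP₀
    have hRC : R ≤ Subgroup.centralizer ({u} : Set G) := by
      apply sup_le hQ₁C
      rw [Subgroup.zpowers_le, Subgroup.mem_centralizer_iff]
      intro y hy
      rw [Set.mem_singleton_iff] at hy
      subst hy
      exact hzcomm _ huP₀
    have hle := card_le_of_isPGroup_le hRp hRC
    rw [← hQ₁card] at hle
    have heq : Q₁ = R := Subgroup.eq_of_le_of_card_ge le_sup_left hle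
    rw [heq]
    exact (le_sup_right : Subgroup.zpowers z ≤ R) (Subgroup.mem_zpowers z)
  have hgz : g * z * g⁻¹ = z⁻¹ := hQ₁inv z hzQ₁
  -- second step
  obtain ⟨Q₂, hzQ₂, hQ₂C, hQ₂p, hQ₂card, hQ₂inv⟩ :=
    exists_inverted_sylow_centralizer p hC g z hg2 hg1 hz1 ⟨kz, hzp⟩ hgz
  have hP₀C : (P₀ : Subgroup G) ≤ Subgroup.centralizer ({z} : Set G) := by
    intro y hy
    rw [Subgroup.mem_centralizer_iff]
    intro w hw
    rw [Set.mem_singleton_iff] at hw
    subst hw
    exact (hzcomm y hy).symm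
  have hcardQ₂ : Nat.card Q₂ = p ^ (Nat.card G).factorization p := by
    rw [hQ₂card]
    congr 1
    apply le_antisymm
    · have h1 : Nat.card (Subgroup.centralizer ({z} : Set G)) ∣ Nat.card G :=
        Subgroup.card_subgroup_dvd_card _
      exact (Nat.factorization_le_iff_dvd Nat.card_pos.ne' Nat.card_pos.ne').mpr h1 p
    · have h1 : Nat.card (P₀ : Subgroup G) ∣ Nat.card (Subgroup.centralizer ({z} : Set G)) :=
        Subgroup.card_dvd_of_le hP₀C
      rw [P₀.card_eq_multiplicity] at h1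
      exact (hp.pow_dvd_iff_le_factorization Nat.card_pos.ne').mp h1
  set P₂ : Sylow p G := Sylow.ofCard Q₂ hcardQ₂ with hP₂
  have hP₂coe : ∀ y : G, y ∈ P₂ ↔ y ∈ Q₂ := fun y => Iff.rfl
  have hQ₂comm := comm_of_inverts Q₂ g hQ₂inv
  -- transport to `P`
  obtain ⟨c, hc⟩ := MulAction.exists_smul_eq G P₂ P
  have hmemP : ∀ x : G, x ∈ P ↔ ∃ y ∈ Q₂, c * y * c⁻¹ = x := by
    intro x
    rw [← hc]
    show x ∈ ((c • P₂ : Sylow p G) : Subgroup G) ↔ _
    rw [Sylow.coe_subgroup_smul, Subgroup.mem_pointwise_smul_iff_inv_smul_mem]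
    constructor
    · intro hx
      refine ⟨_, (hP₂coe _).mp hx, ?_⟩
      rw [MulAut.smul_def, ← map_inv, MulAut.conj_apply]
      group
    · rintro ⟨y, hy, rfl⟩
      rw [MulAut.smul_def, ← map_inv, MulAut.conj_apply]
      have : c⁻¹ * (c * y * c⁻¹) * c⁻¹⁻¹ = y := by group
      rw [this]
      exact (hP₂coe y).mpr hy
  constructor
  · -- the conjugate involution normalizes `P`
    set s : G := c * g * c⁻¹ with hs
    have hs2 : s * s = 1 := by
      have : s * s = c * (g * g) * c⁻¹ := by rw [hs]; group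
      rw [this, hg2]; group
    have hs1 : s ≠ 1 := by
      intro h
      apply hg1
      have : g = c⁻¹ * s * c := by rw [hs]; group
      rw [this, h]; group
    have hsinv : s⁻¹ = s := inv_eq_of_mul_eq_one_right hs2
    have hsP : ∀ x ∈ P, s * x * s⁻¹ ∈ P := by
      intro x hx
      obtain ⟨y, hy, rfl⟩ := (hmemP x).mp hx
      rw [hmemP]
      refine ⟨y⁻¹, Q₂.inv_mem hy, ?_⟩
      rw [← hQ₂inv y hy, hs]
      group
    have hsN : s ∈ Subgroup.normalizer ((P : Subgroup G) : Set G) := by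
      rw [Subgroup.mem_normalizer_iff]
      intro x
      constructor
      · exact hsP x
      · intro hx
        have h1 := hsP _ hx
        have h2 : s * (s * x * s⁻¹) * s⁻¹ = x := by
          have : s * (s * x * s⁻¹) * s⁻¹ = (s * s) * x * (s * s)⁻¹ := by group
          rw [this, hs2]; group
        rw [h2] at h1
        exact h1
    have hso : orderOf s = 2 := orderOf_eq_prime (by rw [pow_two]; exact hs2) hs1
    have h1 : orderOf (⟨s, hsN⟩ : Subgroup.normalizer ((P : Subgroup G) : Set G)) ∣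
        Nat.card (Subgroup.normalizer ((P : Subgroup G) : Set G)) := orderOf_dvd_natCard _
    rw [← Subgroup.orderOf_coe, hso] at h1
    exact even_iff_two_dvd.mpr h1
  · refine ⟨⟨fun a b => ?_⟩⟩
    apply Subtype.ext
    obtain ⟨y, hy, hya⟩ := (hmemP a).mp a.2
    obtain ⟨y', hy', hyb⟩ := (hmemP b).mp b.2
    show (a : G) * (b : G) = (b : G) * (a : G)
    rw [← hya, ← hyb]
    have h1 : c * y * c⁻¹ * (c * y' * c⁻¹) = c * (y * y') * c⁻¹ := by group
    have h2 : c * y' * c⁻¹ * (c * y * c⁻¹) = c * (y' * y) * c⁻¹ := by group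
    rw [h1, h2, hQ₂comm y hy y' hy']

end

end Cfsg.Agent.Lib.Helper28
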