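import Mathlib
import Cfsg.Prelude.Def_Local

set_option autoImplicit false

/-!
# A normal subgroup of a `p`-solvable group divisible by exactly one of two primes (helper28)
-/

namespace Cfsg.Agent.Lib.Helper28

open Cfsg

theorem exists_normal_of_isPSolvable {G : Type*} [Group G] [Finite G] {p q : ℕ} (hp : p.Prime)
    (hq : q.Prime) (hpq : p ≠ q) (hpG : p ∣ Nat.card G) (hs : IsPSolvable p G) :
    ∃ U : Subgroup G, U.Normal ∧ ((p ∣ Nat.card U ∧ ¬ q ∣ Nat.card U) ∨
      (q ∣ Nat.card U ∧ ¬ p ∣ Nat.card U)) := by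
  obtain ⟨n, H, h0, hlast, hmono, hnorm, hstep⟩ := hs
  have key : ∀ k (hk : k < n + 1),
      (∃ U : Subgroup G, U.Normal ∧ ((p ∣ Nat.card U ∧ ¬ q ∣ Nat.card U) ∨
        (q ∣ Nat.card U ∧ ¬ p ∣ Nat.card U))) ∨
      (¬ p ∣ Nat.card (H ⟨k, hk⟩) ∧ ¬ q ∣ Nat.card (H ⟨k, hk⟩)) := by
    intro k
    induction k with
    | zero =>
      intro hk
      right
      have : H ⟨0, hk⟩ = ⊥ := h0
      rw [this, Subgroup.card_bot]
      exact ⟨hp.one_lt.ne' ∘ Nat.dvd_one.mp, hq.one_lt.ne' ∘ Nat.dvd_one.mp⟩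
    | succ k ih =>
      intro hk
      rcases ih (by omega) with h | ⟨h1, h2⟩
      · exact Or.inl h
      · have hkn : k < n := by omega
        have hle : H ⟨k, by omega⟩ ≤ H ⟨k + 1, hk⟩ := hmono (by
          rw [Fin.le_def]; simp)
        have hcard : Nat.card (H ⟨k, by omega⟩) *
            (H ⟨k, by omega⟩).relIndex (H ⟨k + 1, hk⟩) = Nat.card (H ⟨k + 1, hk⟩) := by
          have := Subgroup.relIndex_mul_relIndex ⊥ (H ⟨k, by omega⟩) (H ⟨k + 1, hk⟩) bot_le hle
          rw [Subgroup.relIndex_bot_left, Subgroup.relIndex_bot_left] at this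
          exact this
        have hst := hstep ⟨k, hkn⟩
        have e1 : (⟨k, hkn⟩ : Fin n).castSucc = ⟨k, by omega⟩ := rfl
        have e2 : (⟨k, hkn⟩ : Fin n).succ = ⟨k + 1, hk⟩ := rfl
        rw [e1, e2] at hst
        by_cases hpd : p ∣ Nat.card (H ⟨k + 1, hk⟩)
        · left
          refine ⟨H ⟨k + 1, hk⟩, hnorm _, Or.inl ⟨hpd, ?_⟩⟩
          intro hqd
          rcases hst with ⟨m, hm⟩ | hcop
          · rw [← hcard, hm] at hqd
            rcases (Nat.Prime.dvd_mul hq).mp hqd with h | h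
            · exact h2 h
            · exact hpq ((Nat.prime_dvd_prime_iff_eq hq hp).mp (hq.dvd_of_dvd_pow h)).symm
          · rw [← hcard] at hpd
            rcases (Nat.Prime.dvd_mul hp).mp hpd with h | h
            · exact h1 h
            · exact (Nat.Prime.coprime_iff_not_dvd hp).mp hcop.symm h
        · by_cases hqd : q ∣ Nat.card (H ⟨k + 1, hk⟩)
          · left
            exact ⟨H ⟨k + 1, hk⟩, hnorm _, Or.inr ⟨hqd, hpd⟩⟩
          · right
            exact ⟨hpd, hqd⟩
  rcases key n (by omega) with h | ⟨h1, _⟩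
  · exact h
  · exfalso
    apply h1
    have : H ⟨n, by omega⟩ = ⊤ := hlast
    rw [this, Subgroup.card_top]
    exact hpG

end Cfsg.Agent.Lib.Helper28
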