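import Mathlib
import Cfsg.Prelude.Def_Blocks
import Cfsg.Agent.Lib.Helper28.DefZeroClassE

set_option autoImplicit false

/-!
# Conjugacy of involutions when centralizers of `p`-elements have odd order (helper28)
-/

namespace Cfsg.Agent.Lib.Helper28

open Cfsg
open scoped Pointwise

section

variable {G : Type*} [Group G]

/-- two involutions whose product has odd order are conjugate -/
theorem isConj_of_odd_orderOf_mul (s t : G) (hs2 : s * s = 1) (ht2 : t * t = 1)
    (hodd : Odd (orderOf (s * t))) : IsConj s t := by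
  obtain ⟨k, hk⟩ := hodd
  set r : G := s * t with hr
  have hsinv : s⁻¹ = s := inv_eq_of_mul_eq_one_right hs2
  have htinv : t⁻¹ = t := inv_eq_of_mul_eq_one_right ht2
  have hsr : s * r * s = r⁻¹ := by
    rw [hr, mul_inv_rev, hsinv, htinv, ← mul_assoc, hs2, one_mul]
  have hpow : ∀ j : ℕ, r ^ j * s = s * (r⁻¹) ^ j := by
    intro j
    induction j with
    | zero => simp
    | succ i ih =>
      rw [pow_succ, mul_assoc, pow_succ]
      have : r * s = s * r⁻¹ := by
        rw [← hsr]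
        have : s * (s * r * s) = (s * s) * r * s := by group
        rw [this, hs2, one_mul]
      rw [this, ← mul_assoc, ih, mul_assoc]
  have hrn : r ^ (2 * k + 1) = 1 := by rw [← hk]; exact pow_orderOf_eq_one r
  rw [isConj_iff]
  refine ⟨r ^ k, ?_⟩
  have h1 : r ^ k * s * (r ^ k)⁻¹ = s * ((r ^ k)⁻¹ * (r ^ k)⁻¹) := by
    rw [hpow k, inv_pow, mul_assoc]
  have h2 : (r ^ k)⁻¹ * (r ^ k)⁻¹ = r := by
    have h3 : r * (r ^ k * r ^ k) = 1 := by
      rw [← pow_add, ← pow_succ', ← hrn]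
      congr 1
      ring
    rw [← mul_inv_rev]
    exact inv_eq_of_mul_eq_one_left h3
  rw [h1, h2, hr, ← mul_assoc, hs2, one_mul]

end

section

variable {G : Type*} [Group G] [Fintype G]

theorem exists_conj_inverting_sylow (p : ℕ) [Fact p.Prime]
    (hC : ∀ g : G, g ≠ 1 → (∃ k : ℕ, orderOf g = p ^ k) →
      Odd (Nat.card (Subgroup.centralizer ({g} : Set G))))
    (hno : ∀ χ : IrrCharacter G,
      (charDegree (χ : G → ℂ)).factorization p ≠ (Nat.card G).factorization p)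
    (t : G) (ht : orderOf t = 2) (P : Sylow p G) :
    ∃ s : G, IsConj t s ∧ ∀ x ∈ P, s * x * s⁻¹ = x⁻¹ := by
  have hp : p.Prime := Fact.out
  have ht2 : t * t = 1 := by rw [← pow_two, ← ht, pow_orderOf_eq_one]
  have ht1 : t ≠ 1 := by
    intro h
    rw [h, orderOf_one] at ht
    norm_num at ht
  have hpt : ¬ p ∣ Nat.card (Subgroup.centralizer ({t} : Set G)) := by
    intro hdvd
    obtain ⟨x, hx⟩ := exists_prime_orderOf_dvd_card' p hdvd
    have hxo : orderOf (x : G) = p := by rw [Subgroup.orderOf_coe]; exact hx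
    have hx1 : (x : G) ≠ 1 := by
      intro h
      rw [h, orderOf_one] at hxo
      exact hp.one_lt.ne hxo
    have hcomm : t * (x : G) = (x : G) * t := Subgroup.mem_centralizer_iff.mp x.2 t rfl
    exact not_odd_centralizer_of_involution t (x : G) ht2 ht1 hcomm
      (hC (x : G) hx1 ⟨1, by rw [hxo, pow_one]⟩)
  obtain ⟨g, h, hg, hh, hne, k, hk⟩ := exists_conj_pair_of_no_defect_zero p hno t hpt
  have hg2 : g * g = 1 := by
    obtain ⟨c, rfl⟩ := isConj_iff.mp hg
    have : c * t * c⁻¹ * (c * t * c⁻¹) = c * (t * t) * c⁻¹ := by group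
    rw [this, ht2]; group
  have hh2 : h * h = 1 := by
    obtain ⟨c, rfl⟩ := isConj_iff.mp hh
    have : c * t * c⁻¹ * (c * t * c⁻¹) = c * (t * t) * c⁻¹ := by group
    rw [this, ht2]; group
  have hg1 : g ≠ 1 := by
    rintro rfl
    obtain ⟨c, hc⟩ := isConj_iff.mp hg
    apply ht1
    have : t = c⁻¹ * (c * t * c⁻¹) * c := by group
    rw [this, hc]; group
  have hginv : g⁻¹ = g := inv_eq_of_mul_eq_one_right hg2
  have hhinv : h⁻¹ = h := inv_eq_of_mul_eq_one_right hh2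
  set u : G := g * h⁻¹ with hu
  have hgu : g * u * g⁻¹ = u⁻¹ := by
    rw [hu, hhinv, mul_inv_rev, hginv, hhinv, ← mul_assoc, hg2, one_mul]
  -- first step
  obtain ⟨Q₁, huQ₁, hQ₁C, hQ₁p, hQ₁card, hQ₁inv⟩ :=
    exists_inverted_sylow_centralizer p hC g u hg2 hg1 hne ⟨k, hk⟩ hgu
  obtain ⟨P₀, hP₀⟩ := hQ₁p.exists_le_sylow
  have huP₀ : u ∈ P₀ := hP₀ huQ₁
  have : Nontrivial (P₀ : Subgroup G) :=
    ⟨⟨⟨u, huP₀⟩, 1, fun h => hne (congrArg Subtype.val h)⟩⟩
  have := P₀.isPGroup'.center_nontrivial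
  obtain ⟨z', hz'⟩ := exists_ne (1 : Subgroup.center (P₀ : Subgroup G))
  set z : G := ((z' : (P₀ : Subgroup G)) : G) with hz
  have hz1 : z ≠ 1 := by
    intro h
    apply hz'
    apply Subtype.ext
    apply Subtype.ext
    exact h
  have hzP₀ : z ∈ P₀ := (z' : (P₀ : Subgroup G)).2
  have hzcomm : ∀ y ∈ P₀, y * z = z * y := by
    intro y hy
    have := Subgroup.mem_center_iff.mp z'.2 ⟨y, hy⟩
    exact congrArg Subtype.val this
  obtain ⟨kz, hkz⟩ := (IsPGroup.iff_orderOf.mp P₀.isPGroup') ⟨z, hzP₀⟩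
  have hzp : orderOf z = p ^ kz := by
    rw [← hkz]
    exact Subgroup.orderOf_coe (⟨z, hzP₀⟩ : (P₀ : Subgroup G))
  -- `z ∈ Q₁`
  have hzQ₁ : z ∈ Q₁ := by
    set R : Subgroup G := Q₁ ⊔ Subgroup.zpowers z with hR
    have hRP₀ : R ≤ P₀ := sup_le hP₀ (by rw [Subgroup.zpowers_le]; exact hzP₀)
    have hRp : IsPGroup p R := P₀.isPGroup'.to_le hRP₀
    have hRC : R ≤ Subgroup.centralizer ({u} : Set G) := by
      apply sup_le hQ₁C
      rw [Subgroup.zpowers_le, Subgroup.mem_centralizer_iff]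
      intro y hy
      rw [Set.mem_singleton_iff] at hy
      subst hy
      exact hzcomm _ huP₀
    have hle := card_le_of_isPGroup_le hRp hRC
    rw [← hQ₁card] at hle
    have heq : Q₁ = R := Subgroup.eq_of_le_of_card_ge le_sup_left hle
    rw [heq]
    exact (le_sup_right : Subgroup.zpowers z ≤ R) (Subgroup.mem_zpowers z)
  have hgz : g * z * g⁻¹ = z⁻¹ := hQ₁inv z hzQ₁
  -- second step
  obtain ⟨Q₂, hzQ₂, hQ₂C, hQ₂p, hQ₂card, hQ₂inv⟩ :=
    exists_inverted_sylow_centralizer p hC g z hg2 hg1 hz1 ⟨kz, hzp⟩ hgz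
  have hP₀C : (P₀ : Subgroup G) ≤ Subgroup.centralizer ({z} : Set G) := by
    intro y hy
    rw [Subgroup.mem_centralizer_iff]
    intro w hw
    rw [Set.mem_singleton_iff] at hw
    subst hw
    exact (hzcomm y hy).symm
  have hcardQ₂ : Nat.card Q₂ = p ^ (Nat.card G).factorization p := by
    rw [hQ₂card]
    congr 1
    apply le_antisymm
    · have h1 : Nat.card (Subgroup.centralizer ({z} : Set G)) ∣ Nat.card G :=
        Subgroup.card_subgroup_dvd_card _
      exact (Nat.factorization_le_iff_dvd Nat.card_pos.ne' Nat.card_pos.ne').mpr h1 p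
    · have h1 : Nat.card (P₀ : Subgroup G) ∣ Nat.card (Subgroup.centralizer ({z} : Set G)) :=
        Subgroup.card_dvd_of_le hP₀C
      rw [P₀.card_eq_multiplicity] at h1
      exact (hp.pow_dvd_iff_le_factorization Nat.card_pos.ne').mp h1
  set P₂ : Sylow p G := Sylow.ofCard Q₂ hcardQ₂ with hP₂
  have hP₂coe : ∀ y : G, y ∈ P₂ ↔ y ∈ Q₂ := fun y => Iff.rfl
  have hQ₂comm := comm_of_inverts Q₂ g hQ₂inv
  -- transport to `P`
  obtain ⟨c, hc⟩ := MulAction.exists_smul_eq G P₂ P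
  have hmemP : ∀ x : G, x ∈ P ↔ ∃ y ∈ Q₂, c * y * c⁻¹ = x := by
    intro x
    rw [← hc]
    show x ∈ ((c • P₂ : Sylow p G) : Subgroup G) ↔ _
    rw [Sylow.coe_subgroup_smul, Subgroup.mem_pointwise_smul_iff_inv_smul_mem]
    constructor
    · intro hx
      refine ⟨_, (hP₂coe _).mp hx, ?_⟩
      rw [MulAut.smul_def, ← map_inv, MulAut.conj_apply]
      group
    · rintro ⟨y, hy, rfl⟩
      rw [MulAut.smul_def, ← map_inv, MulAut.conj_apply]
      have : c⁻¹ * (c * y * c⁻¹) * c⁻¹⁻¹ = y := by group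
      rw [this]
      exact (hP₂coe y).mpr hy
  refine ⟨c * g * c⁻¹, hg.trans (isConj_iff.mpr ⟨c, rfl⟩), ?_⟩
  intro x hx
  obtain ⟨y, hy, rfl⟩ := (hmemP x).mp hx
  have := hQ₂inv y hy
  have h1 : c * g * c⁻¹ * (c * y * c⁻¹) * (c * g * c⁻¹)⁻¹ = c * (g * y * g⁻¹) * c⁻¹ := by group
  rw [h1, this]
  group

end

end Cfsg.Agent.Lib.Helper28
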