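import Mathlib
import Cfsg.Prelude.Def_Blocks
import Cfsg.Agent.Lib.Helper28.DefZeroClassG

set_option autoImplicit false

/-!
# All involutions are conjugate (helper28)
-/

namespace Cfsg.Agent.Lib.Helper28

open Cfsg

section

variable {G : Type*} [Group G] [Fintype G]

theorem mul_self_eq_one_of_isConj {s s' : G} (h : IsConj s s') (hs : s * s = 1) : s' * s' = 1 := by
  obtain ⟨c, rfl⟩ := isConj_iff.mp h
  have : c * s * c⁻¹ * (c * s * c⁻¹) = c * (s * s) * c⁻¹ := by group
  rw [this, hs]; group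

theorem involutions_conj_of_no_defect_zero (p : ℕ) [Fact p.Prime] (hpG : p ∣ Nat.card G)
    (hC : ∀ g : G, g ≠ 1 → (∃ k : ℕ, orderOf g = p ^ k) →
      Odd (Nat.card (Subgroup.centralizer ({g} : Set G))))
    (hno : ∀ χ : IrrCharacter G,
      (charDegree (χ : G → ℂ)).factorization p ≠ (Nat.card G).factorization p)
    (s t : G) (hs : orderOf s = 2) (ht : orderOf t = 2) : IsConj s t := by
  have hp : p.Prime := Fact.out
  obtain ⟨P⟩ : Nonempty (Sylow p G) := inferInstance
  obtain ⟨s', hss', hs'inv⟩ := exists_conj_inverting_sylow p hC hno s hs P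
  obtain ⟨t', htt', ht'inv⟩ := exists_conj_inverting_sylow p hC hno t ht P
  have hs2 : s * s = 1 := by rw [← pow_two, ← hs, pow_orderOf_eq_one]
  have ht2 : t * t = 1 := by rw [← pow_two, ← ht, pow_orderOf_eq_one]
  have hs'2 := mul_self_eq_one_of_isConj hss' hs2
  have ht'2 := mul_self_eq_one_of_isConj htt' ht2
  -- an element of order `p` in `P`
  have hpP : p ∣ Nat.card (P : Subgroup G) := by
    rw [P.card_eq_multiplicity]
    exact dvd_pow_self p (Nat.Prime.factorization_pos_of_dvd hp Nat.card_pos.ne' hpG).ne'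
  obtain ⟨x, hx⟩ := exists_prime_orderOf_dvd_card' p hpP
  have hxo : orderOf (x : G) = p := by rw [Subgroup.orderOf_coe]; exact hx
  have hx1 : (x : G) ≠ 1 := by
    intro h
    rw [h, orderOf_one] at hxo
    exact hp.one_lt.ne hxo
  have hcomm : s' * t' ∈ Subgroup.centralizer ({(x : G)} : Set G) := by
    rw [Subgroup.mem_centralizer_iff]
    intro y hy
    rw [Set.mem_singleton_iff] at hy
    subst hy
    have h1 : t' * (x : G) * t'⁻¹ = (x : G)⁻¹ := ht'inv x x.2
    have h2 : s' * (x : G)⁻¹ * s'⁻¹ = ((x : G)⁻¹)⁻¹ :=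
      hs'inv _ ((P : Subgroup G).inv_mem x.2)
    rw [inv_inv] at h2
    have h3 : s' * t' * (x : G) * (s' * t')⁻¹ = (x : G) := by
      have : s' * t' * (x : G) * (s' * t')⁻¹ = s' * (t' * (x : G) * t'⁻¹) * s'⁻¹ := by group
      rw [this, h1, h2]
    have h4 := mul_inv_eq_iff_eq_mul.mp h3
    exact h4.symm
  have hodd : Odd (orderOf (s' * t')) := by
    have h1 : orderOf (⟨s' * t', hcomm⟩ : Subgroup.centralizer ({(x : G)} : Set G)) ∣
        Nat.card (Subgroup.centralizer ({(x : G)} : Set G)) := orderOf_dvd_natCard _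
    rw [← Subgroup.orderOf_coe] at h1
    exact Odd.of_dvd_nat (hC (x : G) hx1 ⟨1, by rw [hxo, pow_one]⟩) h1
  exact hss'.trans ((isConj_of_odd_orderOf_mul s' t' hs'2 ht'2 hodd).trans htt'.symm)

end

end Cfsg.Agent.Lib.Helper28
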