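import Mathlib
import Cfsg.Prelude
import Cfsg.Agent.Lib.Helper7.InvAboveF

set_option autoImplicit false

/-!
# The Frobenius–Schur indicator of an irreducible character is `0`, `1` or `-1` (helper28)

Proof through invariant bilinear forms (matrices `X` with `R(h)ᵀ X R(h) = X`).
-/

namespace Cfsg.Agent.Lib.Helper28

open Cfsg Cfsg.Agent.Lib.Helper7 Cfsg.Agent.Lib.Helper7.InvAbove
open scoped ComplexConjugate Classical Matrix

section FS

variable {G : Type*} [Group G] [Fintype G] {n : ℕ} (ρ : Representation ℂ G (Fin n → ℂ))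

/-- averaging of bilinear forms -/
noncomputable def avgForm (X : Matrix (Fin n) (Fin n) ℂ) : Matrix (Fin n) (Fin n) ℂ :=
  ((Fintype.card G : ℂ))⁻¹ • ∑ g : G, (rmat ρ g)ᵀ * X * rmat ρ g

/-- invariant bilinear forms -/
def IsInvForm (X : Matrix (Fin n) (Fin n) ℂ) : Prop :=
  ∀ h : G, (rmat ρ h)ᵀ * X * rmat ρ h = X

theorem isInvForm_avgForm (X : Matrix (Fin n) (Fin n) ℂ) : IsInvForm ρ (avgForm ρ X) := by
  intro h
  unfold avgForm
  rw [Matrix.mul_smul, Matrix.smul_mul, Matrix.mul_sum, Matrix.sum_mul]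
  congr 1
  rw [← Equiv.sum_comp (Equiv.mulRight h) (fun g => (rmat ρ g)ᵀ * X * rmat ρ g)]
  refine Finset.sum_congr rfl fun g _ => ?_
  show _ = (rmat ρ (g * h))ᵀ * X * rmat ρ (g * h)
  rw [rmat_mul, Matrix.transpose_mul]
  simp only [Matrix.mul_assoc]

theorem avgForm_of_inv {X : Matrix (Fin n) (Fin n) ℂ} (hX : IsInvForm ρ X) :
    avgForm ρ X = X := by
  unfold avgForm
  rw [Finset.sum_congr rfl (fun g _ => hX g), Finset.sum_const, Finset.card_univ,
    ← Nat.cast_smul_eq_nsmul ℂ, smul_smul]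
  have : (Fintype.card G : ℂ) ≠ 0 := by exact_mod_cast Fintype.card_ne_zero
  rw [inv_mul_cancel₀ this, one_smul]

theorem IsInvForm.transpose {X : Matrix (Fin n) (Fin n) ℂ} (hX : IsInvForm ρ X) :
    IsInvForm ρ Xᵀ := by
  intro h
  have := congrArg Matrix.transpose (hX h)
  rw [Matrix.transpose_mul, Matrix.transpose_mul, Matrix.transpose_transpose] at this
  rw [Matrix.mul_assoc]
  exact this

theorem avgForm_sum {ι : Type*} (s : Finset ι) (c : ι → ℂ)
    (X : ι → Matrix (Fin n) (Fin n) ℂ) :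
    avgForm ρ (∑ i ∈ s, c i • X i) = ∑ i ∈ s, c i • avgForm ρ (X i) := by
  unfold avgForm
  simp only [Matrix.mul_sum, Matrix.sum_mul, Matrix.mul_smul, Matrix.smul_mul]
  rw [Finset.sum_comm, Finset.smul_sum]
  refine Finset.sum_congr rfl fun i _ => ?_
  rw [← Finset.smul_sum, smul_comm]

theorem mul_rmat_of_inv {Y : Matrix (Fin n) (Fin n) ℂ} (hY : IsInvForm ρ Y) (g : G) :
    Y * rmat ρ g = (rmat ρ g⁻¹)ᵀ * Y := by
  have h1 : (rmat ρ g⁻¹)ᵀ * (rmat ρ g)ᵀ = 1 := by
    rw [← Matrix.transpose_mul, ← rmat_mul, mul_inv_cancel, rmat_one, Matrix.transpose_one]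
  calc Y * rmat ρ g = ((rmat ρ g⁻¹)ᵀ * (rmat ρ g)ᵀ) * Y * rmat ρ g := by
        rw [h1, Matrix.one_mul]
    _ = (rmat ρ g⁻¹)ᵀ * ((rmat ρ g)ᵀ * Y * rmat ρ g) := by
        simp only [Matrix.mul_assoc]
    _ = (rmat ρ g⁻¹)ᵀ * Y := by rw [hY g]

theorem isUnit_of_inv (hirr : ρ.IsIrreducible) {Y : Matrix (Fin n) (Fin n) ℂ}
    (hY : IsInvForm ρ Y) (hY0 : Y ≠ 0) : IsUnit Y := by
  let W : Subrepresentation ρ :=
    { toSubmodule := LinearMap.ker (Matrix.toLin' Y)
      apply_mem_toSubmodule := by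
        intro g v hv
        rw [LinearMap.mem_ker] at hv ⊢
        have h1 := mul_rmat_of_inv ρ hY g
        have h2 : Matrix.toLin' Y (ρ g v) =
            Matrix.toLin' ((rmat ρ g⁻¹)ᵀ) (Matrix.toLin' Y v) := by
          rw [← toLin'_rmat ρ g, ← LinearMap.comp_apply, ← Matrix.toLin'_mul, h1,
            Matrix.toLin'_mul]
          rfl
        rw [h2, hv, map_zero] }
  rcases hirr.eq_bot_or_eq_top W with h | h
  · have hker : LinearMap.ker (Matrix.toLin' Y) = ⊥ := by
      have := congrArg Subrepresentation.toSubmodule h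
      exact this
    have hinj : Function.Injective (Matrix.toLin' Y) := LinearMap.ker_eq_bot.mp hker
    apply Matrix.mulVec_injective_iff_isUnit.mp
    intro v w hvw
    apply hinj
    rw [Matrix.toLin'_apply, Matrix.toLin'_apply]
    exact hvw
  · exfalso
    apply hY0
    have hker : LinearMap.ker (Matrix.toLin' Y) = ⊤ := by
      have := congrArg Subrepresentation.toSubmodule h
      exact this
    have h0 : Matrix.toLin' Y = 0 := LinearMap.ker_eq_top.mp hker
    have := congrArg LinearMap.toMatrix' h0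
    rwa [LinearMap.toMatrix'_toLin', map_zero] at this

theorem inv_eq_smul (hirr : ρ.IsIrreducible) {Y X : Matrix (Fin n) (Fin n) ℂ}
    (hY : IsInvForm ρ Y) (hY0 : Y ≠ 0) (hX : IsInvForm ρ X) : ∃ c : ℂ, X = c • Y := by
  have hu := isUnit_of_inv ρ hirr hY hY0
  have hdet : IsUnit Y.det := (Matrix.isUnit_iff_isUnit_det Y).mp hu
  have hYY : Y * Y⁻¹ = 1 := Matrix.mul_nonsing_inv Y hdet
  have hYY' : Y⁻¹ * Y = 1 := Matrix.nonsing_inv_mul Y hdet
  have hcomm : ∀ m : G, (Y⁻¹ * X) * rmat ρ m = rmat ρ m * (Y⁻¹ * X) := by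
    intro m
    have h1 := mul_rmat_of_inv ρ hY m
    have h2 := mul_rmat_of_inv ρ hX m
    have h3 : rmat ρ m * Y⁻¹ = Y⁻¹ * (rmat ρ m⁻¹)ᵀ := by
      calc rmat ρ m * Y⁻¹ = Y⁻¹ * (Y * rmat ρ m) * Y⁻¹ := by
            rw [← Matrix.mul_assoc, hYY', Matrix.one_mul]
        _ = Y⁻¹ * ((rmat ρ m⁻¹)ᵀ * Y) * Y⁻¹ := by rw [h1]
        _ = Y⁻¹ * (rmat ρ m⁻¹)ᵀ := by
            rw [Matrix.mul_assoc, Matrix.mul_assoc, hYY, Matrix.mul_one]
    rw [Matrix.mul_assoc, h2, ← Matrix.mul_assoc, ← h3, Matrix.mul_assoc]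
  obtain ⟨c, hc⟩ := schur_matrix ρ hirr (Y⁻¹ * X) hcomm
  refine ⟨c, ?_⟩
  calc X = Y * (Y⁻¹ * X) := by rw [← Matrix.mul_assoc, hYY, Matrix.one_mul]
    _ = Y * (c • (1 : Matrix (Fin n) (Fin n) ℂ)) := by rw [hc]
    _ = c • Y := by rw [Matrix.mul_smul, Matrix.mul_one]

theorem transpose_single_mul_apply (A : Matrix (Fin n) (Fin n) ℂ) (a b j l : Fin n) :
    (Aᵀ * Matrix.single a b (1 : ℂ) * A) j l = A a j * A b l := by
  rw [Matrix.mul_apply, Finset.sum_eq_single b]
  · rw [Matrix.mul_single_apply_same (1 : ℂ) a b j Aᵀ, Matrix.transpose_apply, mul_one]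
  · intro t _ htb
    rw [Matrix.mul_single_apply_of_ne (1 : ℂ) a b j t htb Aᵀ, zero_mul]
  · intro h
    exact absurd (Finset.mem_univ _) h

theorem avgForm_single_apply (a b j l : Fin n) :
    avgForm ρ (Matrix.single a b (1 : ℂ)) j l =
      ((Fintype.card G : ℂ))⁻¹ * ∑ g : G, rmat ρ g a j * rmat ρ g b l := by
  unfold avgForm
  rw [Matrix.smul_apply, Matrix.sum_apply, smul_eq_mul]
  congr 1
  refine Finset.sum_congr rfl fun g _ => ?_
  exact transpose_single_mul_apply (rmat ρ g) a b j l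

/-- the indicator as a sum of entries of averaged elementary forms -/
theorem indicator_eq_sum_avg :
    ((Fintype.card G : ℂ))⁻¹ * ∑ g : G, ρ.character (g * g) =
      ∑ a : Fin n, ∑ j : Fin n, avgForm ρ (Matrix.single a j (1 : ℂ)) j a := by
  simp only [avgForm_single_apply]
  simp only [← Finset.mul_sum]
  congr 1
  rw [Finset.sum_congr rfl (fun a _ => Finset.sum_comm)]
  rw [Finset.sum_comm]
  refine Finset.sum_congr rfl fun g _ => ?_
  rw [character_eq_trace_rmat, rmat_mul, Matrix.trace]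
  refine Finset.sum_congr rfl fun a _ => ?_
  rw [Matrix.diag_apply, Matrix.mul_apply]

/-- **Frobenius–Schur**: the indicator of an irreducible character is `0`, `1` or `-1` -/
theorem fs_indicator_trichotomy (hirr : ρ.IsIrreducible) :
    ((Fintype.card G : ℂ))⁻¹ * ∑ g : G, ρ.character (g * g) = 0 ∨
    ((Fintype.card G : ℂ))⁻¹ * ∑ g : G, ρ.character (g * g) = 1 ∨
    ((Fintype.card G : ℂ))⁻¹ * ∑ g : G, ρ.character (g * g) = -1 := by
  rw [indicator_eq_sum_avg]
  by_cases hall : ∀ a b : Fin n, avgForm ρ (Matrix.single a b (1 : ℂ)) = 0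
  · left
    apply Finset.sum_eq_zero
    intro a _
    apply Finset.sum_eq_zero
    intro j _
    rw [hall a j]
    rfl
  · right
    push Not at hall
    obtain ⟨a₀, b₀, hY0⟩ := hall
    obtain ⟨Y, hYdef⟩ : ∃ Y, Y = avgForm ρ (Matrix.single a₀ b₀ (1 : ℂ)) := ⟨_, rfl⟩
    rw [← hYdef] at hY0
    have hY : IsInvForm ρ Y := hYdef ▸ isInvForm_avgForm ρ _
    obtain ⟨c, hc⟩ := inv_eq_smul ρ hirr hY hY0 hY.transpose
    have hc2 : c * c = 1 := by
      have h1 : Y = (c * c) • Y := by
        have := congrArg Matrix.transpose hc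
        rw [Matrix.transpose_transpose, Matrix.transpose_smul, hc, smul_smul] at this
        exact this
      by_contra hne
      apply hY0
      have h2 : (1 - c * c) • Y = 0 := by
        rw [sub_smul, one_smul, ← h1, sub_self]
      rcases smul_eq_zero.mp h2 with h | h
      · exact absurd (sub_eq_zero.mp h).symm hne
      · exact h
    have hcoef : ∀ a b : Fin n, ∃ k : ℂ, avgForm ρ (Matrix.single a b (1 : ℂ)) = k • Y :=
      fun a b => inv_eq_smul ρ hirr hY hY0 (isInvForm_avgForm ρ _)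
    choose k hk using hcoef
    -- `∑ Y a b * k a b = 1`
    have hsum : ∑ a : Fin n, ∑ b : Fin n, Y a b * k a b = 1 := by
      have h1 : Y = ∑ p : Fin n × Fin n, Y p.1 p.2 • Matrix.single p.1 p.2 (1 : ℂ) := by
        conv_lhs => rw [Matrix.matrix_eq_sum_single Y]
        rw [Fintype.sum_prod_type]
        refine Finset.sum_congr rfl fun a _ => Finset.sum_congr rfl fun b _ => ?_
        rw [Matrix.smul_single, smul_eq_mul, mul_one]
      have h2 := avgForm_of_inv ρ hY
      rw [h1, avgForm_sum] at h2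
      rw [← h1] at h2
      have h3 : (∑ p : Fin n × Fin n, (Y p.1 p.2 * k p.1 p.2)) • Y = (1 : ℂ) • Y := by
        rw [one_smul, Finset.sum_smul]
        refine Eq.trans ?_ h2
        refine Finset.sum_congr rfl fun p _ => ?_
        rw [hk, smul_smul]
      have h4 : (∑ p : Fin n × Fin n, (Y p.1 p.2 * k p.1 p.2)) = 1 := by
        by_contra hne
        apply hY0
        have h5 : ((∑ p : Fin n × Fin n, (Y p.1 p.2 * k p.1 p.2)) - 1) • Y = 0 := by
          rw [sub_smul, h3, sub_self]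
        rcases smul_eq_zero.mp h5 with h | h
        · exact absurd (sub_eq_zero.mp h) hne
        · exact h
      rw [← h4, Fintype.sum_prod_type]
    have hval : ∑ a : Fin n, ∑ j : Fin n, avgForm ρ (Matrix.single a j (1 : ℂ)) j a = c := by
      have h1 : ∀ a j : Fin n, avgForm ρ (Matrix.single a j (1 : ℂ)) j a =
          c * (Y a j * k a j) := by
        intro a j
        rw [hk a j, Matrix.smul_apply, smul_eq_mul]
        have h2 : Y j a = c * Y a j := by
          have := congrFun (congrFun hc a) j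
          rw [Matrix.transpose_apply, Matrix.smul_apply, smul_eq_mul] at this
          exact this
        rw [h2]
        ring
      simp only [h1]
      simp only [← Finset.mul_sum]
      rw [hsum, mul_one]
    rw [hval]
    have : (c - 1) * (c + 1) = 0 := by ring_nf; rw [← sub_eq_zero] at hc2; ring_nf at hc2; linear_combination hc2
    rcases mul_eq_zero.mp this with h | h
    · left; exact sub_eq_zero.mp h
    · right; exact eq_neg_of_add_eq_zero_left h

end FS

end Cfsg.Agent.Lib.Helper28
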