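import Mathlib
import Cfsg.Prelude
import Cfsg.Agent.Lib.Helper28.FSIndA
import Cfsg.Agent.Lib.Helper28.DefectGen
import Cfsg.Agent.Lib.Helper28.DefectZero
import Cfsg.Agent.Lib.Helper28.Invol2
import Cfsg.Agent.Lib.Helper28.BlockDefectE

set_option autoImplicit false

/-!
# A theorem of Brauer and Fowler on characters of defect zero for `2` and the mixed primes
(helper28)  -- S4478
-/

namespace Cfsg.Agent.Lib.Helper28

open Cfsg Cfsg.Agent.Lib.Helper4 Cfsg.Agent.Lib.Helper26
open scoped ComplexConjugate Classical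

section BF

variable {G : Type*} [Group G] [Fintype G]

/-- characters of `p`-defect zero vanish on `p`-singular elements (degree form) -/
theorem irr_vanish_of_pPart_dvd (χ : IrrCharacter G) {p : ℕ} (hp : p.Prime)
    (hdvd : p ^ (Nat.card G).factorization p ∣ charDegree (χ : G → ℂ)) (x : G)
    (hx : p ∣ orderOf x) : (χ : G → ℂ) x = 0 := by
  obtain ⟨n, ρ, hirr, hρχ⟩ := χ.2
  obtain ⟨b0, hb0⟩ := degree_dvd_card ρ hirr
  rw [Module.finrank_fin_fun] at hb0
  have hdeg : charDegree (χ : G → ℂ) = n := by rw [← hρχ]; exact charDegree_character ρ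
  rw [hdeg] at hdvd
  have hcard : Nat.card G ≠ 0 := Nat.card_pos.ne'
  have hn : n ≠ 0 := by
    rintro rfl
    rw [zero_mul] at hb0
    exact hcard hb0
  have hb0ne : b0 ≠ 0 := by
    rintro rfl
    rw [mul_zero] at hb0
    exact hcard hb0
  have hcop : b0.Coprime p := by
    have h1 : (Nat.card G).factorization p ≤ n.factorization p :=
      (hp.pow_dvd_iff_le_factorization hn).mp hdvd
    have h2 : (Nat.card G).factorization p = n.factorization p + b0.factorization p := by
      rw [hb0, Nat.factorization_mul hn hb0ne]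
      rfl
    have h3 : b0.factorization p = 0 := by omega
    apply Nat.Coprime.symm
    rw [Nat.Prime.coprime_iff_not_dvd hp]
    intro hd
    have := (hp.dvd_iff_one_le_factorization hb0ne).mp hd
    omega
  rw [← hρχ]
  exact defect_zero_vanish ρ hirr hp (by rw [Module.finrank_fin_fun]; exact hb0.symm) hcop x hx

omit [Fintype G] in
/-- an element of odd order is the `(m+1)/2`-th power of its square -/
theorem eq_pow_of_odd_order {g : G} (hodd : Odd (orderOf g)) :
    orderOf (g * g) = orderOf g ∧ g = (g * g) ^ ((orderOf g + 1) / 2) := by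
  obtain ⟨k, hk⟩ := hodd
  have hpos : 0 < orderOf g := by omega
  constructor
  · rw [← pow_two, orderOf_pow' g (by norm_num : (2 : ℕ) ≠ 0)]
    have : Nat.gcd (orderOf g) 2 = 1 := by
      rw [hk]
      simp
    rw [this, Nat.div_one]
  · rw [← pow_two, ← pow_mul, hk]
    have : 2 * ((2 * k + 1 + 1) / 2) = (2 * k + 1) + 1 := by omega
    rw [this, pow_succ, ← hk, pow_orderOf_eq_one, one_mul]

omit [Fintype G] in
/-- a square root of even order of a nontrivial element of odd order gives an element of order
`2p` -/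
theorem exists_orderOf_two_mul_of_even_root [Finite G] {g h : G} (hgh : g * g = h) (h1 : h ≠ 1)
    (heven : Even (orderOf g)) (hodd : ¬ 2 ∣ orderOf h) :
    ∃ p : ℕ, p.Prime ∧ p ≠ 2 ∧ p ∣ orderOf h ∧ ∃ y : G, orderOf y = 2 * p := by
  obtain ⟨m, hm⟩ := heven
  have hgpos : 0 < orderOf g := orderOf_pos g
  have hmpos : 0 < m := by omega
  have hordh : orderOf h = m := by
    rw [← hgh, ← pow_two, orderOf_pow' g (by norm_num : (2 : ℕ) ≠ 0)]
    have : Nat.gcd (orderOf g) 2 = 2 := by
      rw [hm]
      have : m + m = 2 * m := by ring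
      rw [this]
      simp
    rw [this, hm]
    omega
  have hm1 : m ≠ 1 := by
    intro hm1
    apply h1
    rw [← orderOf_eq_one_iff, hordh, hm1]
  obtain ⟨p, hp, hpm⟩ := Nat.exists_prime_and_dvd hm1
  have hp2 : p ≠ 2 := by
    rintro rfl
    exact hodd (hordh ▸ hpm)
  refine ⟨p, hp, hp2, hordh ▸ hpm, ?_⟩
  -- the involution `z = g ^ m` and the element `h' = h ^ (m / p)` of order `p`
  have hz : orderOf (g ^ m) = 2 := by
    rw [orderOf_pow' g hmpos.ne']
    have : Nat.gcd (orderOf g) m = m := by
      rw [hm]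
      have : m + m = m * 2 := by ring
      rw [this]
      simp
    rw [this, hm]
    have : (m + m) / m = 2 := by
      have : m + m = 2 * m := by ring
      rw [this, Nat.mul_div_cancel _ hmpos]
    exact this
  obtain ⟨c, hc⟩ := hpm
  have hcpos : 0 < c := by
    rcases Nat.eq_zero_or_pos c with h0 | h0
    · rw [h0, mul_zero] at hc; omega
    · exact h0
  have hh' : orderOf (h ^ c) = p := by
    rw [orderOf_pow' h hcpos.ne', hordh]
    have : Nat.gcd m c = c := by
      rw [hc]
      simp
    rw [this, hc, Nat.mul_div_cancel _ hcpos]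
  have hcomm : Commute (g ^ m) (h ^ c) := by
    rw [← hgh]
    exact ((Commute.refl g).pow_left m).pow_right c |>.mul_right
      (((Commute.refl g).pow_left m).pow_right c) |> fun _ => by
        have h1 : Commute (g ^ m) (g * g) :=
          ((Commute.refl g).pow_left m).mul_right ((Commute.refl g).pow_left m)
        exact h1.pow_right c
  refine ⟨g ^ m * h ^ c, ?_⟩
  rw [hcomm.orderOf_mul_eq_mul_orderOf_of_coprime, hz, hh']
  rw [hz, hh']
  exact (Nat.coprime_primes Nat.prime_two hp).mpr (Ne.symm hp2)

end BF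

end Cfsg.Agent.Lib.Helper28
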