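import Mathlib
import Cfsg.Prelude
import Cfsg.Agent.Lib.Helper28.FSIndB

set_option autoImplicit false

/-!
# Brauer–Fowler: a character of defect zero for `2` and for the mixed primes (helper28)
-/

namespace Cfsg.Agent.Lib.Helper28

open Cfsg Cfsg.Agent.Lib.Helper4 Cfsg.Agent.Lib.Helper26
open scoped ComplexConjugate Classical

section BFC

variable {G : Type*} [Group G] [Fintype G]

/-- the sum of `χ(g²)` in terms of the number of involutions -/
theorem sum_sq_eq_involutions (χ : IrrCharacter G)
    (h2 : 2 ^ (Nat.card G).factorization 2 ∣ charDegree (χ : G → ℂ))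
    (hp : ∀ p : ℕ, p.Prime → p ≠ 2 → (∃ g : G, orderOf g = 2 * p) →
      p ^ (Nat.card G).factorization p ∣ charDegree (χ : G → ℂ))
    (hsum0 : ∑ g : G, (χ : G → ℂ) g = 0) :
    ∑ g : G, (χ : G → ℂ) (g * g) =
      (Nat.card {t : G // orderOf t = 2} : ℂ) * (χ : G → ℂ) 1 := by
  have hV2 : ∀ x : G, 2 ∣ orderOf x → (χ : G → ℂ) x = 0 :=
    fun x hx => irr_vanish_of_pPart_dvd χ Nat.prime_two h2 x hx
  -- fibres of the squaring map over the support of `χ`
  have hfib : ∀ h : G, h ≠ 1 →
      ∑ g : G, (if g * g = h then (χ : G → ℂ) h else 0) = (χ : G → ℂ) h := by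
    intro h h1
    by_cases hχ : (χ : G → ℂ) h = 0
    · rw [hχ]
      simp
    · have hodd : ¬ 2 ∣ orderOf h := fun hd => hχ (hV2 h hd)
      have hroot : ∀ g : G, g * g = h → Odd (orderOf g) := by
        intro g hg
        by_contra hne
        rw [Nat.not_odd_iff_even] at hne
        obtain ⟨p, hpp, hp2, hpd, hy⟩ := exists_orderOf_two_mul_of_even_root hg h1 hne hodd
        exact hχ (irr_vanish_of_pPart_dvd χ hpp (hp p hpp hp2 hy) h hpd)
      have hhodd : Odd (orderOf h) := by
        rw [← Nat.not_even_iff_odd]
        intro he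
        exact hodd (even_iff_two_dvd.mp he)
      obtain ⟨k, hk⟩ := hhodd
      -- the unique root
      have hr : (h ^ ((orderOf h + 1) / 2)) * (h ^ ((orderOf h + 1) / 2)) = h := by
        rw [← pow_add]
        have : (orderOf h + 1) / 2 + (orderOf h + 1) / 2 = orderOf h + 1 := by omega
        rw [this, pow_succ, pow_orderOf_eq_one, one_mul]
      rw [Finset.sum_eq_single (h ^ ((orderOf h + 1) / 2))]
      · rw [if_pos hr]
      · intro g _ hg
        rw [if_neg]
        intro hgg
        apply hg
        obtain ⟨e1, e2⟩ := eq_pow_of_odd_order (hroot g hgg)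
        rw [hgg] at e1 e2
        rw [e1]
        exact e2
      · intro hn
        exact absurd (Finset.mem_univ _) hn
  have hfib1 : ∑ g : G, (if g * g = 1 then (χ : G → ℂ) 1 else 0) =
      ((Nat.card {t : G // orderOf t = 2} : ℂ) + 1) * (χ : G → ℂ) 1 := by
    rw [← Finset.sum_filter, Finset.sum_const, nsmul_eq_mul]
    congr 1
    have h1 : (Finset.univ.filter (fun g : G => g * g = 1)) =
        insert 1 (Finset.univ.filter (fun g : G => orderOf g = 2)) := by
      ext g
      simp only [Finset.mem_filter, Finset.mem_univ, true_and, Finset.mem_insert]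
      constructor
      · intro hg
        by_cases hg1 : g = 1
        · left; exact hg1
        · right
          rw [← pow_two] at hg
          exact orderOf_eq_prime hg hg1
      · rintro (rfl | hg)
        · simp
        · rw [← pow_two, ← hg, pow_orderOf_eq_one]
    rw [h1, Finset.card_insert_of_notMem]
    · push_cast
      congr 1
      rw [Nat.card_eq_fintype_card, Fintype.card_subtype]
    · simp
  calc ∑ g : G, (χ : G → ℂ) (g * g)
      = ∑ g : G, ∑ h : G, (if g * g = h then (χ : G → ℂ) h else 0) := by
        refine Finset.sum_congr rfl fun g _ => ?_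
        rw [Finset.sum_ite_eq]
        simp
    _ = ∑ h : G, ∑ g : G, (if g * g = h then (χ : G → ℂ) h else 0) := Finset.sum_comm
    _ = ∑ h : G, (if h = 1 then ((Nat.card {t : G // orderOf t = 2} : ℂ) + 1) * (χ : G → ℂ) 1
          else (χ : G → ℂ) h) := by
        refine Finset.sum_congr rfl fun h _ => ?_
        by_cases h1 : h = 1
        · rw [if_pos h1, h1, hfib1]
        · rw [if_neg h1, hfib h h1]
    _ = (Nat.card {t : G // orderOf t = 2} : ℂ) * (χ : G → ℂ) 1 := by
        have h3 : ∀ h : G, (if h = 1 then ((Nat.card {t : G // orderOf t = 2} : ℂ) + 1) *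
            (χ : G → ℂ) 1 else (χ : G → ℂ) h) = (χ : G → ℂ) h +
            (if h = 1 then (Nat.card {t : G // orderOf t = 2} : ℂ) * (χ : G → ℂ) 1 else 0) := by
          intro h
          by_cases h1 : h = 1
          · rw [if_pos h1, if_pos h1, h1]; ring
          · rw [if_neg h1, if_neg h1, add_zero]
        rw [Finset.sum_congr rfl (fun h _ => h3 h), Finset.sum_add_distrib, hsum0, zero_add,
          Finset.sum_ite_eq']
        simp

end BFC

end Cfsg.Agent.Lib.Helper28
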