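import Mathlib
import Cfsg.Prelude
import Cfsg.Agent.Lib.Helper28.FSIndC

set_option autoImplicit false

/-!
# Brauer–Fowler: one class of involutions from a character of mixed defect zero (helper28)
-/

namespace Cfsg.Agent.Lib.Helper28

open Cfsg Cfsg.Agent.Lib.Helper4 Cfsg.Agent.Lib.Helper26
open scoped ComplexConjugate Classical

section BFD

variable {G : Type*} [Group G] [Fintype G]

/-- **S4478** -/
theorem brauer_fowler_defect_zero (heven : Even (Nat.card G)) (χ : IrrCharacter G)
    (h2 : 2 ^ (Nat.card G).factorization 2 ∣ charDegree (χ : G → ℂ))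
    (hp : ∀ p : ℕ, p.Prime → p ≠ 2 → (∃ g : G, orderOf g = 2 * p) →
      p ^ (Nat.card G).factorization p ∣ charDegree (χ : G → ℂ)) :
    (∀ s t : G, orderOf s = 2 → orderOf t = 2 → IsConj s t) ∧
    (∀ s : G, orderOf s = 2 →
      Nat.card (Subgroup.centralizer ({s} : Set G)) = charDegree (χ : G → ℂ) ∧
      (Nat.card (Subgroup.centralizer ({s} : Set G))).Coprime
        (Subgroup.centralizer ({s} : Set G)).index) ∧
    (Nat.card G : ℂ)⁻¹ * ∑ g : G, (χ : G → ℂ) (g * g) = 1 := by
  obtain ⟨n, ρ, hirr, hρχ⟩ := χ.2
  have hdeg : charDegree (χ : G → ℂ) = n := by rw [← hρχ]; exact charDegree_character ρ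
  have hχ1 : (χ : G → ℂ) 1 = (n : ℂ) := by
    rw [← hρχ, Representation.char_one, Module.finrank_fin_fun]
  have hcardpos : 0 < Nat.card G := Nat.card_pos
  have h2card : 2 ∣ Nat.card G := even_iff_two_dvd.mp heven
  have hfac2 : 1 ≤ (Nat.card G).factorization 2 :=
    (Nat.prime_two.dvd_iff_one_le_factorization hcardpos.ne').mp h2card
  have h2n : 2 ∣ n := by
    rw [← hdeg]
    exact (dvd_pow_self 2 (by omega)).trans h2
  have hn0 : n ≠ 0 := by
    have := finrank_ne_zero_of_irreducible ρ hirr
    rw [Module.finrank_fin_fun] at this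
    exact_mod_cast this
  -- `χ` is not the trivial character
  have hne : χ ≠ trivIrr G := by
    intro h
    have h1 : (χ : G → ℂ) 1 = 1 := by rw [h]; rfl
    rw [hχ1] at h1
    have : n = 1 := by exact_mod_cast h1
    omega
  have hsum0 : ∑ g : G, (χ : G → ℂ) g = 0 := by
    have h1 := classInner_irr χ (trivIrr G)
    rw [if_neg hne] at h1
    unfold classInner at h1
    have hc : (Nat.card G : ℂ)⁻¹ ≠ 0 := by
      apply inv_ne_zero
      exact_mod_cast hcardpos.ne'
    have h3 := (mul_eq_zero.mp h1).resolve_left hc
    refine Eq.trans ?_ h3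
    refine Finset.sum_congr rfl fun g _ => ?_
    show _ = (χ : G → ℂ) g * conj (1 : ℂ)
    rw [map_one, mul_one]
  have hsq := sum_sq_eq_involutions χ h2 hp hsum0
  obtain ⟨i, hi⟩ : ∃ i : ℕ, i = Nat.card {t : G // orderOf t = 2} := ⟨_, rfl⟩
  rw [← hi, hχ1] at hsq
  -- there is an involution
  have hipos : 0 < i := by
    have hF : Fact (Nat.Prime 2) := ⟨Nat.prime_two⟩
    have h2c : 2 ∣ Fintype.card G := by rw [← Nat.card_eq_fintype_card]; exact h2card
    obtain ⟨x, hx⟩ := exists_prime_orderOf_dvd_card (G := G) 2 h2c
    rw [hi]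
    haveI : Nonempty {t : G // orderOf t = 2} := ⟨⟨x, hx⟩⟩
    exact Nat.card_pos
  -- the indicator
  have hfs := fs_indicator_trichotomy ρ hirr
  rw [hρχ, hsq, ← Nat.card_eq_fintype_card] at hfs
  have hcardC : (Nat.card G : ℂ) ≠ 0 := by exact_mod_cast hcardpos.ne'
  have hid : i * n = Nat.card G := by
    rcases hfs with h | h | h
    · exfalso
      have h3 := (mul_eq_zero.mp h).resolve_left (inv_ne_zero hcardC)
      have : i * n = 0 := by exact_mod_cast h3
      rcases Nat.mul_eq_zero.mp this with h4 | h4
      · omega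
      · exact hn0 h4
    · have h3 : (i : ℂ) * (n : ℂ) = (Nat.card G : ℂ) := by
        field_simp at h
        exact h
      exact_mod_cast h3
    · exfalso
      have h3 : (i : ℂ) * (n : ℂ) + (Nat.card G : ℂ) = 0 := by
        field_simp at h
        rw [h]
        ring
      have : i * n + Nat.card G = 0 := by exact_mod_cast h3
      omega
  have hν : (Nat.card G : ℂ)⁻¹ * ∑ g : G, (χ : G → ℂ) (g * g) = 1 := by
    rw [hsq]
    have : (i : ℂ) * (n : ℂ) = (Nat.card G : ℂ) := by exact_mod_cast hid
    rw [this, inv_mul_cancel₀ hcardC]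
  -- prime power divisibility
  have hC : ∀ s : G, orderOf s = 2 → ∀ q : ℕ, q.Prime →
      q ∣ Nat.card (Subgroup.centralizer ({s} : Set G)) →
      q ^ (Nat.card G).factorization q ∣ n := by
    intro s hs q hq hqd
    rw [← hdeg]
    by_cases hq2 : q = 2
    · rw [hq2]; exact h2
    · apply hp q hq hq2
      have hFq : Fact q.Prime := ⟨hq⟩
      obtain ⟨c, hc⟩ := exists_prime_orderOf_dvd_card' q hqd
      have hcG : orderOf (c : G) = q := by rw [Subgroup.orderOf_coe, hc]
      have hcomm : Commute s (c : G) := by
        have := Subgroup.mem_centralizer_singleton_iff.mp c.2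
        exact this.symm
      refine ⟨s * (c : G), ?_⟩
      rw [hcomm.orderOf_mul_eq_mul_orderOf_of_coprime, hs, hcG]
      rw [hs, hcG]
      exact (Nat.coprime_primes Nat.prime_two hq).mpr (Ne.symm hq2)
  have hCdvd : ∀ s : G, orderOf s = 2 → Nat.card (Subgroup.centralizer ({s} : Set G)) ∣ n := by
    intro s hs
    have hC0 : Nat.card (Subgroup.centralizer ({s} : Set G)) ≠ 0 := Nat.card_pos.ne'
    rw [← Nat.factorization_le_iff_dvd hC0 hn0]
    intro q
    by_cases hq : q.Prime
    · by_cases hqd : q ∣ Nat.card (Subgroup.centralizer ({s} : Set G))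
      · have h1 : (Nat.card (Subgroup.centralizer ({s} : Set G))).factorization q ≤
            (Nat.card G).factorization q :=
          (Nat.factorization_le_iff_dvd hC0 hcardpos.ne').mpr (Subgroup.card_subgroup_dvd_card _) q
        have h2' := (hq.pow_dvd_iff_le_factorization hn0).mp (hC s hs q hq hqd)
        exact h1.trans h2'
      · rw [Nat.factorization_eq_zero_of_not_dvd hqd]
        exact Nat.zero_le _
    · rw [Nat.factorization_eq_zero_of_not_prime _ hq]
      exact Nat.zero_le _
  have hconj_ord : ∀ a b : G, IsConj a b → orderOf b = orderOf a := by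
    intro a b hab
    obtain ⟨c, hc⟩ := isConj_iff.mp hab
    rw [← hc]
    have := (MulAut.conj c).orderOf_eq a
    rwa [MulAut.conj_apply] at this
  -- class sizes
  have hcls : ∀ s : G, orderOf s = 2 →
      Nat.card {y : G // IsConj s y} = i ∧ Nat.card (Subgroup.centralizer ({s} : Set G)) = n := by
    intro s hs
    have h1 := card_conj_mul_card_centralizer s
    have h3 : Nat.card {y : G // IsConj s y} ≤ i := by
      rw [hi]
      apply Nat.card_le_card_of_injective
        (fun y : {y : G // IsConj s y} => (⟨y.1, by rw [hconj_ord s y.1 y.2, hs]⟩ :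
          {t : G // orderOf t = 2}))
      intro a b hab
      apply Subtype.ext
      exact congrArg (fun z : {t : G // orderOf t = 2} => z.1) hab
    have h4 : Nat.card (Subgroup.centralizer ({s} : Set G)) ≤ n :=
      Nat.le_of_dvd (Nat.pos_of_ne_zero hn0) (hCdvd s hs)
    have h5 : 0 < Nat.card (Subgroup.centralizer ({s} : Set G)) := Nat.card_pos
    have h6 : 0 < Nat.card {y : G // IsConj s y} := by
      haveI : Nonempty {y : G // IsConj s y} := ⟨⟨s, IsConj.refl s⟩⟩
      exact Nat.card_pos
    rw [← hid] at h1
    constructor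
    · by_contra hlt
      have hlt' : Nat.card {y : G // IsConj s y} < i := lt_of_le_of_ne h3 hlt
      have : Nat.card {y : G // IsConj s y} * Nat.card (Subgroup.centralizer ({s} : Set G)) <
          i * n :=
        calc Nat.card {y : G // IsConj s y} * Nat.card (Subgroup.centralizer ({s} : Set G))
            < i * Nat.card (Subgroup.centralizer ({s} : Set G)) :=
              Nat.mul_lt_mul_of_pos_right hlt' h5
          _ ≤ i * n := Nat.mul_le_mul_left _ h4
      omega
    · by_contra hlt
      have hlt' : Nat.card (Subgroup.centralizer ({s} : Set G)) < n := lt_of_le_of_ne h4 hlt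
      have : Nat.card {y : G // IsConj s y} * Nat.card (Subgroup.centralizer ({s} : Set G)) <
          i * n :=
        calc Nat.card {y : G // IsConj s y} * Nat.card (Subgroup.centralizer ({s} : Set G))
            < Nat.card {y : G // IsConj s y} * n := Nat.mul_lt_mul_of_pos_left hlt' h6
          _ ≤ i * n := Nat.mul_le_mul_right _ h3
      omega
  refine ⟨?_, ?_, hν⟩
  · intro s t hs ht
    -- the class of `s` exhausts the involutions
    have hinj : Function.Injective
        (fun y : {y : G // IsConj s y} => (⟨y.1, by rw [hconj_ord s y.1 y.2, hs]⟩ :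
          {t : G // orderOf t = 2})) := by
      intro a b hab
      apply Subtype.ext
      exact congrArg (fun z : {t : G // orderOf t = 2} => z.1) hab
    have hcard : Nat.card {y : G // IsConj s y} = Nat.card {t : G // orderOf t = 2} := by
      rw [(hcls s hs).1, hi]
    have hbij := (Function.Injective.bijective_of_nat_card_le hinj hcard.ge)
    obtain ⟨y, hy⟩ := hbij.2 ⟨t, ht⟩
    have : y.1 = t := congrArg (fun z : {t : G // orderOf t = 2} => z.1) hy
    rw [← this]
    exact y.2
  · intro s hs
    refine ⟨by rw [(hcls s hs).2, hdeg], ?_⟩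
    have hidx : (Subgroup.centralizer ({s} : Set G)).index = i := by
      have h1 := Subgroup.card_mul_index (Subgroup.centralizer ({s} : Set G))
      rw [(hcls s hs).2, ← hid] at h1
      have hnpos : 0 < n := Nat.pos_of_ne_zero hn0
      rw [mul_comm i n] at h1
      exact Nat.eq_of_mul_eq_mul_left hnpos h1
    rw [hidx, (hcls s hs).2]
    apply Nat.Coprime.symm
    apply Nat.coprime_of_dvd
    intro q hq hqi hqn
    have h1 := hC s hs q hq (by rw [(hcls s hs).2]; exact hqn)
    have h2' := (hq.pow_dvd_iff_le_factorization hn0).mp h1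
    have h3 : (Nat.card G).factorization q = i.factorization q + n.factorization q := by
      rw [← hid, Nat.factorization_mul hipos.ne' hn0]
      rfl
    have h4 := (hq.dvd_iff_one_le_factorization hipos.ne').mp hqi
    omega

end BFD

end Cfsg.Agent.Lib.Helper28
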