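import Mathlib
import Cfsg.Prelude.Def_Blocks
import Cfsg.Agent.Lib.Helper4.RepEigen

set_option autoImplicit false

/-!
# The Frobenius congruence `χ(g)^(p^n) ≡ χ(g^(p^n)) (mod p)` (helper28)
-/

namespace Cfsg.Agent.Lib.Helper28

open Cfsg Cfsg.Agent.Lib.Helper4

theorem exists_natCast_pow_prime_pow {p : ℕ} (hp : p.Prime) (n m : ℕ) :
    ∃ c : ℤ, ((m : ℤ)) ^ (p ^ n) = m + p * c := by
  haveI : Fact p.Prime := ⟨hp⟩
  have h1 : (((m : ℤ) : ZMod p)) = (((m : ℤ) ^ (p ^ n) : ℤ) : ZMod p) := by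
    push_cast
    rw [ZMod.pow_card_pow]
  obtain ⟨c, hc⟩ := (ZMod.intCast_eq_intCast_iff_dvd_sub _ _ p).mp h1
  exact ⟨c, by linarith⟩

theorem exists_sum_pow_prime_pow {R : Type*} [CommRing R] {p : ℕ} (hp : p.Prime) (n : ℕ)
    {ι : Type*} (s : Finset ι) (z : ι → R) (m : ι → ℕ) :
    ∃ r : R, (∑ i ∈ s, z i * (m i : R)) ^ (p ^ n) =
      ∑ i ∈ s, (z i) ^ (p ^ n) * (m i : R) + (p : R) * r := by
  classical
  induction s using Finset.induction_on with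
  | empty =>
    refine ⟨0, ?_⟩
    simp [zero_pow (pow_ne_zero n hp.ne_zero)]
  | insert i s hi ih =>
    obtain ⟨r₂, hr₂⟩ := ih
    obtain ⟨r₁, hr₁⟩ := exists_add_pow_prime_pow_eq hp (z i * (m i : R))
      (∑ j ∈ s, z j * (m j : R)) n
    obtain ⟨c, hc⟩ := exists_natCast_pow_prime_pow hp n (m i)
    have hc' : ((m i : R)) ^ (p ^ n) = (m i : R) + (p : R) * (c : R) := by
      have := congrArg (Int.cast : ℤ → R) hc
      push_cast at this
      exact this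
    refine ⟨(z i) ^ (p ^ n) * (c : R) + r₂ +
      z i * (m i : R) * (∑ j ∈ s, z j * (m j : R)) * r₁, ?_⟩
    rw [Finset.sum_insert hi, Finset.sum_insert hi, hr₁, hr₂, mul_pow, hc']
    ring

/-- `p` is not a unit in the ring of algebraic integers -/
theorem not_isUnit_natCast_algInt {p : ℕ} (hp : p.Prime) : ¬ IsUnit ((p : ℕ) : AlgInt) := by
  intro hu
  obtain ⟨γ, hγ⟩ := hu.exists_right_inv
  have h1 : (p : ℂ) * (γ : ℂ) = 1 := by
    have := congrArg (Subtype.val : AlgInt → ℂ) hγ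
    push_cast at this
    exact this
  have hp0 : (p : ℂ) ≠ 0 := by exact_mod_cast hp.ne_zero
  have h2 : (γ : ℂ) = algebraMap ℚ ℂ ((p : ℚ)⁻¹) := by
    rw [map_inv₀, map_natCast]
    field_simp
    rw [mul_comm]; exact h1
  have h3 : IsIntegral ℤ (algebraMap ℚ ℂ ((p : ℚ)⁻¹)) := h2 ▸ γ.2
  have h4 : IsIntegral ℤ ((p : ℚ)⁻¹) :=
    (isIntegral_algebraMap_iff (algebraMap ℚ ℂ).injective).mp h3
  obtain ⟨y, hy⟩ := IsIntegrallyClosed.isIntegral_iff.mp h4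
  have h5 : (y : ℚ) * p = 1 := by
    have : (algebraMap ℤ ℚ) y = (y : ℚ) := rfl
    rw [← this, hy]
    have hq0 : (p : ℚ) ≠ 0 := by exact_mod_cast hp.ne_zero
    field_simp
  have h6 : y * (p : ℤ) = 1 := by exact_mod_cast h5
  have h7 : (p : ℤ) ∣ 1 := ⟨y, by rw [mul_comm]; exact h6.symm⟩
  have h8 : p ∣ 1 := by exact_mod_cast h7
  exact hp.one_lt.ne' (Nat.dvd_one.mp h8)

theorem exists_isPModular {p : ℕ} (hp : p.Prime) : ∃ M : Ideal AlgInt, IsPModular p M := by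
  have hne : Ideal.span {((p : ℕ) : AlgInt)} ≠ ⊤ := by
    intro h
    exact not_isUnit_natCast_algInt hp (Ideal.span_singleton_eq_top.mp h)
  obtain ⟨M, hM, hle⟩ := Ideal.exists_le_maximal _ hne
  exact ⟨M, hp, hM, hle (Ideal.subset_span rfl)⟩

section
variable {G : Type*} [Group G] [Finite G] {V : Type*} [AddCommGroup V] [Module ℂ V]
  [FiniteDimensional ℂ V] (ρ : Representation ℂ G V)

theorem character_pow_eq_sum_fc (g : G) (k : ℕ) :
    ρ.character (g ^ k) = ∑ μ ∈ eigvals ρ g, μ ^ k * (eigmult ρ g μ : ℂ) := by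
  have := trace_eq_sum_of_eigen (ρ g) (ρ (g ^ k)) (rho_iSup_eigenspace ρ g) (fun μ => μ ^ k) ?_
  · exact this
  · intro μ v hv
    rw [map_pow]
    by_cases hv0 : v = 0
    · simp [hv0]
    · have hev : Module.End.HasEigenvector (ρ g) μ v := ⟨hv, hv0⟩
      exact hev.pow_apply k

/-- the Frobenius congruence for character values -/
theorem character_pow_prime_pow_sub {p : ℕ} (hp : p.Prime) (n : ℕ) (g : G) :
    ∃ γ : AlgInt, (ρ.character g) ^ (p ^ n) - ρ.character (g ^ (p ^ n)) = (p : ℂ) * (γ : ℂ) := by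
  classical
  let z : ℂ → AlgInt := fun μ => if h : IsIntegral ℤ μ then ⟨μ, h⟩ else 0
  have hz : ∀ μ ∈ eigvals ρ g, ((z μ : AlgInt) : ℂ) = μ := by
    intro μ hμ
    have hint : IsIntegral ℤ μ := IsIntegral.of_pow (orderOf_pos g) (by
      rw [eigenvalue_pow_orderOf ρ g μ ((mem_eigvals ρ g).mp hμ)]; exact isIntegral_one)
    simp only [z, dif_pos hint]
  obtain ⟨r, hr⟩ := exists_sum_pow_prime_pow (R := AlgInt) hp n (eigvals ρ g) z (eigmult ρ g)
  refine ⟨r, ?_⟩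
  have h1 := congrArg (Subtype.val : AlgInt → ℂ) hr
  push_cast at h1
  rw [character_eq_sum, character_pow_eq_sum_fc]
  have h2 : ∑ μ ∈ eigvals ρ g, ((z μ : AlgInt) : ℂ) * (eigmult ρ g μ : ℂ) =
      ∑ μ ∈ eigvals ρ g, μ * (eigmult ρ g μ : ℂ) :=
    Finset.sum_congr rfl fun μ hμ => by rw [hz μ hμ]
  have h3 : ∑ μ ∈ eigvals ρ g, ((z μ : AlgInt) : ℂ) ^ (p ^ n) * (eigmult ρ g μ : ℂ) =
      ∑ μ ∈ eigvals ρ g, μ ^ (p ^ n) * (eigmult ρ g μ : ℂ) :=
    Finset.sum_congr rfl fun μ hμ => by rw [hz μ hμ]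
  rw [h2, h3] at h1
  rw [h1]
  ring

end

end Cfsg.Agent.Lib.Helper28
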