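import Mathlib
import Cfsg.Prelude.Def_Blocks
import Cfsg.Agent.Lib.Helper28.RealOddA

set_option autoImplicit false

/-!
# Odd degree characters in blocks stable under inversion of the odd order elements (helper28)
-/

namespace Cfsg.Agent.Lib.Helper28

open Cfsg Cfsg.Agent.Lib.Helper4 Cfsg.Agent.Lib.Helper26
open scoped ComplexConjugate Classical

section

variable {G : Type*} [Group G] [Fintype G] {M : Ideal AlgInt}

theorem two_eq_zero_of_isPModular (hM : IsPModular 2 M) : (2 : AlgInt ⧸ M) = 0 := by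
  have h1 : Ideal.Quotient.mk M ((2 : ℕ) : AlgInt) = 0 :=
    Ideal.Quotient.eq_zero_iff_mem.mpr hM.2.2
  rw [map_natCast] at h1
  exact_mod_cast h1

/-- modulo `2`, the sum of the values at the odd order elements is the degree -/
theorem sum_odd_localRes [hmax : M.IsMaximal] (h2 : (2 : AlgInt ⧸ M) = 0)
    (χ ψ : IrrCharacter G) (hsame : SameBlock M (χ : G → ℂ) (ψ : G → ℂ))
    (hψ : ∀ g : G, Odd (orderOf g) → (ψ : G → ℂ) g = conj ((χ : G → ℂ) g)) :
    ∑ g ∈ Finset.univ.filter (fun g : G => Odd (orderOf g)), localRes M ((χ : G → ℂ) g) =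
      localRes M ((χ : G → ℂ) 1) := by
  have : Fintype (ConjClasses G) := Fintype.ofFinite _
  let e : ConjClasses G → ℕ := fun C => ((Fintype.equivFin (ConjClasses G)) C : ℕ)
  have he : Function.Injective e := Fin.val_injective.comp (Equiv.injective _)
  have hmkconj : ∀ g k : G, ConjClasses.mk (k * g * k⁻¹) = ConjClasses.mk g := by
    intro g k
    rw [ConjClasses.mk_eq_mk_iff_isConj]
    exact (isConj_iff.mpr ⟨k, rfl⟩).symm
  have hmkconjinv : ∀ g k : G, ConjClasses.mk (k * g * k⁻¹)⁻¹ = ConjClasses.mk g⁻¹ := by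
    intro g k
    have : (k * g * k⁻¹)⁻¹ = k * g⁻¹ * k⁻¹ := by group
    rw [this, hmkconj]
  have hordconj : ∀ g k : G, orderOf (k * g * k⁻¹) = orderOf g :=
    fun g k => (MulAut.conj k).orderOf_eq g
  let Q : G → Prop := fun g => Odd (orderOf g) ∧
    e (ConjClasses.mk g) < e (ConjClasses.mk g⁻¹)
  let Q' : G → Prop := fun g => Odd (orderOf g) ∧
    e (ConjClasses.mk g⁻¹) < e (ConjClasses.mk g)
  let R : G → Prop := fun g => Odd (orderOf g) ∧ g ≠ 1 ∧ IsConj g g⁻¹
  let f : G → AlgInt ⧸ M := fun g => localRes M ((χ : G → ℂ) g)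
  have hQcl : ∀ g k : G, Q (k * g * k⁻¹) ↔ Q g := by
    intro g k
    show (Odd (orderOf (k * g * k⁻¹)) ∧ e (ConjClasses.mk (k * g * k⁻¹)) <
      e (ConjClasses.mk (k * g * k⁻¹)⁻¹)) ↔ _
    rw [hordconj, hmkconj, hmkconjinv]
  have hpt : ∀ g : G, (if Odd (orderOf g) then f g else 0) =
      (if g = 1 then f g else 0) + (if R g then f g else 0) + (if Q g then f g else 0) +
        (if Q' g then f g else 0) := by
    intro g
    by_cases hodd : Odd (orderOf g)
    · rw [if_pos hodd]
      by_cases hg1 : g = 1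
      · have hR : ¬ R g := fun h => h.2.1 hg1
        have hQ : ¬ Q g := by
          rintro ⟨_, h⟩
          rw [hg1, inv_one] at h
          exact lt_irrefl _ h
        have hQ' : ¬ Q' g := by
          rintro ⟨_, h⟩
          rw [hg1, inv_one] at h
          exact lt_irrefl _ h
        rw [if_pos hg1, if_neg hR, if_neg hQ, if_neg hQ', add_zero, add_zero, add_zero]
      · rw [if_neg hg1, zero_add]
        rcases lt_trichotomy (e (ConjClasses.mk g)) (e (ConjClasses.mk g⁻¹)) with h | h | h
        · have hR : ¬ R g := by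
            rintro ⟨_, _, hc⟩
            rw [ConjClasses.mk_eq_mk_iff_isConj.mpr hc] at h
            exact lt_irrefl _ h
          have hQ : Q g := ⟨hodd, h⟩
          have hQ' : ¬ Q' g := fun h' => lt_asymm h h'.2
          rw [if_neg hR, if_pos hQ, if_neg hQ', zero_add, add_zero]
        · have hR : R g := ⟨hodd, hg1, ConjClasses.mk_eq_mk_iff_isConj.mp (he h)⟩
          have hQ : ¬ Q g := fun h' => by
            have := h'.2
            rw [h] at this
            exact lt_irrefl _ this
          have hQ' : ¬ Q' g := fun h' => by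
            have := h'.2
            rw [h] at this
            exact lt_irrefl _ this
          rw [if_pos hR, if_neg hQ, if_neg hQ', add_zero, add_zero]
        · have hR : ¬ R g := by
            rintro ⟨_, _, hc⟩
            rw [ConjClasses.mk_eq_mk_iff_isConj.mpr hc] at h
            exact lt_irrefl _ h
          have hQ : ¬ Q g := fun h' => lt_asymm h h'.2
          have hQ' : Q' g := ⟨hodd, h⟩
          rw [if_neg hR, if_neg hQ, if_pos hQ', zero_add, zero_add]
    · have hg1 : g ≠ 1 := by
        rintro rfl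
        rw [orderOf_one] at hodd
        exact hodd odd_one
      have hR : ¬ R g := fun h => hodd h.1
      have hQ : ¬ Q g := fun h => hodd h.1
      have hQ' : ¬ Q' g := fun h => hodd h.1
      rw [if_neg hodd, if_neg hg1, if_neg hR, if_neg hQ, if_neg hQ', add_zero, add_zero,
        add_zero]
  have hsum : ∑ g ∈ Finset.univ.filter (fun g : G => Odd (orderOf g)), f g =
      f 1 + ∑ g ∈ Finset.univ.filter R, f g + ∑ g ∈ Finset.univ.filter Q, f g +
        ∑ g ∈ Finset.univ.filter Q', f g := by
    rw [Finset.sum_filter, Finset.sum_filter, Finset.sum_filter, Finset.sum_filter]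
    simp only [hpt]
    rw [Finset.sum_add_distrib, Finset.sum_add_distrib, Finset.sum_add_distrib,
      Finset.sum_ite_eq' Finset.univ (1 : G) f, if_pos (Finset.mem_univ _)]
  have hR0 : ∑ g ∈ Finset.univ.filter R, f g = 0 := sum_filter_real_localRes h2 χ
  have hQ'Q : ∑ g ∈ Finset.univ.filter Q', f g = ∑ g ∈ Finset.univ.filter Q, f g⁻¹ := by
    symm
    refine Finset.sum_equiv (Equiv.inv G) ?_ ?_
    · intro g
      simp only [Finset.mem_filter, Finset.mem_univ, true_and, Equiv.inv_apply]
      show (Odd (orderOf g) ∧ e (ConjClasses.mk g) < e (ConjClasses.mk g⁻¹)) ↔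
        (Odd (orderOf g⁻¹) ∧ e (ConjClasses.mk g⁻¹⁻¹) < e (ConjClasses.mk g⁻¹))
      rw [orderOf_inv, inv_inv]
    · intro g _
      rfl
  have hQinv : ∑ g ∈ Finset.univ.filter Q, f g⁻¹ = ∑ g ∈ Finset.univ.filter Q, f g := by
    have := sum_filter_localRes_inv χ ψ hsame hψ Q hQcl (fun g hg => hg.1)
    convert this
  show ∑ g ∈ Finset.univ.filter (fun g : G => Odd (orderOf g)), f g = f 1
  rw [hsum, hR0, hQ'Q, hQinv, add_zero, add_assoc, ← two_mul, h2, zero_mul, add_zero]

/-- **an odd degree character whose block contains a character agreeing with its conjugate on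
the odd order elements lies in the principal `2`-block** -/
theorem mem_principalBlock_of_odd_degree (hM : IsPModular 2 M) (χ ψ : IrrCharacter G)
    (hodd : Odd (charDegree (χ : G → ℂ)))
    (hsame : SameBlock M (χ : G → ℂ) (ψ : G → ℂ))
    (hψ : ∀ g : G, Odd (orderOf g) → (ψ : G → ℂ) g = conj ((χ : G → ℂ) g)) :
    χ ∈ principalBlock M G := by
  have hmax : M.IsMaximal := hM.2.1
  have hprime : M.IsPrime := hmax.isPrime
  have hMtop : M ≠ ⊤ := hmax.ne_top
  have : Fact (Nat.Prime 2) := ⟨Nat.prime_two⟩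
  have h2 := two_eq_zero_of_isPModular hM
  obtain ⟨hd0, hd1, -⟩ := irr_degree_nat χ.2
  apply mem_principalBlock_of_omegaF hM χ
  intro hmem
  have hχ1 : (χ : G → ℂ) 1 ≠ 0 := by
    rw [hd1]
    exact Nat.cast_ne_zero.mpr hd0
  -- `W = ∑_{odd} χ g`
  have hW : ∑ g, pRegInd G 2 g * (χ : G → ℂ) g =
      ∑ g ∈ Finset.univ.filter (fun g : G => Odd (orderOf g)), (χ : G → ℂ) g := by
    rw [Finset.sum_filter]
    refine Finset.sum_congr rfl fun g _ => ?_
    unfold pRegInd
    by_cases hg : 2 ∣ orderOf g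
    · rw [if_pos hg, if_neg, zero_mul]
      rw [Nat.not_odd_iff_even]
      exact (even_iff_two_dvd).mpr hg
    · rw [if_neg hg, if_pos, one_mul]
      rw [← Nat.not_even_iff_odd]
      exact fun h => hg (even_iff_two_dvd.mp h)
  unfold omegaF at hmem
  rw [hW] at hmem
  have h3 := memLocalIdeal_mul_left (irr_memLocalRing hMtop χ 1) hmem
  rw [mul_div_cancel₀ _ hχ1] at h3
  have hWint : MemLocalRing M
      (∑ g ∈ Finset.univ.filter (fun g : G => Odd (orderOf g)), (χ : G → ℂ) g) :=
    memLocalRing_sum _ _ fun g _ => irr_memLocalRing hMtop χ g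
  have h4 := (localRes_eq_zero_iff hWint).mpr h3
  rw [localRes_sum _ _ (fun g _ => irr_memLocalRing hMtop χ g),
    sum_odd_localRes h2 χ ψ hsame hψ] at h4
  have h5 := (localRes_eq_zero_iff (irr_memLocalRing hMtop χ 1)).mp h4
  rw [hd1] at h5
  have hcop : Nat.Coprime (charDegree (χ : G → ℂ)) 2 := by
    exact Nat.coprime_two_right.mpr hodd
  exact not_memLocalIdeal_natCast hM hcop h5

end

end Cfsg.Agent.Lib.Helper28
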