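import Mathlib
import Cfsg.Prelude.Def_Blocks
import Cfsg.Agent.Lib.Helper28.RealOddB
import Cfsg.Agent.Lib.Helper28.BrauerD
import Cfsg.Agent.Lib.Helper28.BlockCount
import Cfsg.Agent.Lib.Helper28.BlockDefectE
import Cfsg.Agent.Lib.Helper28.HeightZeroH

set_option autoImplicit false

/-!
# Real odd degree characters and stable `2`-blocks of full defect (helper28)
-/

namespace Cfsg.Agent.Lib.Helper28

open Cfsg Cfsg.Agent.Lib.Helper4 Cfsg.Agent.Lib.Helper26
open scoped ComplexConjugate Classical

section

variable {G : Type*} [Group G] [Fintype G] {M : Ideal AlgInt}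

/-- **S4517**: a `2`-block of full defect stable under the Galois automorphism inverting the odd
order roots of unity is the principal block -/
theorem full_defect_stable_principal (hM : IsPModular 2 M) (k : ℕ)
    (hk₂ : ∀ g : G, Odd (orderOf g) → g ^ k = g⁻¹) (B : Set (IrrCharacter G))
    (hB : IsPBlock M B) (hdef : blockDefect 2 B = (Nat.card G).factorization 2)
    (hstab : ∀ χ ∈ B, ∃ ψ ∈ B, ∀ g : G, (ψ : G → ℂ) g = (χ : G → ℂ) (g ^ k)) :
    B = principalBlock M G := by
  have hprime : M.IsPrime := hM.2.1.isPrime
  have hMtop : M ≠ ⊤ := hM.2.1.ne_top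
  -- a character of odd degree in `B`
  obtain ⟨χ, hχ, hχe⟩ := exists_height_zero (p := 2) (Helper28.block_nonempty hB)
  obtain ⟨hd0, hd1, hddvd⟩ := irr_degree_nat χ.2
  have hle : (charDegree (χ : G → ℂ)).factorization 2 ≤ (Nat.card G).factorization 2 :=
    (Nat.factorization_le_iff_dvd hd0 Nat.card_pos.ne').mpr hddvd 2
  have hfac0 : (charDegree (χ : G → ℂ)).factorization 2 = 0 := by
    unfold blockDefect at hdef
    rw [← hχe] at hdef
    omega
  have hodd : Odd (charDegree (χ : G → ℂ)) := by
    rw [← Nat.not_even_iff_odd, even_iff_two_dvd]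
    intro hdvd
    have := (Nat.Prime.dvd_iff_one_le_factorization Nat.prime_two hd0).mp hdvd
    omega
  obtain ⟨ψ, hψB, hψ⟩ := hstab χ hχ
  have hsame : SameBlock M (χ : G → ℂ) (ψ : G → ℂ) :=
    (Helper28.mem_block_iff hB hχ ψ).mp hψB
  have hmem : χ ∈ principalBlock M G := by
    apply mem_principalBlock_of_odd_degree hM χ ψ hodd hsame
    intro g hg
    rw [hψ g, hk₂ g hg, irr_inv_eq_conj]
  exact block_eq_of_mem hB Helper28.isPBlock_principalBlock hχ hmem

/-- a real-valued irreducible character of odd degree lies in the principal `2`-block -/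
theorem real_odd_mem_principalBlock (hM : IsPModular 2 M) (χ : IrrCharacter G)
    (hreal : ∀ g : G, ((χ : G → ℂ) g).im = 0) (hodd : Odd (charDegree (χ : G → ℂ))) :
    χ ∈ principalBlock M G := by
  have hMtop : M ≠ ⊤ := hM.2.1.ne_top
  apply mem_principalBlock_of_odd_degree hM χ χ hodd (sameBlock_refl hMtop _)
  intro g _
  exact (Complex.conj_eq_iff_im.mpr (hreal g)).symm

/-- the number of characters of the principal block is at most `p^(2a)` -/
theorem card_principalBlock_le {p : ℕ} [Fact p.Prime] (hM : IsPModular p M) :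
    Nat.card (principalBlock M G) ≤ p ^ (2 * (Nat.card G).factorization p) := by
  have : Fintype (IrrCharacter G) := Fintype.ofFinite _
  have hp : p.Prime := Fact.out
  have hB0 : IsPBlock M (principalBlock M G) := Helper28.isPBlock_principalBlock
  have h1 := brauer_feit_core hM hB0
  have h2 : Nat.card (principalBlock M G) =
      ∑ ψ : IrrCharacter G, (if ψ ∈ principalBlock M G then 1 else 0) := by
    rw [Nat.card_eq_fintype_card, Fintype.card_subtype, Finset.card_filter]
  have h3 : ∑ ψ : IrrCharacter G, (if ψ ∈ principalBlock M G then 1 else 0) ≤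
      ∑ ψ : IrrCharacter G, (if ψ ∈ principalBlock M G then
        p ^ (2 * blockHeight p (principalBlock M G) (ψ : G → ℂ)) else 0) := by
    apply Finset.sum_le_sum
    intro ψ _
    split_ifs
    · exact Nat.one_le_pow _ _ hp.pos
    · exact le_rfl
  have hdle : blockDefect p (principalBlock M G) ≤ (Nat.card G).factorization p := by
    unfold blockDefect
    exact Nat.sub_le _ _
  have h4 : p ^ (2 * blockDefect p (principalBlock M G)) / 4 + 1 ≤
      p ^ (2 * (Nat.card G).factorization p) := by
    have h5 : p ^ (2 * blockDefect p (principalBlock M G)) ≤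
        p ^ (2 * (Nat.card G).factorization p) :=
      Nat.pow_le_pow_right hp.pos (by omega)
    by_cases hd : blockDefect p (principalBlock M G) = 0
    · rw [hd, mul_zero, pow_zero]
      have : 1 ≤ p ^ (2 * (Nat.card G).factorization p) := Nat.one_le_pow _ _ hp.pos
      omega
    · have h6 : 4 ≤ p ^ (2 * blockDefect p (principalBlock M G)) := by
        calc 4 = 2 ^ 2 := by norm_num
          _ ≤ p ^ 2 := Nat.pow_le_pow_left hp.two_le 2
          _ ≤ p ^ (2 * blockDefect p (principalBlock M G)) :=
            Nat.pow_le_pow_right hp.pos (by omega)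
      omega
  omega

end

end Cfsg.Agent.Lib.Helper28
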