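import Mathlib
import Cfsg.Prelude.Def_Blocks
import Cfsg.Agent.Lib.Helper28.RealOddC
import Cfsg.Agent.Lib.Helper28.BlockWeakOrth

set_option autoImplicit false

/-!
# The number of odd degree characters in the principal `2`-block is even (helper28)
-/

namespace Cfsg.Agent.Lib.Helper28

open Cfsg Cfsg.Agent.Lib.Helper4 Cfsg.Agent.Lib.Helper26
open scoped ComplexConjugate Classical

section

variable {G : Type*} [Group G] [Fintype G] {M : Ideal AlgInt}

/-- a power map fixing the odd order elements, with odd exponent, has `2`-power order -/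
theorem pow_pow_two_pow_eq_self (k : ℕ) (hkodd : Odd k)
    (hk₂ : ∀ g : G, Odd (orderOf g) → g ^ k = g) (g : G) :
    g ^ (k ^ (2 ^ (Nat.card G).factorization 2)) = g := by
  set a := (Nat.card G).factorization 2 with ha
  set o := orderOf g with ho
  have ho0 : o ≠ 0 := (orderOf_pos g).ne'
  set j := o.factorization 2 with hj
  set r := o / 2 ^ j with hr
  have hor : 2 ^ j * r = o := Nat.ordProj_mul_ordCompl_eq_self o 2
  have hrodd : Odd r := by
    rw [← Nat.not_even_iff_odd, even_iff_two_dvd]
    exact Nat.not_dvd_ordCompl Nat.prime_two ho0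
  have hcop : Nat.Coprime (2 ^ j) r := Nat.Coprime.pow_left j (Nat.coprime_two_left.mpr hrodd)
  have hja : j ≤ a := by
    have hdvd : o ∣ Nat.card G := orderOf_dvd_natCard g
    exact (Nat.factorization_le_iff_dvd ho0 Nat.card_pos.ne').mpr hdvd 2
  -- mod `r`
  have h1 : k ^ (2 ^ a) ≡ 1 [MOD r] := by
    have hord : orderOf (g ^ 2 ^ j) = r := by
      rw [orderOf_pow' g (pow_ne_zero j two_ne_zero), ← ho, hr]
      congr 1
      exact Nat.gcd_eq_right (Dvd.intro r hor)
    have h2 := hk₂ (g ^ 2 ^ j) (by rw [hord]; exact hrodd)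
    have h3 : (g ^ 2 ^ j) ^ k = (g ^ 2 ^ j) ^ 1 := by rw [pow_one]; exact h2
    rw [pow_eq_pow_iff_modEq, hord] at h3
    have := h3.pow (2 ^ a)
    rwa [one_pow] at this
  -- mod `2^j`
  have h2 : k ^ (2 ^ a) ≡ 1 [MOD 2 ^ j] := by
    by_cases hj0 : j = 0
    · rw [hj0, pow_zero]
      exact Nat.modEq_one
    · have hcopk : Nat.Coprime k (2 ^ j) :=
        Nat.Coprime.pow_right j (Nat.coprime_two_right.mpr hkodd)
      have h3 := Nat.ModEq.pow_totient hcopk
      rw [Nat.totient_prime_pow Nat.prime_two (Nat.pos_of_ne_zero hj0)] at h3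
      have h4 : 2 ^ a = 2 ^ (j - 1) * (2 - 1) * 2 ^ (a - (j - 1)) := by
        rw [Nat.add_one_sub_one, mul_one, ← pow_add]
        congr 1
        omega
      rw [h4, pow_mul]
      have := h3.pow (2 ^ (a - (j - 1)))
      rwa [one_pow] at this
  have h3 : k ^ (2 ^ a) ≡ 1 [MOD o] := by
    rw [← hor]
    exact (Nat.modEq_and_modEq_iff_modEq_mul hcop).mp ⟨h2, h1⟩
  have h4 : g ^ (k ^ (2 ^ a)) = g ^ 1 := pow_eq_pow_iff_modEq.mpr h3
  rwa [pow_one] at h4

/-- in a group of even order the principal `2`-block has an even number of odd degree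
characters -/
theorem even_card_odd_degree_principal (hM : IsPModular 2 M) (hev : Even (Nat.card G)) :
    Even (Nat.card {χ : IrrCharacter G // χ ∈ principalBlock M G ∧
      Odd (charDegree (χ : G → ℂ))}) := by
  have : Fintype (IrrCharacter G) := Fintype.ofFinite _
  have : Fact (Nat.Prime 2) := ⟨Nat.prime_two⟩
  have hprime : M.IsPrime := hM.2.1.isPrime
  have hMtop : M ≠ ⊤ := hM.2.1.ne_top
  have hB0 : IsPBlock M (principalBlock M G) := Helper28.isPBlock_principalBlock
  obtain ⟨t, ht⟩ := exists_prime_orderOf_dvd_card' (G := G) 2 (even_iff_two_dvd.mp hev)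
  have ht2 : t ^ 2 = 1 := by rw [← ht]; exact pow_orderOf_eq_one t
  have htinv : t⁻¹ = t := by
    rw [inv_eq_iff_mul_eq_one, ← pow_two]
    exact ht2
  have h1ne : ¬ 2 ∣ orderOf (1 : G) := by
    rw [orderOf_one]
    decide
  have hweak := weak_orthogonality_of_memLocalRing hM (principalBlock M G)
    (fun g => Helper28.osima hB0 g) (1 : G) t h1ne (by rw [ht])
  -- the sum of squares of degrees
  have hsq : MemLocalIdeal M (∑ χ : IrrCharacter G,
      (if χ ∈ principalBlock M G then (χ : G → ℂ) 1 * (χ : G → ℂ) 1 else 0)) := by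
    have h2 : ∑ χ : IrrCharacter G,
        (if χ ∈ principalBlock M G then (χ : G → ℂ) 1 * (χ : G → ℂ) 1 else 0) =
        ∑ χ : IrrCharacter G, (if χ ∈ principalBlock M G then
          (χ : G → ℂ) 1 * ((χ : G → ℂ) 1 - (χ : G → ℂ) (t * 1)) else 0) := by
      rw [← add_zero (∑ χ : IrrCharacter G, (if χ ∈ principalBlock M G then
          (χ : G → ℂ) 1 * ((χ : G → ℂ) 1 - (χ : G → ℂ) (t * 1)) else 0)), ← hweak,
        ← Finset.sum_add_distrib]
      refine Finset.sum_congr rfl fun χ _ => ?_
      split_ifs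
      · rw [← irr_inv_eq_conj, htinv, mul_one]
        ring
      · rw [add_zero]
    rw [h2]
    apply memLocalIdeal_sum
    intro χ _
    split_ifs
    · apply memLocalIdeal_mul_left (irr_memLocalRing hMtop χ 1)
      exact irr_value_sub_memLocalIdeal hM χ t 1 (Commute.one_right t) 1
        (by rw [pow_one]; exact ht2) h1ne
    · exact memLocalIdeal_zero hMtop
  -- as a natural number
  have hnat : (∑ χ : IrrCharacter G,
      (if χ ∈ principalBlock M G then (χ : G → ℂ) 1 * (χ : G → ℂ) 1 else 0)) =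
      ((∑ χ : IrrCharacter G, (if χ ∈ principalBlock M G then
        charDegree (χ : G → ℂ) * charDegree (χ : G → ℂ) else 0) : ℕ) : ℂ) := by
    push_cast
    refine Finset.sum_congr rfl fun χ _ => ?_
    split_ifs
    · rw [(irr_degree_nat χ.2).2.1]
    · rfl
  rw [hnat] at hsq
  have heven : Even (∑ χ : IrrCharacter G, (if χ ∈ principalBlock M G then
        charDegree (χ : G → ℂ) * charDegree (χ : G → ℂ) else 0)) := by
    by_contra hodd
    rw [Nat.not_even_iff_odd] at hodd
    exact not_memLocalIdeal_natCast hM (Nat.coprime_two_right.mpr hodd) hsq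
  rw [Finset.even_sum_iff_even_card_odd] at heven
  rw [Nat.card_eq_fintype_card, Fintype.card_subtype]
  convert heven using 2
  ext χ
  simp only [Finset.mem_filter, Finset.mem_univ, true_and]
  constructor
  · rintro ⟨h1, h2⟩
    rw [if_pos h1]
    exact h2.mul h2
  · intro h
    by_cases h1 : χ ∈ principalBlock M G
    · rw [if_pos h1] at h
      exact ⟨h1, (Nat.odd_mul.mp h).1⟩
    · rw [if_neg h1] at h
      exact absurd h (by decide)

end

end Cfsg.Agent.Lib.Helper28
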