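import Mathlib
import Cfsg.Prelude.Def_Blocks
import Cfsg.Agent.Lib.Helper28.GalParityA
import Cfsg.Agent.Lib.Helper4.GaloisConj

set_option autoImplicit false

/-!
# Galois-fixed odd degree characters of the principal `2`-block come in even number (helper28)
-/

namespace Cfsg.Agent.Lib.Helper28

open Cfsg Cfsg.Agent.Lib.Helper4 Cfsg.Agent.Lib.Helper26
open scoped ComplexConjugate Classical

section

variable {G : Type*} [Group G] [Fintype G] {M : Ideal AlgInt}

theorem coprime_of_pow_conditions (k : ℕ)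
    (hk₁ : ∀ g : G, (∃ j : ℕ, orderOf g = 2 ^ j) → g ^ k = g ^ 3)
    (hk₂ : ∀ g : G, Odd (orderOf g) → g ^ k = g) : Nat.Coprime k (Nat.card G) := by
  by_contra hcon
  obtain ⟨q, hq, hqk, hqG⟩ := Nat.Prime.not_coprime_iff_dvd.mp hcon
  have : Fact q.Prime := ⟨hq⟩
  obtain ⟨g, hg⟩ := exists_prime_orderOf_dvd_card' (G := G) q hqG
  have hgk : g ^ k = 1 := by
    rw [← orderOf_dvd_iff_pow_eq_one, hg]
    exact hqk
  have hg1 : g ≠ 1 := by
    intro h
    rw [h, orderOf_one] at hg
    exact hq.one_lt.ne hg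
  rcases hq.eq_two_or_odd' with h2 | hodd
  · subst h2
    have h1 := hk₁ g ⟨1, by rw [hg, pow_one]⟩
    have h2 : g ^ 2 = 1 := by rw [← hg]; exact pow_orderOf_eq_one g
    have h3 : g ^ 3 = g := by
      rw [pow_succ, h2, one_mul]
    rw [hgk, h3] at h1
    exact hg1 h1.symm
  · have h1 := hk₂ g (by rw [hg]; exact hodd)
    rw [hgk] at h1
    exact hg1 h1.symm

/-- the odd degree characters of the principal block -/
abbrev OddPrincipal (M : Ideal AlgInt) (G : Type*) [Group G] :=
  {χ : IrrCharacter G // χ ∈ principalBlock M G ∧ Odd (charDegree (χ : G → ℂ))}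

/-- **S4550** -/
theorem even_card_fixed_odd_degree_principal (hM : IsPModular 2 M) (hev : Even (Nat.card G))
    (k : ℕ) (hk₁ : ∀ g : G, (∃ j : ℕ, orderOf g = 2 ^ j) → g ^ k = g ^ 3)
    (hk₂ : ∀ g : G, Odd (orderOf g) → g ^ k = g) :
    Even (Nat.card {χ : IrrCharacter G // χ ∈ principalBlock M G ∧
      Odd (charDegree (χ : G → ℂ)) ∧ ∀ g : G, (χ : G → ℂ) (g ^ k) = (χ : G → ℂ) g}) := by
  have : Fact (Nat.Prime 2) := ⟨Nat.prime_two⟩
  have hcop := coprime_of_pow_conditions k hk₁ hk₂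
  have hkodd : Odd k :=
    Nat.coprime_two_right.mp (Nat.Coprime.coprime_dvd_right (even_iff_two_dvd.mp hev) hcop)
  -- the twist
  have htw : ∀ χ : IrrCharacter G, IsIrrCharacter G (fun g => (χ : G → ℂ) (g ^ k)) :=
    fun χ => isIrrCharacter_pow _ χ.2 k hcop
  have homega : ∀ χ : IrrCharacter G,
      omegaF (fun g => (χ : G → ℂ) (g ^ k)) (pRegInd G 2) =
        omegaF (χ : G → ℂ) (pRegInd G 2) := by
    intro χ
    unfold omegaF
    have h1 : (fun g => (χ : G → ℂ) (g ^ k)) 1 = (χ : G → ℂ) 1 := by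
      show (χ : G → ℂ) (1 ^ k) = _
      rw [one_pow]
    rw [h1]
    congr 1
    refine Finset.sum_congr rfl fun g _ => ?_
    unfold pRegInd
    by_cases hg : 2 ∣ orderOf g
    · rw [if_pos hg, zero_mul, zero_mul]
    · rw [if_neg hg]
      show 1 * (χ : G → ℂ) (g ^ k) = _
      rw [hk₂ g]
      rw [← Nat.not_even_iff_odd]
      exact fun h => hg (even_iff_two_dvd.mp h)
  have : Finite (IrrCharacter G) := inferInstance
  have : Fintype (OddPrincipal M G) := Fintype.ofFinite _
  let f : Function.End (OddPrincipal M G) := fun χ =>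
    ⟨⟨fun g => (χ.1 : G → ℂ) (g ^ k), htw χ.1⟩, by
      apply mem_principalBlock_of_omegaF hM
      show ¬ MemLocalIdeal M (omegaF (fun g => (χ.1 : G → ℂ) (g ^ k)) (pRegInd G 2))
      rw [homega]
      exact omegaF_pRegInd_of_mem_principalBlock hM χ.1 χ.2.1, by
      have : charDegree (fun g => (χ.1 : G → ℂ) (g ^ k)) = charDegree (χ.1 : G → ℂ) := by
        unfold charDegree
        have h1 : (fun g => (χ.1 : G → ℂ) (g ^ k)) 1 = (χ.1 : G → ℂ) 1 := by
          show (χ.1 : G → ℂ) (1 ^ k) = _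
          rw [one_pow]
        rw [h1]
      show Odd (charDegree (fun g => (χ.1 : G → ℂ) (g ^ k)))
      rw [this]
      exact χ.2.2⟩
  have hfn : ∀ (n : ℕ) (χ : OddPrincipal M G), (((f ^ n) χ).1 : G → ℂ) = fun g => (χ.1 : G → ℂ) (g ^ (k ^ n)) := by
    intro n
    induction n with
    | zero =>
      intro χ
      funext g
      rw [pow_zero, pow_zero, pow_one]
      rfl
    | succ n ih =>
      intro χ
      rw [pow_succ]
      show (((f ^ n) (f χ)).1 : G → ℂ) = _
      rw [ih (f χ)]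
      funext g
      show (χ.1 : G → ℂ) ((g ^ (k ^ n)) ^ k) = _
      rw [← pow_mul, ← pow_succ]
  have hf : f ^ 2 ^ (Nat.card G).factorization 2 = 1 := by
    funext χ
    apply Subtype.ext
    apply Subtype.ext
    rw [hfn]
    funext g
    rw [pow_pow_two_pow_eq_self k hkodd hk₂ g]
    rfl
  have hmod := Equiv.Perm.card_fixedPoints_modEq (p := 2) hf
  have hT : Even (Fintype.card (OddPrincipal M G)) := by
    have := even_card_odd_degree_principal (G := G) hM hev
    rwa [Nat.card_eq_fintype_card] at this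
  have hfix : Even (Fintype.card (Function.fixedPoints f)) := by
    rw [Nat.even_iff] at hT ⊢
    rw [← hmod, hT]
  have hcard : Nat.card {χ : IrrCharacter G // χ ∈ principalBlock M G ∧
      Odd (charDegree (χ : G → ℂ)) ∧ ∀ g : G, (χ : G → ℂ) (g ^ k) = (χ : G → ℂ) g} =
      Fintype.card (Function.fixedPoints f) := by
    rw [← Nat.card_eq_fintype_card]
    apply Nat.card_congr
    refine
      { toFun := fun χ => ⟨⟨χ.1, χ.2.1, χ.2.2.1⟩, ?_⟩
        invFun := fun x => ⟨x.1.1, x.1.2.1, x.1.2.2, ?_⟩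
        left_inv := fun χ => rfl
        right_inv := fun x => rfl }
    · show f ⟨χ.1, χ.2.1, χ.2.2.1⟩ = ⟨χ.1, χ.2.1, χ.2.2.1⟩
      apply Subtype.ext
      apply Subtype.ext
      funext g
      exact χ.2.2.2 g
    · intro g
      have h1 : f x.1 = x.1 := x.2
      have h2 := congrArg (fun y : OddPrincipal M G => (y.1 : G → ℂ) g) h1
      exact h2
  rw [hcard]
  exact hfix

end

end Cfsg.Agent.Lib.Helper28
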