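import Mathlib
import Cfsg.Prelude.Def_Characters
import Cfsg.Agent.S0868
import Cfsg.Agent.S0886
import Cfsg.Agent.Lib.Helper4.Decomp
import Cfsg.Agent.Lib.Helper4.CharOrtho
import Cfsg.Agent.Lib.Helper26.IndChar
import Cfsg.Agent.Lib.Helper26.CharInt
import Cfsg.Agent.Lib.Helper28.BrauerIndD
import Cfsg.Agent.Lib.Helper28.PiPart

set_option autoImplicit false

/-!
# Gluing compatible extensions of an irreducible character via Brauer's characterization
(helper28)
-/

namespace Cfsg.Agent.Lib.Helper28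

open Cfsg Cfsg.Agent.Lib.Helper26 Cfsg.Agent.Lib.Helper2
open scoped ComplexConjugate

/-- a character whose restriction to a subgroup is irreducible is irreducible -/
theorem isIrrCharacter_of_restrict {K : Type*} [Group K] [Finite K] (M : Subgroup K)
    {φ : K → ℂ} (hφ : IsCharacter K φ) (hres : IsIrrCharacter M (fun m : M => φ m)) :
    IsIrrCharacter K φ := by
  haveI : Fintype M := Fintype.ofFinite _
  obtain ⟨n, X, rfl⟩ := hφ
  obtain ⟨m, σ, hσ, hσc⟩ := hres
  let ρ : Representation ℂ M (Fin n → ℂ) := MonoidHom.comp X M.subtype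
  have hρc : ρ.character = σ.character := by
    rw [hσc]
    rfl
  obtain ⟨e⟩ := Cfsg.Agent.Lib.Helper4.equiv_of_character_eq' σ ρ hρc.symm
  have hρ : ρ.IsIrreducible := Cfsg.Agent.Lib.Helper4.isIrreducible_of_equiv e hσ
  exact ⟨n, X, Cfsg.Agent.S0886.irreducible_of_restrict M X ρ (fun _ => rfl) hρ, rfl⟩

section Adm
variable {G : Type*} [Group G] (N : Subgroup G) [hN : N.Normal]

/-- admissible subgroups: those containing `N` with solvable quotient -/
def Adm (H : Subgroup G) : Prop := N ≤ H ∧ Group.IsSolvable (↥H ⧸ N.subgroupOf H)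

theorem adm_sup (S : Subgroup G) [Group.IsSolvable S] : Adm N (N ⊔ S) := by
  refine ⟨le_sup_left, ?_⟩
  let f : S →* ↥(N ⊔ S) ⧸ N.subgroupOf (N ⊔ S) :=
    (QuotientGroup.mk' _).comp (Subgroup.inclusion le_sup_right)
  have hf : Function.Surjective f := by
    intro q
    obtain ⟨h, rfl⟩ := QuotientGroup.mk_surjective q
    have hh : (h : G) ∈ (↑(N ⊔ S) : Set G) := h.2
    rw [Subgroup.normal_mul] at hh
    obtain ⟨n, hn, s, hs, hns⟩ := Set.mem_mul.mp hh
    refine ⟨⟨s, hs⟩, ?_⟩
    show (QuotientGroup.mk (Subgroup.inclusion le_sup_right ⟨s, hs⟩) :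
      ↥(N ⊔ S) ⧸ N.subgroupOf (N ⊔ S)) = QuotientGroup.mk h
    rw [QuotientGroup.eq]
    rw [Subgroup.mem_subgroupOf]
    have : (((Subgroup.inclusion (le_sup_right : S ≤ N ⊔ S) ⟨s, hs⟩)⁻¹ * h : ↥(N ⊔ S)) : G) =
        s⁻¹ * (n * s) := by
      rw [hns]; rfl
    rw [this]
    have := hN.conj_mem n hn s⁻¹
    simpa [mul_assoc] using this
  exact Group.isSolvable_of_surjective hf

theorem adm_zpowers (g : G) : Adm N (N ⊔ Subgroup.zpowers g) := by
  have : Group.IsSolvable (Subgroup.zpowers g) :=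
    Group.isSolvable_of_comm (fun a b => by
      obtain ⟨a, i, rfl⟩ := a
      obtain ⟨b, j, rfl⟩ := b
      apply Subtype.ext
      show g ^ i * g ^ j = g ^ j * g ^ i
      rw [← zpow_add, ← zpow_add, add_comm])
  exact adm_sup N _

theorem adm_elementary [Finite G] {p : ℕ} (hp : p.Prime) (E : Subgroup G)
    (hE : IsElementary p E) : Adm N (N ⊔ E) := by
  have := isNilpotent_of_isElementary hp hE
  have : Group.IsSolvable E := inferInstance
  exact adm_sup N E

end Adm

end Cfsg.Agent.Lib.Helper28
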