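import Mathlib
import Cfsg.Prelude.Def_Characters
import Cfsg.Agent.Lib.Helper28.GlueA

set_option autoImplicit false

/-!
# The gluing theorem (helper28)
-/

namespace Cfsg.Agent.Lib.Helper28

open Cfsg Cfsg.Agent.Lib.Helper26 Cfsg.Agent.Lib.Helper2
open scoped ComplexConjugate

section
variable {G : Type*} [Group G] (N : Subgroup G) [hN : N.Normal]

theorem mem_sup_zpowers_iff (a y : G) :
    y ∈ N ⊔ Subgroup.zpowers a ↔ ∃ n ∈ N, ∃ i : ℤ, n * a ^ i = y := by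
  have h1 : y ∈ N ⊔ Subgroup.zpowers a ↔ y ∈ (↑(N ⊔ Subgroup.zpowers a) : Set G) := Iff.rfl
  rw [h1, Subgroup.normal_mul, Set.mem_mul]
  constructor
  · rintro ⟨n, hn, s, hs, rfl⟩
    obtain ⟨i, rfl⟩ := Subgroup.mem_zpowers_iff.mp hs
    exact ⟨n, hn, i, rfl⟩
  · rintro ⟨n, hn, i, rfl⟩
    exact ⟨n, hn, a ^ i, Subgroup.zpow_mem_zpowers a i, rfl⟩

theorem conj_sup_zpowers_mem_iff (g x y : G) :
    y ∈ N ⊔ Subgroup.zpowers (x * g * x⁻¹) ↔ x⁻¹ * y * x ∈ N ⊔ Subgroup.zpowers g := by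
  rw [mem_sup_zpowers_iff, mem_sup_zpowers_iff]
  constructor
  · rintro ⟨n, hn, i, rfl⟩
    refine ⟨x⁻¹ * n * x, ?_, i, ?_⟩
    · have := hN.conj_mem n hn x⁻¹
      simpa using this
    · rw [conj_zpow]; group
  · rintro ⟨n, hn, i, h⟩
    refine ⟨x * n * x⁻¹, hN.conj_mem n hn x, i, ?_⟩
    rw [conj_zpow]
    have : y = x * (x⁻¹ * y * x) * x⁻¹ := by group
    rw [this, ← h]; group

theorem self_mem_sup_zpowers (g : G) : g ∈ N ⊔ Subgroup.zpowers g :=
  (le_sup_right : Subgroup.zpowers g ≤ N ⊔ Subgroup.zpowers g) (Subgroup.mem_zpowers g)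

theorem sup_zpowers_le {H : Subgroup G} (hNH : N ≤ H) {g : G} (hg : g ∈ H) :
    N ⊔ Subgroup.zpowers g ≤ H :=
  sup_le hNH (by rw [Subgroup.zpowers_le]; exact hg)

end

section Glue
variable {G : Type*} [Group G] [Fintype G] (N : Subgroup G) [hN : N.Normal]

/-- **Gluing theorem.** A family of compatible, unique extensions of `ϑ` to the subgroups `H ⊇ N`
with solvable `H/N` comes from an irreducible character of `G`. -/
theorem glue (ϑ : N → ℂ) (hϑ : IsIrrCharacter N ϑ)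
    (Pr : ∀ H : Subgroup G, (↥H → ℂ) → Prop)
    (hI : ∀ H ψ, Pr H ψ → IsIrrCharacter ↥H ψ)
    (hX : ∀ H ψ (hNH : N ≤ H), Pr H ψ → ∀ n : N, ψ ⟨n, hNH n.2⟩ = ϑ n)
    (hU : ∀ H ψ₁ ψ₂, N ≤ H → Pr H ψ₁ → Pr H ψ₂ → ψ₁ = ψ₂)
    (hE : ∀ H, Adm N H → ∃ ψ, Pr H ψ)
    (hR : ∀ K H (hKH : K ≤ H), N ≤ K → ∀ ψ, Pr H ψ → Pr K (fun k => ψ ⟨k, hKH k.2⟩))
    (hC : ∀ (H H' : Subgroup G) (x : G) (h : ∀ y, y ∈ H' ↔ x⁻¹ * y * x ∈ H), N ≤ H →
      ∀ ψ, Pr H ψ → Pr H' (fun y => ψ ⟨x⁻¹ * y * x, (h y).mp y.2⟩)) :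
    ∃ χ : G → ℂ, IsIrrCharacter G χ ∧ (∀ n : N, χ n = ϑ n) ∧
      ∀ H, Adm N H → Pr H (fun h : H => χ h) := by
  classical
  haveI : Fintype N := Fintype.ofFinite _
  choose ψ hψ using hE
  -- the chosen extensions as functions on `G`
  let Ψ : Subgroup G → G → ℂ := fun H g =>
    if hA : Adm N H then (if hg : g ∈ H then ψ H hA ⟨g, hg⟩ else 0) else 0
  have hΨ : ∀ H (hA : Adm N H) (h : H), Ψ H h = ψ H hA h := by
    intro H hA h
    simp only [Ψ, dif_pos hA, dif_pos h.2]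
  have hAg : ∀ g : G, Adm N (N ⊔ Subgroup.zpowers g) := adm_zpowers N
  let χ : G → ℂ := fun g => Ψ (N ⊔ Subgroup.zpowers g) g
  -- restriction consistency
  have K1 : ∀ H K (hAH : Adm N H) (hAK : Adm N K) (hKH : K ≤ H) (k : K),
      ψ K hAK k = ψ H hAH ⟨k, hKH k.2⟩ := by
    intro H K hAH hAK hKH k
    have h1 := hR K H hKH hAK.1 (ψ H hAH) (hψ H hAH)
    have h2 := hU K _ _ hAK.1 h1 (hψ K hAK)
    exact (congrFun h2 k).symm
  -- conjugation consistency
  have K2 : ∀ (H H' : Subgroup G) (x : G) (h : ∀ y, y ∈ H' ↔ x⁻¹ * y * x ∈ H) (hAH : Adm N H)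
      (hAH' : Adm N H') (y : H'), ψ H' hAH' y = ψ H hAH ⟨x⁻¹ * y * x, (h y).mp y.2⟩ := by
    intro H H' x h hAH hAH' y
    have h1 := hC H H' x h hAH.1 (ψ H hAH) (hψ H hAH)
    have h2 := hU H' _ _ hAH'.1 h1 (hψ H' hAH')
    exact (congrFun h2 y).symm
  -- `χ` restricted to an admissible subgroup
  have hres : ∀ H (hA : Adm N H) (h : H), χ h = ψ H hA h := by
    intro H hA h
    have hle : N ⊔ Subgroup.zpowers (h : G) ≤ H := sup_zpowers_le N hA.1 h.2
    show Ψ (N ⊔ Subgroup.zpowers (h : G)) h = _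
    have h1 := hΨ _ (hAg h) ⟨h, self_mem_sup_zpowers N h⟩
    rw [h1, K1 H _ hA (hAg h) hle]
  have hresfun : ∀ H (hA : Adm N H), (fun h : H => χ h) = ψ H hA := fun H hA =>
    funext (hres H hA)
  -- class function
  have hcl : IsClassFunction G χ := by
    intro g x
    have hiff := conj_sup_zpowers_mem_iff N g x
    have h1 := hΨ _ (hAg (x * g * x⁻¹)) ⟨x * g * x⁻¹, self_mem_sup_zpowers N _⟩
    have h2 := K2 _ _ x hiff (hAg g) (hAg (x * g * x⁻¹)) ⟨x * g * x⁻¹, self_mem_sup_zpowers N _⟩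
    have h3 := hΨ _ (hAg g) ⟨g, self_mem_sup_zpowers N g⟩
    show Ψ (N ⊔ Subgroup.zpowers (x * g * x⁻¹)) (x * g * x⁻¹) = Ψ (N ⊔ Subgroup.zpowers g) g
    rw [h1, h2, h3]
    congr 1
    apply Subtype.ext
    show x⁻¹ * (x * g * x⁻¹) * x = g
    group
  -- extends `ϑ`
  have hext : ∀ n : N, χ n = ϑ n := by
    intro n
    have hA := hAg (n : G)
    have h1 := hres _ hA ⟨n, hA.1 n.2⟩
    rw [h1]
    exact hX _ _ hA.1 (hψ _ hA) n
  -- generalized character
  have hgen : IsGeneralizedCharacter G χ := by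
    apply brauer_characterization χ hcl
    intro E p hp hE
    apply isGeneralizedCharacter_of_isCharacter
    have hA := adm_elementary N hp E hE
    have hc : IsCharacter ↥(N ⊔ E) (ψ _ hA) := isCharacter_of_isIrrCharacter (hI _ _ (hψ _ hA))
    have := isCharacter_comp_hom hc (Subgroup.inclusion (le_sup_right : E ≤ N ⊔ E))
    convert this using 1
    funext e
    exact hres _ hA ⟨e, (le_sup_right : E ≤ N ⊔ E) e.2⟩
  -- norm one
  have hcoset : ∀ g : G, (Nat.card N : ℂ)⁻¹ * ∑ n : N, χ ((n : G) * g) * conj (χ ((n : G) * g)) = 1 := by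
    intro g
    obtain ⟨H, hH⟩ : ∃ H : Subgroup G, H = N ⊔ Subgroup.zpowers g := ⟨_, rfl⟩
    have hA : Adm N H := hH ▸ hAg g
    have hgH : g ∈ H := hH ▸ self_mem_sup_zpowers N g
    haveI : Fintype H := Fintype.ofFinite _
    haveI : Fintype (N.subgroupOf H) := Fintype.ofFinite _
    have hirr := hI _ _ (hψ H hA)
    have hresirr : IsIrrCharacter (N.subgroupOf H) (fun n : N.subgroupOf H => ψ H hA n) := by
      have := isIrrCharacter_comp_mulEquiv hϑ (Subgroup.subgroupOfEquivOfLe hA.1)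
      convert this using 1
      funext n
      exact hX H _ hA.1 (hψ H hA) ⟨(n : G), Subgroup.mem_subgroupOf.mp n.2⟩
    have h868 := (Cfsg.Agent.S0868.result (N.subgroupOf H) (ψ H hA) hirr hresirr (ψ H hA) hirr
      _ rfl).2.2 rfl
    have h1 := congrFun h868 ⟨g, hgH⟩
    rw [← h1]
    have hcard : Nat.card (N.subgroupOf H) = Nat.card N :=
      Nat.card_congr (Subgroup.subgroupOfEquivOfLe hA.1).toEquiv
    rw [hcard]
    congr 1
    symm
    apply Fintype.sum_equiv (Subgroup.subgroupOfEquivOfLe hA.1).toEquiv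
    intro n
    have h2 : χ (((Subgroup.subgroupOfEquivOfLe hA.1 n : N) : G) * g) =
        ψ H hA ((n : H) * ⟨g, hgH⟩) := by
      have := hres H hA ((n : H) * ⟨g, hgH⟩)
      rw [← this]
      rfl
    show ψ H hA ((n : H) * ⟨g, hgH⟩) * conj (ψ H hA ((n : H) * ⟨g, hgH⟩)) = _
    rw [← h2]
    rfl
  have hnorm : classInner χ χ = 1 := by
    unfold classInner
    have hN0 : (Nat.card N : ℂ) ≠ 0 := by exact_mod_cast Nat.card_pos.ne'
    have hG0 : (Nat.card G : ℂ) ≠ 0 := by exact_mod_cast Nat.card_pos.ne'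
    have h1 : ∀ n : N, ∑ g : G, χ ((n : G) * g) * conj (χ ((n : G) * g)) =
        ∑ g : G, χ g * conj (χ g) := by
      intro n
      exact Fintype.sum_equiv (Equiv.mulLeft (n : G)) _ _ (fun g => rfl)
    have h2 : ∑ g : G, ∑ n : N, χ ((n : G) * g) * conj (χ ((n : G) * g)) =
        (Nat.card N : ℂ) * ∑ g : G, χ g * conj (χ g) := by
      rw [Finset.sum_comm, Finset.sum_congr rfl (fun n _ => h1 n), Finset.sum_const,
        Finset.card_univ, nsmul_eq_mul, Nat.card_eq_fintype_card]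
    have h3 : ∑ g : G, ∑ n : N, χ ((n : G) * g) * conj (χ ((n : G) * g)) =
        (Nat.card N : ℂ) * (Nat.card G : ℂ) := by
      have h4 : ∀ g : G, ∑ n : N, χ ((n : G) * g) * conj (χ ((n : G) * g)) = (Nat.card N : ℂ) := by
        intro g
        have := hcoset g
        field_simp at this
        exact this
      rw [Finset.sum_congr rfl (fun g _ => h4 g), Finset.sum_const, Finset.card_univ,
        nsmul_eq_mul, Nat.card_eq_fintype_card (α := G)]
      ring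
    rw [h2] at h3
    have h5 := mul_left_cancel₀ hN0 h3
    rw [h5, inv_mul_cancel₀ hG0]
  -- positivity
  have hpos : 0 < (χ 1).re := by
    obtain ⟨d, hd, hd1⟩ := irr_degree hϑ
    have h1 := hext 1
    rw [Subgroup.coe_one] at h1
    rw [h1, hd1]
    simpa using hd
  have hirr : IsIrrCharacter G χ := isIrrCharacter_of_norm_one hgen hnorm hpos
  refine ⟨χ, hirr, hext, ?_⟩
  intro H hA
  rw [hresfun H hA]
  exact hψ H hA

end Glue

end Cfsg.Agent.Lib.Helper28
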