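import Mathlib
import Cfsg.Prelude.Def_Characters
import Cfsg.Prelude.Def_CharExt
import Cfsg.Agent.Lib.Helper28.GlueB
import Cfsg.Agent.Lib.Helper7.DetChar

set_option autoImplicit false

/-!
# Gluing extensions: the irreducibility and extension clauses handled once and for all (helper28)
-/

namespace Cfsg.Agent.Lib.Helper28

open Cfsg Cfsg.Agent.Lib.Helper26 Cfsg.Agent.Lib.Helper2 Cfsg.Agent.Lib.Helper7
open scoped ComplexConjugate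

section
variable {G : Type*} [Group G] [Fintype G] (N : Subgroup G) [hN : N.Normal]

/-- restriction of an extension of `ϑ` from `H` to `K ⊇ N` is an irreducible extension -/
theorem restrict_irr_ext (ϑ : N → ℂ) (hϑ : IsIrrCharacter N ϑ) {K H : Subgroup G} (hKH : K ≤ H)
    (hNK : N ≤ K) {ψ : ↥H → ℂ} (hψ : IsIrrCharacter ↥H ψ)
    (hext : ∀ n : N, ψ ⟨n, hKH (hNK n.2)⟩ = ϑ n) :
    IsIrrCharacter ↥K (fun k : K => ψ ⟨k, hKH k.2⟩) ∧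
      ∀ n : N, (fun k : K => ψ ⟨k, hKH k.2⟩) ⟨n, hNK n.2⟩ = ϑ n := by
  refine ⟨?_, fun n => hext n⟩
  have hc : IsCharacter ↥K (fun k : K => ψ ⟨k, hKH k.2⟩) :=
    isCharacter_comp_hom (isCharacter_of_isIrrCharacter hψ) (Subgroup.inclusion hKH)
  apply isIrrCharacter_of_restrict (N.subgroupOf K) hc
  have := isIrrCharacter_comp_mulEquiv hϑ (Subgroup.subgroupOfEquivOfLe hNK)
  convert this using 1
  funext n
  exact hext ⟨(n : G), Subgroup.mem_subgroupOf.mp n.2⟩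

/-- the conjugation homomorphism between conjugate subgroups -/
def conjHom {H H' : Subgroup G} (x : G) (h : ∀ y, y ∈ H' ↔ x⁻¹ * y * x ∈ H) : ↥H' →* ↥H where
  toFun y := ⟨x⁻¹ * y * x, (h y).mp y.2⟩
  map_one' := by apply Subtype.ext; simp
  map_mul' a b := by
    apply Subtype.ext
    show x⁻¹ * ((a : G) * (b : G)) * x = (x⁻¹ * (a : G) * x) * (x⁻¹ * (b : G) * x)
    group

omit [Fintype G] hN in
theorem conjHom_surjective {H H' : Subgroup G} (x : G) (h : ∀ y, y ∈ H' ↔ x⁻¹ * y * x ∈ H) :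
    Function.Surjective (conjHom x h) := by
  intro k
  have hk : x * (k : G) * x⁻¹ ∈ H' := by
    rw [h]
    have : x⁻¹ * (x * (k : G) * x⁻¹) * x = k := by group
    rw [this]; exact k.2
  refine ⟨⟨x * (k : G) * x⁻¹, hk⟩, ?_⟩
  apply Subtype.ext
  show x⁻¹ * (x * (k : G) * x⁻¹) * x = k
  group

omit [Fintype G] in
theorem le_of_conj_iff {H H' : Subgroup G} (x : G) (h : ∀ y, y ∈ H' ↔ x⁻¹ * y * x ∈ H)
    (hNH : N ≤ H) : N ≤ H' := by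
  intro n hn
  rw [h]
  apply hNH
  have := hN.conj_mem n hn x⁻¹
  simpa using this

omit [Fintype G] in
/-- a conjugate of an extension of the invariant `ϑ` is an irreducible extension -/
theorem conj_irr_ext (ϑ : N → ℂ)
    (hinv : ∀ (g : G) (n : N), ϑ ⟨g * n * g⁻¹, hN.conj_mem (n : G) n.2 g⟩ = ϑ n)
    {H H' : Subgroup G} (x : G) (h : ∀ y, y ∈ H' ↔ x⁻¹ * y * x ∈ H) (hNH : N ≤ H)
    {ψ : ↥H → ℂ} (hψ : IsIrrCharacter ↥H ψ) (hext : ∀ n : N, ψ ⟨n, hNH n.2⟩ = ϑ n) :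
    IsIrrCharacter ↥H' (fun y : H' => ψ ⟨x⁻¹ * y * x, (h y).mp y.2⟩) ∧
      ∀ n : N, (fun y : H' => ψ ⟨x⁻¹ * y * x, (h y).mp y.2⟩)
        ⟨n, le_of_conj_iff N x h hNH n.2⟩ = ϑ n := by
  constructor
  · exact isIrrCharacter_comp_of_surjective hψ (conjHom x h) (conjHom_surjective x h)
  · intro n
    have hmem : x⁻¹ * (n : G) * x ∈ N := by
      have := hN.conj_mem n n.2 x⁻¹
      simpa using this
    show ψ ⟨x⁻¹ * (n : G) * x, _⟩ = ϑ n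
    have h1 := hext ⟨x⁻¹ * (n : G) * x, hmem⟩
    have h2 := hinv x⁻¹ n
    have h3 : ϑ ⟨x⁻¹ * (n : G) * x, hmem⟩ = ϑ n := by
      rw [← h2]
      congr 1
      apply Subtype.ext
      simp
    rw [← h3, ← h1]

/-- **Gluing theorem**, second form: only the extra clause `Q` has to be treated. -/
theorem glue' (ϑ : N → ℂ) (hϑ : IsIrrCharacter N ϑ)
    (hinv : ∀ (g : G) (n : N), ϑ ⟨g * n * g⁻¹, hN.conj_mem (n : G) n.2 g⟩ = ϑ n)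
    (Q : ∀ H : Subgroup G, (↥H → ℂ) → Prop)
    (hU : ∀ (H : Subgroup G) (hNH : N ≤ H) (ψ₁ ψ₂ : ↥H → ℂ), IsIrrCharacter ↥H ψ₁ →
      IsIrrCharacter ↥H ψ₂ → (∀ n : N, ψ₁ ⟨n, hNH n.2⟩ = ϑ n) →
      (∀ n : N, ψ₂ ⟨n, hNH n.2⟩ = ϑ n) → Q H ψ₁ → Q H ψ₂ → ψ₁ = ψ₂)
    (hE : ∀ (H : Subgroup G) (hA : Adm N H), ∃ ψ : ↥H → ℂ, IsIrrCharacter ↥H ψ ∧
      (∀ n : N, ψ ⟨n, hA.1 n.2⟩ = ϑ n) ∧ Q H ψ)
    (hR : ∀ (K H : Subgroup G) (hKH : K ≤ H) (hNK : N ≤ K) (ψ : ↥H → ℂ), IsIrrCharacter ↥H ψ →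
      (∀ n : N, ψ ⟨n, hKH (hNK n.2)⟩ = ϑ n) → Q H ψ → Q K (fun k => ψ ⟨k, hKH k.2⟩))
    (hC : ∀ (H H' : Subgroup G) (x : G) (h : ∀ y, y ∈ H' ↔ x⁻¹ * y * x ∈ H) (hNH : N ≤ H)
      (ψ : ↥H → ℂ), IsIrrCharacter ↥H ψ → (∀ n : N, ψ ⟨n, hNH n.2⟩ = ϑ n) → Q H ψ →
      Q H' (fun y => ψ ⟨x⁻¹ * y * x, (h y).mp y.2⟩)) :
    ∃ χ : G → ℂ, IsIrrCharacter G χ ∧ (∀ n : N, χ n = ϑ n) ∧
      ∀ H, Adm N H → Q H (fun h : H => χ h) := by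
  obtain ⟨χ, hχ, hext, hall⟩ := glue N ϑ hϑ
    (fun H ψ => ∃ hNH : N ≤ H, IsIrrCharacter ↥H ψ ∧ (∀ n : N, ψ ⟨n, hNH n.2⟩ = ϑ n) ∧ Q H ψ)
    (fun H ψ h => h.2.1)
    (fun H ψ hNH h n => h.2.2.1 n)
    (fun H ψ₁ ψ₂ hNH h1 h2 => hU H hNH ψ₁ ψ₂ h1.2.1 h2.2.1 h1.2.2.1 h2.2.2.1 h1.2.2.2 h2.2.2.2)
    (fun H hA => by
      obtain ⟨ψ, h1, h2, h3⟩ := hE H hA
      exact ⟨ψ, hA.1, h1, h2, h3⟩)
    (fun K H hKH hNK ψ h => by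
      obtain ⟨hNH, h1, h2, h3⟩ := h
      obtain ⟨h4, h5⟩ := restrict_irr_ext N ϑ hϑ hKH hNK h1 h2
      exact ⟨hNK, h4, h5, hR K H hKH hNK ψ h1 h2 h3⟩)
    (fun H H' x h hNH ψ hh => by
      obtain ⟨_, h1, h2, h3⟩ := hh
      obtain ⟨h4, h5⟩ := conj_irr_ext N ϑ hinv x h hNH h1 h2
      exact ⟨le_of_conj_iff N x h hNH, h4, h5, hC H H' x h hNH ψ h1 h2 h3⟩)
  exact ⟨χ, hχ, hext, fun H hA => (hall H hA).2.2.2⟩

end

end Cfsg.Agent.Lib.Helper28
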