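import Mathlib
import Cfsg.Prelude.Def_Characters
import Cfsg.Prelude.Def_CharExt
import Cfsg.Agent.Lib.Helper28.GlueC
import Cfsg.Agent.Lib.Helper28.DadeC
import Cfsg.Agent.Lib.Helper7.DetChar
import Cfsg.Agent.Lib.Helper7.ExtDet

set_option autoImplicit false

/-!
# Transport between `N ≤ H ≤ G` and the pair `(H, N.subgroupOf H)`; determinantal orders (helper28)
-/

namespace Cfsg.Agent.Lib.Helper28

open Cfsg Cfsg.Agent.Lib.Helper26 Cfsg.Agent.Lib.Helper2 Cfsg.Agent.Lib.Helper7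
open scoped ComplexConjugate

section
variable {G : Type*} [Group G] [Finite G] (N : Subgroup G) [hN : N.Normal]

omit [Finite G] in
theorem subgroupOf_index_coprime (H : Subgroup G) {d : ℕ} (h : Nat.Coprime N.index d) :
    Nat.Coprime (N.subgroupOf H).index d :=
  Nat.Coprime.coprime_dvd_left (Subgroup.relIndex_dvd_index_of_normal N H) h

omit [Finite G] hN in
theorem isIrrCharacter_resSub {H : Subgroup G} (hNH : N ≤ H) {ϑ : N → ℂ}
    (hϑ : IsIrrCharacter N ϑ) : IsIrrCharacter ↥(N.subgroupOf H) (resSub N H ϑ) :=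
  isIrrCharacter_comp_mulEquiv hϑ (Subgroup.subgroupOfEquivOfLe hNH)

omit [Finite G] in
theorem resSub_inv (H : Subgroup G) {ϑ : N → ℂ}
    (hinv : ∀ (g : G) (n : N), ϑ ⟨g * n * g⁻¹, hN.conj_mem (n : G) n.2 g⟩ = ϑ n)
    (g : H) (n : N.subgroupOf H) :
    resSub N H ϑ ⟨g * n * g⁻¹,
      (Subgroup.normal_subgroupOf (H := H) (N := N)).conj_mem (n : H) n.2 g⟩ = resSub N H ϑ n := by
  unfold resSub
  have := hinv (g : G) ⟨((n : H) : G), Subgroup.mem_subgroupOf.mp n.2⟩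
  rw [← this]
  congr 1

omit [Finite G] hN in
theorem resSub_one (H : Subgroup G) (ϑ : N → ℂ) : resSub N H ϑ 1 = ϑ 1 := rfl

omit hN in
theorem detChar_resSub (H : Subgroup G) {ϑ : N → ℂ} (hϑ : IsCharacter N ϑ)
    (n : N.subgroupOf H) :
    detChar (resSub N H ϑ) n = detChar ϑ ⟨((n : H) : G), Subgroup.mem_subgroupOf.mp n.2⟩ :=
  detChar_comp (subgroupOfHom N H) hϑ n

end

section DetOrder

theorem detOrder_comp_dvd {K K' : Type*} [Group K] [Group K'] [Finite K] [Finite K']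
    (f : K' →* K) {ψ : K → ℂ} (hψ : IsCharacter K ψ) :
    detOrder (fun k : K' => ψ (f k)) ∣ detOrder ψ := by
  unfold detOrder
  apply orderOf_dvd_of_pow_eq_one
  funext k
  rw [Pi.pow_apply, detChar_comp f hψ k]
  have := congrFun (pow_orderOf_eq_one (detChar ψ)) (f k)
  rw [Pi.pow_apply] at this
  exact this

/-- if `ϑ = ψ' ∘ j` and `ψ' = ψ ∘ f` with `o(ψ) = o(ϑ)` then `o(ψ') = o(ϑ)` -/
theorem detOrder_sandwich {K K' M : Type*} [Group K] [Group K'] [Group M] [Finite K] [Finite K']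
    [Finite M] (f : K' →* K) (j : M →* K') {ψ : K → ℂ} (hψ : IsCharacter K ψ) {ϑ : M → ℂ}
    (hϑ : ∀ m, ψ (f (j m)) = ϑ m) (ho : detOrder ψ = detOrder ϑ) :
    detOrder (fun k : K' => ψ (f k)) = detOrder ϑ := by
  apply Nat.dvd_antisymm
  · rw [← ho]; exact detOrder_comp_dvd f hψ
  · have h1 := detOrder_comp_dvd j (isCharacter_comp_hom hψ f)
    have h2 : (fun m : M => (ψ ∘ f) (j m)) = ϑ := funext hϑ
    rw [h2] at h1
    exact h1

end DetOrder

end Cfsg.Agent.Lib.Helper28
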