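import Mathlib
import Cfsg.Prelude.Def_Characters
import Cfsg.Prelude.Def_CharExt
import Cfsg.Agent.Lib.Helper7.ExtDet

set_option autoImplicit false

/-!
# Uniqueness of the extension with determinantal order prime to the index (helper28;
adapted from helper7's `ext_pprime_unique`)
-/

namespace Cfsg.Agent.Lib.Helper28

open Cfsg Cfsg.Agent.Lib.Helper26 Cfsg.Agent.Lib.Helper2 Cfsg.Agent.Lib.Helper7

theorem ext_coprime_unique {G : Type*} [Group G] [Fintype G] (N : Subgroup G) [hN : N.Normal]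
    (ϑ : N → ℂ) (hϑ : IsIrrCharacter N ϑ) (d : ℕ) (hd : ϑ 1 = d)
    (hcd : Nat.Coprime N.index d) (χ₁ χ₂ : G → ℂ)
    (h₁ : IsIrrCharacter G χ₁) (h₂ : IsIrrCharacter G χ₂)
    (he₁ : ∀ n : N, χ₁ n = ϑ n) (he₂ : ∀ n : N, χ₂ n = ϑ n)
    (ho₁ : Nat.Coprime N.index (detOrder χ₁)) (ho₂ : Nat.Coprime N.index (detOrder χ₂)) :
    χ₁ = χ₂ := by
  obtain ⟨β, hβN, hβ⟩ := ext_twist N ϑ hϑ χ₁ χ₂ h₁ h₂ he₁ he₂
  have h₁c := isCharacter_of_isIrrCharacter h₁
  have h₂c := isCharacter_of_isIrrCharacter h₂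
  obtain ⟨δ₁, hδ₁, hδ₁o⟩ := detHom_of_irr h₁c
  obtain ⟨δ₂, hδ₂, hδ₂o⟩ := detHom_of_irr h₂c
  have hχ₁1 : χ₁ 1 = d := by
    have := he₁ 1
    rw [Subgroup.coe_one] at this
    rw [this, hd]
  have hβi : β ^ N.index = 1 := pow_index_eq_one N β hβN
  have hβ1 : ∀ g, β g = 1 := by
    intro g
    have hdet : ((δ₂ g : ℂˣ) : ℂ) = ((β g : ℂˣ) : ℂ) ^ d * ((δ₁ g : ℂˣ) : ℂ) := by
      rw [← hδ₂, ← hδ₁, hβ]
      exact detChar_twist β h₁c d hχ₁1 g
    have hdet' : δ₂ g = (β g) ^ d * δ₁ g := by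
      apply Units.ext
      rw [Units.val_mul, Units.val_pow_eq_pow_val]
      exact hdet
    have hbd : (β g) ^ d = δ₂ g * (δ₁ g)⁻¹ := by
      rw [hdet', mul_inv_cancel_right]
    have ho1 : (δ₁ g) ^ (orderOf δ₁) = 1 := by
      have := DFunLike.congr_fun (pow_orderOf_eq_one δ₁) g
      exact this
    have ho2 : (δ₂ g) ^ (orderOf δ₂) = 1 := by
      have := DFunLike.congr_fun (pow_orderOf_eq_one δ₂) g
      exact this
    have hpk : (β g) ^ N.index = 1 := by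
      have := DFunLike.congr_fun hβi g
      exact this
    have h1 : ((β g) ^ d) ^ (orderOf δ₁ * orderOf δ₂) = 1 := by
      rw [hbd, mul_pow, inv_pow, mul_comm (orderOf δ₁) (orderOf δ₂), pow_mul, ho2, one_pow,
        mul_comm (orderOf δ₂) (orderOf δ₁), pow_mul, ho1, one_pow, inv_one, mul_one]
    have h2 : ((β g) ^ d) ^ N.index = 1 := by
      rw [← pow_mul, mul_comm, pow_mul, hpk, one_pow]
    have hcop1 : Nat.Coprime (orderOf δ₁ * orderOf δ₂) N.index := by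
      rw [hδ₁o, hδ₂o]
      exact Nat.Coprime.mul_left ho₁.symm ho₂.symm
    have h3 : (β g) ^ d = 1 := by
      have hd1 := orderOf_dvd_of_pow_eq_one h1
      have hd2 := orderOf_dvd_of_pow_eq_one h2
      have hd3 := Nat.dvd_gcd hd1 hd2
      rw [hcop1] at hd3
      exact orderOf_eq_one_iff.mp (Nat.dvd_one.mp hd3)
    have hd1 := orderOf_dvd_of_pow_eq_one h3
    have hd2 := orderOf_dvd_of_pow_eq_one hpk
    have hd3 := Nat.dvd_gcd hd1 hd2
    rw [hcd.symm] at hd3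
    exact orderOf_eq_one_iff.mp (Nat.dvd_one.mp hd3)
  rw [hβ]
  funext g
  rw [hβ1 g]
  simp

end Cfsg.Agent.Lib.Helper28
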