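import Mathlib
import Cfsg.Agent.Lib.Helper28.GreenVanF
import Cfsg.Agent.Lib.Helper28.BrauerC

set_option autoImplicit false

/-!
# Height zero characters on defect classes and sections (helper28)
-/

namespace Cfsg.Agent.Lib.Helper28

open Cfsg Cfsg.Agent.Lib.Helper4
open scoped ComplexConjugate Classical

section HeightZero

variable {G : Type*} [Group G] [Fintype G] {M : Ideal AlgInt}

/-- a height zero character is a unit on the defect classes of its block -/
theorem irr_defectClass_not_memLocalIdeal {p : ℕ} [Fact p.Prime] (hM : IsPModular p M)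
    {B : Set (IrrCharacter G)} (hB : IsPBlock M B) {g₀ : G} (hg₀ : IsDefectClass M B g₀)
    {χ : IrrCharacter G} (hχ : χ ∈ B) (h0 : blockHeight p B (χ : G → ℂ) = 0) :
    ¬ MemLocalIdeal M ((χ : G → ℂ) g₀) := by
  have hp : p.Prime := hM.1
  have hprime : M.IsPrime := hM.2.1.isPrime
  have hMtop : M ≠ ⊤ := hM.2.1.ne_top
  obtain ⟨hn0, hχ1, -⟩ := irr_degree_nat χ.2
  obtain ⟨n, hn⟩ : ∃ n : ℕ, n = charDegree (χ : G → ℂ) := ⟨_, rfl⟩
  obtain ⟨idx, hidx⟩ : ∃ idx : ℕ, idx = (Subgroup.centralizer ({g₀} : Set G)).index := ⟨_, rfl⟩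
  have hidx0 : idx ≠ 0 := hidx ▸ Subgroup.index_ne_zero_of_finite
  rw [← hn] at hn0 hχ1
  have h1 := index_factorization_le_sInf hM hB hg₀.2.2
  have h2 := sInf_le_index_factorization hM hB hg₀.2.1
  have h3 : sInf ((fun ψ : IrrCharacter G => (charDegree (ψ : G → ℂ)).factorization p) '' B) ≤
      n.factorization p := by
    rw [hn]
    exact Nat.sInf_le ⟨χ, hχ, rfl⟩
  have h4 : n.factorization p ≤
      sInf ((fun ψ : IrrCharacter G => (charDegree (ψ : G → ℂ)).factorization p) '' B) := by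
    unfold blockHeight at h0
    rw [hn]
    omega
  rw [← hidx] at h1 h2
  have hk : n.factorization p = idx.factorization p := by omega
  obtain ⟨k, hk'⟩ : ∃ k : ℕ, k = idx.factorization p := ⟨_, rfl⟩
  have hnsplit : p ^ k * (n / p ^ k) = n := by
    rw [hk', ← hk]; exact Nat.ordProj_mul_ordCompl_eq_self n p
  have hisplit : p ^ k * (idx / p ^ k) = idx := by
    rw [hk']; exact Nat.ordProj_mul_ordCompl_eq_self idx p
  obtain ⟨s, hs⟩ : ∃ s : ℕ, s = n / p ^ k := ⟨_, rfl⟩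
  obtain ⟨r, hr⟩ : ∃ r : ℕ, r = idx / p ^ k := ⟨_, rfl⟩
  have hscop : s.Coprime p := by
    rw [hs, hk', ← hk]
    exact (Nat.coprime_ordCompl hp hn0).symm
  rw [← hs] at hnsplit
  rw [← hr] at hisplit
  have hω : centralChar (χ : G → ℂ) g₀ * (n : ℂ) = (idx : ℂ) * (χ : G → ℂ) g₀ := by
    have hn' : (n : ℂ) ≠ 0 := Nat.cast_ne_zero.mpr hn0
    show ((Subgroup.centralizer ({g₀} : Set G)).index : ℂ) * (χ : G → ℂ) g₀ / (χ : G → ℂ) 1 *
      (n : ℂ) = _
    rw [hχ1, div_mul_cancel₀ _ hn', hidx]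
  have hpc : (p : ℂ) ≠ 0 := Nat.cast_ne_zero.mpr hp.ne_zero
  have hkey : centralChar (χ : G → ℂ) g₀ * (s : ℂ) = (r : ℂ) * (χ : G → ℂ) g₀ := by
    have e1 : (n : ℂ) = (p : ℂ) ^ k * (s : ℂ) := by rw [← hnsplit]; push_cast; ring
    have e2 : (idx : ℂ) = (p : ℂ) ^ k * (r : ℂ) := by rw [← hisplit]; push_cast; ring
    rw [e1, e2] at hω
    have e3 : (p : ℂ) ^ k * (centralChar (χ : G → ℂ) g₀ * (s : ℂ)) =
        (p : ℂ) ^ k * ((r : ℂ) * (χ : G → ℂ) g₀) := by linear_combination hω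
    exact mul_left_cancel₀ (pow_ne_zero k hpc) e3
  intro hmem
  apply hg₀.2.2 χ hχ
  have hs0 : (s : ℂ) ≠ 0 := by
    have : s ≠ 0 := by
      rintro rfl
      rw [Nat.coprime_zero_left] at hscop
      exact hp.ne_one hscop
    exact Nat.cast_ne_zero.mpr this
  have e4 : centralChar (χ : G → ℂ) g₀ = (r : ℂ) * (χ : G → ℂ) g₀ * (s : ℂ)⁻¹ := by
    rw [← hkey, mul_assoc, mul_inv_cancel₀ hs0, mul_one]
  rw [e4]
  exact Helper28.memLocalIdeal_mul_right
    (Helper28.memLocalIdeal_mul_left (memLocalRing_natCast hMtop r) hmem)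
    (memLocalRing_inv_natCast hM hscop)

/-- a height zero character does not vanish on the `p`-section of an element of a defect group -/
theorem exists_section_ne_zero_of_mem_defectGroup {p : ℕ} [Fact p.Prime] (hM : IsPModular p M)
    {B : Set (IrrCharacter G)} (hB : IsPBlock M B) (D : Subgroup G)
    (hD : IsDefectGroup p M B D) {χ : IrrCharacter G} (hχ : χ ∈ B)
    (h0 : blockHeight p B (χ : G → ℂ) = 0) (x : G) (hx : ∃ k : ℕ, orderOf x = p ^ k)
    (hxD : x ∈ D) : ∃ u : G, IsPPart p u x ∧ (χ : G → ℂ) u ≠ 0 := by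
  have hprime : M.IsPrime := hM.2.1.isPrime
  have hMtop : M ≠ ⊤ := hM.2.1.ne_top
  obtain ⟨g₀, hg₀, P, rfl⟩ := hD
  obtain ⟨d, _, hd⟩ := hxD
  have hcomm : Commute x g₀ := by
    have := d.2
    rw [Subgroup.mem_centralizer_iff] at this
    rw [← hd]
    exact (this g₀ rfl).symm
  have hreg := defectClass_pRegular hM hB hg₀
  refine ⟨x * g₀, ⟨g₀, rfl, hcomm, hx, hreg⟩, ?_⟩
  intro hzero
  apply irr_defectClass_not_memLocalIdeal hM hB hg₀ hχ h0
  obtain ⟨k, hk⟩ := hx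
  obtain ⟨n, ρ, hirr, hρ⟩ := χ.2
  have := character_mul_pElement_sub hM ρ x g₀ hcomm k (by rw [← hk]; exact pow_orderOf_eq_one x)
    hreg
  rw [hρ, hzero, sub_zero] at this
  exact this

end HeightZero

end Cfsg.Agent.Lib.Helper28
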