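import Mathlib
import Cfsg.Agent.Lib.Helper28.GreenVanK

set_option autoImplicit false

/-!
# Degrees of block parts of induced characters; height zero constituents (helper28)
-/

namespace Cfsg.Agent.Lib.Helper28

open Cfsg Cfsg.Agent.Lib.Helper4
open scoped ComplexConjugate Classical

section Main

variable {G : Type*} [Group G] [Fintype G] {M : Ideal AlgInt}

/-- multiplicities of irreducible characters in an induced character -/
theorem exists_mult_indFun (H : Subgroup G) [Fintype H] (ξ : IrrCharacter H) :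
    ∃ a : IrrCharacter G → ℕ, ∀ χ : IrrCharacter G,
      classInner (indFun H (ξ : H → ℂ)) (χ : G → ℂ) = (a χ : ℂ) := by
  have h : ∀ χ : IrrCharacter G, ∃ n : ℕ,
      classInner (indFun H (ξ : H → ℂ)) (χ : G → ℂ) = (n : ℂ) := fun χ =>
    Cfsg.Agent.Lib.Helper26.classInner_isCharacter_nat
      (Cfsg.Agent.Lib.Helper26.isCharacter_indFun H
        (Cfsg.Agent.Lib.Helper26.isCharacter_of_isIrrCharacter ξ.2))
      (Cfsg.Agent.Lib.Helper26.isCharacter_of_isIrrCharacter χ.2)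
  choose a ha using h
  exact ⟨a, ha⟩

theorem blockPart_indFun_one_eq_sum [Fintype (IrrCharacter G)] (H : Subgroup G) [Fintype H]
    (ξ : IrrCharacter H) (a : IrrCharacter G → ℕ)
    (ha : ∀ χ : IrrCharacter G, classInner (indFun H (ξ : H → ℂ)) (χ : G → ℂ) = (a χ : ℂ))
    (B : Set (IrrCharacter G)) :
    blockPart B (indFun H (ξ : H → ℂ)) 1 =
      ((∑ χ : IrrCharacter G, if χ ∈ B then a χ * charDegree (χ : G → ℂ) else 0 : ℕ) : ℂ) := by
  rw [blockPart_eq, finsum_mem_eq_sum_ite, Nat.cast_sum]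
  refine Finset.sum_congr rfl fun χ _ => ?_
  split_ifs
  · rw [ha, (irr_degree_nat χ.2).2.1]
    push_cast
    rfl
  · simp

omit [Fintype G] in
theorem charDegree_eq_of_natCast {χ : G → ℂ} {d : ℕ} (h : χ 1 = d) : charDegree χ = d := by
  unfold charDegree
  rw [h, Complex.natCast_re, Nat.floor_natCast]

theorem charDegree_indFun (H : Subgroup G) [Fintype H] (ξ : IrrCharacter H) :
    indFun H (ξ : H → ℂ) 1 = ((H.index * charDegree (ξ : H → ℂ) : ℕ) : ℂ) ∧
    charDegree (indFun H (ξ : H → ℂ)) = H.index * charDegree (ξ : H → ℂ) := by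
  have hH : (Nat.card H : ℂ) ≠ 0 := by
    have : Nat.card H ≠ 0 := Nat.card_pos.ne'
    exact_mod_cast this
  have h1 : indFun H (ξ : H → ℂ) 1 = ((H.index * charDegree (ξ : H → ℂ) : ℕ) : ℂ) := by
    rw [indFun_one, (irr_degree_nat ξ.2).2.1, ← H.index_mul_card]
    push_cast
    field_simp
  exact ⟨h1, charDegree_eq_of_natCast h1⟩

/-- **S4430** -/
theorem blockPart_indFun_degree {p : ℕ} [Fact p.Prime] (hM : IsPModular p M) (H : Subgroup G)
    [Fintype H] {b : Set (IrrCharacter H)} {B₀ : Set (IrrCharacter G)}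
    (hind : IsInducedBlock M H b B₀) (ξ : IrrCharacter H) (hξ : ξ ∈ b) :
    (∃ n : ℕ, blockPart B₀ (indFun H (ξ : H → ℂ)) 1 = (n : ℂ) ∧ n ≠ 0 ∧
      n.factorization p = (charDegree (indFun H (ξ : H → ℂ))).factorization p) ∧
    ∀ B : Set (IrrCharacter G), IsPBlock M B → B ≠ B₀ →
      ∃ n : ℕ, blockPart B (indFun H (ξ : H → ℂ)) 1 = (n : ℂ) ∧
        (n = 0 ∨ (charDegree (indFun H (ξ : H → ℂ))).factorization p < n.factorization p) := by
  have : Fintype (IrrCharacter G) := Fintype.ofFinite _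
  obtain ⟨a, ha⟩ := exists_mult_indFun H ξ
  obtain ⟨hΘ1, hΘdeg⟩ := charDegree_indFun H ξ
  obtain ⟨N, hN⟩ : ∃ N : ℕ, N = H.index * charDegree (ξ : H → ℂ) := ⟨_, rfl⟩
  have hN0 : N ≠ 0 := by
    rw [hN]
    exact Nat.mul_ne_zero Subgroup.index_ne_zero_of_finite (irr_degree_nat ξ.2).1
  rw [hΘdeg, ← hN]
  rw [← hN] at hΘ1
  constructor
  · refine ⟨_, blockPart_indFun_one_eq_sum H ξ a ha B₀, ?_⟩
    obtain ⟨hR, h1, -⟩ := blockPart_indFun_congr hM H hind ξ hξ hind.2.1
    have heq := blockPart_indFun_one H B₀ ξ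
    rw [blockPart_indFun_one_eq_sum H ξ a ha B₀, hΘ1] at heq
    obtain ⟨hn0, hle⟩ := factorization_le_of_eq_mul_sub_one hM hN0 heq (h1 rfl)
    exact ⟨hn0, le_antisymm hle (factorization_le_of_eq_mul_memLocalRing hM hn0 heq hR)⟩
  · intro B hB hBB
    refine ⟨_, blockPart_indFun_one_eq_sum H ξ a ha B, ?_⟩
    obtain ⟨-, -, h2⟩ := blockPart_indFun_congr hM H hind ξ hξ hB
    have heq := blockPart_indFun_one H B ξ
    rw [blockPart_indFun_one_eq_sum H ξ a ha B, hΘ1] at heq
    by_cases hn0 : (∑ χ : IrrCharacter G,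
        if χ ∈ B then a χ * charDegree (χ : G → ℂ) else 0) = 0
    · exact Or.inl hn0
    · exact Or.inr (factorization_lt_of_eq_mul_memLocalIdeal hM hn0 heq (h2 hBB))

/-- **S4725** -/
theorem exists_height_zero_constituent_gv {p : ℕ} [Fact p.Prime] (hM : IsPModular p M)
    (H : Subgroup G) [Fintype H] {b : Set (IrrCharacter H)} {B : Set (IrrCharacter G)}
    (hind : IsInducedBlock M H b B) (hdef : blockDefect p b = blockDefect p B)
    (ζ : IrrCharacter H) (hζ : ζ ∈ b) (hζ0 : blockHeight p b (ζ : H → ℂ) = 0) :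
    ∃ χ ∈ B, blockHeight p B (χ : G → ℂ) = 0 ∧ ∃ a : ℕ,
      classInner (indFun H (ζ : H → ℂ)) (χ : G → ℂ) = (a : ℂ) ∧ ¬ p ∣ a := by
  have hp : p.Prime := Fact.out
  have hprime : M.IsPrime := hM.2.1.isPrime
  have : Fintype (IrrCharacter G) := Fintype.ofFinite _
  obtain ⟨a, ha⟩ := exists_mult_indFun H ζ
  obtain ⟨hΘ1, hΘdeg⟩ := charDegree_indFun H ζ
  by_contra hcon
  push Not at hcon
  have hpa : ∀ χ ∈ B, blockHeight p B (χ : G → ℂ) = 0 → p ∣ a χ := fun χ hχ h0 =>
    hcon χ hχ h0 (a χ) (ha χ)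
  obtain ⟨⟨n, hn1, hn0, hnfac⟩, -⟩ := blockPart_indFun_degree hM H hind ζ hζ
  rw [blockPart_indFun_one_eq_sum H ζ a ha B] at hn1
  have hn1' : n = ∑ χ : IrrCharacter G, if χ ∈ B then a χ * charDegree (χ : G → ℂ) else 0 := by
    exact_mod_cast hn1.symm
  obtain ⟨mB, hmB⟩ : ∃ mB : ℕ, mB = sInf ((fun χ : IrrCharacter G =>
      (charDegree (χ : G → ℂ)).factorization p) '' B) := ⟨_, rfl⟩
  obtain ⟨mb, hmb⟩ : ∃ mb : ℕ, mb = sInf ((fun χ : IrrCharacter H =>
      (charDegree (χ : H → ℂ)).factorization p) '' b) := ⟨_, rfl⟩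
  -- `p ^ (mB + 1)` divides `n`
  have hdvd : p ^ (mB + 1) ∣ n := by
    rw [hn1']
    apply Finset.dvd_sum
    intro χ _
    split_ifs with hχ
    · have hle : mB ≤ (charDegree (χ : G → ℂ)).factorization p := by
        rw [hmB]; exact Nat.sInf_le ⟨χ, hχ, rfl⟩
      have hd0 := (irr_degree_nat χ.2).1
      by_cases h0 : blockHeight p B (χ : G → ℂ) = 0
      · rw [pow_succ, mul_comm]
        exact Nat.mul_dvd_mul (hpa χ hχ h0)
          ((Nat.Prime.pow_dvd_iff_le_factorization hp hd0).mpr hle)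
      · apply Dvd.dvd.mul_left
        apply (Nat.Prime.pow_dvd_iff_le_factorization hp hd0).mpr
        unfold blockHeight at h0
        rw [← hmB] at h0
        omega
    · exact dvd_zero _
  have h1 : mB + 1 ≤ n.factorization p :=
    (Nat.Prime.pow_dvd_iff_le_factorization hp hn0).mp hdvd
  -- `ν_p N = mB`
  have hdζ0 := (irr_degree_nat ζ.2).1
  have hdζdvd := (irr_degree_nat ζ.2).2.2
  have hidx0 : H.index ≠ 0 := Subgroup.index_ne_zero_of_finite
  have e1 : (H.index * charDegree (ζ : H → ℂ)).factorization p =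
      H.index.factorization p + (charDegree (ζ : H → ℂ)).factorization p := by
    rw [Nat.factorization_mul hidx0 hdζ0, Finsupp.add_apply]
  have e2 : (Nat.card G).factorization p =
      H.index.factorization p + (Nat.card H).factorization p := by
    rw [← H.index_mul_card, Nat.factorization_mul hidx0 Nat.card_pos.ne', Finsupp.add_apply]
  have e3 : mb ≤ (charDegree (ζ : H → ℂ)).factorization p := by
    rw [hmb]; exact Nat.sInf_le ⟨ζ, hζ, rfl⟩
  have e4 : (charDegree (ζ : H → ℂ)).factorization p ≤ (Nat.card H).factorization p :=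
    (Nat.factorization_le_iff_dvd hdζ0 Nat.card_pos.ne').mpr hdζdvd p
  obtain ⟨χ₀, hχ₀⟩ := Helper28.block_nonempty hind.2.1
  have e5 : mB ≤ (charDegree (χ₀ : G → ℂ)).factorization p := by
    rw [hmB]; exact Nat.sInf_le ⟨χ₀, hχ₀, rfl⟩
  have e6 : (charDegree (χ₀ : G → ℂ)).factorization p ≤ (Nat.card G).factorization p :=
    (Nat.factorization_le_iff_dvd (irr_degree_nat χ₀.2).1 Nat.card_pos.ne').mpr
      (irr_degree_nat χ₀.2).2.2 p
  unfold blockHeight at hζ0
  unfold blockDefect at hdef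
  rw [← hmb] at hζ0 hdef
  rw [← hmB] at hdef
  rw [hΘdeg, e1] at hnfac
  omega

end Main

end Cfsg.Agent.Lib.Helper28
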