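import Mathlib
import Cfsg.Prelude.Def_Characters
import Cfsg.Agent.Lib.Helper28.PiPart
import Cfsg.Agent.Lib.Helper28.ElemSub
import Cfsg.Agent.Lib.Helper28.BrauerIndD
import Cfsg.Agent.Lib.Helper28.DualRep
import Cfsg.Agent.Lib.Helper2.CharConj
import Cfsg.Agent.Lib.Helper4.CenterDegree
import Cfsg.Agent.Lib.Helper26.CharInt

set_option autoImplicit false

/-!
# The Brauer–Suzuki extension of class functions from a Hall subgroup (helper28)

`H ≤ G` with a "π-part" exponent `k`: every `g ^ k` is conjugate to an element of `H`, and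
`H` controls its own fusion.  A class function `θ` of `H` extends to `tilde θ` on `G` with
`tilde θ g = θ h` where `h ∈ H` is conjugate to `g ^ k`.
-/

namespace Cfsg.Agent.Lib.Helper28

open Cfsg Cfsg.Agent.Lib.Helper26 Cfsg.Agent.Lib.Helper4 Cfsg.Agent.Lib.Helper2
open scoped ComplexConjugate

variable {G : Type*} [Group G] {H : Subgroup G} {k : ℕ}

/-- the extension of a function on `H` to `G` through the `k`-th power map -/
noncomputable def tilde (hconj : ∀ g : G, ∃ h : H, IsConj (h : G) (g ^ k)) (θ : H → ℂ) :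
    G → ℂ := fun g => θ (Classical.choose (hconj g))

section Basic

variable (hconj : ∀ g : G, ∃ h : H, IsConj (h : G) (g ^ k))
variable (hfus : ∀ x y : H, IsConj (x : G) (y : G) → IsConj x y)

include hfus in
theorem tilde_eq {θ : H → ℂ} (hθ : IsClassFunction H θ) (g : G) (h : H)
    (hh : IsConj (h : G) (g ^ k)) : tilde hconj θ g = θ h := by
  unfold tilde
  have h1 := Classical.choose_spec (hconj g)
  have h2 : IsConj ((Classical.choose (hconj g) : H) : G) (h : G) := h1.trans hh.symm
  obtain ⟨c, hc⟩ := isConj_iff.mp (hfus _ _ h2)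
  rw [← hc, hθ]

include hfus in
theorem isClassFunction_tilde {θ : H → ℂ} (hθ : IsClassFunction H θ) :
    IsClassFunction G (tilde hconj θ) := by
  intro g t
  have h1 := Classical.choose_spec (hconj g)
  rw [tilde_eq hconj hfus hθ (t * g * t⁻¹) (Classical.choose (hconj g))]
  · rfl
  · have h2 : (t * g * t⁻¹) ^ k = t * g ^ k * t⁻¹ := conj_pow
    rw [h2]
    exact h1.trans (isConj_iff.mpr ⟨t, rfl⟩)

include hfus in
theorem tilde_coe {θ : H → ℂ} (hθ : IsClassFunction H θ) (hHk : ∀ h : H, (h : G) ^ k = h)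
    (h : H) : tilde hconj θ (h : G) = θ h := by
  apply tilde_eq hconj hfus hθ
  rw [hHk]

theorem tilde_mul (θ φ : H → ℂ) : tilde hconj (θ * φ) = tilde hconj θ * tilde hconj φ := rfl

theorem tilde_conj (θ : H → ℂ) :
    tilde hconj (fun h => conj (θ h)) = fun g => conj (tilde hconj θ g) := rfl

theorem tilde_one : tilde hconj (fun _ : H => (1 : ℂ)) = fun _ : G => (1 : ℂ) := rfl

end Basic

section GenChar

variable [Fintype G] {n m : ℕ}
variable (hconj : ∀ g : G, ∃ h : H, IsConj (h : G) (g ^ k))
variable (hfus : ∀ x y : H, IsConj (x : G) (y : G) → IsConj x y)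
variable (hcard : Nat.card G = n * m) (hnm : Nat.Coprime n m)
variable (hk1 : k ≡ 1 [MOD n]) (hk0 : k ≡ 0 [MOD m])
variable (helem : ∀ (E : Subgroup G) (p : ℕ), p.Prime → IsElementary p E → Nat.card E ∣ n →
  ∃ g : G, E.map (MulAut.conj g).toMonoidHom ≤ H)

include hcard in
omit [Fintype G] in
theorem pow_card_nm [Finite G] (g : G) : g ^ (n * m) = 1 := by
  rw [← hcard]; exact pow_card_eq_one'

include hfus hcard hnm hk1 hk0 helem in
theorem tilde_restrict_isCharacter {θ : H → ℂ} (hθ : IsCharacter H θ) (E : Subgroup G) (q : ℕ)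
    (hq : q.Prime) (hE : IsElementary q E) :
    IsCharacter E (fun e : E => tilde hconj θ e) := by
  classical
  have hEcard : Nat.card E ∣ n * m := hcard ▸ Subgroup.card_subgroup_dvd_card E
  let f : E →* E :=
    { toFun := fun x => x ^ k
      map_one' := one_pow k
      map_mul' := pow_mul_of_isElementary hq hE hnm hEcard hk1 hk0 }
  have hB'el : IsElementary q (f.range.map E.subtype) :=
    isElementary_of_mulEquiv (f.range.equivMapOfInjective E.subtype E.subtype_injective)
      (isElementary_subgroup hq hE f.range)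
  have hB'pow : ∀ y ∈ f.range.map E.subtype, y ^ n = 1 := by
    rintro _ ⟨_, ⟨x, rfl⟩, rfl⟩
    show ((x ^ k : E) : G) ^ n = 1
    rw [Subgroup.coe_pow]
    exact pow_k_pow_n hk0 (pow_card_nm hcard (x : G))
  have hB'card : Nat.card (f.range.map E.subtype) ∣ n := by
    have h1 : Nat.card (f.range.map E.subtype) ∣ n * m :=
      hcard ▸ Subgroup.card_subgroup_dvd_card _
    have h2 : Nat.Coprime (Nat.card (f.range.map E.subtype)) m := by
      apply Nat.coprime_of_dvd
      intro r hr hr1 hr2
      have : Fact r.Prime := ⟨hr⟩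
      obtain ⟨y, hy⟩ := exists_prime_orderOf_dvd_card' (G := (f.range.map E.subtype)) r hr1
      have h3 : (y : G) ^ n = 1 := hB'pow y y.2
      have h4 : orderOf (y : G) ∣ n := orderOf_dvd_of_pow_eq_one h3
      rw [Subgroup.orderOf_coe, hy] at h4
      have h5 : r ∣ Nat.gcd n m := Nat.dvd_gcd h4 hr2
      rw [hnm] at h5
      exact hr.one_lt.ne' (Nat.dvd_one.mp h5)
    exact h2.dvd_of_dvd_mul_right h1
  obtain ⟨t, ht⟩ := helem _ q hq hB'el hB'card
  have hmem : ∀ x : E, t * (x : G) ^ k * t⁻¹ ∈ H := by
    intro x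
    apply ht
    refine ⟨(x : G) ^ k, ⟨x ^ k, ⟨x, rfl⟩, by simp⟩, ?_⟩
    simp [MulAut.conj_apply]
  let c : E →* H :=
    { toFun := fun x => ⟨t * (x : G) ^ k * t⁻¹, hmem x⟩
      map_one' := by
        apply Subtype.ext
        simp
      map_mul' := by
        intro x y
        apply Subtype.ext
        have h1 : ((x * y : E) : G) ^ k = (x : G) ^ k * (y : G) ^ k := by
          have := pow_mul_of_isElementary hq hE hnm hEcard hk1 hk0 x y
          have h2 := congrArg (Subtype.val) this
          simpa using h2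
        show t * ((x * y : E) : G) ^ k * t⁻¹ = (t * (x : G) ^ k * t⁻¹) * (t * (y : G) ^ k * t⁻¹)
        rw [h1]
        group }
  have hθcl : IsClassFunction H θ := Helper26.isClassFunction_of_isCharacter hθ
  have heq : (fun e : E => tilde hconj θ e) = θ ∘ c := by
    funext e
    apply tilde_eq hconj hfus hθcl
    show IsConj (t * (e : G) ^ k * t⁻¹) ((e : G) ^ k)
    exact (isConj_iff.mpr ⟨t, rfl⟩).symm
  rw [heq]
  exact isCharacter_comp_hom hθ c

include hfus hcard hnm hk1 hk0 helem in
theorem tilde_isGeneralizedCharacter {θ : H → ℂ} (hθ : IsCharacter H θ) :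
    IsGeneralizedCharacter G (tilde hconj θ) := by
  apply brauer_characterization _
    (isClassFunction_tilde hconj hfus (Helper26.isClassFunction_of_isCharacter hθ))
  intro E q hq hE
  exact isGeneralizedCharacter_of_isCharacter
    (tilde_restrict_isCharacter hconj hfus hcard hnm hk1 hk0 helem hθ E q hq hE)

end GenChar

section Count

variable [Fintype G] [Fintype H]

open Classical in
/-- the number of `g` whose `k`-th power is conjugate to `x` -/
noncomputable def Ncount (k : ℕ) (x : H) : ℕ :=
  (Finset.univ.filter (fun g : G => IsConj (x : G) (g ^ k))).card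

open Classical in
/-- the number of elements of `H` conjugate in `G` to `x` -/
noncomputable def ccount (x : H) : ℕ :=
  (Finset.univ.filter (fun y : H => IsConj (x : G) (y : G))).card

theorem ccount_pos (x : H) : 0 < ccount x := by
  classical
  unfold ccount
  apply Finset.card_pos.mpr
  refine ⟨x, ?_⟩
  rw [Finset.mem_filter]
  exact ⟨Finset.mem_univ _, IsConj.refl _⟩

theorem ccount_eq_of_isConj {x y : H} (h : IsConj (x : G) (y : G)) : ccount x = ccount y := by
  classical
  unfold ccount
  congr 1
  ext z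
  simp only [Finset.mem_filter, Finset.mem_univ, true_and]
  exact ⟨fun h1 => h.symm.trans h1, fun h1 => h.trans h1⟩

theorem Ncount_eq_of_isConj {x y : H} (h : IsConj (x : G) (y : G)) :
    Ncount k x = Ncount k y := by
  classical
  unfold Ncount
  congr 1
  ext z
  simp only [Finset.mem_filter, Finset.mem_univ, true_and]
  exact ⟨fun h1 => h.symm.trans h1, fun h1 => h.trans h1⟩

variable (hconj : ∀ g : G, ∃ h : H, IsConj (h : G) (g ^ k))
variable (hfus : ∀ x y : H, IsConj (x : G) (y : G) → IsConj x y)

include hfus in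
theorem sum_tilde {φ : H → ℂ} (hφ : IsClassFunction H φ) :
    ∑ g : G, tilde hconj φ g = ∑ x : H, φ x * ((Ncount k x : ℂ) / (ccount x : ℂ)) := by
  classical
  have h1 : ∀ x : H, φ x * ((Ncount k x : ℂ) / (ccount x : ℂ)) =
      ∑ g : G, if IsConj (x : G) (g ^ k) then φ x / (ccount x : ℂ) else 0 := by
    intro x
    rw [← Finset.sum_filter, Finset.sum_const, nsmul_eq_mul]
    unfold Ncount
    ring
  rw [Finset.sum_congr rfl (fun x _ => h1 x), Finset.sum_comm]
  apply Finset.sum_congr rfl
  intro g _
  obtain ⟨h0, hh0⟩ := hconj g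
  rw [tilde_eq hconj hfus hφ g h0 hh0]
  have h2 : ∀ x : H, (if IsConj (x : G) (g ^ k) then φ x / (ccount x : ℂ) else 0) =
      if IsConj (h0 : G) (x : G) then φ h0 / (ccount h0 : ℂ) else 0 := by
    intro x
    by_cases hx : IsConj (x : G) (g ^ k)
    · have hx0 : IsConj (h0 : G) (x : G) := hh0.trans hx.symm
      rw [if_pos hx, if_pos hx0, ccount_eq_of_isConj hx0]
      obtain ⟨c, hc⟩ := isConj_iff.mp (hfus _ _ hx0)
      rw [← hc, hφ]
    · have hx0 : ¬ IsConj (h0 : G) (x : G) := fun h => hx (h.symm.trans hh0)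
      rw [if_neg hx, if_neg hx0]
  rw [Finset.sum_congr rfl (fun x _ => h2 x), ← Finset.sum_filter, Finset.sum_const,
    nsmul_eq_mul]
  have hc : ((Finset.univ.filter (fun y : H => IsConj (h0 : G) (y : G))).card : ℂ) =
      (ccount h0 : ℂ) := rfl
  rw [hc]
  have hne : (ccount h0 : ℂ) ≠ 0 := by exact_mod_cast (ccount_pos h0).ne'
  field_simp

end Count

section Isometry

variable [Fintype G] [Fintype H] {n m : ℕ}
variable (hconj : ∀ g : G, ∃ h : H, IsConj (h : G) (g ^ k))
variable (hfus : ∀ x y : H, IsConj (x : G) (y : G) → IsConj x y)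
variable (hcard : Nat.card G = n * m) (hnm : Nat.Coprime n m)
variable (hk1 : k ≡ 1 [MOD n]) (hk0 : k ≡ 0 [MOD m])
variable (helem : ∀ (E : Subgroup G) (p : ℕ), p.Prime → IsElementary p E → Nat.card E ∣ n →
  ∃ g : G, E.map (MulAut.conj g).toMonoidHom ≤ H)
variable (hHk : ∀ h : H, (h : G) ^ k = h)

/-- the density function comparing the two inner products -/
noncomputable def dfun (k : ℕ) (x : H) : ℂ :=
  ((Nat.card H * Ncount k x : ℕ) : ℂ) / ((Nat.card G * ccount x : ℕ) : ℂ)

include hfus in
theorem classInner_tilde_one {φ : H → ℂ} (hφ : IsClassFunction H φ) :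
    classInner (tilde hconj φ) (fun _ : G => (1 : ℂ)) =
      (Nat.card H : ℂ)⁻¹ * ∑ x : H, φ x * dfun k x := by
  unfold classInner
  have h1 : ∑ g : G, tilde hconj φ g * conj ((fun _ : G => (1 : ℂ)) g) =
      ∑ g : G, tilde hconj φ g := by
    apply Finset.sum_congr rfl
    intro g _
    simp
  rw [h1, sum_tilde hconj hfus hφ, Finset.mul_sum, Finset.mul_sum]
  apply Finset.sum_congr rfl
  intro x _
  unfold dfun
  have hG : (Nat.card G : ℂ) ≠ 0 := by exact_mod_cast Nat.card_pos.ne'
  have hH : (Nat.card H : ℂ) ≠ 0 := by exact_mod_cast Nat.card_pos.ne'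
  have hc : (ccount x : ℂ) ≠ 0 := by exact_mod_cast (ccount_pos x).ne'
  push_cast
  field_simp

theorem isClassFunction_dfun : IsClassFunction H (dfun k) := by
  intro x y
  have h : IsConj ((y * x * y⁻¹ : H) : G) (x : G) := by
    have : ((y * x * y⁻¹ : H) : G) = (y : G) * (x : G) * (y : G)⁻¹ := by simp
    rw [this]
    exact (isConj_iff.mpr ⟨(y : G), rfl⟩).symm
  unfold dfun
  rw [Ncount_eq_of_isConj h, ccount_eq_of_isConj h]

include hconj hfus hcard hnm hk1 hk0 helem in
theorem dfun_isGeneralizedCharacter : IsGeneralizedCharacter H (dfun k) := by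
  apply isGeneralizedCharacter_of_int_coeff isClassFunction_dfun
  intro μ
  have hμc : IsCharacter H (fun h => conj ((μ : H → ℂ) h)) :=
    isCharacter_conj (isCharacter_of_isIrrCharacter μ.2)
  have h1 := tilde_isGeneralizedCharacter hconj hfus hcard hnm hk1 hk0 helem hμc
  obtain ⟨z, hz⟩ := classInner_generalized_int h1
    (isGeneralizedCharacter_of_isCharacter (isCharacter_one' (G := G)))
  refine ⟨z, ?_⟩
  rw [← hz, classInner_tilde_one hconj hfus (Helper26.isClassFunction_of_isCharacter hμc)]
  unfold classInner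
  congr 1
  apply Finset.sum_congr rfl
  intro x _
  ring

include hconj hfus hcard hnm hk1 hk0 helem hHk in
theorem dfun_eq_one (x : H) : dfun k x = 1 := by
  classical
  have hgen := dfun_isGeneralizedCharacter hconj hfus hcard hnm hk1 hk0 helem
  -- integrality
  have hint : ∀ y : H, IsIntegral ℤ (dfun k y) := by
    intro y
    obtain ⟨a, b, ha, hb, hab⟩ := hgen
    rw [hab, Pi.sub_apply]
    obtain ⟨n1, ρ1, rfl⟩ := ha
    obtain ⟨n2, ρ2, rfl⟩ := hb
    exact IsIntegral.sub (character_isIntegral ρ1 y) (character_isIntegral ρ2 y)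
  have hNpos : ∀ y : H, 0 < Ncount k y := by
    intro y
    unfold Ncount
    apply Finset.card_pos.mpr
    refine ⟨(y : G), ?_⟩
    rw [Finset.mem_filter]
    refine ⟨Finset.mem_univ _, ?_⟩
    rw [hHk]
  have hden : ∀ y : H, Nat.card G * ccount y ≠ 0 := fun y =>
    Nat.mul_ne_zero Nat.card_pos.ne' (ccount_pos y).ne'
  have hdvd : ∀ y : H, Nat.card G * ccount y ∣ Nat.card H * Ncount k y := fun y =>
    dvd_of_isIntegral_div _ _ (hden y) (hint y)
  choose z hz using hdvd
  have hzpos : ∀ y : H, 1 ≤ z y := by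
    intro y
    rcases Nat.eq_zero_or_pos (z y) with h0 | h0
    · have := hz y
      rw [h0, mul_zero] at this
      exact absurd this (Nat.mul_ne_zero Nat.card_pos.ne' (hNpos y).ne')
    · exact h0
  have hdz : ∀ y : H, dfun k y = (z y : ℂ) := by
    intro y
    unfold dfun
    rw [hz y]
    have : ((Nat.card G * ccount y : ℕ) : ℂ) ≠ 0 := by exact_mod_cast hden y
    rw [Nat.cast_mul (Nat.card G * ccount y) (z y), mul_comm, mul_div_assoc, div_self this,
      mul_one]
  -- the sum of the values is the order of `H`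
  have hsum : ∑ y : H, dfun k y = (Nat.card H : ℂ) := by
    have h1 := classInner_tilde_one (k := k) hconj hfus (φ := fun _ : H => (1 : ℂ))
      (fun _ _ => rfl)
    rw [tilde_one] at h1
    have h2 : classInner (fun _ : G => (1 : ℂ)) (fun _ : G => (1 : ℂ)) = 1 := by
      unfold classInner
      have hG : (Nat.card G : ℂ) ≠ 0 := by exact_mod_cast Nat.card_pos.ne'
      simp only [map_one, mul_one, Finset.sum_const, Finset.card_univ, nsmul_eq_mul]
      rw [Fintype.card_eq_nat_card]
      field_simp
    rw [h2] at h1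
    have hH : (Nat.card H : ℂ) ≠ 0 := by exact_mod_cast Nat.card_pos.ne'
    have h3 : ∑ y : H, (fun _ : H => (1 : ℂ)) y * dfun k y = ∑ y : H, dfun k y := by
      apply Finset.sum_congr rfl
      intro y _
      simp
    rw [h3] at h1
    field_simp at h1
    exact h1.symm
  have hsumz : ∑ y : H, z y = ∑ _y : H, 1 := by
    have : ((∑ y : H, z y : ℕ) : ℂ) = ((∑ _y : H, 1 : ℕ) : ℂ) := by
      push_cast
      rw [← Finset.sum_congr rfl (fun y _ => hdz y), hsum]
      simp only [Finset.sum_const, Finset.card_univ, nsmul_eq_mul, mul_one]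
      rw [Fintype.card_eq_nat_card]
    exact_mod_cast this
  have hall : ∀ y : H, z y = 1 := by
    by_contra hne
    obtain ⟨y0, hy0⟩ := not_forall.mp hne
    have hlt : ∑ _y : H, 1 < ∑ y : H, z y := by
      apply Finset.sum_lt_sum
      · intro y _; exact hzpos y
      · exact ⟨y0, Finset.mem_univ _, lt_of_le_of_ne (hzpos y0) (Ne.symm hy0)⟩
    omega
  rw [hdz x, hall x]
  simp

include hfus hcard hnm hk1 hk0 helem hHk in
/-- the Brauer–Suzuki extension is an isometry -/
theorem classInner_tilde {θ θ' : H → ℂ} (hθ : IsClassFunction H θ)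
    (hθ' : IsClassFunction H θ') :
    classInner (tilde hconj θ) (tilde hconj θ') = classInner θ θ' := by
  have hφ : IsClassFunction H (fun h => θ h * conj (θ' h)) := by
    intro x y
    show θ (y * x * y⁻¹) * conj (θ' (y * x * y⁻¹)) = θ x * conj (θ' x)
    rw [hθ, hθ']
  have h1 := classInner_tilde_one (k := k) hconj hfus hφ
  have h2 : classInner (tilde hconj θ) (tilde hconj θ') =
      classInner (tilde hconj (fun h => θ h * conj (θ' h))) (fun _ : G => (1 : ℂ)) := by
    unfold classInner
    congr 1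
    apply Finset.sum_congr rfl
    intro g _
    show tilde hconj θ g * conj (tilde hconj θ' g) =
      (tilde hconj θ g * conj (tilde hconj θ' g)) * conj (1 : ℂ)
    simp
  rw [h2, h1]
  unfold classInner
  congr 1
  apply Finset.sum_congr rfl
  intro x _
  rw [dfun_eq_one hconj hfus hcard hnm hk1 hk0 helem hHk x, mul_one]

end Isometry

end Cfsg.Agent.Lib.Helper28
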