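import Mathlib
import Cfsg.Prelude.Def_Characters
import Cfsg.Agent.Lib.Helper28.HallTilde
import Cfsg.Agent.Lib.Helper26.IndChar
import Cfsg.Agent.Lib.Helper4.RepEigen

set_option autoImplicit false

/-!
# The Brauer–Suzuki theorem on Hall subgroups with a normal complement (helper28)
-/

namespace Cfsg.Agent.Lib.Helper28

open Cfsg Cfsg.Agent.Lib.Helper26 Cfsg.Agent.Lib.Helper4 Cfsg.Agent.Lib.Helper2
open scoped ComplexConjugate

variable {G : Type*} [Group G]

/-- a cyclic subgroup is elementary for every large prime -/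
theorem isElementary_zpowers [Finite G] (y : G) :
    ∃ p : ℕ, p.Prime ∧ IsElementary p (Subgroup.zpowers y) := by
  obtain ⟨p, hp_ge, hp⟩ := Nat.exists_infinite_primes (orderOf y + 1)
  refine ⟨p, hp, ⟨y, Subgroup.mem_zpowers y⟩, ?_, ?_, 0, ?_⟩
  · rw [Subgroup.mem_center_iff]
    intro g
    obtain ⟨i, hi⟩ := Subgroup.mem_zpowers_iff.mp g.2
    apply Subtype.ext
    show (g : G) * y = y * (g : G)
    rw [← hi]
    exact (Commute.refl y).zpow_left i |>.eq
  · rw [Subgroup.orderOf_mk]
    have hpos : 0 < orderOf y := orderOf_pos y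
    have : ¬ p ∣ orderOf y := Nat.not_dvd_of_pos_of_lt hpos (by omega)
    exact ((Nat.Prime.coprime_iff_not_dvd hp).mpr this).symm
  · rw [pow_zero, Subgroup.index_eq_one, eq_top_iff]
    intro z _
    obtain ⟨i, hi⟩ := Subgroup.mem_zpowers_iff.mp z.2
    rw [Subgroup.mem_zpowers_iff]
    refine ⟨i, ?_⟩
    apply Subtype.ext
    simp [hi]

theorem exists_normal_complement [Fintype G] (H : Subgroup G)
    (hHall : Nat.Coprime (Nat.card H) H.index)
    (hfus' : ∀ x ∈ H, ∀ y ∈ H, IsConj x y → ∃ h ∈ H, h * x * h⁻¹ = y)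
    (helem : ∀ (E : Subgroup G) (p : ℕ), p.Prime → IsElementary p E →
      Nat.card E ∣ Nat.card H → ∃ g : G, E.map (MulAut.conj g).toMonoidHom ≤ H) :
    ∃ K : Subgroup G, K.Normal ∧ K ⊔ H = ⊤ ∧ K ⊓ H = ⊥ := by
  classical
  have : Fintype H := Fintype.ofFinite H
  have : Fintype (IrrCharacter H) := Fintype.ofFinite _
  have hcard : Nat.card G = Nat.card H * H.index := (Subgroup.card_mul_index H).symm
  obtain ⟨k, hk1, hk0⟩ := exists_crt_exp hHall
  have hHn : ∀ h : H, (h : G) ^ Nat.card H = 1 := by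
    intro h
    have h1 : h ^ Nat.card H = 1 := pow_card_eq_one'
    have h2 := congrArg Subtype.val h1
    rwa [Subgroup.coe_pow, Subgroup.coe_one] at h2
  have hHk : ∀ h : H, (h : G) ^ k = h := fun h => pow_k_eq_self hk1 (hHn h)
  have hfus : ∀ x y : H, IsConj (x : G) (y : G) → IsConj x y := by
    intro x y hxy
    obtain ⟨h, hh, hc⟩ := hfus' x x.2 y y.2 hxy
    exact isConj_iff.mpr ⟨⟨h, hh⟩, Subtype.ext (by simpa using hc)⟩
  have hconj : ∀ g : G, ∃ h : H, IsConj (h : G) (g ^ k) := by
    intro g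
    obtain ⟨p, hp, hE⟩ := isElementary_zpowers (g ^ k)
    have hdvd : Nat.card (Subgroup.zpowers (g ^ k)) ∣ Nat.card H := by
      rw [Nat.card_zpowers]
      exact orderOf_dvd_of_pow_eq_one (pow_k_pow_n hk0 (pow_card_nm hcard g))
    obtain ⟨t, ht⟩ := helem _ p hp hE hdvd
    have hmem : t * g ^ k * t⁻¹ ∈ H := by
      apply ht
      exact ⟨g ^ k, Subgroup.mem_zpowers _, by simp [MulAut.conj_apply]⟩
    exact ⟨⟨t * g ^ k * t⁻¹, hmem⟩, (isConj_iff.mpr ⟨t, rfl⟩).symm⟩
  -- the extended characters are irreducible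
  have hirr : ∀ θ : IrrCharacter H, IsIrrCharacter G (tilde hconj (θ : H → ℂ)) := by
    intro θ
    have hθc := isCharacter_of_isIrrCharacter θ.2
    have hθcl := Helper26.isClassFunction_of_isCharacter hθc
    apply isIrrCharacter_of_norm_one
      (tilde_isGeneralizedCharacter hconj hfus hcard hHall hk1 hk0 helem hθc)
    · rw [classInner_tilde hconj hfus hcard hHall hk1 hk0 helem hHk hθcl hθcl]
      have := classInner_irr θ θ
      simpa using this
    · have h1 : tilde hconj (θ : H → ℂ) ((1 : H) : G) = (θ : H → ℂ) 1 :=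
        tilde_coe hconj hfus hθcl hHk 1
      rw [Subgroup.coe_one] at h1
      rw [h1]
      obtain ⟨d, hd, hd1⟩ := irr_degree θ.2
      rw [hd1]
      simpa using hd
  choose nθ ρθ hρirr hρchar using hirr
  have htilde1 : ∀ θ : IrrCharacter H, tilde hconj (θ : H → ℂ) 1 = (θ : H → ℂ) 1 := by
    intro θ
    have hθcl := Helper26.isClassFunction_of_isCharacter (isCharacter_of_isIrrCharacter θ.2)
    have h1 : tilde hconj (θ : H → ℂ) ((1 : H) : G) = (θ : H → ℂ) 1 :=
      tilde_coe hconj hfus hθcl hHk 1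
    rwa [Subgroup.coe_one] at h1
  -- membership in the kernels
  have hker : ∀ (θ : IrrCharacter H) (g : G),
      g ∈ (ρθ θ).ker ↔ tilde hconj (θ : H → ℂ) g = tilde hconj (θ : H → ℂ) 1 := by
    intro θ g
    rw [MonoidHom.mem_ker, ← hρchar θ]
    have h1 := character_eq_finrank_iff (ρθ θ) g
    rw [Representation.char_one]
    exact h1.symm
  let K : Subgroup G := ⨅ θ : IrrCharacter H, (ρθ θ).ker
  have hKn : K.Normal := Subgroup.normal_iInf_normal (fun θ => inferInstance)
  have hKmem : ∀ g : G, g ∈ K ↔ g ^ k = 1 := by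
    intro g
    rw [Subgroup.mem_iInf]
    constructor
    · intro h
      obtain ⟨h0, hh0⟩ := hconj g
      have hall : ∀ θ : IrrCharacter H, (θ : H → ℂ) h0 = (θ : H → ℂ) 1 := by
        intro θ
        have hθcl := Helper26.isClassFunction_of_isCharacter
          (isCharacter_of_isIrrCharacter θ.2)
        have h1 := (hker θ g).mp (h θ)
        rw [tilde_eq hconj hfus hθcl g h0 hh0, htilde1] at h1
        exact h1
      have hcol := column_orthogonality (G := H) h0 1
      have hcol1 := column_orthogonality (G := H) (1 : H) 1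
      rw [if_pos (IsConj.refl _)] at hcol1
      have hsame : ∑ χ : IrrCharacter H, (χ : H → ℂ) h0 * conj ((χ : H → ℂ) 1) =
          ∑ χ : IrrCharacter H, (χ : H → ℂ) 1 * conj ((χ : H → ℂ) 1) := by
        apply Finset.sum_congr rfl
        intro χ _
        rw [hall χ]
      rw [hsame, hcol1] at hcol
      by_cases hc : IsConj h0 1
      · have h01 : h0 = 1 := by
          rw [isConj_comm, isConj_one_right] at hc
          exact hc
        rw [h01, Subgroup.coe_one, isConj_one_right] at hh0
        exact hh0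
      · rw [if_neg hc] at hcol
        exfalso
        have : (Nat.card (Subgroup.centralizer ({(1 : H)} : Set H)) : ℂ) ≠ 0 := by
          exact_mod_cast Nat.card_pos.ne'
        exact this hcol
    · intro hg θ
      rw [hker]
      have hθcl := Helper26.isClassFunction_of_isCharacter
        (isCharacter_of_isIrrCharacter θ.2)
      rw [tilde_eq hconj hfus hθcl g 1 (by rw [hg, Subgroup.coe_one]), htilde1]
  have hdisj : K ⊓ H = ⊥ := by
    rw [eq_bot_iff]
    rintro g ⟨hgK, hgH⟩
    have hgK' : g ∈ K := hgK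
    rw [hKmem] at hgK'
    have := hHk ⟨g, hgH⟩
    rw [Subgroup.mem_bot]
    have h3 : g ^ k = g := this
    rw [← h3]
    exact hgK'
  refine ⟨K, hKn, ?_, hdisj⟩
  -- the index of `K` divides `|H|`
  have hpowK : ∀ g : G, g ^ Nat.card H ∈ K := by
    intro g
    rw [hKmem, ← pow_mul, mul_comm, pow_mul]
    exact pow_k_pow_n hk0 (pow_card_nm hcard g)
  have hidx1 : K.index ∣ Nat.card H := by
    have h1 : K.index ∣ Nat.card H * H.index := by
      rw [← hcard]; exact Subgroup.index_dvd_card K
    have h2 : Nat.Coprime K.index H.index := by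
      apply Nat.coprime_of_dvd
      intro r hr hr1 hr2
      have : Fact r.Prime := ⟨hr⟩
      rw [Subgroup.index_eq_card] at hr1
      obtain ⟨y, hy⟩ := exists_prime_orderOf_dvd_card' (G := G ⧸ K) r hr1
      obtain ⟨g, rfl⟩ := QuotientGroup.mk_surjective y
      have h3 : ((g : G ⧸ K)) ^ Nat.card H = 1 := by
        rw [← QuotientGroup.mk_pow]
        exact (QuotientGroup.eq_one_iff _).mpr (hpowK g)
      have h4 : r ∣ Nat.card H := by
        rw [← hy]; exact orderOf_dvd_of_pow_eq_one h3
      have h5 : r ∣ Nat.gcd (Nat.card H) H.index := Nat.dvd_gcd h4 hr2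
      rw [hHall] at h5
      exact hr.one_lt.ne' (Nat.dvd_one.mp h5)
    exact h2.dvd_of_dvd_mul_right h1
  have hidx2 : Nat.card H ∣ K.index := by
    rw [Subgroup.index_eq_card]
    apply Subgroup.card_dvd_of_injective ((QuotientGroup.mk' K).comp H.subtype)
    rw [injective_iff_map_eq_one]
    intro h hh
    have h1 : (h : G) ∈ K := by
      have : ((h : G) : G ⧸ K) = 1 := hh
      exact (QuotientGroup.eq_one_iff _).mp this
    have h2 : (h : G) ∈ K ⊓ H := ⟨h1, h.2⟩
    rw [hdisj, Subgroup.mem_bot] at h2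
    exact Subtype.ext h2
  have hidx : K.index = Nat.card H := Nat.dvd_antisymm hidx1 hidx2
  have hKcard : Nat.card K * Nat.card H = Nat.card G := by
    rw [← hidx]; exact Subgroup.card_mul_index K
  have hcompl := Subgroup.isComplement'_of_card_mul_and_disjoint hKcard
    (disjoint_iff.mpr hdisj)
  exact hcompl.sup_eq_top

end Cfsg.Agent.Lib.Helper28
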