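import Cfsg.Agent.Lib.Helper28.RankOneCartanA
import Cfsg.Agent.Lib.Helper28.GreenVanK
import Cfsg.Agent.Lib.Helper28.DefectGen
import Cfsg.Agent.Lib.Helper28.BlockOsima

set_option autoImplicit false

namespace Cfsg.Agent.Lib.Helper28

open Cfsg Cfsg.Agent.Lib.Helper4 Cfsg.Agent.Lib.Helper26
open scoped ComplexConjugate Classical

section

variable {G : Type*} [Group G] [Fintype G] {M : Ideal AlgInt}

/-- the conjugate `p`-regular part, scaled by the inverse of the `p'`-part of `|G|`, as a test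
function for central characters -/
noncomputable def pregTest (p : ℕ) (χ : G → ℂ) : G → ℂ :=
  fun g => ((Nat.card G / p ^ (Nat.card G).factorization p : ℕ) : ℂ)⁻¹ *
    conj (pRegularPart p χ g)

theorem isClassFunction_pregTest (p : ℕ) {χ : G → ℂ} (hχ : IsClassFunction G χ) :
    IsClassFunction G (pregTest p χ) := by
  intro g k
  unfold pregTest
  rw [isClassFunction_pRegularPart p hχ g k]

theorem pregTest_memLocalRing {p : ℕ} (hM : IsPModular p M) {χ : G → ℂ}
    (hχ : IsIrrCharacter G χ) (g : G) : MemLocalRing M (pregTest p χ g) := by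
  have hprime : M.IsPrime := hM.2.1.isPrime
  have hMtop : M ≠ ⊤ := hM.2.1.ne_top
  have hp := hM.1
  unfold pregTest
  apply memLocalRing_mul
  · exact memLocalRing_inv_natCast hM (Nat.coprime_ordCompl hp Nat.card_pos.ne').symm
  · apply memLocalRing_of_isIntegral hMtop
    rw [pRegularPart_apply]
    split_ifs
    · rw [map_zero]; exact isIntegral_zero
    · apply map_isIntegral_int
      exact isIntegral_of_isIrrCharacter hχ g

/-- `ω_ξ(pregTest χ) · ξ(1) = p^a · conj ⟨χ°, ξ⟩` -/
theorem omegaF_pregTest {p : ℕ} (hp : p.Prime) (χ ξ : G → ℂ) (hξ1 : ξ 1 ≠ 0) :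
    omegaF ξ (pregTest p χ) * ξ 1 =
      (p : ℂ) ^ (Nat.card G).factorization p * conj (classInner (pRegularPart p χ) ξ) := by
  unfold omegaF classInner pregTest
  rw [div_mul_cancel₀ _ hξ1, map_mul, map_sum, map_inv₀, Complex.conj_natCast]
  have hG : (Nat.card G : ℂ) ≠ 0 := by exact_mod_cast Nat.card_pos.ne'
  have hsplit := natCast_split (p := p) (Nat.card G)
  have hc : ((Nat.card G / p ^ (Nat.card G).factorization p : ℕ) : ℂ) ≠ 0 := by
    intro h
    rw [h, mul_zero] at hsplit
    exact hG hsplit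
  have hsum : ∑ g : G, ((Nat.card G / p ^ (Nat.card G).factorization p : ℕ) : ℂ)⁻¹ *
      conj (pRegularPart p χ g) * ξ g =
      ((Nat.card G / p ^ (Nat.card G).factorization p : ℕ) : ℂ)⁻¹ *
        ∑ g : G, conj (pRegularPart p χ g * conj (ξ g)) := by
    rw [Finset.mul_sum]
    refine Finset.sum_congr rfl fun g _ => ?_
    rw [map_mul, Complex.conj_conj, mul_assoc]
  rw [hsum]
  conv_rhs => rw [hsplit]
  have hpp : (p : ℂ) ^ (Nat.card G).factorization p ≠ 0 :=
    pow_ne_zero _ (Nat.cast_ne_zero.mpr hp.ne_zero)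
  field_simp

/-- symmetry of the inner product of `p`-regular parts -/
theorem classInner_pRegularPart_symm (p : ℕ) (χ ξ : G → ℂ) :
    classInner (pRegularPart p χ) ξ = conj (classInner (pRegularPart p ξ) χ) := by
  unfold classInner
  rw [map_mul, map_sum, map_inv₀, Complex.conj_natCast]
  congr 1
  refine Finset.sum_congr rfl fun g _ => ?_
  rw [pRegularPart_apply, pRegularPart_apply, map_mul, Complex.conj_conj]
  split_ifs
  · simp
  · ring

/-- `p^(a - ν(χ(1))) ⟨χ°, ξ⟩` is an integer -/
theorem exists_int_classInner_pRegularPart {p : ℕ} (hp : p.Prime) (χ ξ : IrrCharacter G) :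
    ∃ k : ℤ, (p : ℂ) ^ ((Nat.card G).factorization p -
        (charDegree (χ : G → ℂ)).factorization p) *
      classInner (pRegularPart p (χ : G → ℂ)) (ξ : G → ℂ) = k := by
  obtain ⟨k, hk⟩ := classInner_generalized_int (irr_pPart_isGeneralizedCharacter hp χ)
    (isGeneralizedCharacter_of_isCharacter (isCharacter_of_isIrrCharacter ξ.2))
  refine ⟨k, ?_⟩
  rw [← hk]
  unfold classInner
  rw [mul_left_comm, Finset.mul_sum]
  congr 1
  refine Finset.sum_congr rfl fun g _ => ?_
  rw [pRegularPart_apply]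
  dsimp only
  by_cases hg : p ∣ orderOf g
  · rw [if_pos hg, if_pos hg]; ring
  · rw [if_neg hg, if_neg hg]; push_cast; ring

/-- `p^a ⟨χ°, ξ⟩` is an integer -/
theorem exists_int_classInner_pRegularPart' {p : ℕ} (hp : p.Prime) (χ ξ : IrrCharacter G) :
    ∃ k : ℤ, (p : ℂ) ^ (Nat.card G).factorization p *
      classInner (pRegularPart p (χ : G → ℂ)) (ξ : G → ℂ) = k := by
  obtain ⟨k, hk⟩ := exists_int_classInner_pRegularPart hp χ ξ
  have hle : (charDegree (χ : G → ℂ)).factorization p ≤ (Nat.card G).factorization p :=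
    (Nat.factorization_le_iff_dvd (irr_degree_nat χ.2).1 Nat.card_pos.ne').mpr
      (irr_degree_nat χ.2).2.2 p
  refine ⟨(p : ℤ) ^ (charDegree (χ : G → ℂ)).factorization p * k, ?_⟩
  push_cast
  rw [← hk, ← mul_assoc, ← pow_add]
  congr 2
  omega

end

end Cfsg.Agent.Lib.Helper28
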