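import Cfsg.Agent.Lib.Helper28.HeightZeroA

set_option autoImplicit false

namespace Cfsg.Agent.Lib.Helper28

open Cfsg Cfsg.Agent.Lib.Helper4 Cfsg.Agent.Lib.Helper26
open scoped ComplexConjugate Classical

section

variable {G : Type*} [Group G] [Fintype G] {M : Ideal AlgInt}

/-- **height zero criterion**: if `p^a ⟨χ°, χ⟩ / χ(1)` is a unit of the local ring then
`ν_p(χ(1)) ≤ ν_p(ψ(1))` for every `ψ` in the block of `χ` -/
theorem degree_factorization_le_of_unit {p : ℕ} [Fact p.Prime] (hM : IsPModular p M)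
    {χ ψ : IrrCharacter G} (h : SameBlock M (χ : G → ℂ) (ψ : G → ℂ))
    (hunit : ¬ MemLocalIdeal M (omegaF (χ : G → ℂ) (pregTest p (χ : G → ℂ)))) :
    (charDegree (χ : G → ℂ)).factorization p ≤ (charDegree (ψ : G → ℂ)).factorization p := by
  have hprime : M.IsPrime := hM.2.1.isPrime
  have hMtop : M ≠ ⊤ := hM.2.1.ne_top
  have hp : p.Prime := Fact.out
  have hχcf := Helper4.isClassFunction_of_isIrrCharacter χ.2
  have hψcf := Helper4.isClassFunction_of_isIrrCharacter ψ.2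
  have h1 := omegaF_sub_memLocalIdeal hχcf hψcf h (pregTest p (χ : G → ℂ))
    (isClassFunction_pregTest p hχcf) (fun g => pregTest_memLocalRing hM χ.2 g)
  have h2 : ¬ MemLocalIdeal M (omegaF (ψ : G → ℂ) (pregTest p (χ : G → ℂ))) := by
    intro h3
    apply hunit
    have := Helper28.memLocalIdeal_add h1 h3
    rwa [sub_add_cancel] at this
  have h4 : MemLocalRing M (omegaF (ψ : G → ℂ) (pregTest p (χ : G → ℂ))) :=
    omegaF_memLocalRing ψ.2 _ (isClassFunction_pregTest p hχcf)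
      (fun g => pregTest_memLocalRing hM χ.2 g)
  have h5 : MemLocalRing M (omegaF (χ : G → ℂ) (pregTest p (ψ : G → ℂ))) :=
    omegaF_memLocalRing χ.2 _ (isClassFunction_pregTest p hψcf)
      (fun g => pregTest_memLocalRing hM ψ.2 g)
  obtain ⟨k, hk⟩ := exists_int_classInner_pRegularPart' hp χ ψ
  obtain ⟨hχ0, hχ1, -⟩ := irr_degree_nat χ.2
  obtain ⟨hψ0, hψ1, -⟩ := irr_degree_nat ψ.2
  have hχ1' : (χ : G → ℂ) 1 ≠ 0 := by rw [hχ1]; exact_mod_cast hχ0
  have hψ1' : (ψ : G → ℂ) 1 ≠ 0 := by rw [hψ1]; exact_mod_cast hψ0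
  have e1 := omegaF_pregTest hp (χ : G → ℂ) (ψ : G → ℂ) hψ1'
  have e2 := omegaF_pregTest hp (ψ : G → ℂ) (χ : G → ℂ) hχ1'
  rw [← classInner_pRegularPart_symm, hk] at e2
  have e1' : omegaF (ψ : G → ℂ) (pregTest p (χ : G → ℂ)) * (ψ : G → ℂ) 1 = (k : ℂ) := by
    have : conj ((k : ℂ)) = (k : ℂ) := map_intCast (starRingEnd ℂ) k
    rw [e1, ← this, ← hk, map_mul, map_pow, Complex.conj_natCast]
  have hk0 : k ≠ 0 := by
    rintro rfl
    rw [Int.cast_zero] at e1'
    rcases mul_eq_zero.mp e1' with h6 | h6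
    · exact h2 (h6 ▸ Helper28.memLocalIdeal_zero hMtop)
    · exact hψ1' h6
  have hn0 : k.natAbs ≠ 0 := Int.natAbs_ne_zero.mpr hk0
  have hJ0 : omegaF (ψ : G → ℂ) (pregTest p (χ : G → ℂ)) ≠ 0 := by
    intro h6
    exact h2 (h6 ▸ Helper28.memLocalIdeal_zero hMtop)
  have hinv := memLocalRing_inv h4 h2
  rw [hχ1] at e2
  rw [hψ1] at e1'
  have hψc : ((charDegree (ψ : G → ℂ) : ℕ) : ℂ) ≠ 0 := by exact_mod_cast hψ0
  rcases Int.natAbs_eq k with hs | hs
  · have hnk : ((k.natAbs : ℕ) : ℂ) = (k : ℂ) := by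
      have h7 : ((k.natAbs : ℤ) : ℂ) = (k : ℂ) := by rw [← hs]
      rwa [Int.cast_natCast] at h7
    have i1 := factorization_le_of_eq_mul_memLocalRing hM hn0
      (ω := omegaF (χ : G → ℂ) (pregTest p (ψ : G → ℂ)))
      (N := charDegree (χ : G → ℂ)) (by rw [hnk, ← e2]; ring) h5
    have i2 := factorization_le_of_eq_mul_memLocalRing hM hψ0
      (ω := (omegaF (ψ : G → ℂ) (pregTest p (χ : G → ℂ)))⁻¹)
      (N := k.natAbs) (by rw [hnk, ← e1']; field_simp) hinv
    exact i1.trans i2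
  · have hnk : ((k.natAbs : ℕ) : ℂ) = -(k : ℂ) := by
      have h8 : (k.natAbs : ℤ) = -k := by omega
      have h7 : ((k.natAbs : ℤ) : ℂ) = -(k : ℂ) := by rw [h8, Int.cast_neg]
      rwa [Int.cast_natCast] at h7
    have i1 := factorization_le_of_eq_mul_memLocalRing hM hn0
      (ω := -omegaF (χ : G → ℂ) (pregTest p (ψ : G → ℂ)))
      (N := charDegree (χ : G → ℂ)) (by rw [hnk, ← e2]; ring) (memLocalRing_neg h5)
    have i2 := factorization_le_of_eq_mul_memLocalRing hM hψ0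
      (ω := -(omegaF (ψ : G → ℂ) (pregTest p (χ : G → ℂ)))⁻¹)
      (N := k.natAbs) (by rw [hnk, ← e1']; field_simp) (memLocalRing_neg hinv)
    exact i1.trans i2

end

end Cfsg.Agent.Lib.Helper28
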