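import Cfsg.Agent.Lib.Helper28.HeightZeroB

set_option autoImplicit false

namespace Cfsg.Agent.Lib.Helper28

open Cfsg Cfsg.Agent.Lib.Helper4 Cfsg.Agent.Lib.Helper26
open scoped ComplexConjugate Classical

section

variable {G : Type*} [Group G] [Fintype G] {M : Ideal AlgInt}

/-- the `p`-regular norm of an irreducible character is a real number in `(0, 1]`, equal to `1`
only if the character vanishes at the `p`-singular elements -/
theorem pRegular_norm {p : ℕ} (hp : p.Prime) (χ : IrrCharacter G) :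
    ∃ r : ℝ, classInner (pRegularPart p (χ : G → ℂ)) (χ : G → ℂ) = (r : ℂ) ∧ 0 < r ∧ r ≤ 1 ∧
      (r = 1 → ∀ g : G, p ∣ orderOf g → (χ : G → ℂ) g = 0) := by
  have hGpos : (0 : ℝ) < (Nat.card G : ℝ) := by exact_mod_cast Nat.card_pos
  have hGc : (Nat.card G : ℂ) ≠ 0 := by exact_mod_cast Nat.card_pos.ne'
  set s : ℝ := ∑ g : G, (if p ∣ orderOf g then 0 else Complex.normSq ((χ : G → ℂ) g)) with hs
  set T : ℝ := ∑ g : G, Complex.normSq ((χ : G → ℂ) g) with hT
  have hTG : T = (Nat.card G : ℝ) := by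
    have h1 := Helper4.classInner_irr χ χ
    rw [if_pos rfl] at h1
    unfold classInner at h1
    have h2 : ∑ g : G, (χ : G → ℂ) g * conj ((χ : G → ℂ) g) = ((T : ℝ) : ℂ) := by
      rw [hT, Complex.ofReal_sum]
      refine Finset.sum_congr rfl fun g _ => ?_
      rw [Complex.mul_conj]
    rw [h2] at h1
    have h3 : ((T : ℝ) : ℂ) = (Nat.card G : ℂ) := by
      have := congrArg (fun z => (Nat.card G : ℂ) * z) h1
      simp only [mul_one] at this
      rw [← mul_assoc, mul_inv_cancel₀ hGc, one_mul] at this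
      exact this
    exact_mod_cast h3
  have hsT : s ≤ T := by
    apply Finset.sum_le_sum
    intro g _
    split_ifs
    · exact Complex.normSq_nonneg _
    · exact le_rfl
  have h1reg : ¬ p ∣ orderOf (1 : G) := by rw [orderOf_one]; exact hp.not_dvd_one
  have hχ1 : (χ : G → ℂ) 1 ≠ 0 := by
    rw [(irr_degree_nat χ.2).2.1]
    exact_mod_cast (irr_degree_nat χ.2).1
  have hspos : 0 < s := by
    have h1 : (if p ∣ orderOf (1 : G) then 0 else Complex.normSq ((χ : G → ℂ) 1)) ≤ s :=
      Finset.single_le_sum (f := fun g : G =>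
        (if p ∣ orderOf g then 0 else Complex.normSq ((χ : G → ℂ) g)))
        (fun g _ => by
          split_ifs
          · exact le_rfl
          · exact Complex.normSq_nonneg _) (Finset.mem_univ 1)
    rw [if_neg h1reg] at h1
    exact lt_of_lt_of_le (Complex.normSq_pos.mpr hχ1) h1
  refine ⟨(Nat.card G : ℝ)⁻¹ * s, ?_, by positivity, ?_, ?_⟩
  · unfold classInner
    push_cast
    congr 1
    rw [hs, Complex.ofReal_sum]
    refine Finset.sum_congr rfl fun g _ => ?_
    rw [pRegularPart_apply]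
    split_ifs
    · simp
    · rw [Complex.mul_conj]
  · rw [inv_mul_le_iff₀ hGpos, mul_one, ← hTG]
    exact hsT
  · intro hr g hg
    have hsG : s = T := by
      rw [hTG]
      have := congrArg (fun z => (Nat.card G : ℝ) * z) hr
      simp only [mul_one] at this
      rw [← mul_assoc, mul_inv_cancel₀ hGpos.ne', one_mul] at this
      exact this
    have hdiff : ∑ g : G, (Complex.normSq ((χ : G → ℂ) g) -
        (if p ∣ orderOf g then 0 else Complex.normSq ((χ : G → ℂ) g))) = 0 := by
      rw [Finset.sum_sub_distrib, ← hs, ← hT, hsG, sub_self]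
    have hnn : ∀ g ∈ (Finset.univ : Finset G), 0 ≤ Complex.normSq ((χ : G → ℂ) g) -
        (if p ∣ orderOf g then 0 else Complex.normSq ((χ : G → ℂ) g)) := by
      intro g _
      split_ifs
      · rw [sub_zero]; exact Complex.normSq_nonneg _
      · rw [sub_self]
    have := (Finset.sum_eq_zero_iff_of_nonneg hnn).mp hdiff g (Finset.mem_univ g)
    rw [if_pos hg, sub_zero] at this
    exact Complex.normSq_eq_zero.mp this

/-- an irreducible character whose degree is divisible by `p^(a-1)` satisfies the height zero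
criterion -/
theorem unit_of_defect_le_one {p : ℕ} [Fact p.Prime] (hM : IsPModular p M)
    (χ : IrrCharacter G)
    (hdiv : (Nat.card G).factorization p - 1 ≤ (charDegree (χ : G → ℂ)).factorization p) :
    ¬ MemLocalIdeal M (omegaF (χ : G → ℂ) (pregTest p (χ : G → ℂ))) := by
  have hp : p.Prime := Fact.out
  intro hJ
  obtain ⟨hχ0, hχ1, hχdvd⟩ := irr_degree_nat χ.2
  have hχ1' : (χ : G → ℂ) 1 ≠ 0 := by rw [hχ1]; exact_mod_cast hχ0
  have hle : (charDegree (χ : G → ℂ)).factorization p ≤ (Nat.card G).factorization p :=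
    (Nat.factorization_le_iff_dvd hχ0 Nat.card_pos.ne').mpr hχdvd p
  obtain ⟨r, hr, hr0, hr1, hrv⟩ := pRegular_norm hp χ
  obtain ⟨m, hm⟩ := exists_int_classInner_pRegularPart hp χ χ
  have e1 := omegaF_pregTest hp (χ : G → ℂ) (χ : G → ℂ) hχ1'
  rw [hr, Complex.conj_ofReal] at e1
  rw [hr] at hm
  -- `m` is a positive integer
  have hmR : ((p : ℝ) ^ ((Nat.card G).factorization p -
      (charDegree (χ : G → ℂ)).factorization p)) * r = (m : ℝ) := by
    have : (((p : ℝ) ^ ((Nat.card G).factorization p -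
      (charDegree (χ : G → ℂ)).factorization p) * r : ℝ) : ℂ) = ((m : ℝ) : ℂ) := by
      push_cast
      exact hm
    exact_mod_cast this
  have hpR : (0 : ℝ) < (p : ℝ) := by exact_mod_cast hp.pos
  have hmpos : 0 < m := by
    have : (0 : ℝ) < (m : ℝ) := by rw [← hmR]; positivity
    exact_mod_cast this
  -- `n = p^v * m`
  set v := (charDegree (χ : G → ℂ)).factorization p with hv
  set a := (Nat.card G).factorization p with ha
  have hn : ((p ^ v * m.toNat : ℕ) : ℂ) = (charDegree (χ : G → ℂ) : ℂ) *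
      omegaF (χ : G → ℂ) (pregTest p (χ : G → ℂ)) := by
    rw [← hχ1, mul_comm ((χ : G → ℂ) 1), e1]
    have hmt : ((m.toNat : ℕ) : ℂ) = (m : ℂ) := by
      have : ((m.toNat : ℤ) : ℂ) = (m : ℂ) := by rw [Int.toNat_of_nonneg hmpos.le]
      rwa [Int.cast_natCast] at this
    push_cast
    rw [hmt, ← hm, ← mul_assoc, ← pow_add]
    congr 2
    omega
  have hmt0 : m.toNat ≠ 0 := by
    intro h
    have := Int.toNat_eq_zero.mp h
    omega
  have hn0 : p ^ v * m.toNat ≠ 0 := mul_ne_zero (pow_ne_zero _ hp.pos.ne') hmt0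
  have hlt := factorization_lt_of_eq_mul_memLocalIdeal hM hn0 hn hJ
  rw [Nat.factorization_mul (pow_ne_zero _ hp.pos.ne') hmt0, Finsupp.add_apply,
    hp.factorization_pow, Finsupp.single_eq_same] at hlt
  -- so `p ∣ m`
  have hpm : p ∣ m.toNat := by
    by_contra hnd
    rw [Nat.factorization_eq_zero_of_not_dvd hnd] at hlt
    omega
  -- `m ≤ p^(a-v) ≤ p`
  have hmle : (m : ℝ) ≤ (p : ℝ) ^ (a - v) := by
    rw [← hmR]
    calc (p : ℝ) ^ (a - v) * r ≤ (p : ℝ) ^ (a - v) * 1 :=
          mul_le_mul_of_nonneg_left hr1 (by positivity)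
      _ = (p : ℝ) ^ (a - v) := mul_one _
  have hav : a - v ≤ 1 := by omega
  have hple : (p : ℕ) ≤ m.toNat := Nat.le_of_dvd (Nat.pos_of_ne_zero hmt0) hpm
  have hmt' : (m.toNat : ℝ) = (m : ℝ) := by
    have : ((m.toNat : ℤ) : ℝ) = (m : ℝ) := by rw [Int.toNat_of_nonneg hmpos.le]
    rwa [Int.cast_natCast] at this
  have hpleR : (p : ℝ) ≤ (m : ℝ) := by
    rw [← hmt']
    exact_mod_cast hple
  -- hence `a - v = 1` and `r = 1`
  have hav1 : a - v = 1 := by
    by_contra hne
    have h0 : a - v = 0 := by omega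
    rw [h0, pow_zero] at hmle
    have : (2 : ℝ) ≤ (p : ℝ) := by exact_mod_cast hp.two_le
    linarith
  rw [hav1, pow_one] at hmle hmR
  have hmp : (m : ℝ) = (p : ℝ) := le_antisymm hmle hpleR
  have hr1' : r = 1 := by
    rw [hmp] at hmR
    have := mul_left_cancel₀ hpR.ne' (hmR.trans (mul_one _).symm)
    exact this
  -- so `χ` vanishes at `p`-singular elements and `p^a ∣ χ(1)`
  have hvan := hrv hr1'
  obtain ⟨k, hk⟩ := degree_of_vanish_pSingular
    (isGeneralizedCharacter_of_isCharacter (isCharacter_of_isIrrCharacter χ.2)) hvan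
  rw [hχ1] at hk
  have hkZ : ((charDegree (χ : G → ℂ) : ℕ) : ℤ) = ((p ^ a : ℕ) : ℤ) * k := by
    have : (((charDegree (χ : G → ℂ) : ℕ) : ℤ) : ℂ) = ((((p ^ a : ℕ) : ℤ) * k : ℤ) : ℂ) := by
      push_cast
      push_cast at hk
      exact hk
    exact_mod_cast this
  have hdvd : p ^ a ∣ charDegree (χ : G → ℂ) := by
    have : ((p ^ a : ℕ) : ℤ) ∣ ((charDegree (χ : G → ℂ) : ℕ) : ℤ) := ⟨k, hkZ⟩
    exact Int.natCast_dvd_natCast.mp this
  have := (hp.pow_dvd_iff_le_factorization hχ0).mp hdvd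
  omega

end

end Cfsg.Agent.Lib.Helper28
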