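import Cfsg.Agent.Lib.Helper28.HeightZeroC
import Cfsg.Agent.Lib.Helper2.CharConj
import Cfsg.Agent.Lib.Helper4.CharOrtho

set_option autoImplicit false

namespace Cfsg.Agent.Lib.Helper28

open Cfsg Cfsg.Agent.Lib.Helper4 Cfsg.Agent.Lib.Helper26
open scoped ComplexConjugate Classical

section

variable {G : Type*} [Group G] [Fintype G] {M : Ideal AlgInt}

set_option maxHeartbeats 1600000 in
/-- a generalized character vanishing at the `p`-singular elements, evaluated at a `p`-regular
element `x`, is divisible (as an algebraic integer) by the order of any `p`-subgroup of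
`C_G(x)` -/
theorem isIntegral_div_card_of_vanish {p : ℕ} [Fact p.Prime] {θ : G → ℂ}
    (hθ : IsGeneralizedCharacter G θ) (hv : ∀ g : G, p ∣ orderOf g → θ g = 0)
    (x : G) (hx : ¬ p ∣ orderOf x) (D : Subgroup G) (hD : IsPGroup p D)
    (hDx : D ≤ Subgroup.centralizer ({x} : Set G)) :
    IsIntegral ℤ (θ x / (Nat.card D : ℂ)) := by
  have hp : p.Prime := Fact.out
  have : Fintype D := Fintype.ofFinite _
  have : Fintype (Subgroup.zpowers x) := Fintype.ofFinite _
  have : Fintype (IrrCharacter (Subgroup.zpowers x)) := Fintype.ofFinite _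
  have hcomm : ∀ (u : D) (y : Subgroup.zpowers x), Commute (D.subtype u)
      ((Subgroup.zpowers x).subtype y) := by
    intro u y
    obtain ⟨k, hk⟩ := Subgroup.mem_zpowers_iff.mp y.2
    have h1 : Commute (u : G) x := by
      have := Subgroup.mem_centralizer_iff.mp (hDx u.2) x rfl
      exact this.symm
    show Commute (u : G) (y : G)
    rw [← hk]
    exact Commute.zpow_right h1 k
  let f : D × Subgroup.zpowers x →* G :=
    MonoidHom.noncommCoprod D.subtype (Subgroup.zpowers x).subtype hcomm
  have hf : ∀ (u : D) (y : Subgroup.zpowers x), f (u, y) = (u : G) * (y : G) := fun u y => rfl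
  have hθ' : IsGeneralizedCharacter (D × Subgroup.zpowers x) (θ ∘ f) := by
    obtain ⟨a, b, ha, hb, rfl⟩ := hθ
    exact ⟨a ∘ f, b ∘ f, Cfsg.Agent.Lib.Helper2.isCharacter_comp_hom ha f,
      Cfsg.Agent.Lib.Helper2.isCharacter_comp_hom hb f, rfl⟩
  -- vanishing off `1 × C`
  have hvan : ∀ (u : D) (y : Subgroup.zpowers x), u ≠ 1 → θ (f (u, y)) = 0 := by
    intro u y hu
    apply hv
    rw [hf]
    have hcop : (orderOf (u : G)).Coprime (orderOf (y : G)) := by
      obtain ⟨j, hj⟩ := (IsPGroup.iff_orderOf.mp hD) u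
      rw [Subgroup.orderOf_coe, hj]
      apply Nat.Coprime.pow_left
      rw [Nat.Prime.coprime_iff_not_dvd hp]
      intro hdvd
      apply hx
      have : orderOf (y : G) ∣ orderOf x := orderOf_dvd_of_mem_zpowers y.2
      exact hdvd.trans this
    have hc' : Commute (u : G) (y : G) := hcomm u y
    rw [hc'.orderOf_mul_eq_mul_orderOf_of_coprime hcop]
    obtain ⟨j, hj⟩ := (IsPGroup.iff_orderOf.mp hD) u
    have hj0 : j ≠ 0 := by
      rintro rfl
      rw [pow_zero, orderOf_eq_one_iff] at hj
      exact hu hj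
    rw [Subgroup.orderOf_coe, hj]
    exact Dvd.dvd.mul_right (dvd_pow_self p hj0) _
  -- the integers `k λ`
  have hk : ∀ lam : IrrCharacter (Subgroup.zpowers x), ∃ k : ℤ,
      classInner (θ ∘ f) ((lam : Subgroup.zpowers x → ℂ) ∘
        (MonoidHom.snd D (Subgroup.zpowers x))) = k := fun lam =>
    classInner_generalized_int hθ' (isGeneralizedCharacter_of_isCharacter
      (Cfsg.Agent.Lib.Helper2.isCharacter_comp_hom (isCharacter_of_isIrrCharacter lam.2) _))
  choose k hk using hk
  have hDc : (Nat.card D : ℂ) ≠ 0 := by exact_mod_cast Nat.card_pos.ne'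
  have hCc : (Nat.card (Subgroup.zpowers x) : ℂ) ≠ 0 := by exact_mod_cast Nat.card_pos.ne'
  -- computation of the inner products
  have hk' : ∀ lam : IrrCharacter (Subgroup.zpowers x),
      (Nat.card D : ℂ) * (k lam : ℂ) = (Nat.card (Subgroup.zpowers x) : ℂ)⁻¹ *
        ∑ y : Subgroup.zpowers x, θ (y : G) * conj ((lam : Subgroup.zpowers x → ℂ) y) := by
    intro lam
    rw [← hk lam]
    unfold classInner
    rw [Nat.card_prod, Fintype.sum_prod_type, Finset.sum_eq_single (1 : D)]
    · have : ∀ y : Subgroup.zpowers x, (θ ∘ f) ((1 : D), y) *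
          conj (((lam : Subgroup.zpowers x → ℂ) ∘ (MonoidHom.snd D (Subgroup.zpowers x)))
            ((1 : D), y)) = θ (y : G) * conj ((lam : Subgroup.zpowers x → ℂ) y) := by
        intro y
        simp only [Function.comp_apply, hf, MonoidHom.coe_snd, Subgroup.coe_one, one_mul]
      rw [Finset.sum_congr rfl (fun y _ => this y)]
      push_cast
      field_simp
    · intro u _ hu
      refine Finset.sum_eq_zero fun y _ => ?_
      simp only [Function.comp_apply]
      rw [hvan u y hu, zero_mul]
    · intro h; exact absurd (Finset.mem_univ _) h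
  -- Fourier inversion on the cyclic group
  set x0 : Subgroup.zpowers x := ⟨x, Subgroup.mem_zpowers x⟩ with hx0
  have hmc : ∀ a b : Subgroup.zpowers x, a * b = b * a := isMulCommutative_iff.mp inferInstance
  have hconj : ∀ y : Subgroup.zpowers x, IsConj x0 y ↔ x0 = y := by
    intro y
    constructor
    · intro h
      obtain ⟨c, hc⟩ := isConj_iff.mp h
      rw [← hc, hmc c x0, mul_assoc, mul_inv_cancel, mul_one]
    · rintro rfl; exact IsConj.refl _
  have hcent : Subgroup.centralizer ({x0} : Set (Subgroup.zpowers x)) = ⊤ := by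
    ext c
    simp only [Subgroup.mem_centralizer_iff, Set.mem_singleton_iff, forall_eq, Subgroup.mem_top,
      iff_true]
    exact hmc _ _
  have hmain : θ x / (Nat.card D : ℂ) =
      ∑ lam : IrrCharacter (Subgroup.zpowers x),
        (lam : Subgroup.zpowers x → ℂ) x0 * (k lam : ℂ) := by
    have h1 : ∀ lam : IrrCharacter (Subgroup.zpowers x),
        (lam : Subgroup.zpowers x → ℂ) x0 * (k lam : ℂ) =
          (Nat.card D : ℂ)⁻¹ * ((Nat.card (Subgroup.zpowers x) : ℂ)⁻¹ *
            ∑ y : Subgroup.zpowers x, θ (y : G) *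
              ((lam : Subgroup.zpowers x → ℂ) x0 *
                conj ((lam : Subgroup.zpowers x → ℂ) y))) := by
      intro lam
      have := hk' lam
      have h2 : (k lam : ℂ) = (Nat.card D : ℂ)⁻¹ * ((Nat.card (Subgroup.zpowers x) : ℂ)⁻¹ *
        ∑ y : Subgroup.zpowers x, θ (y : G) * conj ((lam : Subgroup.zpowers x → ℂ) y)) := by
        rw [← this, ← mul_assoc, inv_mul_cancel₀ hDc, one_mul]
      rw [h2, Finset.mul_sum, Finset.mul_sum, Finset.mul_sum, Finset.mul_sum, Finset.mul_sum]
      refine Finset.sum_congr rfl fun y _ => ?_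
      ring
    rw [Finset.sum_congr rfl (fun lam _ => h1 lam), ← Finset.mul_sum, ← Finset.mul_sum,
      Finset.sum_comm]
    have h3 : ∀ y : Subgroup.zpowers x, ∑ lam : IrrCharacter (Subgroup.zpowers x),
        θ (y : G) * ((lam : Subgroup.zpowers x → ℂ) x0 *
          conj ((lam : Subgroup.zpowers x → ℂ) y)) =
        if x0 = y then θ (y : G) * (Nat.card (Subgroup.zpowers x) : ℂ) else 0 := by
      intro y
      rw [← Finset.mul_sum, Helper4.column_orthogonality x0 y]
      by_cases hy : x0 = y
      · rw [if_pos ((hconj y).mpr hy), if_pos hy, hcent, Subgroup.card_top]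
      · rw [if_neg (fun h => hy ((hconj y).mp h)), if_neg hy, mul_zero]
    rw [Finset.sum_congr rfl (fun y _ => h3 y), Finset.sum_ite_eq Finset.univ x0,
      if_pos (Finset.mem_univ _)]
    show θ x / _ = _ * (_ * (θ x * _))
    field_simp
  rw [hmain]
  apply IsIntegral.sum
  intro lam _
  exact (isIntegral_of_isIrrCharacter lam.2 x0).mul (isIntegral_algebraMap (R := ℤ) (x := k lam))

end

end Cfsg.Agent.Lib.Helper28
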