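import Cfsg.Agent.Lib.Helper28.HeightZeroD
import Cfsg.Agent.Lib.Helper28.BlockDefectE
import Cfsg.Agent.Lib.Helper28.BlockCountB
import Cfsg.Agent.Lib.Helper28.BrauerM

set_option autoImplicit false

namespace Cfsg.Agent.Lib.Helper28

open Cfsg Cfsg.Agent.Lib.Helper4 Cfsg.Agent.Lib.Helper26
open scoped ComplexConjugate Classical

section

variable {G : Type*} [Group G] [Fintype G] {M : Ideal AlgInt}

theorem omegaF_pregTest_int {p : ℕ} (hp : p.Prime) (χ ψ : IrrCharacter G) {k : ℤ}
    (hk : (p : ℂ) ^ (Nat.card G).factorization p *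
      classInner (pRegularPart p (χ : G → ℂ)) (ψ : G → ℂ) = k) :
    omegaF (ψ : G → ℂ) (pregTest p (χ : G → ℂ)) * (ψ : G → ℂ) 1 = (k : ℂ) := by
  obtain ⟨hψ0, hψ1, -⟩ := irr_degree_nat ψ.2
  have hψ1' : (ψ : G → ℂ) 1 ≠ 0 := by rw [hψ1]; exact_mod_cast hψ0
  have e1 := omegaF_pregTest hp (χ : G → ℂ) (ψ : G → ℂ) hψ1'
  have : conj ((k : ℂ)) = (k : ℂ) := map_intCast (starRingEnd ℂ) k
  rw [e1, ← this, ← hk, map_mul, map_pow, Complex.conj_natCast]

/-- the defect of a block in terms of a member of minimal `p`-part of the degree -/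
theorem blockDefect_eq_of_min {p : ℕ} {B : Set (IrrCharacter G)} {χ : IrrCharacter G}
    (hχ : χ ∈ B)
    (hmin : ∀ ψ ∈ B, (charDegree (χ : G → ℂ)).factorization p ≤
      (charDegree (ψ : G → ℂ)).factorization p) :
    blockDefect p B = (Nat.card G).factorization p -
      (charDegree (χ : G → ℂ)).factorization p := by
  unfold blockDefect
  congr 1
  apply le_antisymm
  · exact Nat.sInf_le ⟨χ, hχ, rfl⟩
  · apply le_csInf (Set.Nonempty.image _ ⟨χ, hχ⟩)
    rintro _ ⟨ψ, hψ, rfl⟩
    exact hmin ψ hψ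

set_option maxHeartbeats 1600000 in
/-- **a character of height zero satisfies the unit criterion**: `p^a ⟨χ°, χ⟩ / χ(1)` is a unit
of the local ring -/
theorem unit_of_height_zero {p : ℕ} [Fact p.Prime] (hM : IsPModular p M)
    {B : Set (IrrCharacter G)} (hB : IsPBlock M B) {χ : IrrCharacter G} (hχ : χ ∈ B)
    (hmin : ∀ ψ ∈ B, (charDegree (χ : G → ℂ)).factorization p ≤
      (charDegree (ψ : G → ℂ)).factorization p) :
    ¬ MemLocalIdeal M (omegaF (χ : G → ℂ) (pregTest p (χ : G → ℂ))) := by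
  have hprime : M.IsPrime := hM.2.1.isPrime
  have hMtop : M ≠ ⊤ := hM.2.1.ne_top
  have hp : p.Prime := Fact.out
  have hpc : (p : ℂ) ≠ 0 := Nat.cast_ne_zero.mpr hp.ne_zero
  by_cases hsmall : (Nat.card G).factorization p - 1 ≤ (charDegree (χ : G → ℂ)).factorization p
  · exact unit_of_defect_le_one hM χ hsmall
  push Not at hsmall
  intro hJ
  have hχcf := Helper4.isClassFunction_of_isIrrCharacter χ.2
  have hdef := blockDefect_eq_of_min hχ hmin
  obtain ⟨hχ0, hχ1, hχdvd⟩ := irr_degree_nat χ.2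
  set a := (Nat.card G).factorization p with ha
  set v := (charDegree (χ : G → ℂ)).factorization p with hv
  -- divisibility of the inner products
  have hdiv : ∀ ψ : IrrCharacter G, ∃ m : ℤ, (p : ℂ) ^ (a - v - 1) *
      classInner (pRegularPart p (χ : G → ℂ)) (ψ : G → ℂ) = m := by
    intro ψ
    by_cases hψ : ψ ∈ B
    · obtain ⟨k, hk⟩ := exists_int_classInner_pRegularPart' hp χ ψ
      have hψcf := Helper4.isClassFunction_of_isIrrCharacter ψ.2
      obtain ⟨hψ0, hψ1, -⟩ := irr_degree_nat ψ.2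
      have hsame := (Helper28.mem_block_iff hB hχ ψ).mp hψ
      have h1 := omegaF_sub_memLocalIdeal hχcf hψcf hsame (pregTest p (χ : G → ℂ))
        (isClassFunction_pregTest p hχcf) (fun g => pregTest_memLocalRing hM χ.2 g)
      have h2 : MemLocalIdeal M (omegaF (ψ : G → ℂ) (pregTest p (χ : G → ℂ))) := by
        have := Helper28.memLocalIdeal_sub hJ h1
        rwa [sub_sub_cancel] at this
      have e1' := omegaF_pregTest_int hp χ ψ hk
      rw [hψ1] at e1'
      have hkdvd : (p : ℤ) ^ (v + 1) ∣ k := by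
        by_cases hk0 : k = 0
        · rw [hk0]; exact dvd_zero _
        · have hn0 : k.natAbs ≠ 0 := Int.natAbs_ne_zero.mpr hk0
          have hlt : (charDegree (ψ : G → ℂ)).factorization p < k.natAbs.factorization p := by
            rcases Int.natAbs_eq k with hs | hs
            · have hnk : ((k.natAbs : ℕ) : ℂ) = (k : ℂ) := by
                have h7 : ((k.natAbs : ℤ) : ℂ) = (k : ℂ) := by rw [← hs]
                rwa [Int.cast_natCast] at h7
              exact factorization_lt_of_eq_mul_memLocalIdeal hM hn0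
                (ω := omegaF (ψ : G → ℂ) (pregTest p (χ : G → ℂ)))
                (N := charDegree (ψ : G → ℂ)) (by rw [hnk, ← e1']; ring) h2
            · have hnk : ((k.natAbs : ℕ) : ℂ) = -(k : ℂ) := by
                have h8 : (k.natAbs : ℤ) = -k := by omega
                have h7 : ((k.natAbs : ℤ) : ℂ) = -(k : ℂ) := by rw [h8, Int.cast_neg]
                rwa [Int.cast_natCast] at h7
              exact factorization_lt_of_eq_mul_memLocalIdeal hM hn0
                (ω := -omegaF (ψ : G → ℂ) (pregTest p (χ : G → ℂ)))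
                (N := charDegree (ψ : G → ℂ)) (by rw [hnk, ← e1']; ring)
                (Helper28.memLocalIdeal_neg h2)
          have hle := hmin ψ hψ
          have h3 : p ^ (v + 1) ∣ k.natAbs :=
            (hp.pow_dvd_iff_le_factorization hn0).mpr (by omega)
          have h4 : ((p ^ (v + 1) : ℕ) : ℤ) ∣ k := Int.natCast_dvd.mpr h3
          simpa using h4
      obtain ⟨m, hm⟩ := hkdvd
      refine ⟨m, ?_⟩
      have h5 : (p : ℂ) ^ (v + 1) * ((p : ℂ) ^ (a - v - 1) *
          classInner (pRegularPart p (χ : G → ℂ)) (ψ : G → ℂ)) = (p : ℂ) ^ (v + 1) * (m : ℂ) := by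
        rw [← mul_assoc, ← pow_add, (by omega : v + 1 + (a - v - 1) = a), hk, hm]
        push_cast
        ring
      exact mul_left_cancel₀ (pow_ne_zero _ hpc) h5
    · refine ⟨0, ?_⟩
      rw [classInner_pRegularPart_eq_zero hM χ ψ
        (fun h => hψ ((Helper28.mem_block_iff hB hχ ψ).mpr h)), mul_zero, Int.cast_zero]
  -- the generalized character `θ = p^(a-v-1) χ°`
  have hθcf : IsClassFunction G (fun g => (p : ℂ) ^ (a - v - 1) *
      pRegularPart p (χ : G → ℂ) g) := by
    intro g k
    show _ * _ = _ * _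
    rw [isClassFunction_pRegularPart p hχcf g k]
  have hθ : IsGeneralizedCharacter G (fun g => (p : ℂ) ^ (a - v - 1) *
      pRegularPart p (χ : G → ℂ) g) := by
    apply isGeneralizedCharacter_of_int_coeff hθcf
    intro μ
    obtain ⟨m, hm⟩ := hdiv μ
    refine ⟨m, ?_⟩
    rw [← hm]
    have : (fun g => (p : ℂ) ^ (a - v - 1) * pRegularPart p (χ : G → ℂ) g) =
        ((p : ℂ) ^ (a - v - 1)) • pRegularPart p (χ : G → ℂ) := by
      funext g; rfl
    rw [this, classInner_smul_left]
  have hθv : ∀ g : G, p ∣ orderOf g → (fun g => (p : ℂ) ^ (a - v - 1) *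
      pRegularPart p (χ : G → ℂ) g) g = 0 := by
    intro g hg
    show _ * _ = 0
    rw [pRegularPart_of_dvd _ hg, mul_zero]
  -- a defect class
  obtain ⟨x, hx⟩ := exists_defectClass hM hB
  obtain ⟨S⟩ : Nonempty (Sylow p (Subgroup.centralizer ({x} : Set G))) := inferInstance
  have hDdef : IsDefectGroup p M B ((S : Subgroup (Subgroup.centralizer ({x} : Set G))).map
      (Subgroup.centralizer ({x} : Set G)).subtype) := ⟨x, hx, S, rfl⟩
  have hDcard := card_defectGroup hM hB hDdef
  have hDp : IsPGroup p ((S : Subgroup (Subgroup.centralizer ({x} : Set G))).map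
      (Subgroup.centralizer ({x} : Set G)).subtype) := S.2.map _
  have hDx : (S : Subgroup (Subgroup.centralizer ({x} : Set G))).map
      (Subgroup.centralizer ({x} : Set G)).subtype ≤ Subgroup.centralizer ({x} : Set G) := by
    rintro _ ⟨y, _, rfl⟩
    exact y.2
  have hxreg : ¬ p ∣ orderOf x := by
    intro h
    have h0 := blockCoeff_eq_zero_of_pSingular hM B (fun g => Helper28.osima hB g) x h
    exact hx.2.1 (h0 ▸ Helper28.memLocalIdeal_zero hMtop)
  have hint := isIntegral_div_card_of_vanish hθ hθv x hxreg _ hDp hDx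
  rw [hDcard, hdef] at hint
  have hint' : IsIntegral ℤ ((χ : G → ℂ) x / (p : ℂ)) := by
    obtain ⟨e, he⟩ : ∃ e, a - v = e + 1 := ⟨a - v - 1, by omega⟩
    have he' : a - v - 1 = e := by omega
    rw [he', he] at hint
    convert hint using 1
    show _ = _ * _ / _
    rw [pRegularPart_of_not_dvd _ hxreg]
    push_cast
    rw [pow_succ]
    have := pow_ne_zero e hpc
    field_simp
  have hχx : MemLocalIdeal M ((χ : G → ℂ) x) := by
    have h7 : (χ : G → ℂ) x = (p : ℂ) * ((χ : G → ℂ) x / (p : ℂ)) := by field_simp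
    rw [h7]
    exact Helper28.memLocalIdeal_mul_right (memLocalIdeal_natCast_p hM)
      (memLocalRing_of_isIntegral hMtop hint')
  -- the central character at `x`
  apply hx.2.2 χ hχ
  have h8 := blockDefect_le_of_centralChar hM hB hχ (hx.2.2 χ hχ)
  have h9 := le_blockDefect_of_blockCoeff hM hB hx.2.1
  have h10 := factorization_card_eq (p := p) x
  have hidx0 : (Subgroup.centralizer ({x} : Set G)).index ≠ 0 :=
    Subgroup.index_ne_zero_of_finite
  have hvle : v ≤ (Subgroup.centralizer ({x} : Set G)).index.factorization p := by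
    rw [← ha] at h10
    omega
  have hdvd : p ^ v ∣ (Subgroup.centralizer ({x} : Set G)).index :=
    (hp.pow_dvd_iff_le_factorization hidx0).mpr hvle
  obtain ⟨i1, hi1⟩ := hdvd
  have hc1 := natCast_split (p := p) (charDegree (χ : G → ℂ))
  have hcop : (charDegree (χ : G → ℂ) / p ^ v).Coprime p :=
    (Nat.coprime_ordCompl hp hχ0).symm
  have hc1ne : ((charDegree (χ : G → ℂ) / p ^ v : ℕ) : ℂ) ≠ 0 := by
    intro h
    rw [← hv, h, mul_zero] at hc1
    exact hχ0 (by exact_mod_cast hc1)
  unfold centralChar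
  rw [hχ1, hc1, hi1, ← hv]
  have h11 : ((p ^ v * i1 : ℕ) : ℂ) * (χ : G → ℂ) x /
      ((p : ℂ) ^ v * ((charDegree (χ : G → ℂ) / p ^ v : ℕ) : ℂ)) =
      ((i1 : ℂ) * ((charDegree (χ : G → ℂ) / p ^ v : ℕ) : ℂ)⁻¹) * (χ : G → ℂ) x := by
    have := pow_ne_zero v hpc
    push_cast
    field_simp
  rw [h11]
  exact Helper28.memLocalIdeal_mul_left (memLocalRing_mul (memLocalRing_natCast hMtop _)
    (memLocalRing_inv_natCast hM hcop)) hχx

end

end Cfsg.Agent.Lib.Helper28
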