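import Cfsg.Agent.Lib.Helper28.HeightZeroE

set_option autoImplicit false

namespace Cfsg.Agent.Lib.Helper28

open Cfsg Cfsg.Agent.Lib.Helper4 Cfsg.Agent.Lib.Helper26
open scoped ComplexConjugate Classical

section

variable {G : Type*} [Group G] [Fintype G] {M : Ideal AlgInt}

theorem natAbs_cast_eq (k : ℤ) : ∃ s : ℂ, (s = 1 ∨ s = -1) ∧ ((k.natAbs : ℕ) : ℂ) = s * (k : ℂ) := by
  rcases Int.natAbs_eq k with hs | hs
  · refine ⟨1, Or.inl rfl, ?_⟩
    have h7 : ((k.natAbs : ℤ) : ℂ) = (k : ℂ) := by rw [← hs]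
    rw [Int.cast_natCast] at h7
    rw [h7, one_mul]
  · refine ⟨-1, Or.inr rfl, ?_⟩
    have h8 : (k.natAbs : ℤ) = -k := by omega
    have h7 : ((k.natAbs : ℤ) : ℂ) = -(k : ℂ) := by rw [h8, Int.cast_neg]
    rw [Int.cast_natCast] at h7
    rw [h7]; ring

/-- transfer of the unit criterion inside a block -/
theorem unit_transfer {p : ℕ} (hM : IsPModular p M) {χ ψ : IrrCharacter G}
    (h : SameBlock M (χ : G → ℂ) (ψ : G → ℂ)) :
    ¬ MemLocalIdeal M (omegaF (χ : G → ℂ) (pregTest p (χ : G → ℂ))) ↔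
      ¬ MemLocalIdeal M (omegaF (ψ : G → ℂ) (pregTest p (χ : G → ℂ))) := by
  have hprime : M.IsPrime := hM.2.1.isPrime
  have hχcf := Helper4.isClassFunction_of_isIrrCharacter χ.2
  have hψcf := Helper4.isClassFunction_of_isIrrCharacter ψ.2
  have h1 := omegaF_sub_memLocalIdeal hχcf hψcf h (pregTest p (χ : G → ℂ))
    (isClassFunction_pregTest p hχcf) (fun g => pregTest_memLocalRing hM χ.2 g)
  constructor
  · intro hu h3
    apply hu
    have := Helper28.memLocalIdeal_add h1 h3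
    rwa [sub_add_cancel] at this
  · intro hu h3
    apply hu
    have := Helper28.memLocalIdeal_sub h3 h1
    rwa [sub_sub_cancel] at this

/-- if `p^a ⟨χ°, ψ⟩ / ψ(1)` is a unit then `ν_p (p^a ⟨χ°, ψ⟩) = ν_p ψ(1)` -/
theorem natAbs_factorization_of_unit {p : ℕ} [Fact p.Prime] (hM : IsPModular p M)
    {χ ψ : IrrCharacter G} {k : ℤ}
    (hk : (p : ℂ) ^ (Nat.card G).factorization p *
      classInner (pRegularPart p (χ : G → ℂ)) (ψ : G → ℂ) = k)
    (hu : ¬ MemLocalIdeal M (omegaF (ψ : G → ℂ) (pregTest p (χ : G → ℂ)))) :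
    k ≠ 0 ∧ k.natAbs.factorization p = (charDegree (ψ : G → ℂ)).factorization p := by
  have hprime : M.IsPrime := hM.2.1.isPrime
  have hMtop : M ≠ ⊤ := hM.2.1.ne_top
  have hp : p.Prime := Fact.out
  have hχcf := Helper4.isClassFunction_of_isIrrCharacter χ.2
  obtain ⟨hψ0, hψ1, -⟩ := irr_degree_nat ψ.2
  have hψc : ((charDegree (ψ : G → ℂ) : ℕ) : ℂ) ≠ 0 := by exact_mod_cast hψ0
  have h4 : MemLocalRing M (omegaF (ψ : G → ℂ) (pregTest p (χ : G → ℂ))) :=
    omegaF_memLocalRing ψ.2 _ (isClassFunction_pregTest p hχcf)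
      (fun g => pregTest_memLocalRing hM χ.2 g)
  have e1' := omegaF_pregTest_int hp χ ψ hk
  rw [hψ1] at e1'
  have hJ0 : omegaF (ψ : G → ℂ) (pregTest p (χ : G → ℂ)) ≠ 0 := by
    intro h6
    exact hu (h6 ▸ Helper28.memLocalIdeal_zero hMtop)
  have hk0 : k ≠ 0 := by
    rintro rfl
    rw [Int.cast_zero] at e1'
    rcases mul_eq_zero.mp e1' with h6 | h6
    · exact hJ0 h6
    · exact hψc h6
  refine ⟨hk0, ?_⟩
  have hn0 : k.natAbs ≠ 0 := Int.natAbs_ne_zero.mpr hk0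
  have hinv := memLocalRing_inv h4 hu
  obtain ⟨s, hs, hnk⟩ := natAbs_cast_eq k
  have hsR : MemLocalRing M s := by
    rcases hs with rfl | rfl
    · exact memLocalRing_one hMtop
    · exact memLocalRing_neg (memLocalRing_one hMtop)
  have hs2 : s * s = 1 := by rcases hs with rfl | rfl <;> ring
  apply le_antisymm
  · refine factorization_le_of_eq_mul_memLocalRing hM hψ0
      (ω := s * (omegaF (ψ : G → ℂ) (pregTest p (χ : G → ℂ)))⁻¹) (N := k.natAbs) ?_
      (memLocalRing_mul hsR hinv)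
    rw [hnk, ← e1']
    calc ((charDegree (ψ : G → ℂ) : ℕ) : ℂ)
        = (s * s) * ((omegaF (ψ : G → ℂ) (pregTest p (χ : G → ℂ))) *
            (omegaF (ψ : G → ℂ) (pregTest p (χ : G → ℂ)))⁻¹) *
            ((charDegree (ψ : G → ℂ) : ℕ) : ℂ) := by
          rw [hs2, mul_inv_cancel₀ hJ0]; ring
      _ = _ := by ring
  · refine factorization_le_of_eq_mul_memLocalRing hM hn0
      (ω := s * omegaF (ψ : G → ℂ) (pregTest p (χ : G → ℂ)))
      (N := charDegree (ψ : G → ℂ)) ?_ (memLocalRing_mul hsR h4)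
    rw [hnk, ← e1']; ring

/-- conversely, if `ν_p (p^a ⟨χ°, ψ⟩) = ν_p ψ(1)` then `p^a ⟨χ°, ψ⟩ / ψ(1)` is a unit -/
theorem unit_of_natAbs_factorization {p : ℕ} [Fact p.Prime] (hM : IsPModular p M)
    {χ ψ : IrrCharacter G} {k : ℤ}
    (hk : (p : ℂ) ^ (Nat.card G).factorization p *
      classInner (pRegularPart p (χ : G → ℂ)) (ψ : G → ℂ) = k)
    (hk0 : k ≠ 0)
    (hv : k.natAbs.factorization p = (charDegree (ψ : G → ℂ)).factorization p) :
    ¬ MemLocalIdeal M (omegaF (ψ : G → ℂ) (pregTest p (χ : G → ℂ))) := by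
  have hp : p.Prime := Fact.out
  intro hJ
  obtain ⟨hψ0, hψ1, -⟩ := irr_degree_nat ψ.2
  have e1' := omegaF_pregTest_int hp χ ψ hk
  rw [hψ1] at e1'
  have hn0 : k.natAbs ≠ 0 := Int.natAbs_ne_zero.mpr hk0
  obtain ⟨s, hs, hnk⟩ := natAbs_cast_eq k
  have hsJ : MemLocalIdeal M (s * omegaF (ψ : G → ℂ) (pregTest p (χ : G → ℂ))) := by
    rcases hs with rfl | rfl
    · rwa [one_mul]
    · rw [neg_one_mul]; exact Helper28.memLocalIdeal_neg hJ
  have := factorization_lt_of_eq_mul_memLocalIdeal hM hn0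
    (ω := s * omegaF (ψ : G → ℂ) (pregTest p (χ : G → ℂ)))
    (N := charDegree (ψ : G → ℂ)) (by rw [hnk, ← e1']; ring) hsJ
  omega

end

end Cfsg.Agent.Lib.Helper28
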