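import Cfsg.Agent.Lib.Helper28.HeightZeroF

set_option autoImplicit false

namespace Cfsg.Agent.Lib.Helper28

open Cfsg Cfsg.Agent.Lib.Helper4 Cfsg.Agent.Lib.Helper26
open scoped ComplexConjugate Classical

section

variable {G : Type*} [Group G] [Fintype G] {M : Ideal AlgInt}

theorem blockHeight_eq_zero_iff {p : ℕ} {B : Set (IrrCharacter G)} {χ : IrrCharacter G}
    (hχ : χ ∈ B) :
    blockHeight p B (χ : G → ℂ) = 0 ↔
      ∀ ψ ∈ B, (charDegree (χ : G → ℂ)).factorization p ≤
        (charDegree (ψ : G → ℂ)).factorization p := by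
  unfold blockHeight
  rw [Nat.sub_eq_zero_iff_le]
  constructor
  · intro h ψ hψ
    exact h.trans (Nat.sInf_le ⟨ψ, hψ, rfl⟩)
  · intro h
    apply le_csInf (Set.Nonempty.image _ ⟨χ, hχ⟩)
    rintro _ ⟨ψ, hψ, rfl⟩
    exact h ψ hψ

/-- **height zero ⟺ the unit criterion** -/
theorem height_zero_iff_unit {p : ℕ} [Fact p.Prime] (hM : IsPModular p M)
    {B : Set (IrrCharacter G)} (hB : IsPBlock M B) {χ : IrrCharacter G} (hχ : χ ∈ B) :
    blockHeight p B (χ : G → ℂ) = 0 ↔
      ¬ MemLocalIdeal M (omegaF (χ : G → ℂ) (pregTest p (χ : G → ℂ))) := by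
  have hprime : M.IsPrime := hM.2.1.isPrime
  rw [blockHeight_eq_zero_iff hχ]
  constructor
  · intro h
    exact unit_of_height_zero hM hB hχ h
  · intro hu ψ hψ
    exact degree_factorization_le_of_unit hM ((Helper28.mem_block_iff hB hχ ψ).mp hψ) hu

theorem classInner_scaled_pRegular (p : ℕ) (c : ℂ) (χ ξ : G → ℂ) :
    classInner (fun x : G => if p ∣ orderOf x then (0 : ℂ) else c * χ x) ξ =
      c * classInner (pRegularPart p χ) ξ := by
  unfold classInner
  have h1 : ∀ g : G, (if p ∣ orderOf g then (0 : ℂ) else c * χ g) * conj (ξ g) =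
      c * (pRegularPart p χ g * conj (ξ g)) := by
    intro g
    rw [pRegularPart_apply]
    by_cases hg : p ∣ orderOf g
    · rw [if_pos hg, if_pos hg]; ring
    · rw [if_neg hg, if_neg hg]; ring
  rw [Finset.sum_congr rfl (fun g _ => h1 g), ← Finset.mul_sum]
  ring

end

end Cfsg.Agent.Lib.Helper28
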