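import Cfsg.Agent.Lib.Helper28.HeightZeroH

set_option autoImplicit false

namespace Cfsg.Agent.Lib.Helper28

open Cfsg Cfsg.Agent.Lib.Helper4 Cfsg.Agent.Lib.Helper26
open scoped ComplexConjugate Classical

section

variable {G : Type*} [Group G] [Fintype G] {M : Ideal AlgInt}

set_option maxHeartbeats 1600000 in
/-- the row of contributions `m ψ = p^e ⟨χ°, ψ⟩`, `e = a - ν(χ(1))`, of a member `χ` of a block -/
theorem row_data [Fintype (IrrCharacter G)] {p : ℕ} [Fact p.Prime]
    (hM : IsPModular p M) {B : Set (IrrCharacter G)} (hB : IsPBlock M B)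
    {χ : IrrCharacter G} (hχ : χ ∈ B) :
    ∃ m : IrrCharacter G → ℤ,
      (∀ ψ : IrrCharacter G, (p : ℂ) ^ ((Nat.card G).factorization p -
        (charDegree (χ : G → ℂ)).factorization p) *
          classInner (pRegularPart p (χ : G → ℂ)) (ψ : G → ℂ) = m ψ) ∧
      (∀ ψ : IrrCharacter G, ψ ∉ B → m ψ = 0) ∧
      4 * ∑ ψ ∈ Finset.univ.erase χ, (m ψ) ^ 2 ≤
        ((p : ℤ) ^ ((Nat.card G).factorization p -
          (charDegree (χ : G → ℂ)).factorization p)) ^ 2 := by
  have hprime : M.IsPrime := hM.2.1.isPrime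
  have hp : p.Prime := Fact.out
  have hpc : (p : ℂ) ≠ 0 := Nat.cast_ne_zero.mpr hp.ne_zero
  set e := (Nat.card G).factorization p - (charDegree (χ : G → ℂ)).factorization p with he
  have hm : ∀ ψ : IrrCharacter G, ∃ m : ℤ, (p : ℂ) ^ e *
      classInner (pRegularPart p (χ : G → ℂ)) (ψ : G → ℂ) = m :=
    fun ψ => exists_int_classInner_pRegularPart hp χ ψ
  choose m hm using hm
  have hmout : ∀ ψ : IrrCharacter G, ψ ∉ B → m ψ = 0 := by
    intro ψ hψ
    have h0 := classInner_pRegularPart_eq_zero hM χ ψ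
      (fun h => hψ ((Helper28.mem_block_iff hB hχ ψ).mpr h))
    have := hm ψ
    rw [h0, mul_zero] at this
    exact_mod_cast this.symm
  refine ⟨m, hm, hmout, ?_⟩
  obtain ⟨r, hr, hr0, hr1, -⟩ := pRegular_norm hp χ
  have hχcf := Helper4.isClassFunction_of_isIrrCharacter χ.2
  have hpars := parseval_classInner (isClassFunction_pRegularPart p hχcf)
  rw [classInner_pRegularPart_self] at hpars
  have hsumsq : ∑ ψ : IrrCharacter G, (m ψ) ^ 2 = (p : ℤ) ^ e * m χ := by
    have hC : ((∑ ψ : IrrCharacter G, (m ψ) ^ 2 : ℤ) : ℂ) = (((p : ℤ) ^ e * m χ : ℤ) : ℂ) := by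
      push_cast
      rw [← hm χ, hpars, Finset.mul_sum, Finset.mul_sum]
      refine Finset.sum_congr rfl fun ψ _ => ?_
      have hconj : conj (classInner (pRegularPart p (χ : G → ℂ)) (ψ : G → ℂ)) =
          classInner (pRegularPart p (χ : G → ℂ)) (ψ : G → ℂ) := by
        have h1 : classInner (pRegularPart p (χ : G → ℂ)) (ψ : G → ℂ) =
            ((p : ℂ) ^ e)⁻¹ * (m ψ : ℂ) := by
          rw [← hm ψ, ← mul_assoc, inv_mul_cancel₀ (pow_ne_zero _ hpc), one_mul]
        rw [h1, map_mul, map_inv₀, map_pow, Complex.conj_natCast, map_intCast]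
      rw [hconj, ← hm ψ]
      ring
    exact_mod_cast hC
  have h2 : ∑ ψ ∈ Finset.univ.erase χ, (m ψ) ^ 2 = (p : ℤ) ^ e * m χ - (m χ) ^ 2 := by
    rw [← hsumsq, ← Finset.add_sum_erase Finset.univ _ (Finset.mem_univ χ)]
    ring
  rw [h2]
  nlinarith [sq_nonneg ((p : ℤ) ^ e - 2 * m χ)]

/-- entries of a row at a column of height zero do not vanish -/
theorem row_entry_ne_zero_of_height_zero {p : ℕ} [Fact p.Prime]
    (hM : IsPModular p M) {B : Set (IrrCharacter G)} (hB : IsPBlock M B)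
    {χ ψ : IrrCharacter G} (hχ : χ ∈ B) (hψ : ψ ∈ B)
    (hψ0 : blockHeight p B (ψ : G → ℂ) = 0) :
    classInner (pRegularPart p (χ : G → ℂ)) (ψ : G → ℂ) ≠ 0 := by
  have hprime : M.IsPrime := hM.2.1.isPrime
  have hp : p.Prime := Fact.out
  have hu := (height_zero_iff_unit hM hB hψ).mp hψ0
  have hsame := (Helper28.mem_block_iff hB hψ χ).mp hχ
  have hu' := (unit_transfer hM hsame).mp hu
  obtain ⟨k, hk⟩ := exists_int_classInner_pRegularPart' hp ψ χ
  obtain ⟨hk0, -⟩ := natAbs_factorization_of_unit hM hk hu'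
  intro h0
  rw [classInner_pRegularPart_symm, h0, map_zero, mul_zero] at hk
  exact hk0 (by exact_mod_cast hk.symm)

/-- entries of a row of height zero: `ν_p(m ψ) = h(ψ)` -/
theorem row_entry_height {p : ℕ} [Fact p.Prime]
    (hM : IsPModular p M) {B : Set (IrrCharacter G)} (hB : IsPBlock M B)
    {χ ψ : IrrCharacter G} (hχ : χ ∈ B) (hψ : ψ ∈ B)
    (hχ0 : blockHeight p B (χ : G → ℂ) = 0) {m : ℤ}
    (hm : (p : ℂ) ^ ((Nat.card G).factorization p -
        (charDegree (χ : G → ℂ)).factorization p) *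
          classInner (pRegularPart p (χ : G → ℂ)) (ψ : G → ℂ) = m) :
    (p : ℤ) ^ (2 * blockHeight p B (ψ : G → ℂ)) ≤ m ^ 2 := by
  have hprime : M.IsPrime := hM.2.1.isPrime
  have hp : p.Prime := Fact.out
  have hu := (height_zero_iff_unit hM hB hχ).mp hχ0
  have hmin := (blockHeight_eq_zero_iff hχ).mp hχ0
  have hsame := (Helper28.mem_block_iff hB hχ ψ).mp hψ
  have hu' := (unit_transfer hM hsame).mp hu
  obtain ⟨hχd0, hχ1, hχdvd⟩ := irr_degree_nat χ.2
  have hva : (charDegree (χ : G → ℂ)).factorization p ≤ (Nat.card G).factorization p :=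
    (Nat.factorization_le_iff_dvd hχd0 Nat.card_pos.ne').mpr hχdvd p
  set a := (Nat.card G).factorization p with ha
  set v := (charDegree (χ : G → ℂ)).factorization p with hv
  have hk : (p : ℂ) ^ a * classInner (pRegularPart p (χ : G → ℂ)) (ψ : G → ℂ) =
      (((p : ℤ) ^ v * m : ℤ) : ℂ) := by
    push_cast
    rw [← hm, ← mul_assoc, ← pow_add]
    congr 2
    omega
  obtain ⟨hk0, hkv⟩ := natAbs_factorization_of_unit hM hk hu'
  have hm0 : m ≠ 0 := by
    rintro h0
    rw [h0, mul_zero] at hk0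
    exact hk0 rfl
  have hmn0 : m.natAbs ≠ 0 := Int.natAbs_ne_zero.mpr hm0
  rw [Int.natAbs_mul, Int.natAbs_pow, Int.natAbs_natCast,
    Nat.factorization_mul (pow_ne_zero _ hp.pos.ne') hmn0, Finsupp.add_apply,
    hp.factorization_pow, Finsupp.single_eq_same] at hkv
  have hsInf : sInf ((fun ψ : IrrCharacter G =>
      (charDegree (ψ : G → ℂ)).factorization p) '' B) = v := by
    apply le_antisymm
    · exact Nat.sInf_le ⟨χ, hχ, rfl⟩
    · apply le_csInf (Set.Nonempty.image _ ⟨χ, hχ⟩)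
      rintro _ ⟨φ, hφ, rfl⟩
      exact hmin φ hφ
  have hht : blockHeight p B (ψ : G → ℂ) = m.natAbs.factorization p := by
    unfold blockHeight
    rw [hsInf]
    omega
  have hdvd : p ^ blockHeight p B (ψ : G → ℂ) ∣ m.natAbs := by
    rw [hht]; exact Nat.ordProj_dvd _ _
  have hle : p ^ blockHeight p B (ψ : G → ℂ) ≤ m.natAbs :=
    Nat.le_of_dvd (Nat.pos_of_ne_zero hmn0) hdvd
  have hle' : ((p : ℤ) ^ blockHeight p B (ψ : G → ℂ)) ≤ (m.natAbs : ℤ) := by
    exact_mod_cast hle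
  rw [← Int.natAbs_sq m, pow_mul']
  exact pow_le_pow_left₀ (by positivity) hle' 2

end

end Cfsg.Agent.Lib.Helper28
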