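import Cfsg.Agent.Lib.Helper28.HeightZeroI

set_option autoImplicit false

namespace Cfsg.Agent.Lib.Helper28

open Cfsg Cfsg.Agent.Lib.Helper4 Cfsg.Agent.Lib.Helper26
open scoped ComplexConjugate Classical

section

variable {G : Type*} [Group G] [Fintype G] {M : Ideal AlgInt}

/-- heights are zero for defect at most one, and at most `d - 2` for defect `d ≥ 2` -/
theorem height_bound {p : ℕ} [Fact p.Prime] (hM : IsPModular p M)
    {B : Set (IrrCharacter G)} (hB : IsPBlock M B) {χ : IrrCharacter G} (hχ : χ ∈ B) :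
    (blockDefect p B ≤ 1 → blockHeight p B (χ : G → ℂ) = 0) ∧
      (2 ≤ blockDefect p B → blockHeight p B (χ : G → ℂ) ≤ blockDefect p B - 2) := by
  have hclaim : (Nat.card G).factorization p - 1 ≤ (charDegree (χ : G → ℂ)).factorization p →
      blockHeight p B (χ : G → ℂ) = 0 := fun h =>
    (height_zero_iff_unit hM hB hχ).mpr (unit_of_defect_le_one hM χ h)
  obtain ⟨hχ0, hχ1, hχdvd⟩ := irr_degree_nat χ.2
  have hva : (charDegree (χ : G → ℂ)).factorization p ≤ (Nat.card G).factorization p :=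
    (Nat.factorization_le_iff_dvd hχ0 Nat.card_pos.ne').mpr hχdvd p
  have hs : sInf ((fun ψ : IrrCharacter G =>
      (charDegree (ψ : G → ℂ)).factorization p) '' B) ≤
      (charDegree (χ : G → ℂ)).factorization p := Nat.sInf_le ⟨χ, hχ, rfl⟩
  unfold blockDefect blockHeight at *
  constructor
  · intro hd
    apply hclaim
    omega
  · intro hd
    by_contra hcon
    push Not at hcon
    have := hclaim (by omega)
    omega

set_option maxHeartbeats 1600000 in
/-- a block containing a character of positive height has at most `p^(2d-2)/2` members -/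
theorem card_le_of_positive_height [Fintype (IrrCharacter G)] {p : ℕ} [Fact p.Prime]
    (hM : IsPModular p M) {B : Set (IrrCharacter G)} (hB : IsPBlock M B)
    {χ₁ : IrrCharacter G} (hχ₁ : χ₁ ∈ B) (hpos : 0 < blockHeight p B (χ₁ : G → ℂ)) :
    2 * (Finset.univ.filter (fun ψ : IrrCharacter G => ψ ∈ B)).card ≤
      p ^ (2 * blockDefect p B - 2) := by
  have hprime : M.IsPrime := hM.2.1.isPrime
  have hp : p.Prime := Fact.out
  have hpc : (p : ℂ) ≠ 0 := Nat.cast_ne_zero.mpr hp.ne_zero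
  obtain ⟨θ0, hθ0⟩ := Helper28.block_nonempty hB
  have hSne : ((fun χ : IrrCharacter G =>
      (charDegree (χ : G → ℂ)).factorization p) '' B).Nonempty := ⟨_, θ0, hθ0, rfl⟩
  obtain ⟨χ₀, hχ₀, hχm⟩ := Nat.sInf_mem hSne
  have hmin : ∀ ψ ∈ B, (charDegree (χ₀ : G → ℂ)).factorization p ≤
      (charDegree (ψ : G → ℂ)).factorization p := by
    intro ψ hψ
    show (fun χ : IrrCharacter G => (charDegree (χ : G → ℂ)).factorization p) χ₀ ≤ _
    rw [hχm]
    exact Nat.sInf_le ⟨ψ, hψ, rfl⟩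
  have hχ₀h : blockHeight p B (χ₀ : G → ℂ) = 0 := (blockHeight_eq_zero_iff hχ₀).mpr hmin
  have hdef := blockDefect_eq_of_min hχ₀ hmin
  obtain ⟨hd1, h11, hdvd1⟩ := irr_degree_nat χ₁.2
  have hva1 : (charDegree (χ₁ : G → ℂ)).factorization p ≤ (Nat.card G).factorization p :=
    (Nat.factorization_le_iff_dvd hd1 Nat.card_pos.ne').mpr hdvd1 p
  have hh1 : blockHeight p B (χ₁ : G → ℂ) =
      (charDegree (χ₁ : G → ℂ)).factorization p - (charDegree (χ₀ : G → ℂ)).factorization p := by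
    unfold blockHeight
    rw [← hχm]
  set a := (Nat.card G).factorization p with ha
  set v₀ := (charDegree (χ₀ : G → ℂ)).factorization p with hv₀
  set v₁ := (charDegree (χ₁ : G → ℂ)).factorization p with hv₁
  set d := blockDefect p B with hd
  -- the two rows
  obtain ⟨m, hm, -, hrow⟩ := row_data hM hB hχ₀
  obtain ⟨m', hm', -, hrow'⟩ := row_data hM hB hχ₁
  rw [← ha, ← hv₀] at hm hrow
  rw [← ha, ← hv₁] at hm' hrow'
  set s : Finset (IrrCharacter G) := Finset.univ.filter (fun ψ : IrrCharacter G => ψ ∈ B) with hs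
  set Sz := s.filter (fun ψ : IrrCharacter G => blockHeight p B (ψ : G → ℂ) = 0) with hSz
  set Sp := s.filter (fun ψ : IrrCharacter G => ¬ blockHeight p B (ψ : G → ℂ) = 0) with hSp
  have hcard : Sz.card + Sp.card = s.card := Finset.card_filter_add_card_filter_not _
  -- row of `χ₀`
  have h1 : (Sp.card : ℤ) * (p : ℤ) ^ 2 ≤ ∑ ψ ∈ Finset.univ.erase χ₀, (m ψ) ^ 2 := by
    have hsub : Sp ⊆ Finset.univ.erase χ₀ := by
      intro ψ hψ
      rw [hSp, Finset.mem_filter] at hψ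
      rw [Finset.mem_erase]
      refine ⟨?_, Finset.mem_univ _⟩
      rintro rfl
      exact hψ.2 hχ₀h
    calc (Sp.card : ℤ) * (p : ℤ) ^ 2 = ∑ ψ ∈ Sp, (p : ℤ) ^ 2 := by
          rw [Finset.sum_const, nsmul_eq_mul]
      _ ≤ ∑ ψ ∈ Sp, (m ψ) ^ 2 := by
          refine Finset.sum_le_sum fun ψ hψ => ?_
          rw [hSp, Finset.mem_filter, hs, Finset.mem_filter] at hψ
          have h2 := row_entry_height hM hB hχ₀ hψ.1.2 hχ₀h (hm ψ)
          have h3 : (p : ℤ) ^ 2 ≤ (p : ℤ) ^ (2 * blockHeight p B (ψ : G → ℂ)) := by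
            apply pow_le_pow_right₀
            · exact_mod_cast hp.one_lt.le
            · have := Nat.pos_of_ne_zero hψ.2
              omega
          exact h3.trans h2
      _ ≤ ∑ ψ ∈ Finset.univ.erase χ₀, (m ψ) ^ 2 :=
          Finset.sum_le_sum_of_subset_of_nonneg hsub (fun ψ _ _ => sq_nonneg _)
  -- row of `χ₁`
  have h2 : (Sz.card : ℤ) ≤ ∑ ψ ∈ Finset.univ.erase χ₁, (m' ψ) ^ 2 := by
    have hsub : Sz ⊆ Finset.univ.erase χ₁ := by
      intro ψ hψ
      rw [hSz, Finset.mem_filter] at hψ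
      rw [Finset.mem_erase]
      refine ⟨?_, Finset.mem_univ _⟩
      rintro rfl
      omega
    calc (Sz.card : ℤ) = ∑ ψ ∈ Sz, (1 : ℤ) := by
          rw [Finset.sum_const, nsmul_eq_mul, mul_one]
      _ ≤ ∑ ψ ∈ Sz, (m' ψ) ^ 2 := by
          refine Finset.sum_le_sum fun ψ hψ => ?_
          rw [hSz, Finset.mem_filter, hs, Finset.mem_filter] at hψ
          have h3 := row_entry_ne_zero_of_height_zero hM hB hχ₁ hψ.1.2 hψ.2
          have h4 : m' ψ ≠ 0 := by
            intro h0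
            have := hm' ψ
            rw [h0, Int.cast_zero] at this
            rcases mul_eq_zero.mp this with h5 | h5
            · exact pow_ne_zero _ hpc h5
            · exact h3 h5
          have : 0 < (m' ψ) ^ 2 := by positivity
          omega
      _ ≤ ∑ ψ ∈ Finset.univ.erase χ₁, (m' ψ) ^ 2 :=
          Finset.sum_le_sum_of_subset_of_nonneg hsub (fun ψ _ _ => sq_nonneg _)
  -- arithmetic
  have hv01 : v₀ + 1 ≤ v₁ := by omega
  have hd1' : d = a - v₀ := hdef
  have hdpos : 1 ≤ d := by omega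
  have he1 : a - v₁ ≤ d - 1 := by omega
  have hA : 4 * ((Sp.card : ℤ) * (p : ℤ) ^ 2) ≤ ((p : ℤ) ^ d) ^ 2 := by
    rw [hd1']
    linarith
  have hB' : 4 * (Sz.card : ℤ) ≤ ((p : ℤ) ^ (d - 1)) ^ 2 := by
    have h5 : ((p : ℤ) ^ (a - v₁)) ^ 2 ≤ ((p : ℤ) ^ (d - 1)) ^ 2 := by
      apply pow_le_pow_left₀ (by positivity)
      apply pow_le_pow_right₀ _ he1
      exact_mod_cast hp.one_lt.le
    linarith
  have hpd : ((p : ℤ) ^ d) ^ 2 = (p : ℤ) ^ 2 * ((p : ℤ) ^ (d - 1)) ^ 2 := by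
    obtain ⟨j, hj⟩ : ∃ j, d = j + 1 := ⟨d - 1, by omega⟩
    rw [hj, Nat.add_sub_cancel, pow_succ]
    ring
  have hA' : 4 * (Sp.card : ℤ) ≤ ((p : ℤ) ^ (d - 1)) ^ 2 := by
    have hp2 : (0 : ℤ) < (p : ℤ) ^ 2 := by
      have : (0 : ℤ) < (p : ℤ) := by exact_mod_cast hp.pos
      positivity
    have : (p : ℤ) ^ 2 * (4 * (Sp.card : ℤ)) ≤ (p : ℤ) ^ 2 * ((p : ℤ) ^ (d - 1)) ^ 2 := by
      rw [← hpd]; linarith
    exact le_of_mul_le_mul_left this hp2
  have hfinal : ((2 * s.card : ℕ) : ℤ) ≤ ((p ^ (2 * d - 2) : ℕ) : ℤ) := by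
    rw [← hcard]
    push_cast
    have h6 : ((p : ℤ) ^ (d - 1)) ^ 2 = (p : ℤ) ^ (2 * d - 2) := by
      rw [← pow_mul]
      congr 1
      omega
    rw [h6] at hA' hB'
    linarith
  exact_mod_cast hfinal

end

end Cfsg.Agent.Lib.Helper28
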