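import Cfsg.Agent.Lib.Helper28.HeightZeroG
import Cfsg.Agent.Lib.Helper28.BrauerH

set_option autoImplicit false

namespace Cfsg.Agent.Lib.Helper28

open Cfsg Cfsg.Agent.Lib.Helper4 Cfsg.Agent.Lib.Helper26
open scoped ComplexConjugate Classical

section

variable {G : Type*} [Group G] [Fintype G] {M : Ideal AlgInt}

/-- the scaled inner product on a subgroup in terms of the central character of `ψ` applied to
the restricted test function -/
theorem induced_test_eq (H : Subgroup G) [Fintype H] {p : ℕ} (hp : p.Prime)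
    (χ : IrrCharacter G) {ψ : H → ℂ} (hψ : IsCharacter H ψ) :
    classInner (fun h : H => if p ∣ orderOf h then (0 : ℂ) else
        ((p ^ (Nat.card H).factorization p : ℕ) : ℂ) * (χ : G → ℂ) h) ψ / ψ 1 =
      (((Nat.card G / p ^ (Nat.card G).factorization p : ℕ) : ℂ) *
        ((Nat.card H / p ^ (Nat.card H).factorization p : ℕ) : ℂ)⁻¹) *
          omegaF ψ (resMap H (pregTest p (χ : G → ℂ))) := by
  have hχc : IsCharacter G (χ : G → ℂ) := isCharacter_of_isIrrCharacter χ.2
  have hG : (Nat.card G : ℂ) ≠ 0 := by exact_mod_cast Nat.card_pos.ne'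
  have hH : (Nat.card H : ℂ) ≠ 0 := by exact_mod_cast Nat.card_pos.ne'
  have hsplitG := natCast_split (p := p) (Nat.card G)
  have hsplitH := natCast_split (p := p) (Nat.card H)
  have hgc : ((Nat.card G / p ^ (Nat.card G).factorization p : ℕ) : ℂ) ≠ 0 := by
    intro h
    rw [h, mul_zero] at hsplitG
    exact hG hsplitG
  have hhc : ((Nat.card H / p ^ (Nat.card H).factorization p : ℕ) : ℂ) ≠ 0 := by
    intro h
    rw [h, mul_zero] at hsplitH
    exact hH hsplitH
  have hpp : (p : ℂ) ^ (Nat.card H).factorization p ≠ 0 :=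
    pow_ne_zero _ (Nat.cast_ne_zero.mpr hp.ne_zero)
  -- the common sum
  have hS : ∑ h : H, (if p ∣ orderOf h then (0 : ℂ) else
      ((p ^ (Nat.card H).factorization p : ℕ) : ℂ) * (χ : G → ℂ) h) * conj (ψ h) =
      ((p : ℂ) ^ (Nat.card H).factorization p) *
        ∑ h : H, conj (pRegularPart p (χ : G → ℂ) (h : G)) * ψ h := by
    rw [Finset.mul_sum, ← Equiv.sum_comp (Equiv.inv H)]
    refine Finset.sum_congr rfl fun h _ => ?_
    simp only [Equiv.inv_apply]
    rw [pRegularPart_apply, Subgroup.coe_inv, orderOf_inv, Subgroup.orderOf_coe,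
      ← isCharacter_conj_eq_inv hψ h]
    by_cases hh : p ∣ orderOf h
    · rw [if_pos hh, if_pos hh]; simp
    · rw [if_neg hh, if_neg hh, ← isCharacter_conj_eq_inv hχc (h : G), Complex.conj_conj]
      push_cast
      ring
  unfold classInner omegaF
  rw [hS]
  have hT : ∑ h : H, resMap H (pregTest p (χ : G → ℂ)) h * ψ h =
      ((Nat.card G / p ^ (Nat.card G).factorization p : ℕ) : ℂ)⁻¹ *
        ∑ h : H, conj (pRegularPart p (χ : G → ℂ) (h : G)) * ψ h := by
    rw [Finset.mul_sum]
    refine Finset.sum_congr rfl fun h _ => ?_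
    unfold resMap pregTest
    ring
  rw [hT]
  conv_lhs => rw [hsplitH]
  field_simp

set_option maxHeartbeats 800000 in
/-- **S4431**: the test of membership in an induced block through a subgroup -/
theorem induced_block_test (H : Subgroup G) [Fintype H] {p : ℕ} [Fact p.Prime]
    (hM : IsPModular p M) {b : Set (IrrCharacter H)} {B₀ : Set (IrrCharacter G)}
    (hind : IsInducedBlock M H b B₀) (χ : IrrCharacter G) {ψ : IrrCharacter H} (hψ : ψ ∈ b) :
    (χ ∉ B₀ → MemLocalIdeal M (classInner (fun h : H => if p ∣ orderOf h then (0 : ℂ) else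
        ((p ^ (Nat.card H).factorization p : ℕ) : ℂ) * (χ : G → ℂ) h) (ψ : H → ℂ) /
          (ψ : H → ℂ) 1)) ∧
    (χ ∈ B₀ → blockHeight p B₀ (χ : G → ℂ) = 0 →
      ¬ MemLocalIdeal M (classInner (fun h : H => if p ∣ orderOf h then (0 : ℂ) else
        ((p ^ (Nat.card H).factorization p : ℕ) : ℂ) * (χ : G → ℂ) h) (ψ : H → ℂ) /
          (ψ : H → ℂ) 1)) := by
  have hprime : M.IsPrime := hM.2.1.isPrime
  have hMtop : M ≠ ⊤ := hM.2.1.ne_top
  have hp : p.Prime := Fact.out
  have hB₀ : IsPBlock M B₀ := hind.2.1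
  have hχcf := Helper4.isClassFunction_of_isIrrCharacter χ.2
  rw [induced_test_eq H hp χ (isCharacter_of_isIrrCharacter ψ.2)]
  have hcopG : (Nat.card G / p ^ (Nat.card G).factorization p).Coprime p :=
    (Nat.coprime_ordCompl hp Nat.card_pos.ne').symm
  have hcopH : (Nat.card H / p ^ (Nat.card H).factorization p).Coprime p :=
    (Nat.coprime_ordCompl hp Nat.card_pos.ne').symm
  have hcR : MemLocalRing M (((Nat.card G / p ^ (Nat.card G).factorization p : ℕ) : ℂ) *
      ((Nat.card H / p ^ (Nat.card H).factorization p : ℕ) : ℂ)⁻¹) :=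
    memLocalRing_mul (memLocalRing_natCast hMtop _) (memLocalRing_inv_natCast hM hcopH)
  have hcU : ¬ MemLocalIdeal M (((Nat.card G / p ^ (Nat.card G).factorization p : ℕ) : ℂ) *
      ((Nat.card H / p ^ (Nat.card H).factorization p : ℕ) : ℂ)⁻¹) := by
    apply not_memLocalIdeal_mul (memLocalRing_natCast hMtop _)
      (memLocalRing_inv_natCast hM hcopH) (not_memLocalIdeal_natCast hM hcopG)
    intro h
    have h1 := Helper28.memLocalIdeal_mul_left
      (memLocalRing_natCast hMtop (Nat.card H / p ^ (Nat.card H).factorization p)) h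
    have hne : ((Nat.card H / p ^ (Nat.card H).factorization p : ℕ) : ℂ) ≠ 0 := by
      have : Nat.card H / p ^ (Nat.card H).factorization p ≠ 0 :=
        (Nat.div_pos (Nat.le_of_dvd Nat.card_pos (Nat.ordProj_dvd _ _))
          (pow_pos hp.pos _)).ne'
      exact_mod_cast this
    rw [mul_inv_cancel₀ hne] at h1
    exact not_memLocalIdeal_one hMtop h1
  have hloc : ∀ g, MemLocalRing M (pregTest p (χ : G → ℂ) g) :=
    fun g => pregTest_memLocalRing hM χ.2 g
  have hrel : ∀ χ' ∈ B₀, MemLocalIdeal M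
      (omegaF (ψ : H → ℂ) (resMap H (pregTest p (χ : G → ℂ))) -
        omegaF (χ' : G → ℂ) (pregTest p (χ : G → ℂ))) := fun χ' hχ' =>
    omegaF_resMap_sub_of_induced H hind hψ hχ' _ (isClassFunction_pregTest p hχcf) hloc
  have hR : MemLocalRing M (omegaF (ψ : H → ℂ) (resMap H (pregTest p (χ : G → ℂ)))) :=
    omegaF_memLocalRing ψ.2 _ (isClassFunction_resMap H (isClassFunction_pregTest p hχcf))
      (fun h => hloc _)
  constructor
  · intro hχ
    obtain ⟨χ', hχ'⟩ := Helper28.block_nonempty hB₀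
    have h0 : omegaF (χ' : G → ℂ) (pregTest p (χ : G → ℂ)) = 0 := by
      obtain ⟨hd0, hd1, -⟩ := irr_degree_nat χ'.2
      have h1' : (χ' : G → ℂ) 1 ≠ 0 := by rw [hd1]; exact_mod_cast hd0
      have e1 := omegaF_pregTest hp (χ : G → ℂ) (χ' : G → ℂ) h1'
      rw [classInner_pRegularPart_eq_zero hM χ χ'
        (fun h => hχ ((Helper28.mem_block_iff hB₀ hχ' χ).mpr (Helper28.sameBlock_symm h))),
        map_zero, mul_zero] at e1
      rcases mul_eq_zero.mp e1 with h2 | h2
      · exact h2
      · exact absurd h2 h1'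
    have h3 := hrel χ' hχ'
    rw [h0, sub_zero] at h3
    exact Helper28.memLocalIdeal_mul_left hcR h3
  · intro hχ hh
    have hu := (height_zero_iff_unit hM hB₀ hχ).mp hh
    have h3 := hrel χ hχ
    have hu' : ¬ MemLocalIdeal M (omegaF (ψ : H → ℂ) (resMap H (pregTest p (χ : G → ℂ)))) := by
      intro h4
      apply hu
      have := Helper28.memLocalIdeal_sub h4 h3
      rwa [sub_sub_cancel] at this
    exact not_memLocalIdeal_mul hcR hR hcU hu'

end

end Cfsg.Agent.Lib.Helper28
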