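import Cfsg.Agent.Lib.Helper28.HeightZeroK

set_option autoImplicit false

namespace Cfsg.Agent.Lib.Helper28

open Cfsg Cfsg.Agent.Lib.Helper4 Cfsg.Agent.Lib.Helper26
open scoped ComplexConjugate Classical

section

variable {G : Type*} [Group G] [Fintype G] {M : Ideal AlgInt}

/-- for `χ` of height zero in `B = b^G`, the central characters of `b` do not kill the restricted
test function of `χ` -/
theorem induced_unit (H : Subgroup G) [Fintype H] {p : ℕ} [Fact p.Prime]
    (hM : IsPModular p M) {b : Set (IrrCharacter H)} {B₀ : Set (IrrCharacter G)}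
    (hind : IsInducedBlock M H b B₀) {χ : IrrCharacter G} (hχ : χ ∈ B₀)
    (hh : blockHeight p B₀ (χ : G → ℂ) = 0) {ψ : IrrCharacter H} (hψ : ψ ∈ b) :
    ¬ MemLocalIdeal M (omegaF (ψ : H → ℂ) (resMap H (pregTest p (χ : G → ℂ)))) := by
  have hprime : M.IsPrime := hM.2.1.isPrime
  have hB₀ : IsPBlock M B₀ := hind.2.1
  have hχcf := Helper4.isClassFunction_of_isIrrCharacter χ.2
  have hloc : ∀ g, MemLocalRing M (pregTest p (χ : G → ℂ) g) :=
    fun g => pregTest_memLocalRing hM χ.2 g
  have h3 := omegaF_resMap_sub_of_induced H hind hψ hχ _ (isClassFunction_pregTest p hχcf) hloc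
  have hu := (height_zero_iff_unit hM hB₀ hχ).mp hh
  intro h4
  apply hu
  have := Helper28.memLocalIdeal_sub h4 h3
  rwa [sub_sub_cancel] at this

set_option maxHeartbeats 1600000 in
/-- **S0937**: if `b` induces `B` and `χ ∈ B` has height zero then some `ξ ∈ b` of height zero
has multiplicity prime to `p` in the restriction of `χ` -/
theorem exists_height_zero_constituent (H : Subgroup G) [Fintype H] {p : ℕ} [Fact p.Prime]
    (hM : IsPModular p M) {b : Set (IrrCharacter H)} {B₀ : Set (IrrCharacter G)}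
    (hind : IsInducedBlock M H b B₀) {χ : IrrCharacter G} (hχ : χ ∈ B₀)
    (hh : blockHeight p B₀ (χ : G → ℂ) = 0) :
    ∃ ξ ∈ b, blockHeight p b (ξ : H → ℂ) = 0 ∧ ∃ n : ℕ,
      classInner (fun h : H => (χ : G → ℂ) h) (ξ : H → ℂ) = (n : ℂ) ∧ ¬ p ∣ n := by
  have hprime : M.IsPrime := hM.2.1.isPrime
  have hMtop : M ≠ ⊤ := hM.2.1.ne_top
  have hp : p.Prime := Fact.out
  have : Fintype (IrrCharacter H) := Fintype.ofFinite _
  have hb : IsPBlock M b := hind.1
  obtain ⟨ψ, hψ⟩ := Helper28.block_nonempty hb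
  have hX := induced_unit H hM hind hχ hh hψ
  have hχc : IsCharacter G (χ : G → ℂ) := isCharacter_of_isIrrCharacter χ.2
  have hresc : IsCharacter H (fun h : H => (χ : G → ℂ) h) := isCharacter_restrict H hχc
  have hn : ∀ ξ : IrrCharacter H, ∃ n : ℕ,
      classInner (fun h : H => (χ : G → ℂ) h) (ξ : H → ℂ) = (n : ℂ) :=
    fun ξ => classInner_isCharacter_nat hresc (isCharacter_of_isIrrCharacter ξ.2)
  choose n hn using hn
  by_contra hcon
  push Not at hcon
  apply hX
  -- expansion of the restriction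
  have hrescf : IsClassFunction H (fun h : H => (χ : G → ℂ) h) :=
    isClassFunction_resMap H (Helper4.isClassFunction_of_isIrrCharacter χ.2)
  have hexp : ∀ h : H, (χ : G → ℂ) h = ∑ ξ : IrrCharacter H, (n ξ : ℂ) * (ξ : H → ℂ) h := by
    intro h
    have := congrFun (Helper4.classFunction_expansion _ hrescf) h
    rw [Finset.sum_apply] at this
    rw [this]
    refine Finset.sum_congr rfl fun ξ _ => ?_
    rw [Pi.smul_apply, smul_eq_mul, hn ξ]
  have hgc : ((Nat.card G / p ^ (Nat.card G).factorization p : ℕ) : ℂ) ≠ 0 := by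
    have : Nat.card G / p ^ (Nat.card G).factorization p ≠ 0 :=
      (Nat.div_pos (Nat.le_of_dvd Nat.card_pos (Nat.ordProj_dvd _ _)) (pow_pos hp.pos _)).ne'
    exact_mod_cast this
  have hhc : ((Nat.card H / p ^ (Nat.card H).factorization p : ℕ) : ℂ) ≠ 0 := by
    have : Nat.card H / p ^ (Nat.card H).factorization p ≠ 0 :=
      (Nat.div_pos (Nat.le_of_dvd Nat.card_pos (Nat.ordProj_dvd _ _)) (pow_pos hp.pos _)).ne'
    exact_mod_cast this
  have hcopG : (Nat.card G / p ^ (Nat.card G).factorization p).Coprime p :=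
    (Nat.coprime_ordCompl hp Nat.card_pos.ne').symm
  have hcR : MemLocalRing M (((Nat.card H / p ^ (Nat.card H).factorization p : ℕ) : ℂ) *
      ((Nat.card G / p ^ (Nat.card G).factorization p : ℕ) : ℂ)⁻¹) :=
    memLocalRing_mul (memLocalRing_natCast hMtop _) (memLocalRing_inv_natCast hM hcopG)
  have hX' : omegaF (ψ : H → ℂ) (resMap H (pregTest p (χ : G → ℂ))) =
      ∑ ξ : IrrCharacter H, (n ξ : ℂ) *
        ((((Nat.card H / p ^ (Nat.card H).factorization p : ℕ) : ℂ) *
          ((Nat.card G / p ^ (Nat.card G).factorization p : ℕ) : ℂ)⁻¹) *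
            omegaF (ψ : H → ℂ) (pregTest p (ξ : H → ℂ))) := by
    have h1 : ∀ h : H, resMap H (pregTest p (χ : G → ℂ)) h =
        ∑ ξ : IrrCharacter H, (n ξ : ℂ) *
          ((((Nat.card H / p ^ (Nat.card H).factorization p : ℕ) : ℂ) *
          ((Nat.card G / p ^ (Nat.card G).factorization p : ℕ) : ℂ)⁻¹) *
            pregTest p (ξ : H → ℂ) h) := by
      intro h
      unfold resMap pregTest
      rw [pRegularPart_apply, Subgroup.orderOf_coe]
      by_cases hh : p ∣ orderOf h
      · rw [if_pos hh, map_zero, mul_zero]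
        symm
        refine Finset.sum_eq_zero fun ξ _ => ?_
        rw [pRegularPart_apply, if_pos hh, map_zero, mul_zero, mul_zero, mul_zero]
      · rw [if_neg hh, hexp h, map_sum, Finset.mul_sum]
        refine Finset.sum_congr rfl fun ξ _ => ?_
        rw [pRegularPart_apply, if_neg hh, map_mul, Complex.conj_natCast]
        field_simp
    unfold omegaF
    rw [Finset.sum_congr rfl (fun h _ => by rw [h1 h, Finset.sum_mul]), Finset.sum_comm,
      Finset.sum_div]
    refine Finset.sum_congr rfl fun ξ _ => ?_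
    rw [← mul_div_assoc, ← mul_div_assoc, Finset.mul_sum, Finset.mul_sum]
    congr 1
    refine Finset.sum_congr rfl fun h _ => ?_
    ring
  rw [hX']
  apply Helper28.memLocalIdeal_sum
  intro ξ _
  have hξcf := Helper4.isClassFunction_of_isIrrCharacter ξ.2
  have hYR : MemLocalRing M (omegaF (ψ : H → ℂ) (pregTest p (ξ : H → ℂ))) :=
    omegaF_memLocalRing ψ.2 _ (isClassFunction_pregTest p hξcf)
      (fun g => pregTest_memLocalRing hM ξ.2 g)
  by_cases hξ : ξ ∈ b
  · by_cases hξ0 : blockHeight p b (ξ : H → ℂ) = 0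
    · obtain ⟨t, ht⟩ := hcon ξ hξ hξ0 (n ξ) (hn ξ)
      have hnI : MemLocalIdeal M ((n ξ : ℕ) : ℂ) := by
        rw [ht]
        push_cast
        exact Helper28.memLocalIdeal_mul_right (memLocalIdeal_natCast_p hM)
          (memLocalRing_natCast hMtop t)
      exact Helper28.memLocalIdeal_mul_right hnI (memLocalRing_mul hcR hYR)
    · have hJ : MemLocalIdeal M (omegaF (ξ : H → ℂ) (pregTest p (ξ : H → ℂ))) := by
        by_contra hJ
        exact hξ0 ((height_zero_iff_unit hM hb hξ).mpr hJ)
      have hsame := (Helper28.mem_block_iff hb hξ ψ).mp hψ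
      have hJ' : MemLocalIdeal M (omegaF (ψ : H → ℂ) (pregTest p (ξ : H → ℂ))) := by
        by_contra hJ'
        exact ((unit_transfer hM hsame).mpr hJ') hJ
      exact Helper28.memLocalIdeal_mul_left (memLocalRing_natCast hMtop _)
        (Helper28.memLocalIdeal_mul_left hcR hJ')
  · have h0 : omegaF (ψ : H → ℂ) (pregTest p (ξ : H → ℂ)) = 0 := by
      obtain ⟨hd0, hd1, -⟩ := irr_degree_nat ψ.2
      have h1' : (ψ : H → ℂ) 1 ≠ 0 := by rw [hd1]; exact_mod_cast hd0
      have e1 := omegaF_pregTest hp (ξ : H → ℂ) (ψ : H → ℂ) h1'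
      rw [classInner_pRegularPart_eq_zero hM ξ ψ
        (fun h => hξ ((Helper28.mem_block_iff hb hψ ξ).mpr (Helper28.sameBlock_symm h))),
        map_zero, mul_zero] at e1
      rcases mul_eq_zero.mp e1 with h2 | h2
      · exact h2
      · exact absurd h2 h1'
    rw [h0, mul_zero, mul_zero]
    exact Helper28.memLocalIdeal_zero hMtop

end

end Cfsg.Agent.Lib.Helper28
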