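import Cfsg.Agent.Lib.Helper28.HeightZeroL
import Cfsg.Agent.Lib.Helper28.SectionB
import Cfsg.Agent.Lib.Helper28.BlockDefectA

set_option autoImplicit false

namespace Cfsg.Agent.Lib.Helper28

open Cfsg Cfsg.Agent.Lib.Helper4 Cfsg.Agent.Lib.Helper26
open scoped ComplexConjugate Classical

section

variable {G : Type*} [Group G] [Fintype G] {M : Ideal AlgInt}

/-- the central character of an irreducible character applied to a class function with values in
the local ideal lies in the local ideal -/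
theorem omegaF_memLocalIdeal_of_values [M.IsPrime] {χ : G → ℂ} (hχ : IsIrrCharacter G χ)
    (F : G → ℂ) (hF : IsClassFunction G F) (hFS : ∀ g, MemLocalIdeal M (F g)) :
    MemLocalIdeal M (omegaF χ F) := by
  have : Fintype (ConjClasses G) := Fintype.ofFinite _
  rw [omegaF_eq_sum_classes (Helper4.isClassFunction_of_isIrrCharacter hχ) F hF]
  apply Helper28.memLocalIdeal_sum
  intro C _
  exact Helper28.memLocalIdeal_mul_right (hFS _)
    (memLocalRing_of_isIntegral (Ideal.IsPrime.ne_top ‹_›) (isIntegral_centralChar hχ _))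

theorem omegaF_finset_sum {ι : Type*} (s : Finset ι) (χ : G → ℂ) (F : ι → G → ℂ) :
    omegaF χ (fun g => ∑ i ∈ s, F i g) = ∑ i ∈ s, omegaF χ (F i) := by
  unfold omegaF
  rw [← Finset.sum_div]
  congr 1
  rw [Finset.sum_comm]
  refine Finset.sum_congr rfl fun g _ => ?_
  rw [Finset.sum_mul]

/-- a central element of `p`-power order acts on an irreducible character by a scalar
congruent to `1` -/
theorem char_mul_central_pElement {p : ℕ} (hM : IsPModular p M) {χ : G → ℂ}
    (hχ : IsIrrCharacter G χ) {z : G} (hz : z ∈ Subgroup.center G)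
    (hzp : ∃ k : ℕ, orderOf z = p ^ k) :
    ∃ c : ℂ, IsIntegral ℤ c ∧ MemLocalIdeal M (c - 1) ∧ ∀ u : G, χ (u * z) = c * χ u := by
  obtain ⟨c, hc1, hc2⟩ := char_mul_central hχ hz
  refine ⟨c, hc1, ?_, hc2⟩
  obtain ⟨k, hk⟩ := hzp
  have hpow : ∀ j : ℕ, ∀ u : G, χ (u * z ^ j) = c ^ j * χ u := by
    intro j
    induction j with
    | zero => intro u; simp
    | succ i ih =>
      intro u
      rw [pow_succ, ← mul_assoc, hc2, ih]
      ring
  obtain ⟨hd0, hd1, -⟩ := irr_degree_nat hχ
  have h1' : χ 1 ≠ 0 := by rw [hd1]; exact_mod_cast hd0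
  have h2 := hpow (p ^ k) 1
  rw [← hk, pow_orderOf_eq_one, mul_one] at h2
  have h3 : c ^ (orderOf z) = 1 := by
    have : c ^ (orderOf z) * χ 1 = 1 * χ 1 := by rw [← h2, one_mul]
    exact mul_right_cancel₀ h1' this
  rw [hk] at h3
  exact memLocalIdeal_root_sub_one hM h3

end

end Cfsg.Agent.Lib.Helper28
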