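import Mathlib
import Cfsg.Agent.Lib.Helper28.BrauerK
import Cfsg.Agent.Lib.Helper28.BrauerM
import Cfsg.Agent.Lib.Helper28.BrauerR
import Cfsg.Agent.Lib.Helper28.BrauerH
import Cfsg.Agent.Lib.Helper28.PModExists
import Cfsg.Agent.Lib.Helper4.BrauerLambda

set_option autoImplicit false

/-!
# Knörr's theorem: characters vanishing on the elements of order `p` have defect zero (helper28)
-/

namespace Cfsg.Agent.Lib.Helper28

open Cfsg Cfsg.Agent.Lib.Helper4 Cfsg.Agent.Lib.Helper26
open scoped ComplexConjugate Classical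

section Count

variable {H : Type*} [Group H] [Fintype H]

theorem mulRight_pow (z : H) (n : ℕ) : (Equiv.mulRight z) ^ n = Equiv.mulRight (z ^ n) := by
  induction n with
  | zero =>
    ext x
    simp
  | succ n ih =>
    ext x
    rw [pow_succ, Equiv.Perm.mul_apply, ih]
    simp [pow_succ', mul_assoc]

/-- a set invariant under right multiplication by an element of prime order `p` has cardinality
divisible by `p` -/
theorem dvd_card_of_mulRight_invariant {p : ℕ} [hp : Fact p.Prime] (z : H) (hz : orderOf z = p)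
    (S : Finset H) (hS : ∀ x, x * z ∈ S ↔ x ∈ S) : p ∣ S.card := by
  let σ : Equiv.Perm H := Equiv.mulRight z
  let τ : Equiv.Perm {x // x ∈ S} := σ.subtypePerm (fun x => hS x)
  have hτ : τ ^ p ^ 1 = 1 := by
    rw [pow_one]
    have hσ : σ ^ p = 1 := by
      show (Equiv.mulRight z) ^ p = 1
      rw [mulRight_pow, ← hz, pow_orderOf_eq_one]
      ext x
      simp
    have h0 : τ ^ p = (σ ^ p).subtypePerm (fun x => by rw [hσ]; simp) :=
      Equiv.Perm.subtypePerm_pow _ _ _
    rw [h0]
    ext ⟨x, hx⟩
    simp [hσ]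
  have h1 := Equiv.Perm.card_compl_support_modEq hτ
  have h2 : τ.support = Finset.univ := by
    ext ⟨x, hx⟩
    simp only [Equiv.Perm.mem_support, Finset.mem_univ, iff_true]
    intro h
    have h3 : x * z = x := congrArg Subtype.val h
    have h4 : z = 1 := by
      have := mul_left_cancel (a := x) (b := z) (c := 1) (by rw [h3, mul_one])
      exact this
    rw [h4, orderOf_one] at hz
    exact hp.out.one_lt.ne' hz.symm
  rw [h2, Finset.compl_univ, Finset.card_empty, Fintype.card_coe] at h1
  exact (Nat.modEq_zero_iff_dvd.mp h1.symm)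

end Count

section Nil

variable {H : Type*} [Group H] [Fintype H] {M : Ideal AlgInt}

/-- the indicator of the solutions of `x ^ p = 1` -/
noncomputable def powOneInd (p : ℕ) (H : Type*) [Group H] : H → ℂ :=
  fun h => if h ^ p = 1 then 1 else 0

omit [Fintype H] in
theorem isClassFunction_powOneInd (p : ℕ) : IsClassFunction H (powOneInd p H) := by
  intro g k
  show (if (k * g * k⁻¹) ^ p = 1 then (1 : ℂ) else 0) = if g ^ p = 1 then 1 else 0
  have h1 : (k * g * k⁻¹) ^ p = k * g ^ p * k⁻¹ := conj_pow
  rw [h1]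
  have h2 : k * g ^ p * k⁻¹ = 1 ↔ g ^ p = 1 := by
    constructor
    · intro h
      have : g ^ p = k⁻¹ * (k * g ^ p * k⁻¹) * k := by group
      rw [this, h]
      group
    · intro h
      rw [h]
      group
  simp only [h2]

omit [Fintype H] in
theorem powOneInd_memLocalRing [M.IsPrime] (p : ℕ) (x : H) : MemLocalRing M (powOneInd p H x) := by
  have hMtop : M ≠ ⊤ := Ideal.IsPrime.ne_top ‹_›
  unfold powOneInd
  split_ifs
  · exact memLocalRing_one hMtop
  · exact memLocalRing_zero hMtop

/-- the central character of a group with a central element of order `p` sends the sum of the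
solutions of `x ^ p = 1` into the local ideal -/
theorem omegaF_powOneInd_memLocalIdeal {p : ℕ} [Fact p.Prime] (hM : IsPModular p M) (z : H)
    (hz : orderOf z = p) (hzc : ∀ h : H, h * z = z * h) (ψ : IrrCharacter H) :
    MemLocalIdeal M (omegaF (ψ : H → ℂ) (powOneInd p H)) := by
  have hprime : M.IsPrime := hM.2.1.isPrime
  have hMtop : M ≠ ⊤ := hM.2.1.ne_top
  set F := powOneInd p H with hF
  have hFcf : IsClassFunction H F := isClassFunction_powOneInd p
  have hFR : ∀ x, MemLocalRing M (F x) := powOneInd_memLocalRing p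
  -- the counting
  have hzp : z ^ p = 1 := by rw [← hz]; exact pow_orderOf_eq_one z
  have hcount : ∀ g : H, ∃ m : ℕ, conv F F g = (p : ℂ) * (m : ℂ) := by
    intro g
    let S : Finset H := Finset.univ.filter (fun x : H => x ^ p = 1 ∧ (x⁻¹ * g) ^ p = 1)
    have hS : ∀ x, x * z ∈ S ↔ x ∈ S := by
      intro x
      simp only [S, Finset.mem_filter, Finset.mem_univ, true_and]
      have e1 : (x * z) ^ p = x ^ p := by
        rw [(show Commute x z from hzc x).mul_pow, hzp, mul_one]
      have e2 : ((x * z)⁻¹ * g) ^ p = (x⁻¹ * g) ^ p := by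
        have hc : Commute z⁻¹ (x⁻¹ * g) := by
          have : Commute (x⁻¹ * g) z := hzc _
          exact this.symm.inv_left
        rw [mul_inv_rev, mul_assoc, hc.mul_pow, inv_pow, hzp, inv_one, one_mul]
      rw [e1, e2]
    obtain ⟨m, hm⟩ := dvd_card_of_mulRight_invariant z hz S hS
    refine ⟨m, ?_⟩
    have h1 : conv F F g = (S.card : ℂ) := by
      show ∑ x, F x * F (x⁻¹ * g) = _
      rw [Finset.card_filter]
      push_cast
      refine Finset.sum_congr rfl fun x _ => ?_
      show (if x ^ p = 1 then (1 : ℂ) else 0) * (if (x⁻¹ * g) ^ p = 1 then 1 else 0) = _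
      by_cases h1 : x ^ p = 1 <;> by_cases h2 : (x⁻¹ * g) ^ p = 1 <;> simp [h1, h2]
    rw [h1, hm]
    push_cast
    ring
  choose m hm using hcount
  let F' : H → ℂ := fun g => (m g : ℂ)
  have hconv : conv F F = (p : ℂ) • F' := by
    funext g
    rw [hm g]
    rfl
  have hp0 : (p : ℂ) ≠ 0 := by
    have := (Fact.out : p.Prime).pos
    exact_mod_cast this.ne'
  have hF'cf : IsClassFunction H F' := by
    have h1 : F' = (p : ℂ)⁻¹ • conv F F := by
      rw [hconv, smul_smul, inv_mul_cancel₀ hp0, one_smul]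
    rw [h1]
    exact isClassFunction_smul _ (isClassFunction_conv hFcf hFcf)
  have hF'R : ∀ x, MemLocalRing M (F' x) := fun x => memLocalRing_natCast hMtop _
  have h2 : (omegaF (ψ : H → ℂ) F) ^ 2 = (p : ℂ) * omegaF (ψ : H → ℂ) F' := by
    rw [pow_two, ← omegaF_conv ψ.2 F F hFcf hFcf, hconv, omegaF_smul]
  have hωR : MemLocalRing M (omegaF (ψ : H → ℂ) F) := omegaF_memLocalRing ψ.2 F hFcf hFR
  by_contra hcon
  apply not_memLocalIdeal_pow hωR hcon 2
  rw [h2]
  exact memLocalIdeal_mul_right (memLocalIdeal_natCast_p hM)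
    (omegaF_memLocalRing ψ.2 F' hF'cf hF'R)

end Nil

end Cfsg.Agent.Lib.Helper28
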