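import Mathlib
import Cfsg.Agent.Lib.Helper28.KnorrA

set_option autoImplicit false

/-!
# Knörr's theorem: characters vanishing on the elements of order `p` have defect zero (helper28)
-/

namespace Cfsg.Agent.Lib.Helper28

open Cfsg Cfsg.Agent.Lib.Helper4 Cfsg.Agent.Lib.Helper26
open scoped ComplexConjugate Classical

section

variable {G : Type*} [Group G] [Fintype G]

/-- the central character of `χ` at the indicator of the solutions of `x ^ p = 1` is `1` when
`χ` vanishes on the elements of order `p` -/
theorem omegaF_powOneInd_eq_one {p : ℕ} [hp : Fact p.Prime] (χ : IrrCharacter G)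
    (hvan : ∀ g : G, orderOf g = p → (χ : G → ℂ) g = 0) :
    omegaF (χ : G → ℂ) (powOneInd p G) = 1 := by
  have h1 : ∑ g, powOneInd p G g * (χ : G → ℂ) g = (χ : G → ℂ) 1 := by
    rw [Finset.sum_eq_single (1 : G)]
    · show (if (1 : G) ^ p = 1 then (1 : ℂ) else 0) * _ = _
      rw [one_pow, if_pos rfl, one_mul]
    · intro g _ hg
      show (if g ^ p = 1 then (1 : ℂ) else 0) * _ = 0
      by_cases hgp : g ^ p = 1
      · rw [hvan g (orderOf_eq_prime hgp hg), mul_zero]
      · rw [if_neg hgp, zero_mul]
    · intro h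
      exact absurd (Finset.mem_univ _) h
  show (∑ g, powOneInd p G g * (χ : G → ℂ) g) / (χ : G → ℂ) 1 = 1
  rw [h1, div_self (irr_one_ne_zero χ.2)]

/-- **Knörr**: an irreducible character vanishing on all elements of order `p` has `p`-defect
zero -/
theorem knorr_vanishing {p : ℕ} [hp : Fact p.Prime] (χ : IrrCharacter G)
    (hvan : ∀ g : G, orderOf g = p → (χ : G → ℂ) g = 0) :
    (charDegree (χ : G → ℂ)).factorization p = (Nat.card G).factorization p := by
  obtain ⟨M, hM⟩ := exists_isPModular' hp.out
  have hprime : M.IsPrime := hM.2.1.isPrime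
  have hMtop : M ≠ ⊤ := hM.2.1.ne_top
  have hB : IsPBlock M (blockOf M (χ : G → ℂ)) := ⟨χ, rfl⟩
  have hχB : χ ∈ blockOf M (χ : G → ℂ) := sameBlock_refl hMtop _
  obtain ⟨D, hD⟩ := exists_isDefectGroup hM hB
  have hcard := card_defectGroup hM hB hD
  obtain ⟨hd0, hd1, hdvd⟩ := irr_degree_nat χ.2
  have hle : (charDegree (χ : G → ℂ)).factorization p ≤ (Nat.card G).factorization p :=
    (Nat.factorization_le_iff_dvd hd0 Nat.card_pos.ne').mpr hdvd p
  by_cases hdef : blockDefect p (blockOf M (χ : G → ℂ)) = 0
  · unfold blockDefect at hdef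
    have h1 : sInf ((fun χ : IrrCharacter G => (charDegree (χ : G → ℂ)).factorization p) ''
        (blockOf M (χ : G → ℂ))) ≤ (charDegree (χ : G → ℂ)).factorization p :=
      Nat.sInf_le ⟨χ, hχB, rfl⟩
    omega
  · exfalso
    have hDp : p ∣ Nat.card D := by
      rw [hcard]
      exact dvd_pow_self p hdef
    obtain ⟨z, hz⟩ := exists_prime_orderOf_dvd_card' p hDp
    have hz' : orderOf (z : G) = p := by rw [Subgroup.orderOf_coe]; exact hz
    have hP : IsPGroup p (Subgroup.zpowers (z : G)) := by
      apply IsPGroup.of_card (n := 1)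
      rw [Nat.card_zpowers, hz', pow_one]
    have hzc : (z : G) ∈ Subgroup.centralizer ((Subgroup.zpowers (z : G) : Subgroup G) : Set G) := by
      rw [Subgroup.mem_centralizer_iff]
      rintro y ⟨k, rfl⟩
      exact ((Commute.refl (z : G)).zpow_left k).eq
    have hPH : Subgroup.zpowers (z : G) ≤
        Subgroup.centralizer ((Subgroup.zpowers (z : G) : Subgroup G) : Set G) := by
      rw [Subgroup.zpowers_le]
      exact hzc
    haveI : Fintype (Subgroup.centralizer ((Subgroup.zpowers (z : G) : Subgroup G) : Set G)) :=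
      Fintype.ofFinite _
    obtain ⟨b, hind⟩ := (exists_induced_iff hM (Subgroup.zpowers (z : G))
      (Subgroup.centralizer ((Subgroup.zpowers (z : G) : Subgroup G) : Set G)) hP hPH le_rfl
      (Subgroup.centralizer_le_normalizer _) hB).mpr ⟨D, hD, 1, by
        rintro _ ⟨t, ht, rfl⟩
        have : Subgroup.zpowers (z : G) ≤ D := by
          rw [Subgroup.zpowers_le]
          exact z.2
        simpa using this ht⟩
    obtain ⟨ψ, hψ⟩ := block_nonempty hind.1
    have h1 := omegaF_resMap_sub_of_induced _ hind hψ hχB (powOneInd p G)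
      (isClassFunction_powOneInd p) (powOneInd_memLocalRing p)
    rw [omegaF_powOneInd_eq_one χ hvan] at h1
    have h3 : resMap (Subgroup.centralizer ((Subgroup.zpowers (z : G) : Subgroup G) : Set G))
        (powOneInd p G) = powOneInd p _ := by
      funext h
      have : (h : G) ^ p = 1 ↔ h ^ p = 1 := by
        rw [← Subgroup.coe_pow, OneMemClass.coe_eq_one]
      unfold resMap powOneInd
      by_cases hh : h ^ p = 1
      · rw [if_pos hh, if_pos (this.mpr hh)]
      · rw [if_neg hh, if_neg (fun hc => hh (this.mp hc))]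
    rw [h3] at h1
    have h4 : MemLocalIdeal M (omegaF (ψ : _ → ℂ) (powOneInd p
        (Subgroup.centralizer ((Subgroup.zpowers (z : G) : Subgroup G) : Set G)))) := by
      refine omegaF_powOneInd_memLocalIdeal hM ⟨(z : G), hzc⟩ ?_ ?_ ψ
      · rw [Subgroup.orderOf_mk]
        exact hz'
      · intro h
        apply Subtype.ext
        show (h : G) * (z : G) = (z : G) * (h : G)
        have := h.2
        rw [Subgroup.mem_centralizer_iff] at this
        exact (this (z : G) (Subgroup.mem_zpowers _)).symm
    have h5 := memLocalIdeal_sub h4 h1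
    rw [sub_sub_cancel] at h5
    exact not_memLocalIdeal_one hMtop h5

end

end Cfsg.Agent.Lib.Helper28
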