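import Mathlib
import Cfsg.Agent.Lib.Helper28.BlockPReg

set_option autoImplicit false

/-!
# The `p`-power trace congruence in the group algebra (helper28)
`(∑_{h ^ (p^N) = 1} a h) ^ (p^N) ≡ coefficient of 1 in a ^ (p^N)` modulo `p`.
-/

namespace Cfsg.Agent.Lib.Helper28

open Cfsg Cfsg.Agent.Lib.Helper4
open scoped ComplexConjugate Classical

section Ring

variable {R : Type*} [CommRing R]

theorem exists_sum_pow_prime_pow_eq {p : ℕ} (hp : p.Prime) (N : ℕ) {ι : Type*} (s : Finset ι)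
    (f : ι → R) :
    ∃ r : R, (∑ i ∈ s, f i) ^ (p ^ N) = ∑ i ∈ s, (f i) ^ (p ^ N) + (p : R) * r := by
  induction s using Finset.induction_on with
  | empty =>
    refine ⟨0, ?_⟩
    simp [zero_pow (pow_pos hp.pos N).ne']
  | insert j s hj ih =>
    obtain ⟨r, hr⟩ := ih
    obtain ⟨r1, hr1⟩ := exists_add_pow_prime_pow_eq hp (f j) (∑ i ∈ s, f i) N
    refine ⟨r + f j * (∑ i ∈ s, f i) * r1, ?_⟩
    rw [Finset.sum_insert hj, Finset.sum_insert hj, hr1, hr]
    ring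

theorem exists_sum_pow_prime_pow_eq_subring {p : ℕ} (hp : p.Prime) (N : ℕ) {ι : Type*}
    (s : Finset ι) (T : Subring R) (f : ι → R) (hf : ∀ i, f i ∈ T) :
    ∃ r ∈ T, (∑ i ∈ s, f i) ^ (p ^ N) = ∑ i ∈ s, (f i) ^ (p ^ N) + (p : R) * r := by
  obtain ⟨r, hr⟩ := exists_sum_pow_prime_pow_eq (R := T) hp N s (fun i => ⟨f i, hf i⟩)
  refine ⟨r, r.2, ?_⟩
  have h1 := congrArg (Subring.subtype T) hr
  simp only [map_sum, map_pow, map_add, map_mul, map_natCast] at h1
  exact h1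

end Ring

section Tuple

variable {G : Type*} [Group G] [Fintype G] {R : Type*} [CommRing R]

theorem tupleSum_one' (a : G → R) (Y : Set G) :
    tupleSum 1 a Y = ∑ h ∈ Finset.univ.filter (fun h => h ∈ Y), a h := by
  unfold tupleSum
  rw [← (Equiv.funUnique (Fin 1) G).symm.sum_comp, Finset.sum_filter]
  refine Finset.sum_congr rfl fun h _ => ?_
  simp

theorem tupleSum_pow_iter {p : ℕ} (hp : p.Prime) (N : ℕ) :
    ∀ (a : G → R) (Y : Set G), (∀ g y : G, y ∈ Y → g⁻¹ * y * g ∈ Y) →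
      ∃ y : R, tupleSum (p ^ N) a Y =
        ∑ h ∈ Finset.univ.filter (fun h : G => h ^ (p ^ N) ∈ Y), (a h) ^ (p ^ N) +
          (p : R) * y := by
  induction N with
  | zero =>
    intro a Y _
    refine ⟨0, ?_⟩
    rw [pow_zero, tupleSum_one', mul_zero, add_zero]
    refine Finset.sum_congr ?_ fun h _ => ?_
    · ext h
      simp
    · rw [pow_one]
  | succ N ih =>
    intro a Y hY
    obtain ⟨y1, hy1⟩ := tupleSum_step hp N a Y hY
    have hY' : ∀ g y : G, y ∈ {h : G | h ^ p ∈ Y} → g⁻¹ * y * g ∈ {h : G | h ^ p ∈ Y} := by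
      intro g y hy
      show (g⁻¹ * y * g) ^ p ∈ Y
      have : (g⁻¹ * y * g) ^ p = g⁻¹ * y ^ p * g := by
        have := conj_pow (a := g⁻¹) (b := y) (i := p)
        simpa using this
      rw [this]
      exact hY g _ hy
    obtain ⟨y2, hy2⟩ := ih (fun g => a g ^ p) {h | h ^ p ∈ Y} hY'
    refine ⟨y2 + ((p ^ N : ℕ) : R) * y1, ?_⟩
    rw [pow_succ', hy1, hy2]
    have e1 : (Finset.univ.filter (fun h : G => h ^ (p ^ N) ∈ {h : G | h ^ p ∈ Y})) =
        Finset.univ.filter (fun h : G => h ^ (p * p ^ N) ∈ Y) := by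
      ext h
      simp only [Finset.mem_filter, Finset.mem_univ, true_and, Set.mem_setOf_eq]
      rw [← pow_mul, mul_comm]
    rw [e1]
    have e2 : ∀ h : G, (a h ^ p) ^ (p ^ N) = a h ^ (p * p ^ N) := fun h => by rw [← pow_mul]
    simp only [e2]
    push_cast
    ring

theorem tupleSum_pow_iter_subring {p : ℕ} (hp : p.Prime) (N : ℕ) (T : Subring R) (a : G → R)
    (ha : ∀ g, a g ∈ T) (Y : Set G) (hY : ∀ g y : G, y ∈ Y → g⁻¹ * y * g ∈ Y) :
    ∃ y ∈ T, tupleSum (p ^ N) a Y =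
      ∑ h ∈ Finset.univ.filter (fun h : G => h ^ (p ^ N) ∈ Y), (a h) ^ (p ^ N) +
        (p : R) * y := by
  obtain ⟨y, hy⟩ := tupleSum_pow_iter (R := T) hp N (fun g => ⟨a g, ha g⟩) Y hY
  refine ⟨y, y.2, ?_⟩
  have h1 := congrArg (Subring.subtype T) hy
  unfold tupleSum at h1 ⊢
  simp only [map_sum, apply_ite (Subring.subtype T), map_prod, map_zero, map_mul, map_pow,
    map_natCast, map_add] at h1
  exact h1

/-- the coefficient of `1` in `a ^ (p^N)` -/
theorem coeff_one_pow_congr {p : ℕ} (hp : p.Prime) (N : ℕ) (T : Subring R) (a : G → R)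
    (ha : ∀ g, a g ∈ T) :
    ∃ y ∈ T, ((toMA a) ^ (p ^ N)).coeff 1 =
      ∑ h ∈ Finset.univ.filter (fun h : G => h ^ (p ^ N) = 1), (a h) ^ (p ^ N) +
        (p : R) * y := by
  obtain ⟨y, hyT, hy⟩ := tupleSum_pow_iter_subring hp N T a ha ({1} : Set G) (by
    intro g y hy
    rw [Set.mem_singleton_iff] at hy ⊢
    rw [hy]
    group)
  refine ⟨y, hyT, ?_⟩
  rw [← sum_coeff_toMA_pow] at hy
  rw [Finset.sum_eq_single_of_mem (1 : G) (by simp) (by
    intro b hb hne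
    simp only [Finset.mem_filter, Finset.mem_univ, true_and, Set.mem_singleton_iff] at hb
    exact absurd hb hne)] at hy
  rw [hy]
  rfl

/-- **the trace congruence** -/
theorem sum_pow_eq_coeff_one {p : ℕ} (hp : p.Prime) (N : ℕ) (T : Subring R) (a : G → R)
    (ha : ∀ g, a g ∈ T) :
    ∃ y ∈ T, (∑ h ∈ Finset.univ.filter (fun h : G => h ^ (p ^ N) = 1), a h) ^ (p ^ N) =
      ((toMA a) ^ (p ^ N)).coeff 1 + (p : R) * y := by
  obtain ⟨y1, hy1T, hy1⟩ := coeff_one_pow_congr hp N T a ha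
  obtain ⟨y2, hy2T, hy2⟩ := exists_sum_pow_prime_pow_eq_subring hp N
    (Finset.univ.filter (fun h : G => h ^ (p ^ N) = 1)) T a ha
  refine ⟨y2 - y1, T.sub_mem hy2T hy1T, ?_⟩
  rw [hy2, hy1]
  ring

end Tuple

end Cfsg.Agent.Lib.Helper28
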