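import Mathlib
import Cfsg.Agent.Lib.Helper28.KulshA
import Cfsg.Agent.Lib.Helper28.BrauerI
import Cfsg.Agent.Lib.Helper28.BlockOrthPReg
import Cfsg.Agent.Lib.Helper28.BlockDefectE
import Cfsg.Agent.Lib.Helper4.BlockNilp
import Cfsg.Agent.Lib.Helper4.BrauerLambda

set_option autoImplicit false

/-!
# The trace lemma: `p`-element sums of central elements nilpotent modulo the local ideal (helper28)
-/

namespace Cfsg.Agent.Lib.Helper28

open Cfsg Cfsg.Agent.Lib.Helper4 Cfsg.Agent.Lib.Helper26
open scoped ComplexConjugate Classical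

variable {G : Type*} [Group G] [Fintype G] {M : Ideal AlgInt}

theorem pElement_iff_pow_eq_one {p : ℕ} (hp : p.Prime) (N : ℕ)
    (hN : (Nat.card G).factorization p ≤ N) (h : G) :
    (∃ k : ℕ, orderOf h = p ^ k) ↔ h ^ (p ^ N) = 1 := by
  constructor
  · rintro ⟨k, hk⟩
    have h1 : p ^ k ∣ Nat.card G := hk ▸ orderOf_dvd_natCard h
    have h2 : k ≤ (Nat.card G).factorization p :=
      (hp.pow_dvd_iff_le_factorization Nat.card_pos.ne').mp h1
    apply orderOf_dvd_iff_pow_eq_one.mp
    rw [hk]
    exact pow_dvd_pow p (h2.trans hN)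
  · intro h1
    have h2 := orderOf_dvd_of_pow_eq_one h1
    obtain ⟨k, _, hk⟩ := (Nat.dvd_prime_pow hp).mp h2
    exact ⟨k, hk⟩

theorem convPow_memLocalIdeal_of_le [M.IsPrime] {w : G → ℂ} (hw : ∀ g, MemLocalRing M (w g))
    {n : ℕ} (hn : ∀ g, MemLocalIdeal M (convPow w n g)) {m : ℕ} (hm : n ≤ m) :
    ∀ g, MemLocalIdeal M (convPow w m g) := by
  induction m, hm using Nat.le_induction with
  | base => exact hn
  | succ m _ ih =>
    intro g
    show MemLocalIdeal M (conv w (convPow w m) g)
    exact conv_memLocalIdeal_right hw ih g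

/-- **trace lemma**: if all central characters of the central element `w` (with local
coefficients) lie in the local ideal, then `∑_{h a p-element} w (h g)` lies in the local ideal -/
theorem sum_pElements_shift_memLocalIdeal {p : ℕ} (hM : IsPModular p M) (w : G → ℂ)
    (hw1 : IsClassFunction G w) (hw2 : ∀ g, MemLocalRing M (w g))
    (hw3 : ∀ ψ : IrrCharacter G, MemLocalIdeal M (omegaF (ψ : G → ℂ) w)) (g : G) :
    MemLocalIdeal M
      (∑ h ∈ Finset.univ.filter (fun h : G => ∃ k : ℕ, orderOf h = p ^ k), w (h * g)) := by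
  have hp : p.Prime := hM.1
  have hprime : M.IsPrime := hM.2.1.isPrime
  obtain ⟨n, hn⟩ := exists_convPow_memLocalIdeal w hw1 hw2 hw3
  set N := (Nat.card G).factorization p + n with hN
  have hKn : n ≤ p ^ N := by
    have h1 : N < p ^ N := Nat.lt_pow_self hp.one_lt
    omega
  have hpow := convPow_memLocalIdeal_of_le hw2 hn hKn
  let a : G → ℂ := fun h => w (h * g)
  have ha : ∀ h, a h ∈ localSubring M := fun h => hw2 _
  obtain ⟨y, hyT, hy⟩ := sum_pow_eq_coeff_one hp N (localSubring M) a ha
  have hfilter : (Finset.univ.filter (fun h : G => ∃ k : ℕ, orderOf h = p ^ k)) =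
      Finset.univ.filter (fun h : G => h ^ (p ^ N) = 1) := by
    ext h
    simp only [Finset.mem_filter, Finset.mem_univ, true_and]
    exact pElement_iff_pow_eq_one hp N (by omega) h
  rw [hfilter]
  -- the coefficient of 1
  have hτ : MemLocalIdeal M (((toMA a) ^ (p ^ N)).coeff 1) := by
    have h1 : toMA a = toMA w * MonoidAlgebra.single g⁻¹ (1 : ℂ) := by
      rw [toMA_mul_single]
      congr 1
      funext h
      show w (h * g) = w (h * g⁻¹⁻¹)
      rw [inv_inv]
    rw [h1, (commute_toMA_single hw1 g⁻¹).mul_pow, MonoidAlgebra.single_pow, one_pow,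
      MonoidAlgebra.coeff_mul_single_apply, mul_one, ← toMA_convPow, toMA_coeff]
    exact hpow _
  have hS : MemLocalRing M (∑ h ∈ Finset.univ.filter (fun h : G => h ^ (p ^ N) = 1), a h) :=
    memLocalRing_sum _ _ fun h _ => hw2 _
  by_contra hcon
  have h2 := not_memLocalIdeal_pow hS hcon (p ^ N)
  apply h2
  rw [hy]
  exact memLocalIdeal_add hτ (memLocalIdeal_mul_right (memLocalIdeal_natCast_p hM) hyT)

end Cfsg.Agent.Lib.Helper28
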