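import Mathlib
import Cfsg.Agent.Lib.Helper28.KulshB

set_option autoImplicit false

/-!
# Külshammer's formula for the principal block idempotent (helper28)
-/

namespace Cfsg.Agent.Lib.Helper28

open Cfsg Cfsg.Agent.Lib.Helper4 Cfsg.Agent.Lib.Helper26
open scoped ComplexConjugate Classical

variable {G : Type*} [Group G] [Fintype G] {M : Ideal AlgInt}

/-- the indicator function of the `p`-regular elements -/
noncomputable def pregInd (p : ℕ) (G : Type*) [Group G] : G → ℂ :=
  fun x => if p ∣ orderOf x then 0 else 1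

omit [Fintype G] in
theorem isClassFunction_pregInd (p : ℕ) : IsClassFunction G (pregInd p G) := by
  intro g k
  show (if p ∣ orderOf (k * g * k⁻¹) then (0 : ℂ) else 1) = if p ∣ orderOf g then 0 else 1
  rw [orderOf_conj']

omit [Fintype G] in
theorem pregInd_memLocalRing [M.IsPrime] (p : ℕ) (x : G) : MemLocalRing M (pregInd p G x) := by
  have hMtop : M ≠ ⊤ := Ideal.IsPrime.ne_top ‹_›
  unfold pregInd
  split_ifs
  · exact memLocalRing_zero hMtop
  · exact memLocalRing_one hMtop

theorem sum_pregInd (p : ℕ) :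
    ∑ x : G, pregInd p G x = (Nat.card {y : G // ¬ p ∣ orderOf y} : ℂ) := by
  unfold pregInd
  rw [Nat.card_eq_fintype_card, Fintype.card_subtype, Finset.card_filter]
  push_cast
  refine Finset.sum_congr rfl fun x _ => ?_
  split_ifs <;> simp_all

theorem omegaF_triv_pregInd (p : ℕ) :
    omegaF (fun _ : G => (1 : ℂ)) (pregInd p G) = (Nat.card {y : G // ¬ p ∣ orderOf y} : ℂ) := by
  unfold omegaF
  simp only [mul_one, div_one]
  exact sum_pregInd p

theorem omegaF_pregInd_of_not_mem {p : ℕ} (hM : IsPModular p M) (ψ : IrrCharacter G)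
    (hψ : ψ ∉ principalBlock M G) : omegaF (ψ : G → ℂ) (pregInd p G) = 0 := by
  have h1 := preg_orthogonality hM ψ (trivIrr G) (fun h => hψ (sameBlock_symm h))
  unfold omegaF
  rw [div_eq_zero_iff]
  left
  rw [← h1]
  refine Finset.sum_congr rfl fun x _ => ?_
  unfold pregInd
  split_ifs
  · rw [zero_mul]
  · show 1 * (ψ : G → ℂ) x = (ψ : G → ℂ) x * conj ((fun _ : G => (1 : ℂ)) x)
    simp

theorem omegaF_pregInd_sub_memLocalIdeal {p : ℕ} (hM : IsPModular p M) (ψ : IrrCharacter G)
    (hψ : ψ ∈ principalBlock M G) :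
    MemLocalIdeal M (omegaF (ψ : G → ℂ) (pregInd p G) -
      (Nat.card {y : G // ¬ p ∣ orderOf y} : ℂ)) := by
  have hprime : M.IsPrime := hM.2.1.isPrime
  rw [← omegaF_triv_pregInd (G := G) p]
  exact omegaF_sub_memLocalIdeal (Helper4.isClassFunction_of_isIrrCharacter ψ.2)
    (Helper4.isClassFunction_of_isIrrCharacter (trivIrr G).2) (sameBlock_symm hψ) _
    (isClassFunction_pregInd p) (pregInd_memLocalRing p)

omit [Fintype G] in
/-- the only `p`-regular `p`-element is `1` -/
theorem eq_one_of_pElement_of_preg {p : ℕ} (_hp : p.Prime) {h : G}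
    (h1 : ∃ k : ℕ, orderOf h = p ^ k) (h2 : ¬ p ∣ orderOf h) : h = 1 := by
  obtain ⟨k, hk⟩ := h1
  rcases Nat.eq_zero_or_pos k with rfl | hk0
  · rw [pow_zero] at hk
    exact orderOf_eq_one_iff.mp hk
  · exfalso
    apply h2
    rw [hk]
    exact dvd_pow_self p hk0.ne'

/-- the number of `p`-regular elements is a unit modulo `p` -/
theorem card_preg_not_memLocalIdeal {p : ℕ} (hM : IsPModular p M) :
    ¬ MemLocalIdeal M (Nat.card {y : G // ¬ p ∣ orderOf y} : ℂ) := by
  have hp : p.Prime := hM.1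
  have hprime : M.IsPrime := hM.2.1.isPrime
  have hMtop : M ≠ ⊤ := hM.2.1.ne_top
  intro hc
  have hw3 : ∀ ψ : IrrCharacter G, MemLocalIdeal M (omegaF (ψ : G → ℂ) (pregInd p G)) := by
    intro ψ
    by_cases hψ : ψ ∈ principalBlock M G
    · have := memLocalIdeal_add (omegaF_pregInd_sub_memLocalIdeal hM ψ hψ) hc
      rwa [sub_add_cancel] at this
    · rw [omegaF_pregInd_of_not_mem hM ψ hψ]
      exact memLocalIdeal_zero hMtop
  have h1 := sum_pElements_shift_memLocalIdeal hM (pregInd p G) (isClassFunction_pregInd p)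
    (pregInd_memLocalRing p) hw3 1
  have h2 : ∑ h ∈ Finset.univ.filter (fun h : G => ∃ k : ℕ, orderOf h = p ^ k),
      pregInd p G (h * 1) = 1 := by
    rw [Finset.sum_eq_single_of_mem (1 : G)]
    · unfold pregInd
      rw [mul_one, orderOf_one, if_neg]
      exact fun hd => hp.one_lt.ne' (Nat.dvd_one.mp hd)
    · simp only [Finset.mem_filter, Finset.mem_univ, true_and]
      exact ⟨0, by simp⟩
    · intro b hb hne
      simp only [Finset.mem_filter, Finset.mem_univ, true_and] at hb
      unfold pregInd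
      rw [mul_one, if_pos]
      by_contra hnd
      exact hne (eq_one_of_pElement_of_preg hp hb hnd)
  rw [h2] at h1
  exact not_memLocalIdeal_one hMtop h1

/-- counting the pairs -/
theorem card_pairs_eq (p : ℕ) (g : G) :
    (Nat.card {xy : G × G // (∃ k : ℕ, orderOf xy.1 = p ^ k) ∧ ¬ p ∣ orderOf xy.2 ∧
      xy.1 * xy.2 = g} : ℂ) =
    ∑ h ∈ Finset.univ.filter (fun h : G => ∃ k : ℕ, orderOf h = p ^ k), pregInd p G (h * g) := by
  have e : {xy : G × G // (∃ k : ℕ, orderOf xy.1 = p ^ k) ∧ ¬ p ∣ orderOf xy.2 ∧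
      xy.1 * xy.2 = g} ≃
      {h : G // (∃ k : ℕ, orderOf h = p ^ k) ∧ ¬ p ∣ orderOf (h * g)} :=
    { toFun := fun xy => ⟨xy.1.1⁻¹, by
        obtain ⟨⟨x, y⟩, h1, h2, h3⟩ := xy
        refine ⟨by simpa using h1, ?_⟩
        have : x⁻¹ * g = y := by rw [← h3]; group
        show ¬ p ∣ orderOf (x⁻¹ * g)
        rw [this]
        exact h2⟩
      invFun := fun h => ⟨(h.1⁻¹, h.1 * g), by
        obtain ⟨h, h1, h2⟩ := h
        refine ⟨by simpa using h1, h2, ?_⟩
        show h⁻¹ * (h * g) = g
        group⟩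
      left_inv := by
        rintro ⟨⟨x, y⟩, h1, h2, h3⟩
        apply Subtype.ext
        show ((x⁻¹)⁻¹, x⁻¹ * g) = (x, y)
        rw [inv_inv, ← h3]
        congr 1
        group
      right_inv := by
        rintro ⟨h, h1, h2⟩
        apply Subtype.ext
        show (h⁻¹)⁻¹ = h
        rw [inv_inv] }
  rw [Nat.card_congr e, Nat.card_eq_fintype_card, Fintype.card_subtype, Finset.card_filter]
  push_cast
  rw [Finset.sum_filter]
  refine Finset.sum_congr rfl fun h _ => ?_
  unfold pregInd
  by_cases h1 : ∃ k : ℕ, orderOf h = p ^ k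
  · by_cases h2 : p ∣ orderOf (h * g)
    · simp [h1, h2]
    · simp [h1, h2]
  · simp [h1]

/-- **Külshammer's formula** -/
theorem kulshammer_formula {p : ℕ} (hM : IsPModular p M) (g : G) (hg : ¬ p ∣ orderOf g) :
    MemLocalIdeal M (blockCoeff (principalBlock M G) g -
      (Nat.card {xy : G × G // (∃ k : ℕ, orderOf xy.1 = p ^ k) ∧ ¬ p ∣ orderOf xy.2 ∧
        xy.1 * xy.2 = g} : ℂ) / (Nat.card {y : G // ¬ p ∣ orderOf y} : ℂ)) := by
  have hp : p.Prime := hM.1
  have hprime : M.IsPrime := hM.2.1.isPrime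
  have hMtop : M ≠ ⊤ := hM.2.1.ne_top
  set c : ℂ := (Nat.card {y : G // ¬ p ∣ orderOf y} : ℂ) with hc
  set ε : G → ℂ := blockCoeff (principalBlock M G) with hε
  have hB : IsPBlock M (principalBlock M G) := isPBlock_principalBlock
  have hεR : ∀ x, MemLocalRing M (ε x) := fun x => osima hB x
  have hεcf : IsClassFunction G ε := isClassFunction_blockCoeff _
  have hcR : MemLocalRing M c := memLocalRing_natCast hMtop _
  have hcU : ¬ MemLocalIdeal M c := card_preg_not_memLocalIdeal hM
  have hc0 : c ≠ 0 := fun h => hcU (h ▸ memLocalIdeal_zero hMtop)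
  -- the central element w = ι - c ε
  let w : G → ℂ := pregInd p G - c • ε
  have hw1 : IsClassFunction G w :=
    isClassFunction_sub (isClassFunction_pregInd p) (isClassFunction_smul c hεcf)
  have hw2 : ∀ x, MemLocalRing M (w x) := fun x =>
    memLocalRing_sub (pregInd_memLocalRing p x) (memLocalRing_mul hcR (hεR x))
  have hw3 : ∀ ψ : IrrCharacter G, MemLocalIdeal M (omegaF (ψ : G → ℂ) w) := by
    intro ψ
    show MemLocalIdeal M (omegaF (ψ : G → ℂ) (pregInd p G - c • ε))
    rw [omegaF_sub, omegaF_smul, omegaF_blockCoeff]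
    by_cases hψ : ψ ∈ principalBlock M G
    · rw [if_pos hψ, mul_one]
      exact omegaF_pregInd_sub_memLocalIdeal hM ψ hψ
    · rw [if_neg hψ, mul_zero, sub_zero, omegaF_pregInd_of_not_mem hM ψ hψ]
      exact memLocalIdeal_zero hMtop
  have h1 := sum_pElements_shift_memLocalIdeal hM w hw1 hw2 hw3 g
  -- expand
  have h2 : ∑ h ∈ Finset.univ.filter (fun h : G => ∃ k : ℕ, orderOf h = p ^ k), w (h * g) =
      ∑ h ∈ Finset.univ.filter (fun h : G => ∃ k : ℕ, orderOf h = p ^ k), pregInd p G (h * g) -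
        c * ∑ h ∈ Finset.univ.filter (fun h : G => ∃ k : ℕ, orderOf h = p ^ k), ε (h * g) := by
    rw [Finset.mul_sum, ← Finset.sum_sub_distrib]
    rfl
  -- the idempotent sum
  have h3 : ∑ h ∈ Finset.univ.filter (fun h : G => ∃ k : ℕ, orderOf h = p ^ k), ε (h * g) =
      ε g := by
    have h1mem : (1 : G) ∈ Finset.univ.filter (fun h : G => ∃ k : ℕ, orderOf h = p ^ k) := by
      simp only [Finset.mem_filter, Finset.mem_univ, true_and]
      exact ⟨0, by simp⟩
    rw [← Finset.add_sum_erase _ _ h1mem, one_mul]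
    have hz := sum_blockCoeff_shift_eq_zero hM (principalBlock M G) hεR g⁻¹
      (by rwa [orderOf_inv]) {y : G | (∃ k : ℕ, orderOf y = p ^ k) ∧ y ≠ 1}
      (by
        rintro k y ⟨⟨j, hj⟩, hy1⟩
        refine ⟨⟨j, ?_⟩, ?_⟩
        · have := orderOf_conj' y k⁻¹
          rw [inv_inv] at this
          rw [this, hj]
        · intro h
          apply hy1
          have : y = k * (k⁻¹ * y * k) * k⁻¹ := by group
          rw [this, h]
          group)
      (by
        rintro y ⟨hy1, hy2⟩
        by_contra hnd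
        exact hy2 (eq_one_of_pElement_of_preg hp hy1 hnd))
    have hz' : ∑ y ∈ (Finset.univ.filter (fun h : G => ∃ k : ℕ, orderOf h = p ^ k)).erase 1,
        ε (y * g) = 0 := by
      rw [← hz]
      refine Finset.sum_congr ?_ fun y _ => by rw [inv_inv]
      ext y
      simp only [Finset.mem_erase, Finset.mem_filter, Finset.mem_univ, true_and,
        Set.mem_ofPred_eq]
      tauto
    rw [hz', add_zero]
  rw [h2, h3, ← card_pairs_eq] at h1
  set Npairs : ℂ := (Nat.card {xy : G × G // (∃ k : ℕ, orderOf xy.1 = p ^ k) ∧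
    ¬ p ∣ orderOf xy.2 ∧ xy.1 * xy.2 = g} : ℂ) with hNp
  have h4 : ε g - Npairs / c = (Npairs - c * ε g) * (-c⁻¹) := by
    field_simp
    ring
  rw [h4]
  exact memLocalIdeal_mul_right h1 (memLocalRing_neg (memLocalRing_inv hcR hcU))

end Cfsg.Agent.Lib.Helper28
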