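import Mathlib
import Cfsg.Agent.Lib.Helper28.BrauerD
import Cfsg.Agent.Lib.Helper28.BlockDefectC
import Cfsg.Agent.Lib.Helper28.BrauerM
import Cfsg.Agent.Lib.Helper4.CharOrtho
import Cfsg.Agent.Lib.Helper4.CentralDefect
import Cfsg.Agent.Lib.Helper4.Monomial
import Cfsg.Agent.Lib.Helper4.CliffordGen
import Cfsg.Agent.Lib.Helper7.ExtDet

set_option autoImplicit false

/-!
# Height zero characters restricted to a defect group (helper28)

A character of height zero in a block `B` with defect group `D` has a linear constituent on `D`.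
Hence, if it lies over the linear character `λ` of a central `p`-subgroup `Z ≤ D`, then `λ` extends
to `D`.
-/

namespace Cfsg.Agent.Lib.Helper28

open Cfsg Cfsg.Agent.Lib.Helper4 Cfsg.Agent.Lib.Helper26
open scoped ComplexConjugate Classical

section Murai

variable {M : Ideal AlgInt}

/-- if `Σ_η [ψ, η] η(1) w_η` is a unit, for algebraic integers `w_η`, then some constituent `η` of
`ψ` has degree prime to `p` -/
theorem exists_pprime_constituent {H : Type*} [Group H] [Fintype H] {p : ℕ}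
    (hM : IsPModular p M) {ψ : H → ℂ} (hψ : IsCharacter H ψ) [Fintype (IrrCharacter H)]
    (w : IrrCharacter H → ℂ) (hw : ∀ η, IsIntegral ℤ (w η))
    (hnot : ¬ MemLocalIdeal M (∑ η : IrrCharacter H,
      classInner ψ (η : H → ℂ) * (η : H → ℂ) 1 * w η)) :
    ∃ η : IrrCharacter H, classInner ψ (η : H → ℂ) ≠ 0 ∧ ¬ p ∣ charDegree (η : H → ℂ) := by
  have hprime : M.IsPrime := hM.2.1.isPrime
  have hMtop : M ≠ ⊤ := hM.2.1.ne_top
  by_contra hcon
  push Not at hcon
  apply hnot
  apply memLocalIdeal_sum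
  intro η _
  by_cases h0 : classInner ψ (η : H → ℂ) = 0
  · rw [h0, zero_mul, zero_mul]
    exact memLocalIdeal_zero hMtop
  · obtain ⟨k, hk⟩ := hcon η h0
    obtain ⟨m, hm⟩ := classInner_isCharacter_nat hψ (isCharacter_of_isIrrCharacter η.2)
    obtain ⟨-, h1, -⟩ := irr_degree_nat η.2
    rw [h1, hk, hm]
    push_cast
    have e : (m : ℂ) * ((p : ℂ) * (k : ℂ)) * w η = (p : ℂ) * ((m : ℂ) * (k : ℂ) * w η) := by ring
    rw [e]
    apply memLocalIdeal_mul_right (memLocalIdeal_natCast_p hM)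
    exact memLocalRing_mul (memLocalRing_mul (memLocalRing_natCast hMtop m)
      (memLocalRing_natCast hMtop k)) (memLocalRing_of_isIntegral hMtop (hw η))

end Murai

section MuraiMain

variable {G : Type*} [Group G] [Fintype G] {M : Ideal AlgInt}

/-- a character of height zero has a linear constituent on a defect group -/
theorem exists_linear_constituent_defectGroup {p : ℕ} [Fact p.Prime] (hM : IsPModular p M)
    {B : Set (IrrCharacter G)} (hB : IsPBlock M B) {D : Subgroup G}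
    (hD : IsDefectGroup p M B D) {χ : IrrCharacter G} (hχ : χ ∈ B)
    (h0 : blockHeight p B (χ : G → ℂ) = 0) :
    ∃ μ : D →* ℂˣ, classInner (fun d : D => (χ : G → ℂ) d)
      (fun d : D => ((μ d : ℂˣ) : ℂ)) ≠ 0 := by
  have hp : p.Prime := Fact.out
  have hprime : M.IsPrime := hM.2.1.isPrime
  have hMtop : M ≠ ⊤ := hM.2.1.ne_top
  have hcardD := card_defectGroup hM hB hD
  obtain ⟨g, hg, P, hDP⟩ := hD
  -- the value at the defect class is a unit
  have hval : ¬ MemLocalIdeal M ((χ : G → ℂ) g) := by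
    apply irr_value_not_memLocalIdeal hM χ g (hg.2.2 χ hχ)
    rw [factorization_eq_sInf_of_height_zero hχ h0, defectClass_index_factorization hM hB hg]
  set C := Subgroup.centralizer ({g} : Set G) with hC
  have hgC : g ∈ C := by
    rw [hC, Subgroup.mem_centralizer_singleton_iff]
  have hDC : D ≤ C := by
    rw [hDP]
    exact Subgroup.map_subtype_le _
  have : Fintype (IrrCharacter C) := Fintype.ofFinite _
  have : Fintype (IrrCharacter D) := Fintype.ofFinite _
  -- step A: a constituent of degree prime to `p` on `C`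
  have hψ : IsCharacter C ((χ : G → ℂ) ∘ C.subtype) :=
    isCharacter_restrict C (isCharacter_of_isIrrCharacter χ.2)
  have hcenter : (⟨g, hgC⟩ : C) ∈ Subgroup.center C := by
    rw [Subgroup.mem_center_iff]
    intro c
    apply Subtype.ext
    show (c : G) * g = g * (c : G)
    have h : (c : G) ∈ Subgroup.centralizer ({g} : Set G) := c.2
    exact Subgroup.mem_centralizer_singleton_iff.mp h
  have hidx1 : (Subgroup.centralizer ({(⟨g, hgC⟩ : C)} : Set C)).index = 1 := by
    have : Subgroup.centralizer ({(⟨g, hgC⟩ : C)} : Set C) = ⊤ := by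
      rw [eq_top_iff]
      intro c _
      rw [Subgroup.mem_centralizer_singleton_iff]
      exact (Subgroup.mem_center_iff.mp hcenter c)
    rw [this, Subgroup.index_top]
  have hsumA : (∑ η : IrrCharacter C, classInner ((χ : G → ℂ) ∘ C.subtype) (η : C → ℂ) *
      (η : C → ℂ) 1 * centralChar (η : C → ℂ) ⟨g, hgC⟩) = (χ : G → ℂ) g := by
    have hexp := Cfsg.Agent.Lib.Helper4.classFunction_expansion ((χ : G → ℂ) ∘ C.subtype)
      (Helper26.isClassFunction_of_isCharacter hψ)
    have h1 := congrFun hexp ⟨g, hgC⟩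
    have h2 : ((χ : G → ℂ) ∘ C.subtype) ⟨g, hgC⟩ = (χ : G → ℂ) g := rfl
    rw [h2] at h1
    rw [h1, Finset.sum_apply]
    refine Finset.sum_congr rfl fun η _ => ?_
    rw [Pi.smul_apply, smul_eq_mul]
    unfold centralChar
    rw [hidx1]
    have hne : (η : C → ℂ) 1 ≠ 0 := irr_one_ne_zero η.2
    push_cast
    field_simp
  obtain ⟨η, hη1, hη2⟩ := exists_pprime_constituent hM hψ
    (fun η : IrrCharacter C => centralChar (η : C → ℂ) ⟨g, hgC⟩)
    (fun η => isIntegral_centralChar η.2 _) (by rw [hsumA]; exact hval)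
  -- step B: a linear constituent on `D`
  have hψ' : IsCharacter D (fun d : D => (η : C → ℂ) ⟨(d : G), hDC d.2⟩) :=
    Cfsg.Agent.Lib.Helper2.isCharacter_comp_hom (isCharacter_of_isIrrCharacter η.2)
      (Subgroup.inclusion hDC)
  have hsumB : (∑ μ : IrrCharacter D,
      classInner (fun d : D => (η : C → ℂ) ⟨(d : G), hDC d.2⟩) (μ : D → ℂ) *
        (μ : D → ℂ) 1 * 1) = (η : C → ℂ) 1 := by
    have hexp := Cfsg.Agent.Lib.Helper4.classFunction_expansion
      (fun d : D => (η : C → ℂ) ⟨(d : G), hDC d.2⟩)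
      (Helper26.isClassFunction_of_isCharacter hψ')
    have h1 := congrFun hexp 1
    have h2 : (η : C → ℂ) 1 = (∑ μ : IrrCharacter D,
        classInner (fun d : D => (η : C → ℂ) ⟨(d : G), hDC d.2⟩) (μ : D → ℂ) • (μ : D → ℂ)) 1 :=
      h1
    rw [h2, Finset.sum_apply]
    refine Finset.sum_congr rfl fun μ _ => ?_
    rw [Pi.smul_apply, smul_eq_mul, mul_one]
  have hη1' : ¬ MemLocalIdeal M ((η : C → ℂ) 1) := by
    obtain ⟨-, h1, -⟩ := irr_degree_nat η.2
    rw [h1]
    exact not_memLocalIdeal_natCast hM ((Nat.Prime.coprime_iff_not_dvd hp).mpr hη2).symm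
  obtain ⟨μ, hμ1, hμ2⟩ := exists_pprime_constituent hM hψ'
    (fun _ : IrrCharacter D => (1 : ℂ)) (fun _ => isIntegral_one) (by rw [hsumB]; exact hη1')
  -- `μ` is linear
  obtain ⟨hμne, hμdeg, hμdvd⟩ := irr_degree_nat μ.2
  rw [hcardD] at hμdvd
  obtain ⟨j, -, hj⟩ := (Nat.dvd_prime_pow hp).mp hμdvd
  have hj0 : j = 0 := by
    by_contra hne
    apply hμ2
    rw [hj]
    exact dvd_pow_self p hne
  rw [hj0, pow_zero] at hj
  obtain ⟨n, ρ, hirr, hρ⟩ := μ.2
  have hn1 : n = 1 := by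
    have h1 : (μ : D → ℂ) 1 = (n : ℂ) := by
      rw [← hρ, Representation.char_one, Module.finrank_fin_fun]
    rw [hμdeg, hj] at h1
    exact_mod_cast h1.symm
  have hfin : Module.finrank ℂ (Fin n → ℂ) = 1 := by
    rw [Module.finrank_fin_fun, hn1]
  obtain ⟨lam, hlam⟩ := Cfsg.Agent.Lib.Helper4.exists_hom_of_finrank_eq_one ρ hfin
  refine ⟨lam, ?_⟩
  have hfun : (fun d : D => ((lam d : ℂˣ) : ℂ)) = (μ : D → ℂ) := by
    funext d
    rw [hlam d, hρ]
  rw [hfun]
  exact classInner_restrict_ne_zero_of_constituent hDC hψ η.2 hη1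
    (isCharacter_of_isIrrCharacter μ.2) hμ1

/-- **Murai**: if a height zero character of `B` lies over the linear character `λ` of the central
subgroup `Z ≤ D`, then `λ` extends to the defect group `D` -/
theorem murai_extension {p : ℕ} [Fact p.Prime] (hM : IsPModular p M)
    {B : Set (IrrCharacter G)} (hB : IsPBlock M B) {D : Subgroup G}
    (hD : IsDefectGroup p M B D) (Z : Subgroup G) (hZc : Z ≤ Subgroup.center G) (hZD : Z ≤ D)
    (lam : ↥Z →* ℂˣ) (χ : IrrCharacter G) (hχ : χ ∈ B)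
    (hover : ∀ z : ↥Z, (χ : G → ℂ) z = (χ : G → ℂ) 1 * (lam z : ℂ))
    (h0 : blockHeight p B (χ : G → ℂ) = 0) :
    ∃ μ : ↥D →* ℂˣ, ∀ z : ↥Z, μ ⟨(z : G), hZD z.2⟩ = lam z := by
  obtain ⟨μ, hμ⟩ := exists_linear_constituent_defectGroup hM hB hD hχ h0
  refine ⟨μ, fun z => ?_⟩
  have hχ1 : (χ : G → ℂ) 1 ≠ 0 := irr_one_ne_zero χ.2
  set S := ∑ d : D, (χ : G → ℂ) d * conj ((μ d : ℂˣ) : ℂ) with hS
  have hS0 : S ≠ 0 := by
    intro h
    apply hμ
    unfold classInner
    rw [← hS, h, mul_zero]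
  set z' : D := ⟨(z : G), hZD z.2⟩ with hz'
  have hre : S = ∑ d : D, (χ : G → ℂ) ((z' * d : D) : G) * conj ((μ (z' * d) : ℂˣ) : ℂ) := by
    rw [hS]
    exact (Equiv.sum_comp (Equiv.mulLeft z')
      (fun d : D => (χ : G → ℂ) d * conj ((μ d : ℂˣ) : ℂ))).symm
  have hterm : ∀ d : D, (χ : G → ℂ) ((z' * d : D) : G) * conj ((μ (z' * d) : ℂˣ) : ℂ) =
      ((lam z : ℂ) * conj ((μ z' : ℂˣ) : ℂ)) * ((χ : G → ℂ) d * conj ((μ d : ℂˣ) : ℂ)) := by
    intro d
    have h1 : (χ : G → ℂ) ((z' * d : D) : G) = (lam z : ℂ) * (χ : G → ℂ) d := by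
      show (χ : G → ℂ) ((z : G) * (d : G)) = _
      rw [char_central_mul_eq χ.2 (hZc z.2) (d : G), hover z]
      field_simp
    rw [h1, map_mul, Units.val_mul, map_mul]
    ring
  rw [Finset.sum_congr rfl (fun d _ => hterm d), ← Finset.mul_sum, ← hS] at hre
  have h2 : (lam z : ℂ) * conj ((μ z' : ℂˣ) : ℂ) = 1 := by
    have h3 : ((lam z : ℂ) * conj ((μ z' : ℂˣ) : ℂ) - 1) * S = 0 := by
      rw [sub_mul, one_mul, ← hre, sub_self]
    rcases mul_eq_zero.mp h3 with h | h
    · exact sub_eq_zero.mp h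
    · exact absurd h hS0
  rw [conj_linChar, map_inv, Units.val_inv_eq_inv_val] at h2
  have hne : ((μ z' : ℂˣ) : ℂ) ≠ 0 := Units.ne_zero _
  apply Units.ext
  field_simp at h2
  exact h2.symm

end MuraiMain

end Cfsg.Agent.Lib.Helper28
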