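import Mathlib
import Cfsg.Prelude.Def_Characters
import Cfsg.Agent.Lib.Helper4.CharOrtho
import Cfsg.Agent.Lib.Helper26.CharBasic
import Cfsg.Agent.Lib.Helper26.CharInt
import Cfsg.Agent.Lib.Helper26.GenChar

set_option autoImplicit false

/-!
# A generalized character of norm one with positive degree is an irreducible character
-/

namespace Cfsg.Agent.Lib.Helper28

open Cfsg Cfsg.Agent.Lib.Helper26
open scoped ComplexConjugate

variable {G : Type*} [Group G] [Fintype G]

/-- a generalized character of norm one is plus or minus an irreducible character -/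
theorem genChar_norm_one {X : G → ℂ} (hX : IsGeneralizedCharacter G X)
    (hnorm : classInner X X = 1) :
    ∃ μ : IrrCharacter G, X = (μ : G → ℂ) ∨ X = -(μ : G → ℂ) := by
  classical
  have : Fintype (IrrCharacter G) := Fintype.ofFinite _
  obtain ⟨c, hc⟩ := exists_int_coeff hX
  have hP := genChar_norm hX c hc
  rw [hnorm] at hP
  have hP' : ∑ μ : IrrCharacter G, (c μ) ^ 2 = 1 := by exact_mod_cast hP.symm
  have hex1 : ∃ μ₁, c μ₁ ≠ 0 := by
    by_contra hcon
    push_neg at hcon
    have : ∑ μ : IrrCharacter G, (c μ) ^ 2 = 0 := by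
      apply Finset.sum_eq_zero
      intro μ _
      rw [hcon μ]; rfl
    omega
  obtain ⟨μ₁, hμ₁⟩ := hex1
  have hsplit1 := Finset.add_sum_erase Finset.univ (fun μ => (c μ) ^ 2) (Finset.mem_univ μ₁)
  rw [hP'] at hsplit1
  have hrest_nonneg : 0 ≤ ∑ μ ∈ Finset.univ.erase μ₁, (c μ) ^ 2 :=
    Finset.sum_nonneg (fun μ _ => sq_nonneg (c μ))
  have hpos : 1 ≤ (c μ₁) ^ 2 := by
    have : 0 < (c μ₁) ^ 2 := by positivity
    omega
  have hc1sq : (c μ₁) ^ 2 = 1 := by linarith
  have hrest : ∑ μ ∈ Finset.univ.erase μ₁, (c μ) ^ 2 = 0 := by linarith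
  have hzero : ∀ μ, μ ≠ μ₁ → c μ = 0 := by
    intro μ hμ
    have h1 := (Finset.sum_eq_zero_iff_of_nonneg (fun μ _ => sq_nonneg (c μ))).mp hrest μ
      (Finset.mem_erase.mpr ⟨hμ, Finset.mem_univ _⟩)
    exact pow_eq_zero_iff (two_ne_zero) |>.mp h1
  have hexp := genChar_expansion hX c hc
  rw [Finset.sum_eq_single μ₁ (fun μ _ hμ => by rw [hzero μ hμ]; simp)
    (fun h => absurd (Finset.mem_univ _) h)] at hexp
  refine ⟨μ₁, ?_⟩
  have hc1 : c μ₁ = 1 ∨ c μ₁ = -1 := by
    have : (c μ₁ - 1) * (c μ₁ + 1) = 0 := by ring_nf; rw [hc1sq]; ring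
    rcases mul_eq_zero.mp this with h | h
    · left; omega
    · right; omega
  rcases hc1 with h | h
  · left; rw [hexp, h]; simp
  · right; rw [hexp, h]; simp

/-- a generalized character of norm one with positive value at `1` is an irreducible
character -/
theorem isIrrCharacter_of_norm_one {X : G → ℂ} (hX : IsGeneralizedCharacter G X)
    (hnorm : classInner X X = 1) (h1 : 0 < (X 1).re) : IsIrrCharacter G X := by
  obtain ⟨μ, h | h⟩ := genChar_norm_one hX hnorm
  · rw [h]; exact μ.2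
  · exfalso
    obtain ⟨n, hn, hn'⟩ := irr_degree μ.2
    rw [h, Pi.neg_apply, hn'] at h1
    simp at h1
    linarith [(Nat.cast_nonneg n : (0:ℝ) ≤ n)]

end Cfsg.Agent.Lib.Helper28
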