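import Mathlib
import Cfsg.Agent.Lib.Helper28.BrauerS
import Cfsg.Agent.Lib.Helper28.BlockDefectA
import Cfsg.Agent.Lib.Helper28.RealOddA
import Cfsg.Agent.Lib.Helper4.BrauerHom
import Cfsg.Agent.Lib.Helper4.PrincipalNormal
import Cfsg.Agent.Lib.Helper2.CharConj
import Cfsg.Agent.Lib.Helper26.Clifford

set_option autoImplicit false

/-!
# Characters of a block lying over a character of a normal subgroup (helper28)

The idempotent of the set of irreducible characters of `G` lying over `θ ∈ Irr(N)` is supported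
on `N`; hence the idempotent of `B ∩ Irr(G | θ)` vanishes at the `p`-elements outside `N`.
-/

namespace Cfsg.Agent.Lib.Helper28

open Cfsg Cfsg.Agent.Lib.Helper4 Cfsg.Agent.Lib.Helper26
open scoped ComplexConjugate Classical

section Over

variable {G : Type*} [Group G] [Fintype G] {M : Ideal AlgInt} (N : Subgroup G) [hN : N.Normal]
  [Fintype N]

/-- the irreducible characters of `G` lying over `θ` -/
def OverSet (θ : IrrCharacter N) : Set (IrrCharacter G) :=
  {χ | classInner (fun n : N => (χ : G → ℂ) n) (θ : N → ℂ) ≠ 0}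

/-- the idempotent of the characters over `θ` is supported on `N` -/
theorem blockCoeff_overSet_eq_zero (θ : IrrCharacter N) {g : G} (hg : g ∉ N) :
    blockCoeff (OverSet N θ) g = 0 := by
  have : Fintype (IrrCharacter G) := Fintype.ofFinite _
  set Θ : N → ℂ := ∑ ψ ∈ Finset.univ.image (conjFunN N (θ : N → ℂ)), ψ with hΘ
  have hterm : ∀ χ : IrrCharacter G,
      (if χ ∈ OverSet N θ then (χ : G → ℂ) 1 * conj ((χ : G → ℂ) g) else 0) =
        Θ 1 * (classInner ((χ : G → ℂ) ∘ N.subtype) (θ : N → ℂ) * conj ((χ : G → ℂ) g)) := by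
    intro χ
    by_cases h : χ ∈ OverSet N θ
    · rw [if_pos h]
      have hc := clifford_restrict N χ.2 θ.2 h
      have h1 := congrFun hc 1
      rw [Pi.smul_apply, smul_eq_mul] at h1
      have h2 : ((χ : G → ℂ) ∘ N.subtype) 1 = (χ : G → ℂ) 1 := by
        show (χ : G → ℂ) ((1 : N) : G) = _
        rw [OneMemClass.coe_one]
      rw [h2] at h1
      rw [h1]
      ring
    · rw [if_neg h]
      have h0 : classInner ((χ : G → ℂ) ∘ N.subtype) (θ : N → ℂ) = 0 := not_not.mp h
      rw [h0]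
      ring
  rw [blockCoeff_eq_sum]
  simp_rw [hterm]
  rw [← Finset.mul_sum]
  have hcf : IsClassFunction G (indFun N (θ : N → ℂ)) := isClassFunction_indFun N _
  have hexp := Cfsg.Agent.Lib.Helper4.classFunction_expansion (indFun N (θ : N → ℂ)) hcf
  have hval := congrFun hexp g
  rw [Cfsg.Agent.Lib.Helper2.indFun_of_not_mem_of_normal N (θ : N → ℂ) g hg] at hval
  have hsum : ∑ χ : IrrCharacter G,
      classInner ((χ : G → ℂ) ∘ N.subtype) (θ : N → ℂ) * conj ((χ : G → ℂ) g) = 0 := by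
    have h3 := congrArg conj hval
    rw [map_zero] at h3
    rw [h3]
    simp only [Finset.sum_apply, Pi.smul_apply, smul_eq_mul, map_sum, map_mul]
    refine Finset.sum_congr rfl fun χ _ => ?_
    rw [classInner_indFun_left' N _ _ (Helper26.isClassFunction_of_isIrrCharacter χ.2),
      classInner_conj_symm]
  rw [hsum, mul_zero, mul_zero]

/-- the idempotent of `B ∩ Irr(G | θ)` vanishes at the `p`-elements outside `N` -/
theorem blockCoeff_inter_overSet_eq_zero {p : ℕ} (hM : IsPModular p M)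
    {B : Set (IrrCharacter G)} (hB : IsPBlock M B) (θ : IrrCharacter N) {g : G} (k : ℕ)
    (hgk : g ^ p ^ k = 1) (hg : g ∉ N) :
    blockCoeff (B ∩ OverSet N θ) g = 0 := by
  have hprime : M.IsPrime := hM.2.1.isPrime
  rw [← conv_blockCoeff_inter]
  show ∑ x, blockCoeff B x * blockCoeff (OverSet N θ) (x⁻¹ * g) = 0
  apply Finset.sum_eq_zero
  intro x _
  by_cases hx : p ∣ orderOf x
  · rw [Helper28.blockCoeff_eq_zero_of_pSingular hM B (fun y => osima hB y) x hx, zero_mul]
  · have hnot : x⁻¹ * g ∉ N := by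
      intro hmem
      apply hg
      have h1 : (QuotientGroup.mk' N) x = (QuotientGroup.mk' N) g := by
        rw [QuotientGroup.mk'_apply, QuotientGroup.mk'_apply]
        exact QuotientGroup.eq.mpr hmem
      have h2 : orderOf ((QuotientGroup.mk' N) g) ∣ p ^ k :=
        (orderOf_map_dvd _ g).trans (orderOf_dvd_of_pow_eq_one hgk)
      have h3 : orderOf ((QuotientGroup.mk' N) g) ∣ orderOf x := by
        rw [← h1]
        exact orderOf_map_dvd _ x
      have hcop : Nat.Coprime (p ^ k) (orderOf x) :=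
        Nat.Coprime.pow_left _ ((Nat.Prime.coprime_iff_not_dvd hM.1).mpr hx)
      have h4 := Nat.dvd_gcd h2 h3
      rw [Nat.Coprime.gcd_eq_one hcop, Nat.dvd_one, orderOf_eq_one_iff] at h4
      exact (QuotientGroup.eq_one_iff g).mp h4
    rw [blockCoeff_overSet_eq_zero N θ hnot, mul_zero]

/-- the sum of the squares of the degrees of the members of `B` over `θ` is divisible by `p` when
`N` does not contain all `p`-elements -/
theorem dvd_sum_sq_over {p : ℕ} [Fact p.Prime] (hM : IsPModular p M)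
    {B : Set (IrrCharacter G)} (hB : IsPBlock M B) (θ : IrrCharacter N) {g : G} (k : ℕ)
    (hgk : g ^ p ^ k = 1) (hg : g ∉ N) [Fintype (IrrCharacter G)] :
    p ∣ ∑ χ ∈ Finset.univ.filter (fun χ : IrrCharacter G => χ ∈ B ∧
      classInner (fun n : N => (χ : G → ℂ) n) (θ : N → ℂ) ≠ 0),
        (charDegree (χ : G → ℂ)) ^ 2 := by
  have hp : p.Prime := Fact.out
  have hprime : M.IsPrime := hM.2.1.isPrime
  have hMtop : M ≠ ⊤ := hM.2.1.ne_top
  have h0 := blockCoeff_inter_overSet_eq_zero N hM hB θ k hgk hg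
  rw [blockCoeff_eq_sum] at h0
  have hne : (Nat.card G : ℂ)⁻¹ ≠ 0 := by
    apply inv_ne_zero
    exact_mod_cast Nat.card_pos.ne'
  have hsum00 := (mul_eq_zero.mp h0).resolve_left hne
  have hsum0 : (∑ χ : IrrCharacter G, if χ ∈ B ∩ OverSet N θ then
      (χ : G → ℂ) 1 * conj ((χ : G → ℂ) g) else 0) = 0 := by
    convert hsum00
  set S := ∑ χ ∈ Finset.univ.filter (fun χ : IrrCharacter G => χ ∈ B ∧
      classInner (fun n : N => (χ : G → ℂ) n) (θ : N → ℂ) ≠ 0),
        (charDegree (χ : G → ℂ)) ^ 2 with hS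
  by_contra hnd
  have hcop : Nat.Coprime S p := ((Nat.Prime.coprime_iff_not_dvd hp).mpr hnd).symm
  apply not_memLocalIdeal_natCast hM hcop
  have hScast : (S : ℂ) = ∑ χ : IrrCharacter G, if χ ∈ B ∩ OverSet N θ then
      (χ : G → ℂ) 1 * (χ : G → ℂ) 1 else 0 := by
    rw [hS, Finset.sum_filter]
    push_cast
    refine Finset.sum_congr rfl fun χ _ => ?_
    by_cases h : χ ∈ B ∧ classInner (fun n : N => (χ : G → ℂ) n) (θ : N → ℂ) ≠ 0
    · rw [if_pos h, if_pos (show χ ∈ B ∩ OverSet N θ from h),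
        Cfsg.Agent.Lib.Helper4.irr_one_eq_charDegree]
      ring
    · rw [if_neg h, if_neg (show ¬ χ ∈ B ∩ OverSet N θ from h)]
  have hdiff : (S : ℂ) = ∑ χ : IrrCharacter G, if χ ∈ B ∩ OverSet N θ then
      (χ : G → ℂ) 1 * ((χ : G → ℂ) 1 - conj ((χ : G → ℂ) g)) else 0 := by
    have e1 : (S : ℂ) = (∑ χ : IrrCharacter G, if χ ∈ B ∩ OverSet N θ then
        (χ : G → ℂ) 1 * (χ : G → ℂ) 1 else 0) - (∑ χ : IrrCharacter G,
          if χ ∈ B ∩ OverSet N θ then (χ : G → ℂ) 1 * conj ((χ : G → ℂ) g) else 0) := by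
      rw [hsum0, sub_zero, hScast]
    rw [e1, ← Finset.sum_sub_distrib]
    refine Finset.sum_congr rfl fun χ _ => ?_
    by_cases h : χ ∈ B ∩ OverSet N θ
    · rw [if_pos h, if_pos h, if_pos h]
      ring
    · rw [if_neg h, if_neg h, if_neg h, sub_zero]
  rw [hdiff]
  apply memLocalIdeal_sum
  intro χ _
  by_cases h : χ ∈ B ∩ OverSet N θ
  · rw [if_pos h]
    apply memLocalIdeal_mul_left
    · rw [Cfsg.Agent.Lib.Helper4.irr_one_eq_charDegree]
      exact memLocalRing_natCast hMtop _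
    · have h1 := irr_value_sub_memLocalIdeal hM χ g⁻¹ 1 (Commute.one_right _) k
        (by rw [inv_pow, hgk, inv_one]) (by rw [orderOf_one]; exact hp.one_lt.ne' ∘ Nat.dvd_one.mp)
      rw [mul_one, irr_inv_eq_conj] at h1
      exact h1
  · rw [if_neg h]
    exact memLocalIdeal_zero hMtop

/-- the number of members of `B` of degree prime to `p` lying over `θ`, when `N` does not contain
a Sylow `p`-subgroup -/
theorem card_over_pprime {p : ℕ} [Fact p.Prime] (P : Sylow p G) (hM : IsPModular p M)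
    {B : Set (IrrCharacter G)} (hB : IsPBlock M B) (hPN : ¬ (P : Subgroup G) ≤ N)
    (θ : IrrCharacter N) :
    (Nat.card {χ : IrrCharacter G // χ ∈ B ∧ ¬ p ∣ charDegree (χ : G → ℂ) ∧
        classInner (fun n : N => (χ : G → ℂ) n) (θ : N → ℂ) ≠ 0} = 0 ∨
      2 ≤ Nat.card {χ : IrrCharacter G // χ ∈ B ∧ ¬ p ∣ charDegree (χ : G → ℂ) ∧
        classInner (fun n : N => (χ : G → ℂ) n) (θ : N → ℂ) ≠ 0}) ∧
    (p ≤ 3 → p ∣ Nat.card {χ : IrrCharacter G // χ ∈ B ∧ ¬ p ∣ charDegree (χ : G → ℂ) ∧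
        classInner (fun n : N => (χ : G → ℂ) n) (θ : N → ℂ) ≠ 0}) := by
  have hp : p.Prime := Fact.out
  have : Fintype (IrrCharacter G) := Fintype.ofFinite _
  obtain ⟨g, hgP, hgN⟩ := SetLike.not_le_iff_exists.mp hPN
  obtain ⟨k, hk⟩ := P.2 ⟨g, hgP⟩
  have hgk : g ^ p ^ k = 1 := by
    have := congrArg Subtype.val hk
    simpa using this
  have hdvd := dvd_sum_sq_over N hM hB θ k hgk hgN
  set d : IrrCharacter G → ℕ := fun χ => charDegree (χ : G → ℂ) with hd
  set T' := Finset.univ.filter (fun χ : IrrCharacter G => χ ∈ B ∧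
      classInner (fun n : N => (χ : G → ℂ) n) (θ : N → ℂ) ≠ 0) with hT'
  set T := Finset.univ.filter (fun χ : IrrCharacter G => χ ∈ B ∧ ¬ p ∣ charDegree (χ : G → ℂ) ∧
      classInner (fun n : N => (χ : G → ℂ) n) (θ : N → ℂ) ≠ 0) with hT
  have hcard : Nat.card {χ : IrrCharacter G // χ ∈ B ∧ ¬ p ∣ charDegree (χ : G → ℂ) ∧
        classInner (fun n : N => (χ : G → ℂ) n) (θ : N → ℂ) ≠ 0} = T.card := by
    rw [Nat.card_eq_fintype_card, Fintype.card_subtype]
  rw [hcard]
  have hTT' : T = T'.filter (fun χ => ¬ p ∣ d χ) := by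
    ext χ
    simp only [hT, hT', Finset.mem_filter, Finset.mem_univ, true_and, hd]
    tauto
  have hz : (∑ χ ∈ T, ((d χ : ℕ) : ZMod p) ^ 2) = 0 := by
    have h1 : ((∑ χ ∈ T', (d χ) ^ 2 : ℕ) : ZMod p) = 0 :=
      (ZMod.natCast_eq_zero_iff _ _).mpr hdvd
    push_cast at h1
    rw [← Finset.sum_filter_add_sum_filter_not T' (fun χ => ¬ p ∣ d χ), ← hTT'] at h1
    have h2 : ∑ χ ∈ T'.filter (fun χ => ¬ ¬ p ∣ d χ), ((d χ : ℕ) : ZMod p) ^ 2 = 0 := by
      apply Finset.sum_eq_zero
      intro χ hχ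
      rw [Finset.mem_filter] at hχ
      have h3 : p ∣ d χ := not_not.mp hχ.2
      rw [(ZMod.natCast_eq_zero_iff _ _).mpr h3]
      ring
    rw [h2, add_zero] at h1
    exact h1
  have hmemT : ∀ χ ∈ T, ((d χ : ℕ) : ZMod p) ≠ 0 := by
    intro χ hχ h0
    rw [hT, Finset.mem_filter] at hχ
    exact hχ.2.2.1 ((ZMod.natCast_eq_zero_iff _ _).mp h0)
  constructor
  · by_cases h1 : T.card = 1
    · exfalso
      obtain ⟨χ₀, hχ₀⟩ := Finset.card_eq_one.mp h1
      rw [hχ₀, Finset.sum_singleton] at hz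
      have h2 : ((d χ₀ : ℕ) : ZMod p) = 0 := by
        rcases pow_eq_zero_iff (two_ne_zero) |>.mp hz with h
        exact h
      exact hmemT χ₀ (by rw [hχ₀]; exact Finset.mem_singleton_self _) h2
    · omega
  · intro hp3
    have hsq : ∀ χ ∈ T, ((d χ : ℕ) : ZMod p) ^ 2 = 1 := by
      intro χ hχ
      have h1 := ZMod.pow_card_sub_one_eq_one (hmemT χ hχ)
      have hp2 : p = 2 ∨ p = 3 := by
        have := hp.two_le
        omega
      rcases hp2 with h | h
      · have h2 : p - 1 = 1 := by omega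
        rw [h2, pow_one] at h1
        rw [h1, one_pow]
      · have h2 : p - 1 = 2 := by omega
        rw [h2] at h1
        exact h1
    rw [Finset.sum_congr rfl hsq, Finset.sum_const, nsmul_eq_mul, mul_one] at hz
    exact (ZMod.natCast_eq_zero_iff _ _).mp hz

end Over

end Cfsg.Agent.Lib.Helper28
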