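import Mathlib
import Cfsg.Prelude.Def_Characters
import Cfsg.Agent.Lib.Helper7.RestrictIrr
import Cfsg.Agent.Lib.Helper7.CliffordCorr
import Cfsg.Agent.Lib.Helper26.TIInd
import Cfsg.Agent.S0169
import Cfsg.Agent.S0854
import Cfsg.Agent.S0900

set_option autoImplicit false

/-!
# Degree ratios over normal subgroups of `p`-power index are powers of `p` (helper28)
-/

namespace Cfsg.Agent.Lib.Helper28

open Cfsg Cfsg.Agent.Lib.Helper26 Cfsg.Agent.Lib.Helper2 Cfsg.Agent.Lib.Helper7
open scoped ComplexConjugate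

/-- two irreducible characters with nonzero inner product are equal -/
theorem eq_of_classInner_ne_zero {G : Type*} [Group G] [Fintype G] {α β : G → ℂ}
    (hα : IsIrrCharacter G α) (hβ : IsIrrCharacter G β) (h : classInner α β ≠ 0) : α = β := by
  classical
  rw [classInner_irr hα hβ] at h
  by_contra hne
  rw [if_neg hne] at h
  exact h rfl

/-- over a normal subgroup of prime index `p` the degree is multiplied by `1` or `p` -/
theorem prime_index_degree {G : Type*} [Group G] [Fintype G] (M : Subgroup G) [hM : M.Normal]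
    [Fintype M] (hp : M.index.Prime) (χ : G → ℂ) (hχ : IsIrrCharacter G χ) (θ : M → ℂ)
    (hθ : IsIrrCharacter M θ) (hcon : classInner (fun m : M => χ m) θ ≠ 0) :
    χ 1 = θ 1 ∨ χ 1 = (M.index : ℂ) * θ 1 := by
  classical
  by_cases hinv : ∀ (g : G) (m : M), θ ⟨g * m * g⁻¹, hM.conj_mem (m : G) m.2 g⟩ = θ m
  · left
    have := restrict_prime_index M hp θ hθ hinv χ hχ hcon 1
    rwa [Subgroup.coe_one] at this
  · right
    have hθcf := isClassFunction_of_isCharacter (isCharacter_of_isIrrCharacter hθ)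
    have hT := Cfsg.Agent.S0169.mem_inertia M θ
    have hMT : M ≤ Cfsg.Agent.S0169.inertia M θ := Cfsg.Agent.S0169.le_inertia M θ hθcf
    haveI : Fintype (Cfsg.Agent.S0169.inertia M θ) := Fintype.ofFinite _
    obtain ⟨ξ, hξ, hξind, hξcon⟩ :=
      Cfsg.Agent.S0854.result M θ hθ (Cfsg.Agent.S0169.inertia M θ) hT hMT χ hχ hcon
    have hTne : Cfsg.Agent.S0169.inertia M θ ≠ ⊤ := by
      intro htop
      apply hinv
      intro x
      exact (hT x).mp (by rw [htop]; exact Subgroup.mem_top x)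
    have hrel : M.relIndex (Cfsg.Agent.S0169.inertia M θ) *
        (Cfsg.Agent.S0169.inertia M θ).index = M.index := Subgroup.relIndex_mul_index hMT
    have hTidx : (Cfsg.Agent.S0169.inertia M θ).index = M.index := by
      have hdvd : (Cfsg.Agent.S0169.inertia M θ).index ∣ M.index := ⟨_, by rw [← hrel]; ring⟩
      rcases (Nat.dvd_prime hp).mp hdvd with h | h
      · exact absurd (Subgroup.index_eq_one.mp h) hTne
      · exact h
    have hrel1 : M.relIndex (Cfsg.Agent.S0169.inertia M θ) = 1 := by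
      rw [hTidx] at hrel
      exact Nat.eq_of_mul_eq_mul_right hp.pos (by rw [hrel, one_mul])
    have hTM : Cfsg.Agent.S0169.inertia M θ ≤ M := Subgroup.relIndex_eq_one.mp hrel1
    -- `ξ` restricted to `M` is `θ`
    let e : M ≃* Cfsg.Agent.S0169.inertia M θ :=
      { toFun := fun m => ⟨m, hMT m.2⟩
        invFun := fun t => ⟨t, hTM t.2⟩
        left_inv := fun _ => rfl
        right_inv := fun _ => rfl
        map_mul' := fun _ _ => rfl }
    have hξM : IsIrrCharacter M (ξ ∘ e) := isIrrCharacter_comp_mulEquiv hξ e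
    have hne : classInner (ξ ∘ e) θ ≠ 0 := by
      have : (ξ ∘ e) = fun n : M => ξ ⟨(n : G), hMT n.2⟩ := rfl
      rw [this, hξcon]
      exact hcon
    have heq := eq_of_classInner_ne_zero hξM hθ hne
    have hξ1 : ξ 1 = θ 1 := by
      have h9 := congrFun heq 1
      rw [Function.comp_apply, map_one] at h9
      exact h9
    rw [← hξind, Cfsg.Agent.Lib.Helper26.indFun_one, hξ1, ← hTidx]
    have hT0 : (Nat.card (Cfsg.Agent.S0169.inertia M θ) : ℂ) ≠ 0 :=
      Nat.cast_ne_zero.mpr Nat.card_pos.ne'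
    have h6 : (Fintype.card G : ℂ) = ((Cfsg.Agent.S0169.inertia M θ).index : ℂ) *
        (Nat.card (Cfsg.Agent.S0169.inertia M θ) : ℂ) := by
      rw [← Nat.card_eq_fintype_card, ← (Cfsg.Agent.S0169.inertia M θ).index_mul_card]
      push_cast; ring
    rw [h6]
    field_simp

section
universe u

theorem ppower_ratio_aux (p : ℕ) (hp : p.Prime) : ∀ (k : ℕ) (G : Type u) [Group G]
    [Fintype G] (N : Subgroup G) [hN : N.Normal] [Fintype N], N.index = p ^ k → ∀ χ : G → ℂ,
    IsIrrCharacter G χ → ∀ ϑ : N → ℂ, IsIrrCharacter N ϑ →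
    classInner (fun n : N => χ n) ϑ ≠ 0 → ∃ j : ℕ, χ 1 = ((p ^ j : ℕ) : ℂ) * ϑ 1 := by
  intro k
  induction k with
  | zero =>
    intro G _ _ N hN _ hidx χ hχ ϑ hϑ hcon
    rw [pow_zero, Subgroup.index_eq_one] at hidx
    have hmem : ∀ g : G, g ∈ N := fun g => by rw [hidx]; exact Subgroup.mem_top g
    let e : N ≃* G :=
      { toFun := fun n => n
        invFun := fun g => ⟨g, hmem g⟩
        left_inv := fun _ => rfl
        right_inv := fun _ => rfl
        map_mul' := fun _ _ => rfl }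
    have h1 : IsIrrCharacter N (χ ∘ e) := isIrrCharacter_comp_mulEquiv hχ e
    have heq := eq_of_classInner_ne_zero h1 hϑ hcon
    refine ⟨0, ?_⟩
    rw [← heq]
    show χ 1 = ((p ^ 0 : ℕ) : ℂ) * χ (e 1)
    rw [map_one]
    simp
  | succ k ih =>
    intro G _ _ N hN _ hidx χ hχ ϑ hϑ hcon
    classical
    haveI : Fact p.Prime := ⟨hp⟩
    have htop : N ≠ ⊤ := by
      intro h
      rw [h, Subgroup.index_top] at hidx
      have : p ∣ 1 := by rw [hidx]; exact dvd_pow_self p (Nat.succ_ne_zero k)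
      exact hp.one_lt.ne' (Nat.dvd_one.mp this)
    have hsolv : Group.IsSolvable (G ⧸ N) := by
      have hQ : IsPGroup p (G ⧸ N) := IsPGroup.of_card (n := k + 1) (by
        rw [← Subgroup.index_eq_card]; exact hidx)
      haveI := hQ.isNilpotent
      infer_instance
    obtain ⟨M, hMn, hNM, hMp⟩ := exists_normal_prime_index N htop hsolv
    haveI := hMn
    haveI : Fintype M := Fintype.ofFinite _
    haveI : Fintype (N.subgroupOf M) := Fintype.ofFinite _
    haveI : Fintype (IrrCharacter M) := Fintype.ofFinite _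
    haveI hN'n : (N.subgroupOf M).Normal := Subgroup.normal_subgroupOf
    have hrel : (N.subgroupOf M).index * M.index = N.index :=
      Subgroup.relIndex_mul_index hNM
    have hMidx : M.index = p := by
      have h1 : M.index ∣ p ^ (k + 1) := by rw [← hidx, ← hrel]; exact dvd_mul_left _ _
      exact (Nat.prime_dvd_prime_iff_eq hMp hp).mp (hMp.dvd_of_dvd_pow h1)
    have hN'idx : (N.subgroupOf M).index = p ^ k := by
      rw [hidx, hMidx, pow_succ] at hrel
      exact Nat.eq_of_mul_eq_mul_right hp.pos hrel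
    have hχc := isCharacter_of_isIrrCharacter hχ
    rw [classInner_restrict_trans N M hNM ϑ χ hχc] at hcon
    obtain ⟨ν, -, hν⟩ := Finset.exists_ne_zero_of_sum_ne_zero hcon
    have hν1 : classInner (fun t : M => χ t) (ν : M → ℂ) ≠ 0 := left_ne_zero_of_mul hν
    have hν2 : classInner (fun n : N => (ν : M → ℂ) ⟨(n : G), hNM n.2⟩) ϑ ≠ 0 :=
      right_ne_zero_of_mul hν
    -- induction hypothesis for `ν` over `ϑ'`
    have hϑ' : IsIrrCharacter (N.subgroupOf M)
        (fun x : N.subgroupOf M => ϑ ⟨((x : M) : G), Subgroup.mem_subgroupOf.mp x.2⟩) :=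
      isIrrCharacter_comp_mulEquiv hϑ (Subgroup.subgroupOfEquivOfLe hNM)
    have hcon' : classInner (fun x : N.subgroupOf M => (ν : M → ℂ) x)
        (fun x : N.subgroupOf M => ϑ ⟨((x : M) : G), Subgroup.mem_subgroupOf.mp x.2⟩) ≠ 0 := by
      rw [← classInner_conj_symm, classInner_subgroupOf N M hNM ϑ (ν : M → ℂ),
        classInner_conj_symm]
      exact hν2
    obtain ⟨j, hj⟩ := ih M (N.subgroupOf M) hN'idx (ν : M → ℂ) ν.2 _ hϑ' hcon'
    have hj' : (ν : M → ℂ) 1 = ((p ^ j : ℕ) : ℂ) * ϑ 1 := by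
      rw [hj]
      rfl
    rcases prime_index_degree M hMp χ hχ (ν : M → ℂ) ν.2 hν1 with h | h
    · exact ⟨j, by rw [h, hj']⟩
    · refine ⟨j + 1, ?_⟩
      rw [h, hj', hMidx]
      push_cast
      ring

/-- if `N ⊴ G` has `p`-power index, the degree ratio `χ(1)/ϑ(1)` is a power of `p` -/
theorem ppower_ratio {G : Type u} [Group G] [Fintype G] (p : ℕ) (hp : p.Prime)
    (N : Subgroup G) [hN : N.Normal] [Fintype N] (hidx : ∃ k : ℕ, N.index = p ^ k) (χ : G → ℂ)
    (hχ : IsIrrCharacter G χ) (ϑ : N → ℂ) (hϑ : IsIrrCharacter N ϑ)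
    (hcon : classInner (fun n : N => χ n) ϑ ≠ 0) : ∃ j : ℕ, χ 1 = ((p ^ j : ℕ) : ℂ) * ϑ 1 := by
  obtain ⟨k, hk⟩ := hidx
  exact ppower_ratio_aux p hp k G N hk χ hχ ϑ hϑ hcon

/-- an irreducible character lying over an invariant `ϑ` with multiplicity prime to `p`
extends `ϑ`, when the index is a power of `p` -/
theorem extends_of_not_dvd {G : Type u} [Group G] [Fintype G] (p : ℕ) (hp : p.Prime)
    (N : Subgroup G) [hN : N.Normal] [Fintype N] (hidx : ∃ k : ℕ, N.index = p ^ k) (χ : G → ℂ)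
    (hχ : IsIrrCharacter G χ) (ϑ : N → ℂ) (hϑ : IsIrrCharacter N ϑ)
    (hinv : ∀ (g : G) (n : N), ϑ ⟨g * n * g⁻¹, hN.conj_mem (n : G) n.2 g⟩ = ϑ n)
    (e : ℕ) (he : classInner (fun n : N => χ n) ϑ = e) (hpe : ¬ p ∣ e) :
    ∀ n : N, χ n = ϑ n := by
  classical
  have hcon : classInner (fun n : N => χ n) ϑ ≠ 0 := by
    rw [he]
    intro h0
    have : e = 0 := by exact_mod_cast h0
    exact hpe (this ▸ dvd_zero p)
  obtain ⟨j, hj⟩ := ppower_ratio p hp N hidx χ hχ ϑ hϑ hcon
  obtain ⟨e', he', hres⟩ := Cfsg.Agent.S0900.clifford_inv N χ hχ ϑ hϑ hcon hinv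
  -- `e' = e`
  have hee : (e' : ℂ) = e := by
    rw [← he, hres, classInner_smul_left, classInner_irr hϑ hϑ, if_pos rfl, mul_one]
  obtain ⟨d, hd, hd1⟩ := irr_degree hϑ
  have hd0 : (d : ℂ) ≠ 0 := by exact_mod_cast hd.ne'
  have h1 := congrFun hres 1
  simp only [Pi.smul_apply, smul_eq_mul, Subgroup.coe_one] at h1
  rw [hj, hd1, hee] at h1
  have h2 : ((p ^ j : ℕ) : ℂ) = e := mul_right_cancel₀ hd0 h1
  have h3 : p ^ j = e := by exact_mod_cast h2
  have hj0 : j = 0 := by
    by_contra hne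
    exact hpe (h3 ▸ dvd_pow_self p hne)
  have he1 : (e : ℂ) = 1 := by rw [← h3, hj0]; simp
  intro n
  have := congrFun hres n
  simp only [Pi.smul_apply, smul_eq_mul] at this
  rw [this, hee, he1, one_mul]

end

end Cfsg.Agent.Lib.Helper28
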