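import Mathlib
import Cfsg.Prelude.Def_Blocks
import Cfsg.Agent.Lib.Helper28.LocalIdeal
import Cfsg.Agent.Lib.Helper28.Schur
import Cfsg.Agent.Lib.Helper24.LinBridge
import Cfsg.Agent.Lib.Helper26.CharInt
import Cfsg.Agent.Lib.Helper26.IndChar
import Cfsg.Agent.Lib.Helper4.CharOrtho
import Cfsg.Agent.Lib.Helper4.RepEigen

set_option autoImplicit false

/-!
# Character values are congruent modulo `M` at an element and at its `p`-regular part (helper28)
-/

namespace Cfsg.Agent.Lib.Helper28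

open Cfsg Cfsg.Agent.Lib.Helper26 Cfsg.Agent.Lib.Helper4
open scoped ComplexConjugate

variable {G : Type*} [Group G] [Fintype G]

theorem char_sub_memLocalIdeal {p : ℕ} {M : Ideal AlgInt} (hM : IsPModular p M) {χ : G → ℂ}
    (hχ : IsCharacter G χ) (a r : G) (hcomm : Commute a r) {j : ℕ} (ha : orderOf a = p ^ j) :
    MemLocalIdeal M (χ (a * r) - χ r) := by
  classical
  have hprime : M.IsPrime := hM.2.1.isPrime
  let C : Subgroup G := Subgroup.closure {a, r}
  have haC : a ∈ C := Subgroup.subset_closure (by simp)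
  have hrC : r ∈ C := Subgroup.subset_closure (by simp)
  have hCcomm : ∀ g h : C, g * h = h * g := by
    have hk : ∀ x ∈ ({a, r} : Set G), ∀ y ∈ ({a, r} : Set G), x * y = y * x := by
      intro x hx y hy
      simp only [Set.mem_insert_iff, Set.mem_singleton_iff] at hx hy
      rcases hx with rfl | rfl <;> rcases hy with rfl | rfl
      · rfl
      · exact hcomm.eq
      · exact hcomm.eq.symm
      · rfl
    intro g h
    letI := Subgroup.closureCommGroupOfComm hk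
    exact mul_comm g h
  have : Fintype C := Fintype.ofFinite C
  have : Fintype (IrrCharacter C) := Fintype.ofFinite _
  have hχC : IsCharacter C (fun c : C => χ c) := isCharacter_restrict C hχ
  have hexp := classFunction_expansion (fun c : C => χ c)
    (Helper26.isClassFunction_of_isCharacter hχC)
  have hval : ∀ c : C, χ c = ∑ μ : IrrCharacter C,
      classInner (fun c : C => χ c) (μ : C → ℂ) * (μ : C → ℂ) c := by
    intro c
    have := congrFun hexp c
    simpa using this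
  have h1 := hval ⟨a * r, C.mul_mem haC hrC⟩
  have h2 := hval ⟨r, hrC⟩
  have h1' : χ (a * r) = ∑ μ : IrrCharacter C,
      classInner (fun c : C => χ c) (μ : C → ℂ) * (μ : C → ℂ) ⟨a * r, C.mul_mem haC hrC⟩ := h1
  have h2' : χ r = ∑ μ : IrrCharacter C,
      classInner (fun c : C => χ c) (μ : C → ℂ) * (μ : C → ℂ) ⟨r, hrC⟩ := h2
  rw [h1', h2', ← Finset.sum_sub_distrib]
  apply memLocalIdeal_sum
  intro μ _
  obtain ⟨nμ, hnμ⟩ := classInner_isCharacter_nat hχC (isCharacter_of_isIrrCharacter μ.2)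
  -- `μ` is linear
  have hμ1 : (μ : C → ℂ) 1 = 1 := by
    obtain ⟨d, ρ, hirr, hρ⟩ := μ.2
    have h3 := finrank_eq_one_of_commute ρ hirr (fun g k => by
      rw [← map_mul, ← map_mul, hCcomm g k])
    rw [← hρ, Representation.char_one, h3]
    simp
  obtain ⟨φ, hφ⟩ := Cfsg.Agent.Lib.Helper24.exists_hom_of_isCharacter
    (isCharacter_of_isIrrCharacter μ.2) hμ1
  have hmul : (μ : C → ℂ) ⟨a * r, C.mul_mem haC hrC⟩ =
      (μ : C → ℂ) ⟨a, haC⟩ * (μ : C → ℂ) ⟨r, hrC⟩ := by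
    rw [hφ]
    have : (⟨a * r, C.mul_mem haC hrC⟩ : C) = ⟨a, haC⟩ * ⟨r, hrC⟩ := rfl
    rw [this]
    show ((φ (⟨a, haC⟩ * ⟨r, hrC⟩) : ℂˣ) : ℂ) = ((φ ⟨a, haC⟩ : ℂˣ) : ℂ) * ((φ ⟨r, hrC⟩ : ℂˣ) : ℂ)
    rw [map_mul, Units.val_mul]
  have hroot : ((μ : C → ℂ) ⟨a, haC⟩) ^ (p ^ j) = 1 := by
    rw [hφ]
    show ((φ ⟨a, haC⟩ : ℂˣ) : ℂ) ^ (p ^ j) = 1
    rw [← Units.val_pow_eq_pow_val, ← map_pow]
    have : (⟨a, haC⟩ : C) ^ (p ^ j) = 1 := by
      apply Subtype.ext
      show a ^ (p ^ j) = 1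
      rw [← ha]; exact pow_orderOf_eq_one a
    rw [this, map_one]
    rfl
  have hint : IsIntegral ℤ (classInner (fun c : C => χ c) (μ : C → ℂ) *
      (μ : C → ℂ) ⟨r, hrC⟩) := by
    rw [hnμ]
    apply IsIntegral.mul (isIntegral_natCast _)
    obtain ⟨d, ρ, _, hρ⟩ := μ.2
    rw [← hρ]
    exact character_isIntegral ρ _
  have hfin : classInner (fun c : C => χ c) (μ : C → ℂ) *
        (μ : C → ℂ) ⟨a * r, C.mul_mem haC hrC⟩ -
      classInner (fun c : C => χ c) (μ : C → ℂ) * (μ : C → ℂ) ⟨r, hrC⟩ =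
      (classInner (fun c : C => χ c) (μ : C → ℂ) * (μ : C → ℂ) ⟨r, hrC⟩) *
        ((μ : C → ℂ) ⟨a, haC⟩ - 1) := by
    rw [hmul]; ring
  rw [hfin]
  exact memLocalIdeal_isIntegral_mul hint (memLocalIdeal_root_sub_one hM hroot)

end Cfsg.Agent.Lib.Helper28
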