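import Mathlib
import Cfsg.Prelude.Def_Characters
import Cfsg.Agent.Lib.Helper28.PiPart
import Cfsg.Agent.Lib.Helper28.Schur
import Cfsg.Agent.Lib.Helper28.BrauerAlgInt
import Cfsg.Agent.Lib.Helper4.RepEigen

set_option autoImplicit false

/-!
# The characteristic function of a `π`-section is an algebraic-integer combination of
irreducible characters (helper28)
-/

namespace Cfsg.Agent.Lib.Helper28

open Cfsg Cfsg.Agent.Lib.Helper26 Cfsg.Agent.Lib.Helper4
open scoped ComplexConjugate

/-- a finite group of exponent dividing `n` whose order divides `n * m` (coprime) has order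
dividing `n` -/
theorem card_dvd_of_exponent {B : Type*} [Group B] [Finite B] {n m : ℕ} (hnm : Nat.Coprime n m)
    (hpow : ∀ y : B, y ^ n = 1) (hcard : Nat.card B ∣ n * m) : Nat.card B ∣ n := by
  have h2 : Nat.Coprime (Nat.card B) m := by
    apply Nat.coprime_of_dvd
    intro r hr hr1 hr2
    have : Fact r.Prime := ⟨hr⟩
    obtain ⟨y, hy⟩ := exists_prime_orderOf_dvd_card' (G := B) r hr1
    have h4 : orderOf y ∣ n := orderOf_dvd_of_pow_eq_one (hpow y)
    rw [hy] at h4
    have h5 : r ∣ Nat.gcd n m := Nat.dvd_gcd h4 hr2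
    rw [hnm] at h5
    exact hr.one_lt.ne' (Nat.dvd_one.mp h5)
  exact h2.dvd_of_dvd_mul_right hcard

section NormalSum

variable {E : Type*} [Group E] [Fintype E] {V : Type*} [AddCommGroup V] [Module ℂ V]
  [FiniteDimensional ℂ V]

/-- for a normal subgroup `A` and an irreducible representation, either all the sums of the
character over cosets of `A` vanish or `A` acts trivially -/
theorem normal_sum_dichotomy (A : Subgroup E) [A.Normal] [Fintype A]
    (ρ : Representation ℂ E V) (hirr : ρ.IsIrreducible) :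
    (∀ x : E, ∑ a : A, ρ.character ((a : E) * x) = 0) ∨
      (∀ (a : A) (x : E), ρ.character ((a : E) * x) = ρ.character x) := by
  classical
  obtain ⟨P, hP⟩ : ∃ P : V →ₗ[ℂ] V, P = ∑ a : A, ρ (a : E) := ⟨_, rfl⟩
  -- `P` commutes with the representation
  have hcomm : ∀ g : E, P * ρ g = ρ g * P := by
    intro g
    rw [hP, Finset.sum_mul, Finset.mul_sum]
    let e : A ≃ A :=
      { toFun := fun a => ⟨g * a * g⁻¹, ‹A.Normal›.conj_mem a a.2 g⟩
        invFun := fun a => ⟨g⁻¹ * a * g, by
          have := ‹A.Normal›.conj_mem a a.2 g⁻¹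
          simpa using this⟩
        left_inv := by intro a; apply Subtype.ext; simp [mul_assoc]
        right_inv := by intro a; apply Subtype.ext; simp [mul_assoc] }
    rw [← Equiv.sum_comp e (fun a : A => ρ (a : E) * ρ g)]
    apply Finset.sum_congr rfl
    intro a _
    show ρ (g * (a : E) * g⁻¹) * ρ g = ρ g * ρ (a : E)
    rw [← map_mul, ← map_mul]
    congr 1
    group
  obtain ⟨c, hc⟩ := schur_scalar ρ hirr P (fun g v => by
    have := LinearMap.congr_fun (hcomm g) v
    simpa using this)
  -- `ρ a * P = P`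
  have habs : ∀ a' : A, ρ (a' : E) * P = P := by
    intro a'
    rw [hP, Finset.mul_sum]
    rw [← Equiv.sum_comp (Equiv.mulLeft a') (fun a : A => ρ (a : E))]
    apply Finset.sum_congr rfl
    intro a _
    show ρ (a' : E) * ρ (a : E) = ρ ((a' * a : A) : E)
    rw [← map_mul]; rfl
  by_cases hc0 : c = 0
  · left
    intro x
    have h1 : ∑ a : A, ρ.character ((a : E) * x) = LinearMap.trace ℂ V (P * ρ x) := by
      rw [hP, Finset.sum_mul, map_sum]
      apply Finset.sum_congr rfl
      intro a _
      unfold Representation.character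
      rw [map_mul]
    rw [h1, hc, hc0, zero_smul, zero_mul, map_zero]
  · right
    intro a x
    have h1 : ρ (a : E) = 1 := by
      have h2 := habs a
      rw [hc] at h2
      have h3 : c • ρ (a : E) = c • (1 : V →ₗ[ℂ] V) := by
        have : ρ (a : E) * c • LinearMap.id = c • ρ (a : E) := by
          ext v; simp
        rw [← this, h2]; rfl
      exact smul_right_injective _ hc0 h3
    unfold Representation.character
    rw [map_mul, h1, one_mul]

end NormalSum

section Section

variable {G : Type*} [Group G] [Fintype G] {n m k : ℕ}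

open Classical in
/-- inner products of the restriction of a section function to an elementary subgroup -/
theorem section_restrict_isIntegral (hcard : Nat.card G = n * m) (hnm : Nat.Coprime n m)
    (hk1 : k ≡ 1 [MOD n]) (hk0 : k ≡ 0 [MOD m]) (g : G) (ϑ : G → ℂ)
    (hϑ : ∀ x : G, ϑ x = if IsConj (x ^ k) g then (n : ℂ) else 0)
    (E : Subgroup G) [Fintype E] (q : ℕ) (hq : q.Prime) (hE : IsElementary q E)
    (ψ : IrrCharacter E) :
    IsIntegral ℤ (classInner (fun e : E => ϑ e) (ψ : E → ℂ)) := by
  classical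
  obtain ⟨d, ρ, hρirr, hρψ⟩ := ψ.2
  have hEcard : Nat.card E ∣ n * m := hcard ▸ Subgroup.card_subgroup_dvd_card E
  let f : E →* E :=
    { toFun := fun x => x ^ k
      map_one' := one_pow k
      map_mul' := pow_mul_of_isElementary hq hE hnm hEcard hk1 hk0 }
  have hfx : ∀ x : E, f x = x ^ k := fun x => rfl
  have hpowE : ∀ x : E, x ^ (n * m) = 1 := by
    intro x
    obtain ⟨c, hc⟩ := hEcard
    rw [hc, pow_mul, pow_card_eq_one', one_pow]
  have hff : ∀ x : E, f (f x) = f x := fun x => pow_k_pow_k hk1 hk0 (hpowE x)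
  have hϑf : ∀ a : f.ker, ∀ x : E, ϑ (((a : E) * x : E) : G) = ϑ (x : G) := by
    intro a x
    rw [hϑ, hϑ]
    have h1 : (((a : E) * x : E) : G) ^ k = ((f ((a : E) * x) : E) : G) := by
      rw [hfx]; simp
    have h2 : ((x : E) : G) ^ k = ((f x : E) : G) := by rw [hfx]; simp
    rw [h1, h2, map_mul, (MonoidHom.mem_ker).mp a.2, one_mul]
  have : Fintype f.ker := Fintype.ofFinite _
  unfold classInner
  rcases normal_sum_dichotomy f.ker ρ hρirr with h0 | h1
  · -- the sum vanishes
    have hS : ∑ x : E, ϑ (x : G) * conj ((ψ : E → ℂ) x) = 0 := by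
      have h2 : ∀ a : f.ker, ∑ x : E, ϑ (x : G) * conj ((ψ : E → ℂ) x) =
          ∑ x : E, ϑ (x : G) * conj ((ψ : E → ℂ) ((a : E) * x)) := by
        intro a
        rw [← Equiv.sum_comp (Equiv.mulLeft (a : E))
          (fun x : E => ϑ (x : G) * conj ((ψ : E → ℂ) x))]
        apply Finset.sum_congr rfl
        intro x _
        show ϑ (((a : E) * x : E) : G) * _ = _
        rw [hϑf]
        rfl
      have h3 : (Fintype.card f.ker : ℂ) * ∑ x : E, ϑ (x : G) * conj ((ψ : E → ℂ) x) = 0 := by
        have : (Fintype.card f.ker : ℂ) * ∑ x : E, ϑ (x : G) * conj ((ψ : E → ℂ) x) =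
            ∑ a : f.ker, ∑ x : E, ϑ (x : G) * conj ((ψ : E → ℂ) ((a : E) * x)) := by
          rw [← Finset.sum_congr rfl (fun a _ => h2 a), Finset.sum_const, Finset.card_univ,
            nsmul_eq_mul]
        rw [this, Finset.sum_comm]
        apply Finset.sum_eq_zero
        intro x _
        rw [← Finset.mul_sum, ← map_sum, ← hρψ, h0 x, map_zero, mul_zero]
      have hne : (Fintype.card f.ker : ℂ) ≠ 0 := by
        exact_mod_cast Fintype.card_ne_zero
      exact (mul_eq_zero.mp h3).resolve_left hne
    rw [hS, mul_zero]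
    exact isIntegral_zero
  · -- `ψ` factors through `f`
    have hψf : ∀ x : E, (ψ : E → ℂ) x = (ψ : E → ℂ) (f x) := by
      intro x
      have hmem : x * (f x)⁻¹ ∈ f.ker := by
        rw [MonoidHom.mem_ker, map_mul, map_inv, hff, mul_inv_cancel]
      have := h1 ⟨x * (f x)⁻¹, hmem⟩ (f x)
      rw [hρψ] at this
      simpa using this
    -- the range has order dividing `n`
    have hBcard : Nat.card f.range ∣ n := by
      apply card_dvd_of_exponent hnm
      · rintro ⟨_, ⟨x, rfl⟩⟩
        apply Subtype.ext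
        show (f x) ^ n = 1
        rw [hfx]
        exact pow_k_pow_n hk0 (hpowE x)
      · exact (Subgroup.card_subgroup_dvd_card _).trans hEcard
    obtain ⟨n', hn'⟩ := hBcard
    have hBpos : (Nat.card f.range : ℂ) ≠ 0 := by exact_mod_cast Nat.card_pos.ne'
    -- the function on the range
    let Gf : E → ℂ := fun b => (if IsConj (b : G) g then (n : ℂ) else 0) * conj ((ψ : E → ℂ) b)
    have hsum : ∑ x : E, ϑ (x : G) * conj ((ψ : E → ℂ) x) = ∑ x : E, Gf (f x) := by
      apply Finset.sum_congr rfl
      intro x _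
      show _ = (if IsConj ((f x : E) : G) g then (n : ℂ) else 0) * conj ((ψ : E → ℂ) (f x))
      rw [hϑ, ← hψf x]
      have h2 : ((x : E) : G) ^ k = ((f x : E) : G) := by rw [hfx]; simp
      rw [h2]
    rw [hsum, Finset.sum_comp Gf f]
    have hfib : ∀ b ∈ Finset.univ.image f,
        (Finset.univ.filter (fun a : E => f a = b)).card = Nat.card f.ker := by
      intro b hb
      obtain ⟨x, _, rfl⟩ := Finset.mem_image.mp hb
      rw [MonoidHom.card_fiber_eq_of_mem_range f (x := f x) (y := 1) ⟨x, rfl⟩ ⟨1, map_one f⟩]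
      rw [Nat.card_eq_fintype_card, Fintype.card_subtype]
      congr 1
      ext a
      simp [MonoidHom.mem_ker]
    rw [Finset.sum_congr rfl (fun b hb => by rw [hfib b hb])]
    rw [← Finset.smul_sum, nsmul_eq_mul]
    have hEk : (Nat.card E : ℂ) = (Nat.card f.ker : ℂ) * (Nat.card f.range : ℂ) := by
      rw [← Subgroup.index_ker f, ← Nat.cast_mul, Subgroup.card_mul_index]
    have hkpos : (Nat.card f.ker : ℂ) ≠ 0 := by exact_mod_cast Nat.card_pos.ne'
    rw [hEk, ← mul_assoc]
    have h3 : ((Nat.card f.ker : ℂ) * (Nat.card f.range : ℂ))⁻¹ * (Nat.card f.ker : ℂ) =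
        (Nat.card f.range : ℂ)⁻¹ := by
      field_simp
    rw [h3, Finset.mul_sum]
    apply IsIntegral.sum
    intro b hb
    show IsIntegral ℤ ((Nat.card f.range : ℂ)⁻¹ *
      ((if IsConj (b : G) g then (n : ℂ) else 0) * conj ((ψ : E → ℂ) b)))
    have hψint : IsIntegral ℤ (conj ((ψ : E → ℂ) b)) := by
      apply map_isIntegral_int
      rw [← hρψ]
      exact character_isIntegral ρ b
    by_cases hbg : IsConj (b : G) g
    · rw [if_pos hbg]
      have h4 : (Nat.card f.range : ℂ)⁻¹ * ((n : ℂ) * conj ((ψ : E → ℂ) b)) =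
          (n' : ℂ) * conj ((ψ : E → ℂ) b) := by
        rw [hn']
        push_cast
        field_simp
      rw [h4]
      exact IsIntegral.mul (isIntegral_natCast _) hψint
    · rw [if_neg hbg, zero_mul, mul_zero]
      exact isIntegral_zero

end Section

end Cfsg.Agent.Lib.Helper28
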