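import Mathlib
import Cfsg.Prelude
import Cfsg.Agent.Lib.Helper28.SectionFn
import Cfsg.Agent.Lib.Helper28.BrauerH
import Cfsg.Agent.Lib.Helper28.LocalIdeal
import Cfsg.Agent.Lib.Helper28.LocalRingB

set_option autoImplicit false

/-!
# Kernels of blocks and block induction (helper28)

For a normal `p'`-subgroup `L` of `G` and a block `b` of a subgroup `H` inducing the block `B`
of `G`: `L ≤ ker B` iff `L ∩ H ≤ ker b`.
-/

namespace Cfsg.Agent.Lib.Helper28

open Cfsg Cfsg.Agent.Lib.Helper4 Cfsg.Agent.Lib.Helper26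
open scoped ComplexConjugate Classical

section PiKerA

variable {G : Type*} [Group G] [Fintype G] {M : Ideal AlgInt}

theorem sum_ite_mem_subgroup (L : Subgroup G) (f : G → ℂ) :
    ∑ g : G, (if g ∈ L then f g else 0) = ∑ a : L, f (a : G) := by
  rw [← Finset.sum_filter]
  exact Finset.sum_subtype (Finset.univ.filter (· ∈ L)) (by simp) f

/-- for a normal subgroup `L` and an irreducible character: the sum over `L` vanishes or `L`
lies in the kernel -/
theorem irr_normal_sum_dichotomy (L : Subgroup G) [L.Normal] (χ : IrrCharacter G) :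
    (∑ g : G, (if g ∈ L then (χ : G → ℂ) g else 0) = 0) ∨
      (∀ l ∈ L, (χ : G → ℂ) l = (χ : G → ℂ) 1) := by
  obtain ⟨n, ρ, hirr, hρ⟩ := χ.2
  rcases normal_sum_dichotomy L ρ hirr with h0 | h1
  · left
    rw [sum_ite_mem_subgroup]
    have := h0 1
    simp only [mul_one] at this
    rw [← hρ]
    exact this
  · right
    intro l hl
    have := h1 ⟨l, hl⟩ 1
    simp only [mul_one] at this
    rw [← hρ]
    exact this

/-- indicator of a subgroup -/
noncomputable def indSub (L : Subgroup G) : G → ℂ := fun g => if g ∈ L then 1 else 0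

theorem isClassFunction_indSub (L : Subgroup G) [hL : L.Normal] : IsClassFunction G (indSub L) := by
  intro a b
  unfold indSub
  have : b * a * b⁻¹ ∈ L ↔ a ∈ L := by
    constructor
    · intro h
      have := hL.conj_mem _ h b⁻¹
      simpa [mul_assoc] using this
    · intro h
      exact hL.conj_mem _ h b
  rw [if_congr this rfl rfl]

theorem memLocalRing_indSub (hMtop : M ≠ ⊤) (L : Subgroup G) (g : G) :
    MemLocalRing M (indSub L g) := by
  unfold indSub
  split_ifs
  · exact memLocalRing_one hMtop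
  · exact memLocalRing_zero hMtop

theorem omegaF_indSub (L : Subgroup G) (χ : G → ℂ) :
    omegaF χ (indSub L) = (∑ g : G, (if g ∈ L then χ g else 0)) / χ 1 := by
  unfold omegaF indSub
  congr 1
  apply Finset.sum_congr rfl
  intro g _
  split_ifs <;> simp

theorem omegaF_indSub_of_ker (L : Subgroup G) (χ : IrrCharacter G)
    (h : ∀ l ∈ L, (χ : G → ℂ) l = (χ : G → ℂ) 1) :
    omegaF (χ : G → ℂ) (indSub L) = (Nat.card L : ℂ) := by
  rw [omegaF_indSub, sum_ite_mem_subgroup]
  have h1 : ∑ a : L, (χ : G → ℂ) (a : G) = (Nat.card L : ℂ) * (χ : G → ℂ) 1 := by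
    rw [Finset.sum_congr rfl (fun (a : L) _ => h (a : G) a.2), Finset.sum_const, Finset.card_univ,
      nsmul_eq_mul, Nat.card_eq_fintype_card]
  rw [h1]
  have hne : (χ : G → ℂ) 1 ≠ 0 := irr_one_ne_zero χ.2
  field_simp

/-- **kernel lemma**: for `b` inducing `B` and a normal `p'`-subgroup `L` of `G`:
`L ≤ ker B` iff `L ∩ H ≤ ker b` -/
theorem blockKer_induced_iff {p : ℕ} [Fact p.Prime] (hM : IsPModular p M) (H : Subgroup G)
    {b : Set (IrrCharacter H)} {B : Set (IrrCharacter G)} (hind : IsInducedBlock M H b B)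
    (L : Subgroup G) [hLn : L.Normal] (hL : (Nat.card L).Coprime p) :
    (∀ l ∈ L, l ∈ blockKer B) ↔ (∀ h : H, (h : G) ∈ L → h ∈ blockKer b) := by
  have hprime : M.IsPrime := hM.2.1.isPrime
  have hMtop : M ≠ ⊤ := hM.2.1.ne_top
  have hLn' : (L.subgroupOf H).Normal := hLn.subgroupOf H
  have hres : resMap H (indSub L) = indSub (L.subgroupOf H) := by
    funext h
    unfold resMap indSub
    rfl
  have hcop' : (Nat.card (L.subgroupOf H)).Coprime p := by
    apply Nat.Coprime.coprime_dvd_left _ hL
    rw [← Subgroup.card_map_of_injective H.subtype_injective]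
    apply Subgroup.card_dvd_of_le
    intro x hx
    obtain ⟨y, hy, rfl⟩ := hx
    exact hy
  constructor
  · intro hker h hh ξ hξ
    obtain ⟨χ, hχ⟩ := block_nonempty hind.2.1
    have hχker : ∀ l ∈ L, (χ : G → ℂ) l = (χ : G → ℂ) 1 := fun l hl => hker l hl χ hχ
    rcases irr_normal_sum_dichotomy (L.subgroupOf H) ξ with h0 | h1
    · exfalso
      have e1 := omegaF_resMap_sub_of_induced H hind hξ hχ (indSub L)
        (isClassFunction_indSub L) (memLocalRing_indSub hMtop L)
      rw [hres, omegaF_indSub, h0, zero_div, omegaF_indSub_of_ker L χ hχker, zero_sub] at e1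
      have := memLocalIdeal_neg e1
      rw [neg_neg] at this
      exact not_memLocalIdeal_natCast hM hL this
    · exact h1 h (Subgroup.mem_subgroupOf.mpr hh)
  · intro hker l hl χ hχ
    obtain ⟨ξ, hξ⟩ := block_nonempty hind.1
    have hξker : ∀ h ∈ L.subgroupOf H, (ξ : H → ℂ) h = (ξ : H → ℂ) 1 :=
      fun h hh => hker h (Subgroup.mem_subgroupOf.mp hh) ξ hξ
    rcases irr_normal_sum_dichotomy L χ with h0 | h1
    · exfalso
      have e1 := omegaF_resMap_sub_of_induced H hind hξ hχ (indSub L)
        (isClassFunction_indSub L) (memLocalRing_indSub hMtop L)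
      rw [hres, omegaF_indSub L, h0, zero_div, omegaF_indSub_of_ker (L.subgroupOf H) ξ hξker,
        sub_zero] at e1
      exact not_memLocalIdeal_natCast hM hcop' e1
    · exact h1 l hl

end PiKerA

end Cfsg.Agent.Lib.Helper28
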