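import Mathlib
import Cfsg.Prelude
import Cfsg.Agent.Lib.Helper28.PiKerA
import Cfsg.Agent.Lib.Helper13.TransHyp3
import Cfsg.Agent.Lib.Helper4.BrauerConj
import Cfsg.Agent.Lib.Helper4.BrauerRes

set_option autoImplicit false

/-!
# `π`-cores and kernels of blocks: transport lemmas (helper28)
-/

namespace Cfsg.Agent.Lib.Helper28

open Cfsg Cfsg.Agent.Lib.Helper4 Cfsg.Agent.Lib.Helper26
open scoped ComplexConjugate Classical

section PiKerB

variable {G : Type*} [Group G] [Finite G]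

theorem mem_piCoreOf_coe (π : Set ℕ) (X : Subgroup G) (x : X) :
    (x : G) ∈ piCoreOf π X ↔ x ∈ piCore π X := by
  unfold piCoreOf
  constructor
  · rintro ⟨y, hy, hyx⟩
    have : y = x := Subtype.ext hyx
    rwa [← this]
  · intro h
    exact ⟨x, h, rfl⟩

theorem piCore_map_le {K K' : Type*} [Group K] [Group K'] [Finite K] [Finite K'] (π : Set ℕ)
    (φ : K ≃* K') : (piCore π K).map φ.toMonoidHom ≤ piCore π K' := by
  apply le_sSup
  have hmem := Cfsg.Agent.Lib.Helper13.piCore_mem' (H := K) π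
  have hn : (piCore π K).Normal := hmem.1
  refine ⟨Subgroup.Normal.map hn _ φ.surjective, ?_⟩
  rw [Subgroup.card_map_of_injective φ.injective]
  exact hmem.2

theorem piCore_mulEquiv {K K' : Type*} [Group K] [Group K'] [Finite K] [Finite K'] (π : Set ℕ)
    (φ : K ≃* K') (k : K) : k ∈ piCore π K ↔ φ k ∈ piCore π K' := by
  constructor
  · intro h
    exact piCore_map_le π φ ⟨k, h, rfl⟩
  · intro h
    have := piCore_map_le π φ.symm ⟨φ k, h, rfl⟩
    simpa using this

theorem piCore_coprime {K : Type*} [Group K] [Finite K] {p : ℕ} [hp : Fact p.Prime] (π : Set ℕ)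
    (hpπ : p ∈ π) : (Nat.card (piCore {q | q ∉ π} K)).Coprime p := by
  have hmem := Cfsg.Agent.Lib.Helper13.piCore_mem' (H := K) {q | q ∉ π}
  apply Nat.Coprime.symm
  rw [Nat.Prime.coprime_iff_not_dvd hp.out]
  intro hd
  exact hmem.2 p hp.out hd hpπ

theorem piCoreOf_inf_le (π : Set ℕ) (N X : Subgroup G) (hXN : X ≤ N) :
    piCoreOf π N ⊓ X ≤ piCoreOf π X := by
  apply Cfsg.Agent.Lib.Helper13.le_piCoreOf π X _ inf_le_right
  · intro x hx
    rw [Subgroup.mem_normalizer_iff]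
    intro y
    have hxN := Cfsg.Agent.Lib.Helper13.le_normalizer_piCoreOf π N (hXN hx)
    rw [Subgroup.mem_normalizer_iff] at hxN
    constructor
    · rintro ⟨h1, h2⟩
      exact ⟨(hxN y).mp h1, X.mul_mem (X.mul_mem hx h2) (X.inv_mem hx)⟩
    · rintro ⟨h1, h2⟩
      refine ⟨(hxN y).mpr h1, ?_⟩
      have := X.mul_mem (X.mul_mem (X.inv_mem hx) h2) hx
      simpa [mul_assoc] using this
  · intro r hr hrd
    apply Cfsg.Agent.Lib.Helper13.piCoreOf_primes π N r hr
    exact hrd.trans (Subgroup.card_dvd_of_le inf_le_left)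

theorem piCoreOf_le_of_normal (π : Set ℕ) (K N : Subgroup G) (hKN : K ≤ N)
    (hN : N ≤ Subgroup.normalizer (K : Set G)) : piCoreOf π K ≤ piCoreOf π N := by
  apply Cfsg.Agent.Lib.Helper13.le_piCoreOf π N _
    ((Cfsg.Agent.Lib.Helper13.piCoreOf_le π K).trans hKN)
  · exact hN.trans (Cfsg.Agent.Lib.Helper13.normalizer_le_normalizer_piCoreOf π K)
  · exact Cfsg.Agent.Lib.Helper13.piCoreOf_primes π K

end PiKerB

section Transport

variable {K K' : Type*} [Group K] [Group K']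

theorem blockKer_preimage_irrEquiv (φ : K ≃* K') (f : Set (IrrCharacter K)) (k' : K') :
    k' ∈ blockKer ((irrEquiv φ) ⁻¹' f) ↔ φ.symm k' ∈ blockKer f := by
  constructor
  · intro h ξ hξ
    have hmem : irrEquiv φ.symm ξ ∈ (irrEquiv φ) ⁻¹' f := by
      show irrEquiv φ (irrEquiv φ.symm ξ) ∈ f
      rw [irrEquiv_irrEquiv_symm]
      exact hξ
    have := h _ hmem
    rw [irrEquiv_apply, irrEquiv_apply, map_one] at this
    exact this
  · intro h ξ' hξ'
    have := h (irrEquiv φ ξ') hξ'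
    rw [irrEquiv_apply, irrEquiv_apply, map_one, MulEquiv.apply_symm_apply] at this
    exact this

theorem preimage_irrEquiv_symm_preimage (φ : K ≃* K') (f : Set (IrrCharacter K)) :
    (irrEquiv φ.symm) ⁻¹' ((irrEquiv φ) ⁻¹' f) = f := by
  ext ξ
  show irrEquiv φ (irrEquiv φ.symm ξ) ∈ f ↔ ξ ∈ f
  rw [irrEquiv_irrEquiv_symm]

theorem preimage_irrEquiv_preimage_symm (φ : K ≃* K') (f : Set (IrrCharacter K')) :
    (irrEquiv φ) ⁻¹' ((irrEquiv φ.symm) ⁻¹' f) = f := by
  ext ξ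
  show irrEquiv φ.symm (irrEquiv φ ξ) ∈ f ↔ ξ ∈ f
  rw [irrEquiv_symm_irrEquiv]

end Transport

end Cfsg.Agent.Lib.Helper28
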