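import Mathlib
import Cfsg.Prelude
import Cfsg.Agent.Lib.Helper28.PiKerB
import Cfsg.Agent.Lib.Helper28.FirstMainCount
import Cfsg.Agent.Lib.Helper4.BlockIndTrans

set_option autoImplicit false

/-!
# Moving blocks up and down between `Q C_G(Q)` and `N_G(Q)` (helper28)
-/

namespace Cfsg.Agent.Lib.Helper28

open Cfsg Cfsg.Agent.Lib.Helper4 Cfsg.Agent.Lib.Helper26
open scoped ComplexConjugate Classical

section PiKerC

variable {G : Type*} [Group G] [Fintype G] {M : Ideal AlgInt}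

/-- **lift**: a block of `K` (with `Q C_G(Q) ≤ K ≤ N ≤ N_G(Q)`) inducing `B` gives a block of
`N` inducing `B`, induced from the given block viewed inside `N` -/
theorem exists_lift_block {p : ℕ} [Fact p.Prime] (hM : IsPModular p M) {Q K N : Subgroup G}
    (hQp : IsPGroup p Q) (hQK : Q ≤ K) (hCK : Subgroup.centralizer (Q : Set G) ≤ K)
    (hKN : K ≤ N) (hNN : N ≤ Subgroup.normalizer (Q : Set G))
    {b : Set (IrrCharacter K)} {B : Set (IrrCharacter G)} (hind : IsInducedBlock M K b B) :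
    ∃ Bt : Set (IrrCharacter N), IsInducedBlock M N Bt B ∧
      IsInducedBlock M (K.subgroupOf N)
        ((irrEquiv (Subgroup.subgroupOfEquivOfLe hKN).symm) ⁻¹' b) Bt := by
  have hprime : M.IsPrime := hM.2.1.isPrime
  set ψ := Subgroup.subgroupOfEquivOfLe hKN with hψdef
  have hψ : ∀ k : K.subgroupOf N, ((ψ k : K) : G) = ((k : N) : G) := fun k => rfl
  have hb' : IsPBlock M ((irrEquiv ψ.symm) ⁻¹' b) := isPBlock_preimage_irrEquiv ψ.symm hind.1
  have hQN : Q ≤ N := hQK.trans hKN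
  have h1 : Q.subgroupOf N ≤ K.subgroupOf N := by
    intro x hx
    rw [Subgroup.mem_subgroupOf] at hx ⊢
    exact hQK hx
  have h2 : Subgroup.centralizer ((Q.subgroupOf N : Subgroup N) : Set N) ≤ K.subgroupOf N := by
    intro x hx
    rw [Subgroup.mem_subgroupOf]
    apply hCK
    rw [Subgroup.mem_centralizer_iff]
    intro q hq
    have := (Subgroup.mem_centralizer_iff.mp hx) ⟨q, hQN hq⟩ (Subgroup.mem_subgroupOf.mpr hq)
    exact congrArg Subtype.val this
  have h3 : K.subgroupOf N ≤ Subgroup.normalizer ((Q.subgroupOf N : Subgroup N) : Set N) := by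
    intro x _
    have hx := hNN x.2
    rw [Subgroup.mem_normalizer_iff] at hx ⊢
    intro y
    rw [Subgroup.mem_subgroupOf, Subgroup.mem_subgroupOf]
    exact hx (y : G)
  obtain ⟨Bt, hBt⟩ := exists_induced_block (G := N) hM (Q.subgroupOf N) (K.subgroupOf N)
    hQp.comap_subtype h1 h2 h3 hb'
  refine ⟨Bt, ?_, hBt⟩
  have hind' : IsInducedBlock M K ((irrEquiv ψ) ⁻¹' ((irrEquiv ψ.symm) ⁻¹' b)) B := by
    rw [preimage_irrEquiv_preimage_symm]
    exact hind
  exact isInducedBlock_trans N (K.subgroupOf N) K ψ hψ hBt hind'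

/-- **down**: a block of `N` with defect group `Dt`, `C_G(Dt) ≤ N`, inducing `B`, is induced
from a block of `Dt C_N(Dt)` whose image in `G` induces `B` -/
theorem exists_down_block {p : ℕ} [Fact p.Prime] (hM : IsPModular p M) (N : Subgroup G)
    {Bt : Set (IrrCharacter N)} {B : Set (IrrCharacter G)} (hBt : IsInducedBlock M N Bt B)
    (Dt : Subgroup N) (hDt : IsDefectGroup p M Bt Dt)
    (hC : Subgroup.centralizer ((Dt.map N.subtype : Subgroup G) : Set G) ≤ N) :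
    ∃ (K₀ : Subgroup N) (b₀ : Set (IrrCharacter K₀)) (K : Subgroup G) (φ : K₀ ≃* K),
      (∀ k : K₀, ((φ k : K) : G) = ((k : N) : G)) ∧
      K = Dt.map N.subtype ⊔ Subgroup.centralizer ((Dt.map N.subtype : Subgroup G) : Set G) ∧
      IsInducedBlock M K₀ b₀ Bt ∧ IsInducedBlock M K ((irrEquiv φ) ⁻¹' b₀) B := by
  have hprime : M.IsPrime := hM.2.1.isPrime
  have hDtp : IsPGroup p Dt := isPGroup_of_isDefectGroup hDt
  obtain ⟨D, hD⟩ : ∃ D : Subgroup G, D = Dt.map N.subtype := ⟨_, rfl⟩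
  rw [← hD] at hC ⊢
  have hDp : IsPGroup p D := by
    rw [hD]
    exact hDtp.map _
  obtain ⟨K₀, hK₀⟩ : ∃ K₀ : Subgroup N, K₀ = Dt ⊔ Subgroup.centralizer (Dt : Set N) := ⟨_, rfl⟩
  obtain ⟨K, hK⟩ : ∃ K : Subgroup G, K = K₀.map N.subtype := ⟨_, rfl⟩
  have hKeq : K = D ⊔ Subgroup.centralizer (D : Set G) := by
    rw [hK, hK₀, hD]
    exact map_sup_centralizer_eq N Dt (hD ▸ hC)
  have hDK : D ≤ K := hKeq ▸ le_sup_left
  have hCK : Subgroup.centralizer (D : Set G) ≤ K := hKeq ▸ le_sup_right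
  have hKN : K ≤ Subgroup.normalizer (D : Set G) :=
    hKeq.le.trans (sup_centralizer_le_normalizer D)
  obtain ⟨b₀, -, hind₀⟩ := ext_first_main_exists (G := N) (P := Dt) (H := K₀) hM hBt.1 hDt
    (hK₀ ▸ le_sup_left) (hK₀ ▸ le_sup_right) (hK₀ ▸ sup_centralizer_le_normalizer Dt)
  obtain ⟨φ, hφ⟩ : ∃ φ : K₀ ≃* K, ∀ k : K₀, ((φ k : K) : G) = ((k : N) : G) := by
    rw [hK]
    exact ⟨K₀.equivMapOfInjective N.subtype N.subtype_injective,
      fun k => Subgroup.coe_equivMapOfInjective_apply _ _ _ k⟩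
  have hb₀' : IsPBlock M ((irrEquiv φ) ⁻¹' b₀) := isPBlock_preimage_irrEquiv φ hind₀.1
  obtain ⟨B', hindK⟩ := exists_induced_block hM D K hDp hDK hCK hKN hb₀'
  have hind : IsInducedBlock M N Bt B' := isInducedBlock_trans N K₀ K φ hφ hind₀ hindK
  have hBB : B' = B := induced_block_target_unique N hind hBt
  rw [hBB] at hindK
  exact ⟨K₀, b₀, K, φ, hφ, hKeq, hind₀, hindK⟩

/-- kernel transfer upwards -/
theorem blockKer_of_down {p : ℕ} [Fact p.Prime] (hM : IsPModular p M) (π : Set ℕ) (hpπ : p ∈ π)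
    (N : Subgroup G) {Bt : Set (IrrCharacter N)} (K₀ : Subgroup N) {b₀ : Set (IrrCharacter K₀)}
    (hind : IsInducedBlock M K₀ b₀ Bt) (K : Subgroup G) (φ : K₀ ≃* K)
    (hφ : ∀ k : K₀, ((φ k : K) : G) = ((k : N) : G))
    (hker : ∀ k : K, (k : G) ∈ piCoreOf {q | q ∉ π} K → k ∈ blockKer ((irrEquiv φ) ⁻¹' b₀)) :
    ∀ n : N, n ∈ piCore {q | q ∉ π} N → n ∈ blockKer Bt := by
  have hKN : K ≤ N := by
    intro k hk
    have := hφ (φ.symm ⟨k, hk⟩)
    rw [MulEquiv.apply_symm_apply] at this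
    have h2 : (k : G) = (((φ.symm ⟨k, hk⟩ : K₀) : N) : G) := this
    rw [h2]
    exact (φ.symm ⟨k, hk⟩ : N).2
  have hKL := blockKer_induced_iff (G := N) hM K₀ hind (piCore {q | q ∉ π} N)
    (piCore_coprime π hpπ)
  apply hKL.mpr
  intro h hh
  have h1 : ((φ h : K) : G) ∈ piCoreOf {q | q ∉ π} K := by
    apply piCoreOf_inf_le {q | q ∉ π} N K hKN
    refine ⟨?_, (φ h).2⟩
    rw [hφ h]
    exact (mem_piCoreOf_coe _ N (h : N)).mpr hh
  have h2 := hker (φ h) h1
  rw [blockKer_preimage_irrEquiv, MulEquiv.symm_apply_apply] at h2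
  exact h2

/-- kernel transfer downwards -/
theorem blockKer_down {p : ℕ} [Fact p.Prime] (hM : IsPModular p M) (π : Set ℕ) (hpπ : p ∈ π)
    (N : Subgroup G) {Bt : Set (IrrCharacter N)} (K₀ : Subgroup N) {b₀ : Set (IrrCharacter K₀)}
    (hind : IsInducedBlock M K₀ b₀ Bt)
    (hker : ∀ n : N, n ∈ piCore {q | q ∉ π} N → n ∈ blockKer Bt) :
    ∀ h : K₀, (h : N) ∈ piCore {q | q ∉ π} N → h ∈ blockKer b₀ :=
  (blockKer_induced_iff (G := N) hM K₀ hind (piCore {q | q ∉ π} N)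
    (piCore_coprime π hpπ)).mp hker

end PiKerC

end Cfsg.Agent.Lib.Helper28
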