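import Mathlib
import Cfsg.Prelude
import Cfsg.Agent.Lib.Helper28.PiKerC
import Cfsg.Agent.Lib.Helper16.PCore
import Cfsg.Agent.S0912

set_option autoImplicit false

/-!
# `O_{π'}` in the kernel of local blocks: the induction (helper28)
-/

namespace Cfsg.Agent.Lib.Helper28

open Cfsg Cfsg.Agent.Lib.Helper4 Cfsg.Agent.Lib.Helper26
open scoped ComplexConjugate Classical

section PiKerD

variable {G : Type*} [Group G] [Fintype G] {M : Ideal AlgInt}

theorem normalizer_le_normalizer_sup_centralizer (Q : Subgroup G) :
    Subgroup.normalizer (Q : Set G) ≤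
      Subgroup.normalizer ((Q ⊔ Subgroup.centralizer (Q : Set G) : Subgroup G) : Set G) := by
  intro n hn
  apply mem_normalizer_of_map_conj_eq
  rw [Subgroup.map_sup, map_conj_eq_of_mem_normalizer hn,
    map_conj_eq_of_mem_normalizer (normalizer_le_normalizer_centralizer Q hn)]

/-- the inductive claim: for a `p`-subgroup `Q` and a block `b` of `Q C_G(Q)` inducing `B`,
`O_{π'}(Q C_G(Q)) ≤ ker b`, provided the Brauer correspondents of `B` have `O_{π'}` in their
kernels -/
theorem piCore_ker_of_pair {p : ℕ} [Fact p.Prime] (hM : IsPModular p M) (π : Set ℕ)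
    (hpπ : p ∈ π) {B : Set (IrrCharacter G)}
    (hyp : ∀ (Q : Subgroup G) (β : Set (IrrCharacter (Subgroup.normalizer (Q : Set G)))),
      IsInducedBlock M (Subgroup.normalizer (Q : Set G)) β B →
      IsDefectGroup p M β (Q.subgroupOf (Subgroup.normalizer (Q : Set G))) →
      ∀ n : Subgroup.normalizer (Q : Set G),
        n ∈ piCore {q | q ∉ π} (Subgroup.normalizer (Q : Set G)) → n ∈ blockKer β) :
    ∀ (m : ℕ) (Q K : Subgroup G) (b : Set (IrrCharacter K)), Nat.card G - Nat.card Q = m →
      IsPGroup p Q → K = Q ⊔ Subgroup.centralizer (Q : Set G) → IsInducedBlock M K b B →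
      ∀ k : K, (k : G) ∈ piCoreOf {q | q ∉ π} K → k ∈ blockKer b := by
  intro m
  induction m using Nat.strong_induction_on with
  | _ m ih =>
    intro Q K b hm hQp hK hind k hk
    have hQK : Q ≤ K := hK ▸ le_sup_left
    have hCK : Subgroup.centralizer (Q : Set G) ≤ K := hK ▸ le_sup_right
    have hKN : K ≤ Subgroup.normalizer (Q : Set G) :=
      hK.le.trans (sup_centralizer_le_normalizer Q)
    have hQN : Q ≤ Subgroup.normalizer (Q : Set G) := Subgroup.le_normalizer
    obtain ⟨Bt, hBtG, hBtK⟩ := exists_lift_block hM hQp hQK hCK hKN le_rfl hind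
    obtain ⟨Dt, hDt⟩ := exists_isDefectGroup (G := Subgroup.normalizer (Q : Set G)) hM hBtG.1
    have hn : (Q.subgroupOf (Subgroup.normalizer (Q : Set G))).Normal :=
      Subgroup.normal_subgroupOf_of_le_normalizer le_rfl
    have hQ'p : IsPGroup p (Q.subgroupOf (Subgroup.normalizer (Q : Set G))) := hQp.comap_subtype
    have hQ'Dt : Q.subgroupOf (Subgroup.normalizer (Q : Set G)) ≤ Dt :=
      (Cfsg.Agent.Lib.Helper16.le_pCore hn hQ'p).trans
        (Cfsg.Agent.S0912.result p M hM Bt hBtG.1 Dt hDt)
    -- the key claim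
    have hN : ∀ n : Subgroup.normalizer (Q : Set G),
        n ∈ piCore {q | q ∉ π} (Subgroup.normalizer (Q : Set G)) → n ∈ blockKer Bt := by
      by_cases hcard : Nat.card Dt = Nat.card (Q.subgroupOf (Subgroup.normalizer (Q : Set G)))
      · have hEq : Q.subgroupOf (Subgroup.normalizer (Q : Set G)) = Dt :=
          Subgroup.eq_of_le_of_card_ge hQ'Dt hcard.le
        rw [← hEq] at hDt
        exact hyp Q Bt hBtG hDt
      · have hlt : Nat.card (Q.subgroupOf (Subgroup.normalizer (Q : Set G))) < Nat.card Dt :=
          lt_of_le_of_ne (Subgroup.card_le_of_le hQ'Dt) (Ne.symm hcard)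
        have hQQ₂ : Q ≤ Dt.map (Subgroup.normalizer (Q : Set G)).subtype := by
          intro q hq
          exact ⟨⟨q, hQN hq⟩, hQ'Dt (Subgroup.mem_subgroupOf.mpr hq), rfl⟩
        have hC₂ : Subgroup.centralizer
            ((Dt.map (Subgroup.normalizer (Q : Set G)).subtype : Subgroup G) : Set G) ≤
            Subgroup.normalizer (Q : Set G) :=
          (Subgroup.centralizer_le (by exact_mod_cast hQQ₂)).trans
            (Subgroup.centralizer_le_normalizer _)
        obtain ⟨K₀, b₀, K₂, φ, hφ, hK₂, hind₀, hind₂⟩ :=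
          exists_down_block hM (Subgroup.normalizer (Q : Set G)) hBtG Dt hDt hC₂
        have hQ₂p : IsPGroup p (Dt.map (Subgroup.normalizer (Q : Set G)).subtype) :=
          (isPGroup_of_isDefectGroup hDt).map _
        have hc1 : Nat.card (Dt.map (Subgroup.normalizer (Q : Set G)).subtype) = Nat.card Dt :=
          Subgroup.card_map_of_injective (Subgroup.subtype_injective _)
        have hc2 : Nat.card (Q.subgroupOf (Subgroup.normalizer (Q : Set G))) = Nat.card Q :=
          Cfsg.Agent.Lib.Helper4.card_subgroupOf_of_le hQN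
        have hc3 : Nat.card (Dt.map (Subgroup.normalizer (Q : Set G)).subtype) ≤ Nat.card G :=
          Subgroup.card_le_card_group _
        have hlt' : Nat.card G - Nat.card (Dt.map (Subgroup.normalizer (Q : Set G)).subtype) <
            m := by
          rw [← hm]
          omega
        have := ih _ hlt' (Dt.map (Subgroup.normalizer (Q : Set G)).subtype) K₂ _ rfl hQ₂p hK₂
          hind₂
        exact blockKer_of_down hM π hpπ (Subgroup.normalizer (Q : Set G)) K₀ hind₀ K₂ φ hφ this
    have hdown := blockKer_down hM π hpπ (Subgroup.normalizer (Q : Set G))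
      (K.subgroupOf (Subgroup.normalizer (Q : Set G))) hBtK hN
    have hNK : Subgroup.normalizer (Q : Set G) ≤ Subgroup.normalizer (K : Set G) := by
      rw [hK]
      exact normalizer_le_normalizer_sup_centralizer Q
    have hk' : (k : G) ∈ piCoreOf {q | q ∉ π} (Subgroup.normalizer (Q : Set G)) :=
      piCoreOf_le_of_normal _ K _ hKN hNK hk
    set ψ := Subgroup.subgroupOfEquivOfLe hKN with hψdef
    have h1 : ((ψ.symm k : K.subgroupOf (Subgroup.normalizer (Q : Set G))) :
        Subgroup.normalizer (Q : Set G)) ∈ piCore {q | q ∉ π} (Subgroup.normalizer (Q : Set G)) := by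
      rw [← mem_piCoreOf_coe]
      have : (((ψ.symm k : K.subgroupOf (Subgroup.normalizer (Q : Set G))) :
          Subgroup.normalizer (Q : Set G)) : G) = (k : G) := by
        have h := congrArg (fun z : K => (z : G)) (ψ.apply_symm_apply k)
        exact h
      rw [this]
      exact hk'
    have h2 := hdown (ψ.symm k) h1
    rw [blockKer_preimage_irrEquiv, MulEquiv.symm_symm, MulEquiv.apply_symm_apply] at h2
    exact h2

end PiKerD

end Cfsg.Agent.Lib.Helper28
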