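import Mathlib
import Cfsg.Prelude
import Cfsg.Agent.Lib.Helper28.PiKerD

set_option autoImplicit false

/-!
# `O_{π'}` in the kernel of local blocks: conjugation and the main theorem (helper28)
-/

namespace Cfsg.Agent.Lib.Helper28

open Cfsg Cfsg.Agent.Lib.Helper4 Cfsg.Agent.Lib.Helper26
open scoped ComplexConjugate Classical

section PiKerE

variable {G : Type*} [Group G] [Fintype G] {M : Ideal AlgInt}

/-- conjugation by `x` as an isomorphism `N_G(D) ≃ N_G(D^x)` -/
noncomputable def conjNormEquiv (D : Subgroup G) (x : G) :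
    Subgroup.normalizer (D : Set G) ≃*
      Subgroup.normalizer ((D.map (MulAut.conj x).toMonoidHom : Subgroup G) : Set G) :=
  ((Subgroup.normalizer (D : Set G)).equivMapOfInjective (MulAut.conj x).toMonoidHom
      (MulAut.conj x).injective).trans
    (MulEquiv.subgroupCongr (Subgroup.map_equiv_normalizer_eq D (MulAut.conj x)))

omit [Fintype G] in
theorem conjNormEquiv_coe (D : Subgroup G) (x : G) (n : Subgroup.normalizer (D : Set G)) :
    ((conjNormEquiv D x n : Subgroup.normalizer
      ((D.map (MulAut.conj x).toMonoidHom : Subgroup G) : Set G)) : G) = x * (n : G) * x⁻¹ := by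
  rfl

/-- block induction is invariant under conjugating the subgroup -/
theorem isInducedBlock_conj [M.IsPrime] {H₁ H₂ : Subgroup G} (c : H₁ ≃* H₂) (x : G)
    (hc : ∀ h : H₁, ((c h : H₂) : G) = x * (h : G) * x⁻¹)
    {b : Set (IrrCharacter H₁)} {B : Set (IrrCharacter G)} (h : IsInducedBlock M H₁ b B) :
    IsInducedBlock M H₂ ((irrEquiv c) ⁻¹' b) B := by
  refine ⟨isPBlock_preimage_irrEquiv c h.1, h.2.1, ?_⟩
  intro ξ' hξ' χ hχ g
  have h1 := h.2.2 (irrEquiv c ξ') hξ' χ hχ g
  have h2 : inducedCentralChar H₁ ((irrEquiv c ξ' : IrrCharacter H₁) : H₁ → ℂ) g =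
      inducedCentralChar H₂ (ξ' : H₂ → ℂ) g := by
    rw [inducedCentralChar_eq_omegaF, inducedCentralChar_eq_omegaF]
    unfold omegaF
    rw [irrEquiv_apply, map_one]
    congr 1
    refine Fintype.sum_equiv c.toEquiv _ _ (fun n => ?_)
    rw [irrEquiv_apply]
    show resMap H₁ (classInd g) n * _ = resMap H₂ (classInd g) (c n) * _
    unfold resMap
    rw [hc n, isClassFunction_classInd g]
    rfl
  rw [h2] at h1
  exact h1

/-- the hypothesis on one Brauer correspondent passes to all of them -/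
theorem piCore_ker_all_correspondents {p : ℕ} [Fact p.Prime] (hM : IsPModular p M) (π : Set ℕ)
    {B : Set (IrrCharacter G)} (hB : IsPBlock M B) (D : Subgroup G)
    (hBD : IsDefectGroup p M B D)
    (B₁ : Set (IrrCharacter (Subgroup.normalizer (D : Set G))))
    (hB₁ : IsInducedBlock M (Subgroup.normalizer (D : Set G)) B₁ B)
    (hker : ∀ n : Subgroup.normalizer (D : Set G),
      n ∈ piCore {q | q ∉ π} (Subgroup.normalizer (D : Set G)) → n ∈ blockKer B₁) :
    ∀ (Q : Subgroup G) (β : Set (IrrCharacter (Subgroup.normalizer (Q : Set G)))),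
      IsInducedBlock M (Subgroup.normalizer (Q : Set G)) β B →
      IsDefectGroup p M β (Q.subgroupOf (Subgroup.normalizer (Q : Set G))) →
      ∀ n : Subgroup.normalizer (Q : Set G),
        n ∈ piCore {q | q ∉ π} (Subgroup.normalizer (Q : Set G)) → n ∈ blockKer β := by
  have hprime : M.IsPrime := hM.2.1.isPrime
  intro Q β hβ hβdef n hn
  have hQp : IsPGroup p Q := by
    have := (isPGroup_of_isDefectGroup hβdef).map (Subgroup.normalizer (Q : Set G)).subtype
    rwa [Subgroup.map_subgroupOf_eq_of_le Subgroup.le_normalizer] at this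
  have hQdef : IsDefectGroup p M B Q :=
    defectGroup_of_induced_from_normalizer hM Q hQp hβ.1 hB hβdef hβ
  obtain ⟨x, hx⟩ := isDefectGroup_conj hM hB hBD hQdef
  subst hx
  have hβ₁ := isInducedBlock_conj (conjNormEquiv D x) x (conjNormEquiv_coe D x) hB₁
  have heq := inducing_block_unique hM _ hQp hβ.1 hβ₁.1 hB hβdef hβ hβ₁
  rw [heq, blockKer_preimage_irrEquiv]
  apply hker
  exact (piCore_mulEquiv {q | q ∉ π} (conjNormEquiv D x).symm n).mp hn

/-- **S4734** -/
theorem piCore_le_blockKer_of_induced {p : ℕ} [Fact p.Prime] (hM : IsPModular p M) (π : Set ℕ)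
    (hpπ : p ∈ π) {B : Set (IrrCharacter G)} (hB : IsPBlock M B) (D : Subgroup G)
    (hBD : IsDefectGroup p M B D)
    (B₁ : Set (IrrCharacter (Subgroup.normalizer (D : Set G))))
    (hB₁ : IsInducedBlock M (Subgroup.normalizer (D : Set G)) B₁ B)
    (hker : ∀ n : Subgroup.normalizer (D : Set G),
      n ∈ piCore {q | q ∉ π} (Subgroup.normalizer (D : Set G)) → n ∈ blockKer B₁)
    (G₀ : Subgroup G) (B₀ : Set (IrrCharacter G₀)) (hB₀ : IsInducedBlock M G₀ B₀ B)
    (D₀ : Subgroup G₀) (hD₀ : IsDefectGroup p M B₀ D₀)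
    (hC : Subgroup.centralizer ((D₀.map G₀.subtype : Subgroup G) : Set G) ≤ G₀) :
    ∀ x : G₀, x ∈ piCore {q | q ∉ π} G₀ → x ∈ blockKer B₀ := by
  obtain ⟨K₀, b₀, K, φ, hφ, hK, hind₀, hindK⟩ := exists_down_block hM G₀ hB₀ D₀ hD₀ hC
  have hY := piCore_ker_of_pair hM π hpπ
    (piCore_ker_all_correspondents hM π hB D hBD B₁ hB₁ hker) _ (D₀.map G₀.subtype) K _ rfl
    ((isPGroup_of_isDefectGroup hD₀).map _) hK hindK
  exact blockKer_of_down hM π hpπ G₀ K₀ hind₀ K φ hφ hY

end PiKerE

end Cfsg.Agent.Lib.Helper28
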