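import Mathlib
import Cfsg.Prelude
import Cfsg.Agent.Lib.Helper28.PiKerE
import Cfsg.Agent.Lib.Helper28.DefOneC

set_option autoImplicit false

/-!
# Character values on `π'`-cosets of `p`-elements (helper28)  -- S4727
-/

namespace Cfsg.Agent.Lib.Helper28

open Cfsg Cfsg.Agent.Lib.Helper4 Cfsg.Agent.Lib.Helper26
open scoped ComplexConjugate Classical

section PiKerF

variable {G : Type*} [Group G] [Fintype G] {M : Ideal AlgInt}

/-- every block of `C_G(y)`, `y` a `p`-element, induces a block of `G`, and has a defect group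
whose centralizer lies in `C_G(y)` -/
theorem exists_induced_of_centralizer_pElement {p : ℕ} [Fact p.Prime] (hM : IsPModular p M)
    (y : G) (hy : ∃ k : ℕ, orderOf y = p ^ k)
    {e : Set (IrrCharacter (Subgroup.centralizer ({y} : Set G)))} (he : IsPBlock M e) :
    ∃ (D₀ : Subgroup (Subgroup.centralizer ({y} : Set G))) (B' : Set (IrrCharacter G)),
      IsDefectGroup p M e D₀ ∧
      Subgroup.centralizer ((D₀.map (Subgroup.centralizer ({y} : Set G)).subtype : Subgroup G) :
        Set G) ≤ Subgroup.centralizer ({y} : Set G) ∧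
      IsInducedBlock M (Subgroup.centralizer ({y} : Set G)) e B' := by
  obtain ⟨D₀, hD₀⟩ := exists_isDefectGroup (G := Subgroup.centralizer ({y} : Set G)) hM he
  have hyC : y ∈ Subgroup.centralizer ({y} : Set G) := by
    rw [Subgroup.mem_centralizer_iff]
    intro h hh
    rw [Set.mem_singleton_iff] at hh
    rw [hh]
  -- the cyclic group generated by `y` is a normal `p`-subgroup of the centralizer
  have hZn : (Subgroup.zpowers (⟨y, hyC⟩ : Subgroup.centralizer ({y} : Set G))).Normal := by
    constructor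
    intro n hn g
    obtain ⟨j, rfl⟩ := Subgroup.mem_zpowers_iff.mp hn
    have hcomm : g * (⟨y, hyC⟩ : Subgroup.centralizer ({y} : Set G)) =
        (⟨y, hyC⟩ : Subgroup.centralizer ({y} : Set G)) * g := by
      apply Subtype.ext
      have := (Subgroup.mem_centralizer_iff.mp g.2) y (Set.mem_singleton y)
      exact this.symm
    have hc : Commute g ((⟨y, hyC⟩ : Subgroup.centralizer ({y} : Set G)) ^ j) :=
      (Commute.zpow_right hcomm j)
    rw [hc.eq, mul_inv_cancel_right]
    exact Subgroup.zpow_mem _ (Subgroup.mem_zpowers _) j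
  have hZp : IsPGroup p (Subgroup.zpowers (⟨y, hyC⟩ : Subgroup.centralizer ({y} : Set G))) := by
    obtain ⟨k, hk⟩ := hy
    apply IsPGroup.of_card (n := k)
    rw [Nat.card_zpowers, Subgroup.orderOf_mk, hk]
  have hle : Subgroup.zpowers (⟨y, hyC⟩ : Subgroup.centralizer ({y} : Set G)) ≤ D₀ :=
    (Cfsg.Agent.Lib.Helper16.le_pCore hZn hZp).trans
      (Cfsg.Agent.S0912.result p M hM e he D₀ hD₀)
  have hyD : y ∈ D₀.map (Subgroup.centralizer ({y} : Set G)).subtype :=
    ⟨⟨y, hyC⟩, hle (Subgroup.mem_zpowers _), rfl⟩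
  have hC' : Subgroup.centralizer
      ((D₀.map (Subgroup.centralizer ({y} : Set G)).subtype : Subgroup G) : Set G) ≤
      Subgroup.centralizer ({y} : Set G) := by
    apply Subgroup.centralizer_le
    intro z hz
    rw [Set.mem_singleton_iff] at hz
    rw [hz]
    exact hyD
  obtain ⟨B', -, hind, -, -⟩ := exists_induced_of_centralizer_le hM _ he D₀ hD₀ hC'
  exact ⟨D₀, B', hD₀, hC', hind⟩

/-- **S4727** -/
theorem value_mul_pi'_element {p : ℕ} [Fact p.Prime] (hM : IsPModular p M) (π : Set ℕ)
    (hpπ : p ∈ π) {B : Set (IrrCharacter G)} (hB : IsPBlock M B) (D : Subgroup G)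
    (hBD : IsDefectGroup p M B D)
    (B₁ : Set (IrrCharacter (Subgroup.normalizer (D : Set G))))
    (hB₁ : IsInducedBlock M (Subgroup.normalizer (D : Set G)) B₁ B)
    (hker : ∀ n : Subgroup.normalizer (D : Set G),
      n ∈ piCore {q | q ∉ π} (Subgroup.normalizer (D : Set G)) → n ∈ blockKer B₁)
    (y : G) (hy : ∃ k : ℕ, orderOf y = p ^ k)
    (hC : ∀ x : Subgroup.centralizer ({y} : Set G),
      (∀ q : ℕ, q.Prime → q ∣ orderOf x → q ∉ π) →
        x ∈ piCore {q | q ∉ π} (Subgroup.centralizer ({y} : Set G))) :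
    ∀ χ ∈ B, ∀ x : G, x ∈ Subgroup.centralizer ({y} : Set G) →
      (∀ q : ℕ, q.Prime → q ∣ orderOf x → q ∉ π) → (χ : G → ℂ) (y * x) = (χ : G → ℂ) y := by
  have hprime : M.IsPrime := hM.2.1.isPrime
  have hp : p.Prime := Fact.out
  intro χ hχ x hx hxπ
  have : Fintype (IrrCharacter (Subgroup.centralizer ({y} : Set G))) := Fintype.ofFinite _
  have : Fintype {b : Set (IrrCharacter (Subgroup.centralizer ({y} : Set G))) // IsPBlock M b} :=
    Fintype.ofFinite _
  have hCmem : ∀ g : G, g ∈ Subgroup.centralizer ({y} : Set G) ↔ g * y = y * g := by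
    intro g
    rw [Subgroup.mem_centralizer_iff]
    constructor
    · intro h
      exact (h y (Set.mem_singleton y)).symm
    · intro h z hz
      rw [Set.mem_singleton_iff] at hz
      rw [hz]
      exact h.symm
  obtain ⟨s, hs⟩ : ∃ s : Subgroup.centralizer ({y} : Set G), s = ⟨x, hx⟩ := ⟨_, rfl⟩
  have hsx : (s : G) = x := by rw [hs]
  have hord : orderOf s = orderOf x := by
    rw [← hsx, Subgroup.orderOf_coe]
  have hsreg : ¬ p ∣ orderOf s := by
    rw [hord]
    intro hd
    exact hxπ p hp hd hpπ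
  have hspi : s ∈ piCore {q | q ∉ π} (Subgroup.centralizer ({y} : Set G)) := by
    apply hC s
    rw [hord]
    exact hxπ
  have h1reg : ¬ p ∣ orderOf (1 : Subgroup.centralizer ({y} : Set G)) := by
    rw [orderOf_one]
    exact hp.one_lt.ne' ∘ Nat.dvd_one.mp
  have hcl := isClassFunction_shiftRes y (Subgroup.centralizer ({y} : Set G)) hCmem
    (Helper4.isClassFunction_of_isIrrCharacter χ.2)
  -- expansion over the blocks
  have hexp : ∀ t : Subgroup.centralizer ({y} : Set G),
      (χ : G → ℂ) (y * (t : G)) =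
        ∑ e : {b : Set (IrrCharacter (Subgroup.centralizer ({y} : Set G))) // IsPBlock M b},
          blockPart e.1 (shiftRes y (Subgroup.centralizer ({y} : Set G)) (χ : G → ℂ)) t := by
    intro t
    have hexp := congrFun (Helper4.classFunction_expansion _ hcl) t
    rw [Finset.sum_apply] at hexp
    simp only [Pi.smul_apply, smul_eq_mul] at hexp
    have h1 : shiftRes y (Subgroup.centralizer ({y} : Set G)) (χ : G → ℂ) t =
        (χ : G → ℂ) (y * (t : G)) := rfl
    rw [← h1, hexp, sum_irr_eq_sum_blocks (M := M)]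
    refine Finset.sum_congr rfl fun e _ => ?_
    rw [blockPart_apply_sum]
    refine Finset.sum_congr rfl fun ψ _ => ?_
    by_cases h : ψ ∈ e.1
    · rw [if_pos h, if_pos h]
    · rw [if_neg h, if_neg h, zero_mul]
  have h1 := hexp s
  have h2 := hexp 1
  rw [hsx] at h1
  rw [Subgroup.coe_one, mul_one] at h2
  rw [h1, h2]
  refine Finset.sum_congr rfl fun e _ => ?_
  obtain ⟨D₀, B', hD₀, hC', hind⟩ := exists_induced_of_centralizer_pElement hM y hy e.2
  by_cases hBB : B' = B
  · rw [hBB] at hind
    have hk := piCore_le_blockKer_of_induced hM π hpπ hB D hBD B₁ hB₁ hker _ e.1 hind D₀ hD₀ hC'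
      s hspi
    rw [blockPart_apply_sum, blockPart_apply_sum]
    refine Finset.sum_congr rfl fun ψ _ => ?_
    by_cases h : ψ ∈ e.1
    · rw [hk ψ h]
    · rw [if_neg h, zero_mul, zero_mul]
  · have hχ' : χ ∉ B' := by
      intro hmem
      exact hBB (block_eq_of_mem hind.2.1 hB hmem hχ)
    rw [section_blockPart_eq_zero hM y hy _ hCmem hind χ hχ' s hsreg,
      section_blockPart_eq_zero hM y hy _ hCmem hind χ hχ' 1 h1reg]

end PiKerF

end Cfsg.Agent.Lib.Helper28
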