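import Mathlib
import Cfsg.Prelude
import Cfsg.Agent.Lib.Helper28.PiKerE

set_option autoImplicit false

/-!
# From a local kernel condition to the Brauer correspondent (helper28)  -- S4728
-/

namespace Cfsg.Agent.Lib.Helper28

open Cfsg Cfsg.Agent.Lib.Helper4 Cfsg.Agent.Lib.Helper26
open scoped ComplexConjugate Classical

section PiKerG

variable {G : Type*} [Group G] [Fintype G] {M : Ideal AlgInt}

/-- elements of `O_{π'}(X)` are `π'`-elements -/
theorem piCoreOf_orderOf (π : Set ℕ) (X : Subgroup G) {z : G} (hz : z ∈ piCoreOf π X) :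
    ∀ q : ℕ, q.Prime → q ∣ orderOf z → q ∈ π := by
  intro q hq hqd
  apply Cfsg.Agent.Lib.Helper13.piCoreOf_primes π X q hq
  have h1 : orderOf z = orderOf (⟨z, hz⟩ : piCoreOf π X) := (Subgroup.orderOf_mk z hz).symm
  rw [h1] at hqd
  exact hqd.trans (orderOf_dvd_natCard _)

/-- `O_{π'}(N_G(Q))` centralizes the `p`-subgroup `Q` (`p ∈ π`) -/
theorem piCoreOf_normalizer_le_centralizer {p : ℕ} [hp : Fact p.Prime] (π : Set ℕ) (hpπ : p ∈ π)
    (Q : Subgroup G) (hQp : IsPGroup p Q) :
    piCoreOf {q | q ∉ π} (Subgroup.normalizer (Q : Set G)) ≤ Subgroup.centralizer (Q : Set G) := by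
  intro n hn
  rw [Subgroup.mem_centralizer_iff]
  intro q hq
  have hnN : n ∈ Subgroup.normalizer (Q : Set G) :=
    Cfsg.Agent.Lib.Helper13.piCoreOf_le _ _ hn
  have hqN : q ∈ Subgroup.normalizer (Q : Set G) := Subgroup.le_normalizer hq
  -- the commutator lies in both `Q` and the core
  have h1 : n * q * n⁻¹ * q⁻¹ ∈ Q := by
    apply Q.mul_mem _ (Q.inv_mem hq)
    exact (Subgroup.mem_normalizer_iff.mp hnN q).mp hq
  have h2 : n * q * n⁻¹ * q⁻¹ ∈ piCoreOf {q | q ∉ π} (Subgroup.normalizer (Q : Set G)) := by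
    have hqn := Cfsg.Agent.Lib.Helper13.le_normalizer_piCoreOf {q | q ∉ π}
      (Subgroup.normalizer (Q : Set G)) hqN
    have h3 : q * n⁻¹ * q⁻¹ ∈ piCoreOf {q | q ∉ π} (Subgroup.normalizer (Q : Set G)) :=
      (Subgroup.mem_normalizer_iff.mp hqn n⁻¹).mp (Subgroup.inv_mem _ hn)
    have := Subgroup.mul_mem _ hn h3
    convert this using 1
    group
  -- coprime orders force it to be trivial
  have h4 : orderOf (n * q * n⁻¹ * q⁻¹) = 1 := by
    obtain ⟨k, hk⟩ := (IsPGroup.iff_orderOf.mp hQp) ⟨_, h1⟩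
    rw [Subgroup.orderOf_mk] at hk
    rcases Nat.eq_zero_or_pos k with hk0 | hkpos
    · rw [hk, hk0, pow_zero]
    · exfalso
      have hpd : p ∣ orderOf (n * q * n⁻¹ * q⁻¹) := by
        rw [hk]
        exact dvd_pow_self p hkpos.ne'
      exact piCoreOf_orderOf _ _ h2 p hp.out hpd hpπ
  have h5 : n * q * n⁻¹ * q⁻¹ = 1 := orderOf_eq_one_iff.mp h4
  have h6 : n * q = q * n := by
    have := congrArg (fun z => z * q * n) h5
    simpa [mul_assoc] using this
  exact h6.symm

/-- the inductive claim for S4728 -/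
theorem piCore_ker_correspondent_of_pair {p : ℕ} [Fact p.Prime] (hM : IsPModular p M)
    (π : Set ℕ) (hpπ : p ∈ π) {B : Set (IrrCharacter G)} (hB : IsPBlock M B) (D : Subgroup G)
    (B₁ : Set (IrrCharacter (Subgroup.normalizer (D : Set G))))
    (hB₁ : IsInducedBlock M (Subgroup.normalizer (D : Set G)) B₁ B)
    (hB₁D : IsDefectGroup p M B₁ (D.subgroupOf (Subgroup.normalizer (D : Set G)))) :
    ∀ (m : ℕ) (Q K : Subgroup G) (b : Set (IrrCharacter K)), Nat.card G - Nat.card Q = m →
      IsPGroup p Q → K = Q ⊔ Subgroup.centralizer (Q : Set G) → IsInducedBlock M K b B →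
      (∀ z : G, z ∈ Subgroup.centralizer (Q : Set G) →
        (∀ q : ℕ, q.Prime → q ∣ orderOf z → q ∉ π) →
          z ∈ piCoreOf {q | q ∉ π} (Subgroup.centralizer (Q : Set G))) →
      (∀ k : K, (k : G) ∈ piCoreOf {q | q ∉ π} (Subgroup.centralizer (Q : Set G)) →
        k ∈ blockKer b) →
      ∀ n : Subgroup.normalizer (D : Set G),
        n ∈ piCore {q | q ∉ π} (Subgroup.normalizer (D : Set G)) → n ∈ blockKer B₁ := by
  have hprime : M.IsPrime := hM.2.1.isPrime
  intro m
  induction m using Nat.strong_induction_on with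
  | _ m ih =>
    intro Q K b hm hQp hK hind hZ1 hZ2
    have hQK : Q ≤ K := hK ▸ le_sup_left
    have hCK : Subgroup.centralizer (Q : Set G) ≤ K := hK ▸ le_sup_right
    have hKN : K ≤ Subgroup.normalizer (Q : Set G) :=
      hK.le.trans (sup_centralizer_le_normalizer Q)
    have hQN : Q ≤ Subgroup.normalizer (Q : Set G) := Subgroup.le_normalizer
    have hCN : Subgroup.centralizer (Q : Set G) ≤ Subgroup.normalizer (Q : Set G) :=
      Subgroup.centralizer_le_normalizer _
    obtain ⟨Bt, hBtG, hBtK⟩ := exists_lift_block hM hQp hQK hCK hKN le_rfl hind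
    -- the normal `π'`-subgroup `L = O_{π'}(C_G(Q))`
    obtain ⟨L, hL⟩ : ∃ L : Subgroup G,
      L = piCoreOf {q | q ∉ π} (Subgroup.centralizer (Q : Set G)) := ⟨_, rfl⟩
    have hLN : Subgroup.normalizer (Q : Set G) ≤ Subgroup.normalizer (L : Set G) := by
      rw [hL]
      exact (normalizer_le_normalizer_centralizer Q).trans
        (Cfsg.Agent.Lib.Helper13.normalizer_le_normalizer_piCoreOf _ _)
    have hLn : (L.subgroupOf (Subgroup.normalizer (Q : Set G))).Normal :=
      Subgroup.normal_subgroupOf_of_le_normalizer hLN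
    have hLcop : (Nat.card (L.subgroupOf (Subgroup.normalizer (Q : Set G)))).Coprime p := by
      have hp : p.Prime := Fact.out
      apply Nat.Coprime.symm
      rw [Nat.Prime.coprime_iff_not_dvd hp]
      intro hd
      have h1 : Nat.card (L.subgroupOf (Subgroup.normalizer (Q : Set G))) ∣ Nat.card L := by
        rw [← Subgroup.card_map_of_injective (Subgroup.subtype_injective _)]
        apply Subgroup.card_dvd_of_le
        rintro _ ⟨y, hy, rfl⟩
        exact hy
      have h2 := hd.trans h1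
      rw [hL] at h2
      exact Cfsg.Agent.Lib.Helper13.piCoreOf_primes _ _ p hp h2 hpπ
    set ψ := Subgroup.subgroupOfEquivOfLe hKN with hψdef
    -- (U): `L ≤ ker Bt`
    have hU : ∀ n : Subgroup.normalizer (Q : Set G), (n : G) ∈ L → n ∈ blockKer Bt := by
      have hKL := blockKer_induced_iff (G := Subgroup.normalizer (Q : Set G)) hM
        (K.subgroupOf (Subgroup.normalizer (Q : Set G))) hBtK
        (L.subgroupOf (Subgroup.normalizer (Q : Set G))) hLcop
      intro n hn
      apply hKL.mpr _ n (Subgroup.mem_subgroupOf.mpr hn)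
      intro h hh
      rw [blockKer_preimage_irrEquiv, MulEquiv.symm_symm]
      apply hZ2
      rw [← hL]
      exact Subgroup.mem_subgroupOf.mp hh
    obtain ⟨Dt, hDt⟩ := exists_isDefectGroup (G := Subgroup.normalizer (Q : Set G)) hM hBtG.1
    have hn : (Q.subgroupOf (Subgroup.normalizer (Q : Set G))).Normal :=
      Subgroup.normal_subgroupOf_of_le_normalizer le_rfl
    have hQ'p : IsPGroup p (Q.subgroupOf (Subgroup.normalizer (Q : Set G))) := hQp.comap_subtype
    have hQ'Dt : Q.subgroupOf (Subgroup.normalizer (Q : Set G)) ≤ Dt :=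
      (Cfsg.Agent.Lib.Helper16.le_pCore hn hQ'p).trans
        (Cfsg.Agent.S0912.result p M hM Bt hBtG.1 Dt hDt)
    by_cases hcard : Nat.card Dt = Nat.card (Q.subgroupOf (Subgroup.normalizer (Q : Set G)))
    · have hEq : Q.subgroupOf (Subgroup.normalizer (Q : Set G)) = Dt :=
        Subgroup.eq_of_le_of_card_ge hQ'Dt hcard.le
      rw [← hEq] at hDt
      have hQdef : IsDefectGroup p M B Q :=
        defectGroup_of_induced_from_normalizer hM Q hQp hBtG.1 hB hDt hBtG
      have hkerBt : ∀ n : Subgroup.normalizer (Q : Set G),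
          n ∈ piCore {q | q ∉ π} (Subgroup.normalizer (Q : Set G)) → n ∈ blockKer Bt := by
        intro n hn
        apply hU
        rw [hL]
        apply Cfsg.Agent.Lib.Helper13.le_piCoreOf _ (Subgroup.centralizer (Q : Set G))
          (piCoreOf {q | q ∉ π} (Subgroup.normalizer (Q : Set G)))
          (piCoreOf_normalizer_le_centralizer π hpπ Q hQp)
          (hCN.trans (Cfsg.Agent.Lib.Helper13.le_normalizer_piCoreOf _ _))
          (Cfsg.Agent.Lib.Helper13.piCoreOf_primes _ _)
        exact (mem_piCoreOf_coe _ _ n).mpr hn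
      exact piCore_ker_all_correspondents hM π hB Q hQdef Bt hBtG hkerBt D B₁ hB₁ hB₁D
    · have hlt : Nat.card (Q.subgroupOf (Subgroup.normalizer (Q : Set G))) < Nat.card Dt :=
        lt_of_le_of_ne (Subgroup.card_le_of_le hQ'Dt) (Ne.symm hcard)
      have hQQ₂ : Q ≤ Dt.map (Subgroup.normalizer (Q : Set G)).subtype := by
        intro q hq
        exact ⟨⟨q, hQN hq⟩, hQ'Dt (Subgroup.mem_subgroupOf.mpr hq), rfl⟩
      have hCC : Subgroup.centralizer
          ((Dt.map (Subgroup.normalizer (Q : Set G)).subtype : Subgroup G) : Set G) ≤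
          Subgroup.centralizer (Q : Set G) :=
        Subgroup.centralizer_le (by exact_mod_cast hQQ₂)
      have hC₂ := hCC.trans hCN
      obtain ⟨K₀, b₀, K₂, φ, hφ, hK₂, hind₀, hind₂⟩ :=
        exists_down_block hM (Subgroup.normalizer (Q : Set G)) hBtG Dt hDt hC₂
      have hQ₂p : IsPGroup p (Dt.map (Subgroup.normalizer (Q : Set G)).subtype) :=
        (isPGroup_of_isDefectGroup hDt).map _
      have hc1 : Nat.card (Dt.map (Subgroup.normalizer (Q : Set G)).subtype) = Nat.card Dt :=
        Subgroup.card_map_of_injective (Subgroup.subtype_injective _)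
      have hc2 : Nat.card (Q.subgroupOf (Subgroup.normalizer (Q : Set G))) = Nat.card Q :=
        Cfsg.Agent.Lib.Helper4.card_subgroupOf_of_le hQN
      have hc3 : Nat.card (Dt.map (Subgroup.normalizer (Q : Set G)).subtype) ≤ Nat.card G :=
        Subgroup.card_le_card_group _
      have hlt' : Nat.card G - Nat.card (Dt.map (Subgroup.normalizer (Q : Set G)).subtype) <
          m := by
        rw [← hm]
        omega
      -- (Z1) for the bigger subgroup
      have hZ1' : ∀ z : G, z ∈ Subgroup.centralizer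
          ((Dt.map (Subgroup.normalizer (Q : Set G)).subtype : Subgroup G) : Set G) →
          (∀ q : ℕ, q.Prime → q ∣ orderOf z → q ∉ π) →
          z ∈ piCoreOf {q | q ∉ π} (Subgroup.centralizer
            ((Dt.map (Subgroup.normalizer (Q : Set G)).subtype : Subgroup G) : Set G)) := by
        intro z hz hzπ
        apply piCoreOf_inf_le _ (Subgroup.centralizer (Q : Set G)) _ hCC
        exact ⟨hZ1 z (hCC hz) hzπ, hz⟩
      -- (Z2) for the bigger pair
      have hKLd := (blockKer_induced_iff (G := Subgroup.normalizer (Q : Set G)) hM K₀ hind₀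
        (L.subgroupOf (Subgroup.normalizer (Q : Set G))) hLcop).mp
        (fun l hl => hU l (Subgroup.mem_subgroupOf.mp hl))
      have hZ2' : ∀ k : K₂, (k : G) ∈ piCoreOf {q | q ∉ π} (Subgroup.centralizer
          ((Dt.map (Subgroup.normalizer (Q : Set G)).subtype : Subgroup G) : Set G)) →
          k ∈ blockKer ((irrEquiv φ) ⁻¹' b₀) := by
        intro k hk
        rw [blockKer_preimage_irrEquiv]
        apply hKLd
        rw [Subgroup.mem_subgroupOf, ← hφ, MulEquiv.apply_symm_apply, hL]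
        apply hZ1 _ (hCC (Cfsg.Agent.Lib.Helper13.piCoreOf_le _ _ hk))
        exact piCoreOf_orderOf _ _ hk
      exact ih _ hlt' (Dt.map (Subgroup.normalizer (Q : Set G)).subtype) K₂ _ rfl hQ₂p hK₂
        hind₂ hZ1' hZ2'

/-- **S4728** -/
theorem piCore_ker_correspondent_of_local {p : ℕ} [Fact p.Prime] (hM : IsPModular p M)
    (π : Set ℕ) (hpπ : p ∈ π) {B : Set (IrrCharacter G)} (hB : IsPBlock M B) (D : Subgroup G)
    (B₁ : Set (IrrCharacter (Subgroup.normalizer (D : Set G))))
    (hB₁ : IsInducedBlock M (Subgroup.normalizer (D : Set G)) B₁ B)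
    (hB₁D : IsDefectGroup p M B₁ (D.subgroupOf (Subgroup.normalizer (D : Set G))))
    (D₀ : Subgroup G) (hD₀ : IsPGroup p D₀) (H₀ : Subgroup G)
    (hH₀ : H₀ = D₀ ⊔ Subgroup.centralizer (D₀ : Set G)) (b : Set (IrrCharacter H₀))
    (hb : IsInducedBlock M H₀ b B)
    (hcompl : ∀ x : Subgroup.centralizer (D₀ : Set G),
      (∀ q : ℕ, q.Prime → q ∣ orderOf x → q ∉ π) →
        x ∈ piCore {q | q ∉ π} (Subgroup.centralizer (D₀ : Set G)))
    (hkerb : ∀ x : Subgroup.centralizer (D₀ : Set G),
      x ∈ piCore {q | q ∉ π} (Subgroup.centralizer (D₀ : Set G)) → ∀ θ ∈ b, ∀ h : H₀,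
        (h : G) = (x : G) → (θ : H₀ → ℂ) h = (θ : H₀ → ℂ) 1) :
    ∀ n : Subgroup.normalizer (D : Set G),
      n ∈ piCore {q | q ∉ π} (Subgroup.normalizer (D : Set G)) → n ∈ blockKer B₁ := by
  apply piCore_ker_correspondent_of_pair hM π hpπ hB D B₁ hB₁ hB₁D _ D₀ H₀ b rfl hD₀ hH₀ hb
  · intro z hz hzπ
    have := hcompl ⟨z, hz⟩ (by rwa [Subgroup.orderOf_mk])
    exact (mem_piCoreOf_coe _ _ ⟨z, hz⟩).mpr this
  · intro k hk θ hθ
    have hkC : (k : G) ∈ Subgroup.centralizer (D₀ : Set G) :=
      Cfsg.Agent.Lib.Helper13.piCoreOf_le _ _ hk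
    exact hkerb ⟨(k : G), hkC⟩ ((mem_piCoreOf_coe _ _ ⟨(k : G), hkC⟩).mp hk) θ hθ k rfl

end PiKerG

end Cfsg.Agent.Lib.Helper28
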