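import Mathlib
import Cfsg.Prelude.Def_Blocks
import Cfsg.Agent.Lib.Helper28.PrincipalExtA

set_option autoImplicit false

/-!
# A `p'`-degree character of the principal block over a character extendible to `N P` (helper28)
-/

namespace Cfsg.Agent.Lib.Helper28

open Cfsg Cfsg.Agent.Lib.Helper4 Cfsg.Agent.Lib.Helper26
open scoped ComplexConjugate Classical

section

variable {G : Type*} [Group G] [Fintype G] {M : Ideal AlgInt}

theorem pRegular_mem_of_sup_sylow {p : ℕ} [Fact p.Prime] (N : Subgroup G) [N.Normal]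
    (P : Sylow p G) (h : ↥(N ⊔ (P : Subgroup G))) (hh : ¬ p ∣ orderOf h) : (h : G) ∈ N := by
  have hp : p.Prime := Fact.out
  have hKn : (N.subgroupOf (N ⊔ (P : Subgroup G))).Normal :=
    Subgroup.Normal.subgroupOf inferInstance _
  obtain ⟨K, hK⟩ : ∃ K : Subgroup ↥(N ⊔ (P : Subgroup G)),
      K = N.subgroupOf (N ⊔ (P : Subgroup G)) := ⟨_, rfl⟩
  rw [← hK] at hKn
  have hidx : K.index ∣ Nat.card (P : Subgroup G) := by
    have h1 : K.index = N.relIndex (P : Subgroup G) := by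
      rw [hK]
      show N.relIndex (N ⊔ (P : Subgroup G)) = N.relIndex (P : Subgroup G)
      exact Subgroup.relIndex_sup_left _ _
    rw [h1]
    exact Subgroup.index_dvd_card _
  obtain ⟨k, hk⟩ := IsPGroup.iff_card.mp P.2
  rw [hk] at hidx
  obtain ⟨j, -, hj⟩ := (Nat.dvd_prime_pow hp).mp hidx
  have h1 : orderOf (QuotientGroup.mk' K h) ∣ orderOf h := orderOf_map_dvd _ h
  have h2 : orderOf (QuotientGroup.mk' K h) ∣ p ^ j := by
    rw [← hj]
    exact orderOf_dvd_natCard _
  have hcop : Nat.Coprime (orderOf h) (p ^ j) :=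
    Nat.Coprime.pow_right _ ((Nat.Prime.coprime_iff_not_dvd hp).mpr hh).symm
  have h3 : orderOf (QuotientGroup.mk' K h) = 1 := by
    have := Nat.dvd_gcd h1 h2
    rw [hcop] at this
    exact Nat.dvd_one.mp this
  rw [orderOf_eq_one_iff] at h3
  have h4 : h ∈ K := (QuotientGroup.eq_one_iff h).mp h3
  rw [hK] at h4
  exact Subgroup.mem_subgroupOf.mp h4

theorem principal_over_extendible {p : ℕ} [Fact p.Prime] (hM : IsPModular p M)
    (N : Subgroup G) [N.Normal] [instN : Fintype N] (P : Sylow p G)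
    (θ : IrrCharacter N) (hθ : θ ∈ principalBlock M N)
    (hdeg : ¬ p ∣ charDegree (θ : N → ℂ))
    (hext : ∃ η : IrrCharacter ↥(N ⊔ (P : Subgroup G)), ∀ n : N,
      (η : ↥(N ⊔ (P : Subgroup G)) → ℂ) (Subgroup.inclusion le_sup_left n) = (θ : N → ℂ) n) :
    ∃ χ : IrrCharacter G, χ ∈ principalBlock M G ∧ ¬ p ∣ charDegree (χ : G → ℂ) ∧
      classInner (fun n : N => (χ : G → ℂ) n) (θ : N → ℂ) ≠ 0 := by
  obtain ⟨η, hη⟩ := hext
  have : Fintype ↥(N ⊔ (P : Subgroup G)) := Fintype.ofFinite _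
  apply principal_over_of_pReg_le hM N (N ⊔ (P : Subgroup G)) le_sup_left
    (pRegular_mem_of_sup_sylow N P) _ θ hθ hdeg η hη
  intro hd
  exact P.not_dvd_index (hd.trans (Subgroup.index_dvd_of_le le_sup_right))

end

end Cfsg.Agent.Lib.Helper28
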