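import Mathlib
import Cfsg.Agent.Lib.Helper2.BSQ8f
import Cfsg.Agent.Lib.Helper16.PCore

set_option autoImplicit false

/-!
# Groups with a quaternion Sylow 2-subgroup of order 8 and trivial odd core: fusion and the
central quotient (helper28)
-/

namespace Cfsg.Agent.Lib.Helper28

open Cfsg Cfsg.Agent.Lib.Helper2.BSQ8

section Q8

variable {G : Type*} [Group G] [Finite G] (S : Sylow 2 G)
  (e : (S : Subgroup G) ≃* QuaternionGroup 2)

theorem q8_no_complement (hO : ∀ N : Subgroup G, N.Normal → Odd (Nat.card N) → N = ⊥)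
    (hG : (S : Subgroup G) ≠ ⊤) :
    ∀ N : Subgroup G, N.Normal → ¬ Subgroup.IsComplement' N (S : Subgroup G) := by
  intro N hN hc
  have : Fact (Nat.Prime 2) := ⟨Nat.prime_two⟩
  have h1 : (S : Subgroup G).index = Nat.card N := hc.index_eq_card
  have hodd : Odd (Nat.card N) := by
    rw [← h1, ← Nat.not_even_iff_odd, even_iff_two_dvd]
    exact S.not_dvd_index
  have hbot := hO N hN hodd
  rw [hbot] at hc
  exact hG (Subgroup.isComplement'_bot_left.mp hc)

theorem q8_invo_central (hO : ∀ N : Subgroup G, N.Normal → Odd (Nat.card N) → N = ⊥) :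
    invo e ∈ Subgroup.center G :=
  invol_central_aux _ G rfl S (Or.inr ⟨e⟩) hO (invo e) (invo_mem e) (invo_sq e)

theorem q8_invo_eq (hO : ∀ N : Subgroup G, N.Normal → Odd (Nat.card N) → N = ⊥)
    (P : Sylow 2 G) : invo (sylowIso S e P) = invo e := by
  have : Fact (Nat.Prime 2) := ⟨Nat.prime_two⟩
  have hc := q8_invo_central S e hO
  have hn : (Subgroup.zpowers (invo e)).Normal := by
    constructor
    intro n hn g
    have hnc : n ∈ Subgroup.center G := (Subgroup.zpowers_le.mpr hc) hn
    rw [Subgroup.mem_center_iff] at hnc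
    have : g * n * g⁻¹ = n := by
      rw [hnc g]
      group
    rw [this]
    exact hn
  have hp : IsPGroup 2 (Subgroup.zpowers (invo e)) :=
    isPGroup_zpowers_of_pow 1 (by rw [pow_one, pow_two]; exact invo_sq e)
  have hmem : invo e ∈ (P : Subgroup G) :=
    (Cfsg.Agent.Lib.Helper16.normal_pgroup_le_sylow hn hp P) (Subgroup.mem_zpowers _)
  exact (invol_unique (sylowIso S e P) hmem (invo_sq e) (invo_ne e)).symm

theorem q8_involution_unique (hO : ∀ N : Subgroup G, N.Normal → Odd (Nat.card N) → N = ⊥)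
    {s : G} (hs : orderOf s = 2) : s = invo e := by
  have hs2 : s * s = 1 := by
    have := pow_orderOf_eq_one s
    rwa [hs, pow_two] at this
  have hs1 : s ≠ 1 := by
    rintro rfl
    rw [orderOf_one] at hs
    omega
  obtain ⟨P, hP⟩ := exists_sylow_ge
    (isPGroup_zpowers_of_pow (x := s) 1 (by rw [pow_one, pow_two]; exact hs2))
  have hsP := hP (Subgroup.mem_zpowers s)
  rw [← q8_invo_eq S e hO P]
  exact invol_unique (sylowIso S e P) hsP hs2 hs1

theorem q8_two_element_cases (hO : ∀ N : Subgroup G, N.Normal → Odd (Nat.card N) → N = ⊥)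
    {g : G} (hg : ∃ k : ℕ, orderOf g = 2 ^ k) : g = 1 ∨ g = invo e ∨ orderOf g = 4 := by
  obtain ⟨k, hk⟩ := hg
  have hgp : IsPGroup 2 (Subgroup.zpowers g) :=
    IsPGroup.of_card (n := k) (by rw [Nat.card_zpowers, hk])
  obtain ⟨P, hP⟩ := exists_sylow_ge hgp
  have hgP := hP (Subgroup.mem_zpowers g)
  by_cases h1 : g = 1
  · left; exact h1
  by_cases h2 : g = invo e
  · right; left; exact h2
  right; right
  have h2' : g ≠ invo (sylowIso S e P) := by
    rw [q8_invo_eq S e hO P]
    exact h2
  have hsq := sq_eq_invo (sylowIso S e P) hgP h1 h2'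
  exact orderOf_eq_four (by rw [hsq]; exact invo_ne _) (pow_four_of_sq hsq (invo_sq _))

theorem q8_orderOf_invo : orderOf (invo e) = 2 :=
  orderOf_eq_prime (by rw [pow_two]; exact invo_sq e) (invo_ne e)

theorem q8_order_four_conj (hO : ∀ N : Subgroup G, N.Normal → Odd (Nat.card N) → N = ⊥)
    (hG : (S : Subgroup G) ≠ ⊤) {u : G} (hu : orderOf u = 4) : IsConj (yel S e) u := by
  have : Fact (Nat.Prime 2) := ⟨Nat.prime_two⟩
  have hup : IsPGroup 2 (Subgroup.zpowers u) :=
    IsPGroup.of_card (n := 2) (by rw [Nat.card_zpowers, hu]; norm_num)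
  obtain ⟨P, hP⟩ := exists_sylow_ge hup
  obtain ⟨h, hh⟩ := MulAction.exists_smul_eq G P S
  have huS : h * u * h⁻¹ ∈ (S : Subgroup G) := by
    rw [← hh, Sylow.coe_subgroup_smul]
    exact Subgroup.smul_mem_pointwise_smul u (MulAut.conj h) _ (hP (Subgroup.mem_zpowers u))
  have hord : orderOf (h * u * h⁻¹) = 4 := by
    have := (MulAut.conj h).orderOf_eq u
    rw [MulAut.conj_apply] at this
    rw [this, hu]
  have hs1 : h * u * h⁻¹ ≠ 1 := by
    intro h0
    rw [h0, orderOf_one] at hord
    omega
  have hs2 : h * u * h⁻¹ ≠ invo e := by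
    intro h0
    rw [h0, q8_orderOf_invo] at hord
    omega
  obtain ⟨g, hg⟩ := fusion S e (q8_no_complement S hO hG) huS hs1 hs2
  rw [isConj_iff]
  refine ⟨h⁻¹ * g, ?_⟩
  have : h⁻¹ * g * yel S e * (h⁻¹ * g)⁻¹ = h⁻¹ * (g * yel S e * g⁻¹) * h := by group
  rw [this, hg]
  group

include S e in
theorem q8_centralizer_le {u : G} (hu : orderOf u = 4) (T : Subgroup G) (hT : IsPGroup 2 T)
    (huT : u ∈ T) (hcomm : ∀ y ∈ T, y * u = u * y) : T ≤ Subgroup.zpowers u := by
  obtain ⟨P, hP⟩ := exists_sylow_ge hT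
  have huP := hP huT
  have hu1 : u ≠ 1 := by
    rintro rfl
    rw [orderOf_one] at hu
    omega
  have hu2 : u ≠ invo (sylowIso S e P) := by
    intro h
    have h1 : u * u = 1 := by rw [h]; exact invo_sq _
    have h2 : orderOf u ∣ 2 := orderOf_dvd_of_pow_eq_one (by rw [pow_two]; exact h1)
    rw [hu] at h2
    omega
  have hsq := sq_eq_invo (sylowIso S e P) huP hu1 hu2
  intro y hy
  rcases centralizer_cases (sylowIso S e P) huP (hP hy) hsq (hcomm y hy) with h | h | h | h
  · rw [h]; exact one_mem _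
  · rw [h]; exact Subgroup.mem_zpowers u
  · rw [h]; exact mul_mem (Subgroup.mem_zpowers u) (Subgroup.mem_zpowers u)
  · rw [h]
    exact mul_mem (mul_mem (Subgroup.mem_zpowers u) (Subgroup.mem_zpowers u))
      (Subgroup.mem_zpowers u)

include S e in
theorem q8_center_card (hO : ∀ N : Subgroup G, N.Normal → Odd (Nat.card N) → N = ⊥) :
    Nat.card (Subgroup.center G) = 2 := center_card_q8 S e hO

theorem q8_mem_center_iff (hO : ∀ N : Subgroup G, N.Normal → Odd (Nat.card N) → N = ⊥)
    (g : G) : g ∈ Subgroup.center G ↔ g = 1 ∨ g = invo e := by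
  constructor
  · intro hg
    have hdvd : orderOf (⟨g, hg⟩ : Subgroup.center G) ∣ 2 := by
      rw [← q8_center_card S e hO]
      exact orderOf_dvd_natCard _
    rw [Subgroup.orderOf_mk] at hdvd
    have hgg : g ^ 2 = 1 := orderOf_dvd_iff_pow_eq_one.mp hdvd
    by_cases h1 : g = 1
    · left; exact h1
    · right
      exact q8_involution_unique S e hO (orderOf_eq_prime hgg h1)
  · rintro (rfl | rfl)
    · exact one_mem _
    · exact q8_invo_central S e hO

include S e in
theorem q8_quot_sylow (hO : ∀ N : Subgroup G, N.Normal → Odd (Nat.card N) → N = ⊥) :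
    ∃ V : Sylow 2 (G ⧸ Subgroup.center G), Nat.card V = 4 ∧ ∀ x : V, x * x = 1 := by
  have : Fact (Nat.Prime 2) := ⟨Nat.prime_two⟩
  refine ⟨S.mapSurjective (QuotientGroup.mk'_surjective (Subgroup.center G)), ?_, ?_⟩
  · have hS8 : Nat.card (S : Subgroup G) = 8 := by
      rw [Nat.card_congr e.toEquiv, Nat.card_eq_fintype_card, card_q8]
    have hν : (Nat.card G).factorization 2 = 3 := by
      have h := S.card_eq_multiplicity
      rw [hS8] at h
      have h8 : (8 : ℕ) = 2 ^ 3 := by norm_num
      rw [h8] at h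
      exact (Nat.pow_right_injective (le_refl 2) h).symm
    have hcardG : Nat.card G = Nat.card (G ⧸ Subgroup.center G) * 2 := by
      rw [← q8_center_card S e hO]
      exact Subgroup.card_eq_card_quotient_mul_card_subgroup _
    have hν' : (Nat.card (G ⧸ Subgroup.center G)).factorization 2 = 2 := by
      have hne : Nat.card (G ⧸ Subgroup.center G) ≠ 0 := Nat.card_pos.ne'
      have h := congrArg (fun n => n.factorization 2) hcardG
      beta_reduce at h
      rw [Nat.factorization_mul hne (by norm_num), Finsupp.add_apply, hν,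
        Nat.prime_two.factorization_self] at h
      omega
    rw [Sylow.card_eq_multiplicity, hν']
    norm_num
  · rintro ⟨x, hx⟩
    apply Subtype.ext
    obtain ⟨s, hs, rfl⟩ := hx
    show (QuotientGroup.mk' (Subgroup.center G) s) * (QuotientGroup.mk' (Subgroup.center G) s) = 1
    rw [← map_mul]
    apply (QuotientGroup.eq_one_iff _).mpr
    by_cases h1 : s = 1
    · rw [h1, one_mul]
      exact one_mem _
    by_cases h2 : s = invo e
    · rw [h2, invo_sq]
      exact one_mem _
    rw [sq_eq_invo e hs h1 h2]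
    exact q8_invo_central S e hO

include S e in
theorem q8_quot_one_class (hO : ∀ N : Subgroup G, N.Normal → Odd (Nat.card N) → N = ⊥)
    (hG : (S : Subgroup G) ≠ ⊤) :
    ∀ s t : G ⧸ Subgroup.center G, orderOf s = 2 → orderOf t = 2 → IsConj s t := by
  have key : ∀ s : G ⧸ Subgroup.center G, orderOf s = 2 →
      IsConj ((yel S e : G) : G ⧸ Subgroup.center G) s := by
    intro s hs
    obtain ⟨g, rfl⟩ := QuotientGroup.mk_surjective s
    have hs2 : (g : G ⧸ Subgroup.center G) * (g : G ⧸ Subgroup.center G) = 1 := by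
      have := pow_orderOf_eq_one (g : G ⧸ Subgroup.center G)
      rwa [hs, pow_two] at this
    have hs1 : (g : G ⧸ Subgroup.center G) ≠ 1 := by
      intro h
      rw [h, orderOf_one] at hs
      omega
    have hgg : g * g ∈ Subgroup.center G := by
      rw [← QuotientGroup.eq_one_iff, QuotientGroup.mk_mul]
      exact hs2
    have hgn : g ∉ Subgroup.center G := by
      rw [← QuotientGroup.eq_one_iff]
      exact hs1
    rcases (q8_mem_center_iff S e hO (g * g)).mp hgg with h | h
    · exfalso
      have hg1 : g ≠ 1 := by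
        rintro rfl
        exact hgn (one_mem _)
      have ho : orderOf g = 2 := orderOf_eq_prime (by rw [pow_two]; exact h) hg1
      rw [q8_involution_unique S e hO ho] at hgn
      exact hgn (q8_invo_central S e hO)
    · have ho : orderOf g = 4 :=
        orderOf_eq_four (by rw [h]; exact invo_ne e) (pow_four_of_sq h (invo_sq e))
      obtain ⟨c, hc⟩ := isConj_iff.mp (q8_order_four_conj S e hO hG ho)
      rw [isConj_iff]
      refine ⟨(c : G ⧸ Subgroup.center G), ?_⟩
      rw [← hc]
      simp
  intro s t hs ht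
  exact (key s hs).symm.trans (key t ht)

end Q8

end Cfsg.Agent.Lib.Helper28
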