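import Mathlib
import Cfsg.Agent.Lib.Helper28.QuotRankA
import Cfsg.Prelude.Def_BlockRank

set_option autoImplicit false

/-!
# The `p`-regular rank of the principal block modulo a centralized normal `p`-subgroup (helper28)
-/

namespace Cfsg.Agent.Lib.Helper28

open Cfsg Cfsg.Agent.Lib.Helper4 Cfsg.Agent.Lib.Helper26
open scoped ComplexConjugate Classical

section QuotRankB

variable {G : Type*} [Group G] [Fintype G] {M : Ideal AlgInt}

/-- inflation followed by restriction to the `p`-regular elements -/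
noncomputable def inflP (p : ℕ) (Q : Subgroup G) [Q.Normal] : (G ⧸ Q → ℂ) →ₗ[ℂ] (G → ℂ) where
  toFun f := fun g => if IsPRegular p g then f (g : G ⧸ Q) else 0
  map_add' := by
    intro f h
    funext g
    by_cases hg : IsPRegular p g
    · simp only [if_pos hg, Pi.add_apply]
    · simp only [if_neg hg, Pi.add_apply, add_zero]
  map_smul' := by
    intro c f
    funext g
    by_cases hg : IsPRegular p g
    · simp only [if_pos hg, Pi.smul_apply, RingHom.id_apply]
    · simp only [if_neg hg, Pi.smul_apply, RingHom.id_apply, smul_zero]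

omit [Fintype G] in
theorem inflP_apply_pos (p : ℕ) (Q : Subgroup G) [Q.Normal] (f : G ⧸ Q → ℂ) {g : G}
    (hg : IsPRegular p g) : inflP p Q f g = f (g : G ⧸ Q) := by
  show (if IsPRegular p g then f (g : G ⧸ Q) else 0) = _
  rw [if_pos hg]

omit [Fintype G] in
theorem inflP_apply_neg (p : ℕ) (Q : Subgroup G) [Q.Normal] (f : G ⧸ Q → ℂ) {g : G}
    (hg : ¬ IsPRegular p g) : inflP p Q f g = 0 := by
  show (if IsPRegular p g then f (g : G ⧸ Q) else 0) = _
  rw [if_neg hg]

omit [Fintype G] in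
theorem pRegularPart_apply_pos (p : ℕ) (χ : G → ℂ) {g : G} (hg : IsPRegular p g) :
    pRegularPart p χ g = χ g := by
  unfold pRegularPart
  rw [if_pos hg]

omit [Fintype G] in
theorem pRegularPart_apply_neg (p : ℕ) (χ : G → ℂ) {g : G} (hg : ¬ IsPRegular p g) :
    pRegularPart p χ g = 0 := by
  unfold pRegularPart
  rw [if_neg hg]

omit [Fintype G] in
theorem isPRegular_mk {p : ℕ} (Q : Subgroup G) [Q.Normal] {g : G} (hg : IsPRegular p g) :
    IsPRegular p (g : G ⧸ Q) := fun hd =>
  hg (hd.trans (orderOf_map_dvd (QuotientGroup.mk' Q) g))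

omit [Fintype G] in
/-- inflation of the `p`-regular part is the `p`-regular part of the inflation -/
theorem inflP_pRegularPart (p : ℕ) (Q : Subgroup G) [Q.Normal] (f : G ⧸ Q → ℂ) :
    inflP p Q (pRegularPart p f) = pRegularPart p (f ∘ (QuotientGroup.mk : G → G ⧸ Q)) := by
  funext g
  by_cases hg : IsPRegular p g
  · rw [inflP_apply_pos p Q _ hg, pRegularPart_apply_pos p _ (isPRegular_mk Q hg),
      pRegularPart_apply_pos p _ hg]
    rfl
  · rw [inflP_apply_neg p Q _ hg, pRegularPart_apply_neg p _ hg]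

omit [Fintype G] in
theorem inflP_pRegularPart_self (p : ℕ) (Q : Subgroup G) [Q.Normal] (f : G ⧸ Q → ℂ) :
    inflP p Q (pRegularPart p f) = inflP p Q f := by
  funext g
  by_cases hg : IsPRegular p g
  · rw [inflP_apply_pos p Q _ hg, inflP_apply_pos p Q _ hg,
      pRegularPart_apply_pos p _ (isPRegular_mk Q hg)]
  · rw [inflP_apply_neg p Q _ hg, inflP_apply_neg p Q _ hg]

/-- pushforward of a function along the quotient map -/
noncomputable def pushQ (Q : Subgroup G) [Q.Normal] (F : G → ℂ) : G ⧸ Q → ℂ :=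
  fun x => ∑ g : G, if (g : G ⧸ Q) = x then F g else 0

theorem isClassFunction_pushQ (Q : Subgroup G) [Q.Normal] {F : G → ℂ}
    (hF : IsClassFunction G F) : IsClassFunction (G ⧸ Q) (pushQ Q F) := by
  intro x k
  obtain ⟨k₀, rfl⟩ := QuotientGroup.mk_surjective k
  unfold pushQ
  rw [← Equiv.sum_comp (MulAut.conj k₀).toEquiv]
  refine Finset.sum_congr rfl fun g _ => ?_
  have h1 : (MulAut.conj k₀).toEquiv g = k₀ * g * k₀⁻¹ := rfl
  rw [h1, hF g k₀]
  have h2 : ((k₀ * g * k₀⁻¹ : G) : G ⧸ Q) = (k₀ : G ⧸ Q) * x * (k₀ : G ⧸ Q)⁻¹ ↔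
      (g : G ⧸ Q) = x := by
    rw [QuotientGroup.mk_mul, QuotientGroup.mk_mul, QuotientGroup.mk_inv]
    constructor
    · intro h
      have := mul_right_cancel h
      exact mul_left_cancel this
    · intro h
      rw [h]
  by_cases h : (g : G ⧸ Q) = x
  · rw [if_pos h, if_pos (h2.mpr h)]
  · rw [if_neg h, if_neg (fun h' => h (h2.mp h'))]

theorem classInner_pushQ (Q : Subgroup G) [Q.Normal] [Fintype (G ⧸ Q)] (F : G → ℂ)
    (ψ : G ⧸ Q → ℂ) :
    classInner (pushQ Q F) ψ =
      (Nat.card (G ⧸ Q) : ℂ)⁻¹ * ∑ g : G, F g * conj (ψ (g : G ⧸ Q)) := by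
  unfold classInner pushQ
  congr 1
  simp only [Finset.sum_mul]
  rw [Finset.sum_comm]
  refine Finset.sum_congr rfl fun g _ => ?_
  rw [Finset.sum_eq_single (g : G ⧸ Q)]
  · rw [if_pos rfl]
  · intro x _ hx
    rw [if_neg (fun h => hx h.symm), zero_mul]
  · intro h
    exact absurd (Finset.mem_univ _) h

end QuotRankB

end Cfsg.Agent.Lib.Helper28
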