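import Mathlib
import Cfsg.Agent.Lib.Helper28.QuotRankB

set_option autoImplicit false

/-!
# `l(B₀(G)) = l(B₀(G/Q))` for a normal `p`-subgroup `Q` with `G = Q C_G(Q)` (helper28)
-/

namespace Cfsg.Agent.Lib.Helper28

open Cfsg Cfsg.Agent.Lib.Helper4 Cfsg.Agent.Lib.Helper26
open scoped ComplexConjugate Classical

section QuotRankC

variable {G : Type*} [Group G] [Fintype G] {M : Ideal AlgInt}

/-- the inflation of an irreducible character of the quotient -/
noncomputable def inflIrr (Q : Subgroup G) [Q.Normal] (ψ : IrrCharacter (G ⧸ Q)) :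
    IrrCharacter G :=
  ⟨(ψ : G ⧸ Q → ℂ) ∘ (QuotientGroup.mk : G → G ⧸ Q),
    isIrrCharacter_comp_of_surjective ψ.2 (QuotientGroup.mk' Q) (QuotientGroup.mk'_surjective Q)⟩

/-- the `p`-regular part of a member of the principal block of `G` is a combination of the
inflated `p`-regular parts of the members of the principal block of `G ⧸ Q` -/
theorem pRegularPart_mem_map {p : ℕ} [Fact p.Prime] (hM : IsPModular p M)
    (Q : Subgroup G) [Q.Normal] [Fintype (G ⧸ Q)]
    (hQ : IsPGroup p Q) (hsup : Q ⊔ Subgroup.centralizer (Q : Set G) = ⊤)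
    (χ : IrrCharacter G) (hχ : χ ∈ principalBlock M G) :
    pRegularPart p (χ : G → ℂ) ∈ (Submodule.span ℂ
      ((fun ψ : IrrCharacter (G ⧸ Q) => pRegularPart p (ψ : G ⧸ Q → ℂ)) ''
        principalBlock M (G ⧸ Q))).map (inflP p Q) := by
  have : Fintype (IrrCharacter (G ⧸ Q)) := Fintype.ofFinite _
  have hprime : M.IsPrime := hM.2.1.isPrime
  have hcfχ : IsClassFunction G (pRegularPart p (χ : G → ℂ)) := by
    intro g k
    have h1 : orderOf (k * g * k⁻¹) = orderOf g := (MulAut.conj k).orderOf_eq g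
    by_cases hg : IsPRegular p g
    · have hg' : IsPRegular p (k * g * k⁻¹) := by
        unfold IsPRegular
        rw [h1]
        exact hg
      rw [pRegularPart_apply_pos p _ hg, pRegularPart_apply_pos p _ hg',
        Helper26.isClassFunction_of_isIrrCharacter χ.2 g k]
    · have hg' : ¬ IsPRegular p (k * g * k⁻¹) := by
        unfold IsPRegular
        rw [h1]
        exact hg
      rw [pRegularPart_apply_neg p _ hg, pRegularPart_apply_neg p _ hg']
  set fbar := pushQ Q (pRegularPart p (χ : G → ℂ)) with hfbar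
  have hcf : IsClassFunction (G ⧸ Q) fbar := isClassFunction_pushQ Q hcfχ
  have hexp := Cfsg.Agent.Lib.Helper4.classFunction_expansion fbar hcf
  -- the `p`-regular part of `χ` is the inflation of `fbar`
  have hinfl : pRegularPart p (χ : G → ℂ) = inflP p Q fbar := by
    funext g
    by_cases hg : IsPRegular p g
    · rw [inflP_apply_pos p Q _ hg, hfbar]
      unfold pushQ
      rw [Finset.sum_eq_single g]
      · rw [if_pos rfl]
      · intro g' _ hne
        by_cases h : (g' : G ⧸ Q) = (g : G ⧸ Q)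
        · rw [if_pos h]
          by_cases hg' : IsPRegular p g'
          · exact absurd (preg_eq_of_mk_eq Q hQ hsup hg hg' h) hne
          · exact pRegularPart_apply_neg p _ hg'
        · rw [if_neg h]
      · intro h
        exact absurd (Finset.mem_univ _) h
    · rw [inflP_apply_neg p Q _ hg, pRegularPart_apply_neg p _ hg]
  -- coefficients outside the principal block vanish
  have hcoef : ∀ ψ : IrrCharacter (G ⧸ Q), ψ ∉ principalBlock M (G ⧸ Q) →
      classInner fbar (ψ : G ⧸ Q → ℂ) = 0 := by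
    intro ψ hψ
    rw [hfbar, classInner_pushQ]
    have hnot : inflIrr Q ψ ∉ principalBlock M G := fun h =>
      hψ ((inflation_mem_principalBlock_iff hM Q hQ hsup ψ (inflIrr Q ψ) rfl).mp h)
    have hnsb : ¬ SameBlock M (χ : G → ℂ) ((inflIrr Q ψ : IrrCharacter G) : G → ℂ) := by
      intro hsb
      apply hnot
      have h1 : SameBlock M ((trivIrr G : IrrCharacter G) : G → ℂ) (χ : G → ℂ) := hχ
      exact Helper28.sameBlock_trans h1 hsb
    have h0 := preg_orthogonality hM χ (inflIrr Q ψ) hnsb
    have h1 : ∑ g : G, pRegularPart p (χ : G → ℂ) g * conj ((ψ : G ⧸ Q → ℂ) (g : G ⧸ Q)) =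
        ∑ x : G, (if p ∣ orderOf x then 0 else
          (χ : G → ℂ) x * conj (((inflIrr Q ψ : IrrCharacter G) : G → ℂ) x)) := by
      refine Finset.sum_congr rfl fun g _ => ?_
      by_cases hg : p ∣ orderOf g
      · rw [if_pos hg, pRegularPart_apply_neg p _ (not_not.mpr hg), zero_mul]
      · rw [if_neg hg, pRegularPart_apply_pos p _ hg]
        rfl
    rw [h1, h0, mul_zero]
  rw [hinfl, hexp, map_sum]
  apply Submodule.sum_mem
  intro ψ _
  rw [map_smul]
  by_cases hψ : ψ ∈ principalBlock M (G ⧸ Q)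
  · apply Submodule.smul_mem
    rw [← inflP_pRegularPart_self]
    exact Submodule.mem_map_of_mem (Submodule.subset_span ⟨ψ, hψ, rfl⟩)
  · rw [hcoef ψ hψ, zero_smul]
    exact Submodule.zero_mem _

/-- **`l(B₀(G)) = l(B₀(G/Q))`** for a normal `p`-subgroup `Q` with `G = Q C_G(Q)` -/
theorem blockRank_principal_quot {p : ℕ} [Fact p.Prime] (hM : IsPModular p M)
    (Q : Subgroup G) [Q.Normal]
    (hQ : IsPGroup p Q) (hsup : Q ⊔ Subgroup.centralizer (Q : Set G) = ⊤) :
    blockRank p (principalBlock M G) = blockRank p (principalBlock M (G ⧸ Q)) := by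
  have : Fintype (G ⧸ Q) := Fintype.ofFinite _
  set Vb : Submodule ℂ (G ⧸ Q → ℂ) := Submodule.span ℂ
    ((fun ψ : IrrCharacter (G ⧸ Q) => pRegularPart p (ψ : G ⧸ Q → ℂ)) ''
      principalBlock M (G ⧸ Q)) with hVb
  set V : Submodule ℂ (G → ℂ) := Submodule.span ℂ
    ((fun χ : IrrCharacter G => pRegularPart p (χ : G → ℂ)) '' principalBlock M G) with hV
  have hmap : Vb.map (inflP p Q) = V := by
    apply le_antisymm
    · rw [hVb, Submodule.map_span, Submodule.span_le]
      rintro _ ⟨_, ⟨ψ, hψ, rfl⟩, rfl⟩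
      show inflP p Q (pRegularPart p (ψ : G ⧸ Q → ℂ)) ∈ V
      rw [inflP_pRegularPart]
      apply Submodule.subset_span
      exact ⟨inflIrr Q ψ,
        (inflation_mem_principalBlock_iff hM Q hQ hsup ψ (inflIrr Q ψ) rfl).mpr hψ, rfl⟩
    · rw [hV, Submodule.span_le]
      rintro _ ⟨χ, hχ, rfl⟩
      exact pRegularPart_mem_map hM Q hQ hsup χ hχ
  have hvan : ∀ f ∈ Vb, ∀ x : G ⧸ Q, ¬ IsPRegular p x → f x = 0 := by
    intro f hf
    rw [hVb] at hf
    induction hf using Submodule.span_induction with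
    | mem f hf =>
      obtain ⟨ψ, -, rfl⟩ := hf
      intro x hx
      exact pRegularPart_apply_neg p _ hx
    | zero => intro x _; rfl
    | add f h _ _ ihf ihh =>
      intro x hx
      rw [Pi.add_apply, ihf x hx, ihh x hx, add_zero]
    | smul c f _ ih =>
      intro x hx
      rw [Pi.smul_apply, ih x hx, smul_zero]
  have hinj : Function.Injective ((inflP p Q).domRestrict Vb) := by
    rw [← LinearMap.ker_eq_bot, LinearMap.ker_eq_bot']
    rintro ⟨f, hf⟩ h0
    have h0' : inflP p Q f = 0 := h0
    apply Subtype.ext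
    show f = 0
    funext x
    by_cases hx : IsPRegular p x
    · obtain ⟨g, hg, hgx⟩ := exists_preg_lift Q hx
      have h1 := congrFun h0' g
      rw [inflP_apply_pos p Q f hg, hgx] at h1
      exact h1
    · exact hvan f hf x hx
  unfold blockRank
  show Module.finrank ℂ V = Module.finrank ℂ Vb
  rw [← hmap, ← LinearMap.range_domRestrict, LinearMap.finrank_range_of_inj hinj]

end QuotRankC

end Cfsg.Agent.Lib.Helper28
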