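import Mathlib
import Cfsg.Agent.Lib.Helper28.Q8SylA
import Cfsg.Agent.Lib.Helper28.QuotRankC
import Cfsg.Agent.Lib.Helper28.CentralDefectB
import Cfsg.Agent.Lib.Helper28.BrauerS
import Cfsg.Agent.Lib.Helper28.BrauerG
import Cfsg.Agent.Lib.Helper28.BrauerR
import Cfsg.Agent.Lib.Helper28.BrauerU
import Cfsg.Agent.Lib.Helper4.BlockStab
import Cfsg.Agent.S4511
import Cfsg.Agent.S4512
import Cfsg.Agent.S0912

set_option autoImplicit false

/-!
# The principal 2-block of a group with quaternion Sylow 2-subgroup of order 8 (helper28)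
-/

namespace Cfsg.Agent.Lib.Helper28

open Cfsg Cfsg.Agent.Lib.Helper4 Cfsg.Agent.Lib.Helper26 Cfsg.Agent.Lib.Helper2.BSQ8
open scoped ComplexConjugate Classical

section Transport

variable {M : Ideal AlgInt}

theorem pRegularPart_comp_mulEquiv {H G : Type*} [Group H] [Group G] (p : ℕ) (e : H ≃* G)
    (χ : G → ℂ) : pRegularPart p (χ ∘ e) = (pRegularPart p χ) ∘ e := by
  funext h
  have hord : orderOf (e h) = orderOf h := MulEquiv.orderOf_eq e h
  show pRegularPart p (χ ∘ e) h = pRegularPart p χ (e h)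
  by_cases hh : IsPRegular p h
  · have hh' : IsPRegular p (e h) := by
      unfold IsPRegular at hh ⊢
      rwa [hord]
    rw [pRegularPart_apply_pos p _ hh, pRegularPart_apply_pos p _ hh']
    rfl
  · have hh' : ¬ IsPRegular p (e h) := by
      unfold IsPRegular at hh ⊢
      rwa [hord]
    rw [pRegularPart_apply_neg p _ hh, pRegularPart_apply_neg p _ hh']

theorem mem_principalBlock_comp_mulEquiv {H G : Type*} [Group H] [Group G] (e : H ≃* G)
    (χ : IrrCharacter G) (hχ : χ ∈ principalBlock M G) :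
    (⟨(χ : G → ℂ) ∘ e, Cfsg.Agent.Lib.Helper2.isIrrCharacter_comp_mulEquiv χ.2 e⟩ :
      IrrCharacter H) ∈ principalBlock M H := by
  show SameBlock M (fun _ : H => (1 : ℂ)) ((χ : G → ℂ) ∘ e)
  exact Helper4.sameBlock_comp_mulEquiv e hχ

theorem blockRank_principal_mulEquiv {H G : Type*} [Group H] [Group G] (M : Ideal AlgInt)
    (p : ℕ) (e : H ≃* G) :
    blockRank p (principalBlock M H) = blockRank p (principalBlock M G) := by
  obtain ⟨Φ, hΦ⟩ : ∃ Φ : (G → ℂ) ≃ₗ[ℂ] (H → ℂ), ∀ f : G → ℂ, Φ f = f ∘ e :=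
    ⟨LinearEquiv.funCongrLeft ℂ ℂ e.toEquiv, fun f => rfl⟩
  unfold blockRank
  have himg : (fun ψ : IrrCharacter H => pRegularPart p (ψ : H → ℂ)) '' principalBlock M H =
      (Φ : (G → ℂ) →ₗ[ℂ] (H → ℂ)) ''
        ((fun χ : IrrCharacter G => pRegularPart p (χ : G → ℂ)) '' principalBlock M G) := by
    ext f
    constructor
    · rintro ⟨ψ, hψ, rfl⟩
      have hmem := mem_principalBlock_comp_mulEquiv (M := M) e.symm ψ hψ
      refine ⟨_, ⟨_, hmem, rfl⟩, ?_⟩
      show Φ (pRegularPart p ((ψ : H → ℂ) ∘ e.symm)) = pRegularPart p (ψ : H → ℂ)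
      rw [hΦ, ← pRegularPart_comp_mulEquiv]
      congr 1
      funext h
      simp
    · rintro ⟨_, ⟨χ, hχ, rfl⟩, rfl⟩
      have hmem := mem_principalBlock_comp_mulEquiv (M := M) e χ hχ
      refine ⟨_, hmem, ?_⟩
      show pRegularPart p ((χ : G → ℂ) ∘ e) = Φ (pRegularPart p (χ : G → ℂ))
      rw [hΦ, pRegularPart_comp_mulEquiv]
  rw [himg, ← Submodule.map_span]
  exact LinearEquiv.finrank_map_eq Φ _

theorem blockRank_principal_of_eq_top {G : Type*} [Group G] (M : Ideal AlgInt) (p : ℕ)
    (H : Subgroup G) (hH : H = ⊤) :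
    blockRank p (principalBlock M ↥H) = blockRank p (principalBlock M G) :=
  blockRank_principal_mulEquiv M p ((MulEquiv.subgroupCongr hH).trans Subgroup.topEquiv)

end Transport

section Count

variable {G : Type*} [Group G] [Fintype G] {M : Ideal AlgInt}

/-- third main theorem: only the principal block of `C_G(x)` induces the principal block -/
theorem finsum_inducing_principal {p : ℕ} [Fact p.Prime] (hM : IsPModular p M) (x : G)
    (hx : ∃ k : ℕ, orderOf x = p ^ k) :
    ∑ᶠ b ∈ {b : Set (IrrCharacter ↥(Subgroup.centralizer ({x} : Set G))) |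
        IsInducedBlock M (Subgroup.centralizer ({x} : Set G)) b (principalBlock M G)},
      blockRank p b = blockRank p (principalBlock M ↥(Subgroup.centralizer ({x} : Set G))) := by
  have : Fintype ↥(Subgroup.centralizer ({x} : Set G)) := Fintype.ofFinite _
  have hset : {b : Set (IrrCharacter ↥(Subgroup.centralizer ({x} : Set G))) |
      IsInducedBlock M (Subgroup.centralizer ({x} : Set G)) b (principalBlock M G)} =
      {principalBlock M ↥(Subgroup.centralizer ({x} : Set G))} := by
    ext b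
    rw [Set.mem_singleton_iff]
    show IsInducedBlock M (Subgroup.centralizer ({x} : Set G)) b (principalBlock M G) ↔ _
    constructor
    · intro h
      exact (third_main_theorem hM _ b ⟨_, h⟩).mp h
    · rintro rfl
      obtain ⟨hPH, hCH, hHN⟩ := zpowers_centralizer_setup x
      have hP : IsPGroup p (Subgroup.zpowers x) := by
        obtain ⟨k, hk⟩ := hx
        exact IsPGroup.of_card (n := k) (by rw [Nat.card_zpowers, hk])
      have hdef := exists_induced_block hM (Subgroup.zpowers x)
        (Subgroup.centralizer ({x} : Set G)) hP hPH hCH hHN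
        (isPBlock_principalBlock (M := M) (G := ↥(Subgroup.centralizer ({x} : Set G))))
      exact (third_main_theorem hM _ _ hdef).mpr rfl
  rw [hset, finsum_mem_singleton]

variable (S : Sylow 2 G) (e : (S : Subgroup G) ≃* QuaternionGroup 2)

include S e in
theorem q8_blockRank_principal (hM : IsPModular 2 M)
    (hO : ∀ N : Subgroup G, N.Normal → Odd (Nat.card N) → N = ⊥)
    (hG : (S : Subgroup G) ≠ ⊤) : blockRank 2 (principalBlock M G) = 3 := by
  have : Fact (Nat.Prime 2) := ⟨Nat.prime_two⟩
  have hQ : IsPGroup 2 (Subgroup.center G) :=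
    IsPGroup.of_card (n := 1) (by rw [q8_center_card S e hO, pow_one])
  have hsup : Subgroup.center G ⊔ Subgroup.centralizer (Subgroup.center G : Set G) = ⊤ := by
    rw [Subgroup.centralizer_eq_top_iff_subset.mpr (subset_refl _), sup_top_eq]
  rw [blockRank_principal_quot hM (Subgroup.center G) hQ hsup]
  obtain ⟨V, hV4, hVexp⟩ := q8_quot_sylow S e hO
  exact Cfsg.Agent.S4512.result M hM V hV4 hVexp (q8_quot_one_class S e hO hG)

include S e in
theorem q8_blockRank_centralizer_four (hM : IsPModular 2 M) {u : G} (hu : orderOf u = 4) :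
    blockRank 2 (principalBlock M ↥(Subgroup.centralizer ({u} : Set G))) = 1 := by
  have : Fact (Nat.Prime 2) := ⟨Nat.prime_two⟩
  have : Fintype ↥(Subgroup.centralizer ({u} : Set G)) := Fintype.ofFinite _
  have hB : IsPBlock M (principalBlock M ↥(Subgroup.centralizer ({u} : Set G))) :=
    isPBlock_principalBlock
  obtain ⟨D, hD⟩ := exists_isDefectGroup hM hB
  have hDp : IsPGroup 2 D := IsPGroup.of_card (card_defectGroup hM hB hD)
  have h912 := Cfsg.Agent.S0912.result 2 M hM _ hB D hD
  have huC : u ∈ Subgroup.centralizer ({u} : Set G) := by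
    rw [Subgroup.mem_centralizer_iff]
    intro z hz
    rw [Set.mem_singleton_iff] at hz
    rw [hz]
  have hcommC : ∀ h : ↥(Subgroup.centralizer ({u} : Set G)), (h : G) * u = u * (h : G) := by
    intro h
    have := h.2
    rw [Subgroup.mem_centralizer_iff] at this
    exact (this u rfl).symm
  have huZ : (⟨u, huC⟩ : ↥(Subgroup.centralizer ({u} : Set G))) ∈
      Subgroup.center ↥(Subgroup.centralizer ({u} : Set G)) := by
    rw [Subgroup.mem_center_iff]
    intro h
    apply Subtype.ext
    push_cast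
    exact hcommC h
  have hn : (Subgroup.zpowers (⟨u, huC⟩ : ↥(Subgroup.centralizer ({u} : Set G)))).Normal := by
    constructor
    intro n hn g
    have hnc : n ∈ Subgroup.center ↥(Subgroup.centralizer ({u} : Set G)) :=
      (Subgroup.zpowers_le.mpr huZ) hn
    rw [Subgroup.mem_center_iff] at hnc
    have : g * n * g⁻¹ = n := by
      rw [hnc g]
      group
    rw [this]
    exact hn
  have hp : IsPGroup 2 (Subgroup.zpowers (⟨u, huC⟩ : ↥(Subgroup.centralizer ({u} : Set G)))) := by
    apply IsPGroup.of_card (n := 2)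
    rw [Nat.card_zpowers, Subgroup.orderOf_mk, hu]
    norm_num
  have huD : (⟨u, huC⟩ : ↥(Subgroup.centralizer ({u} : Set G))) ∈ D :=
    ((Cfsg.Agent.Lib.Helper16.le_pCore hn hp).trans h912) (Subgroup.mem_zpowers _)
  have hT : IsPGroup 2 (D.map (Subgroup.centralizer ({u} : Set G)).subtype) := hDp.map _
  have huT : u ∈ D.map (Subgroup.centralizer ({u} : Set G)).subtype := ⟨⟨u, huC⟩, huD, rfl⟩
  have hcomm : ∀ y ∈ D.map (Subgroup.centralizer ({u} : Set G)).subtype, y * u = u * y := by
    rintro _ ⟨y, -, rfl⟩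
    exact hcommC y
  have hle := q8_centralizer_le S e hu _ hT huT hcomm
  have hDZ : D ≤ Subgroup.center ↥(Subgroup.centralizer ({u} : Set G)) := by
    intro y hy
    have h1 : (y : G) ∈ Subgroup.zpowers u := hle ⟨y, hy, rfl⟩
    obtain ⟨k, hk⟩ := Subgroup.mem_zpowers_iff.mp h1
    have h2 : y = (⟨u, huC⟩ : ↥(Subgroup.centralizer ({u} : Set G))) ^ k := by
      apply Subtype.ext
      rw [← hk]
      push_cast
      rfl
    rw [h2]
    exact Subgroup.zpow_mem _ huZ k
  exact blockRank_eq_one_of_central_defect hM hB hD hDZ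

include S e in
/-- **the principal 2-block of a group with quaternion Sylow 2-subgroup of order 8** -/
theorem q8_principal_card (hM : IsPModular 2 M)
    (hO : ∀ N : Subgroup G, N.Normal → Odd (Nat.card N) → N = ⊥)
    (hG : (S : Subgroup G) ≠ ⊤) : Nat.card (principalBlock M G) = 7 := by
  have : Fact (Nat.Prime 2) := ⟨Nat.prime_two⟩
  obtain ⟨t, htdef⟩ : ∃ t : G, t = invo e := ⟨_, rfl⟩
  obtain ⟨u, hudef⟩ : ∃ u : G, u = yel S e := ⟨_, rfl⟩
  have hu4 : orderOf u = 4 := by rw [hudef]; exact orderOf_yel S e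
  have ht2 : orderOf t = 2 := by rw [htdef]; exact q8_orderOf_invo S e
  have h1t : (1 : G) ≠ t := by
    intro h
    rw [← h, orderOf_one] at ht2
    omega
  have h1u : (1 : G) ≠ u := by
    intro h
    rw [← h, orderOf_one] at hu4
    omega
  have htu : t ≠ u := by
    intro h
    rw [← h, ht2] at hu4
    omega
  have htc : ∀ c : G, c * t = t * c := by
    have := q8_invo_central S e hO
    rw [← htdef, Subgroup.mem_center_iff] at this
    exact this
  have hconj_ord : ∀ a b : G, IsConj a b → orderOf b = orderOf a := by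
    intro a b hab
    obtain ⟨c, hc⟩ := isConj_iff.mp hab
    rw [← hc]
    have := (MulAut.conj c).orderOf_eq a
    rwa [MulAut.conj_apply] at this
  obtain ⟨X, hXdef⟩ : ∃ X : Finset G, X = {1, t, u} := ⟨_, rfl⟩
  have hmemX : ∀ x : G, x ∈ X ↔ x = 1 ∨ x = t ∨ x = u := by
    intro x
    rw [hXdef]
    simp
  have hX : ∀ x ∈ X, ∃ k : ℕ, orderOf x = 2 ^ k := by
    intro x hx
    rcases (hmemX x).mp hx with rfl | rfl | rfl
    · exact ⟨0, by simp⟩
    · exact ⟨1, by rw [ht2, pow_one]⟩
    · exact ⟨2, by rw [hu4]; norm_num⟩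
  have hXrep : ∀ g : G, (∃ k : ℕ, orderOf g = 2 ^ k) → ∃! x, x ∈ X ∧ IsConj g x := by
    intro g hg
    rcases q8_two_element_cases S e hO hg with h | h | h4
    · refine ⟨1, ⟨(hmemX 1).mpr (Or.inl rfl), by rw [h]⟩, ?_⟩
      rintro y ⟨-, hy⟩
      rw [h] at hy
      obtain ⟨c, hc⟩ := isConj_iff.mp hy
      rw [← hc]
      group
    · rw [← htdef] at h
      refine ⟨t, ⟨(hmemX t).mpr (Or.inr (Or.inl rfl)), by rw [h]⟩, ?_⟩
      rintro y ⟨-, hy⟩
      rw [h] at hy
      obtain ⟨c, hc⟩ := isConj_iff.mp hy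
      rw [← hc, htc c]
      group
    · have hc := q8_order_four_conj S e hO hG h4
      rw [← hudef] at hc
      refine ⟨u, ⟨(hmemX u).mpr (Or.inr (Or.inr rfl)), hc.symm⟩, ?_⟩
      rintro y ⟨hyX, hy⟩
      have hoy : orderOf y = 4 := by rw [hconj_ord g y hy, h4]
      rcases (hmemX y).mp hyX with rfl | rfl | rfl
      · rw [orderOf_one] at hoy
        omega
      · rw [ht2] at hoy
        omega
      · rfl
  have hcount := Cfsg.Agent.S4511.result 2 M hM (principalBlock M G) isPBlock_principalBlock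
    X hX hXrep
  rw [hcount, hXdef]
  have hn1 : (1 : G) ∉ ({t, u} : Finset G) := by
    simp only [Finset.mem_insert, Finset.mem_singleton, not_or]
    exact ⟨h1t, h1u⟩
  have hn2 : t ∉ ({u} : Finset G) := by
    simp only [Finset.mem_singleton]
    exact htu
  rw [Finset.sum_insert hn1, Finset.sum_insert hn2, Finset.sum_singleton,
    finsum_inducing_principal hM 1 ⟨0, by simp⟩,
    finsum_inducing_principal hM t ⟨1, by rw [ht2, pow_one]⟩,
    finsum_inducing_principal hM u ⟨2, by rw [hu4]; norm_num⟩]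
  have hc1 : Subgroup.centralizer ({(1 : G)} : Set G) = ⊤ :=
    Subgroup.centralizer_eq_top_iff_subset.mpr (Set.singleton_subset_iff.mpr (one_mem _))
  have hct : Subgroup.centralizer ({t} : Set G) = ⊤ := by
    apply Subgroup.centralizer_eq_top_iff_subset.mpr
    rw [Set.singleton_subset_iff, htdef]
    exact q8_invo_central S e hO
  rw [blockRank_principal_of_eq_top M 2 _ hc1, blockRank_principal_of_eq_top M 2 _ hct,
    q8_blockRank_principal S e hM hO hG, q8_blockRank_centralizer_four S e hM hu4]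
  norm_num

end Count

end Cfsg.Agent.Lib.Helper28
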