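import Cfsg.Agent.Lib.Helper28.CentralDefectB
import Cfsg.Agent.Lib.Helper28.BrauerM
import Cfsg.Agent.Lib.Helper28.BrauerIndB
import Cfsg.Agent.Lib.Helper26.IndChar
import Cfsg.Agent.Lib.Helper26.CharInt

set_option autoImplicit false

namespace Cfsg.Agent.Lib.Helper28

open Cfsg Cfsg.Agent.Lib.Helper4 Cfsg.Agent.Lib.Helper26
open scoped ComplexConjugate Classical

section

variable {G : Type*} [Group G] [Fintype G] {M : Ideal AlgInt}

/-- a generalized character vanishing on the `p`-singular elements has degree divisible by the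
order of every `p`-subgroup -/
theorem card_dvd_degree_of_vanish {p : ℕ} [Fact p.Prime] {Φ : G → ℂ}
    (hΦ : IsGeneralizedCharacter G Φ) (hv : ∀ g : G, p ∣ orderOf g → Φ g = 0)
    (S : Subgroup G) (hS : IsPGroup p S) :
    ∃ k : ℤ, Φ 1 = (k : ℂ) * (Nat.card S : ℂ) := by
  have : Fintype S := Fintype.ofFinite _
  obtain ⟨k, hk⟩ := classInner_generalized_int (isGeneralizedCharacter_restrict S hΦ)
    (isGeneralizedCharacter_of_isCharacter (isCharacter_one' (G := S)))
  refine ⟨k, ?_⟩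
  have hSc : (Nat.card S : ℂ) ≠ 0 := by exact_mod_cast Nat.card_pos.ne'
  rw [← hk]
  unfold classInner
  have hsum : ∑ g : S, (Φ ∘ S.subtype) g * conj ((fun _ : S => (1 : ℂ)) g) = Φ 1 := by
    rw [Finset.sum_eq_single (1 : S)]
    · simp
    · intro s _ hs
      have hs1 : p ∣ orderOf (s : G) := by
        obtain ⟨k, hk⟩ := hS s
        have hord : orderOf s ∣ p ^ k := orderOf_dvd_of_pow_eq_one hk
        obtain ⟨j, hj, hjo⟩ := (Nat.dvd_prime_pow (Fact.out : p.Prime)).mp hord
        rw [Subgroup.orderOf_coe, hjo]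
        have : j ≠ 0 := by
          rintro rfl
          rw [pow_zero, orderOf_eq_one_iff] at hjo
          exact hs hjo
        exact dvd_pow_self p this
      simp [hv _ hs1]
    · intro h; exact absurd (Finset.mem_univ _) h
  rw [hsum]
  field_simp

/-- rank one: the values on `p`-regular elements are proportional, by the degrees -/
theorem pRegular_prop_of_blockRank_one {p : ℕ} [Fact p.Prime] {B : Set (IrrCharacter G)}
    (hl : blockRank p B = 1) {θ χ : IrrCharacter G} (hθ : θ ∈ B) (hχ : χ ∈ B) (x : G)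
    (hx : ¬ p ∣ orderOf x) :
    (χ : G → ℂ) x = (χ : G → ℂ) 1 / (θ : G → ℂ) 1 * (θ : G → ℂ) x := by
  have hp : p.Prime := Fact.out
  have hθV : pRegularPart p (θ : G → ℂ) ∈ Submodule.span ℂ
      ((fun χ : IrrCharacter G => pRegularPart p (χ : G → ℂ)) '' B) :=
    Submodule.subset_span ⟨θ, hθ, rfl⟩
  have hχV : pRegularPart p (χ : G → ℂ) ∈ Submodule.span ℂ
      ((fun χ : IrrCharacter G => pRegularPart p (χ : G → ℂ)) '' B) :=
    Submodule.subset_span ⟨χ, hχ, rfl⟩
  have h1 : ¬ p ∣ orderOf (1 : G) := by rw [orderOf_one]; exact hp.not_dvd_one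
  have hθ1 : (θ : G → ℂ) 1 ≠ 0 := by
    rw [(irr_degree_nat θ.2).2.1]
    exact_mod_cast (irr_degree_nat θ.2).1
  have hne : (⟨_, hθV⟩ : Submodule.span ℂ
      ((fun χ : IrrCharacter G => pRegularPart p (χ : G → ℂ)) '' B)) ≠ 0 := by
    intro h
    have h2 := congrArg (fun v : Submodule.span ℂ
      ((fun χ : IrrCharacter G => pRegularPart p (χ : G → ℂ)) '' B) => (v : G → ℂ) 1) h
    simp only [Submodule.coe_zero, Pi.zero_apply] at h2
    rw [pRegularPart_of_not_dvd _ h1] at h2
    exact hθ1 h2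
  obtain ⟨c, hc⟩ := (finrank_eq_one_iff_of_nonzero' _ hne).mp hl ⟨_, hχV⟩
  have hc' : c • pRegularPart p (θ : G → ℂ) = pRegularPart p (χ : G → ℂ) :=
    congrArg Subtype.val hc
  have e1 := congrFun hc' 1
  have ex := congrFun hc' x
  rw [Pi.smul_apply, pRegularPart_of_not_dvd _ h1, pRegularPart_of_not_dvd _ h1,
    smul_eq_mul] at e1
  rw [Pi.smul_apply, pRegularPart_of_not_dvd _ hx, pRegularPart_of_not_dvd _ hx,
    smul_eq_mul] at ex
  rw [← ex, ← e1]
  field_simp

/-- Bezout for the degrees in a set of irreducible characters -/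
theorem exists_bezout_degrees [Fintype (IrrCharacter G)] (B : Set (IrrCharacter G))
    (hne : B.Nonempty) :
    ∃ (g : ℕ) (n : IrrCharacter G → ℤ), g ≠ 0 ∧ (∀ χ ∈ B, g ∣ charDegree (χ : G → ℂ)) ∧
      ∑ χ : IrrCharacter G, (if χ ∈ B then n χ * (charDegree (χ : G → ℂ) : ℤ) else 0) =
        (g : ℤ) := by
  obtain ⟨θ, hθ⟩ := hne
  set s : Finset (IrrCharacter G) := Finset.univ.filter (· ∈ B) with hs
  set f : IrrCharacter G → ℤ := fun χ => (charDegree (χ : G → ℂ) : ℤ) with hf
  obtain ⟨n, hn⟩ := Finset.gcd_eq_sum_mul s f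
  have hnn : 0 ≤ s.gcd f := Int.nonneg_of_normalize_eq_self (Finset.normalize_gcd)
  have hg0 : s.gcd f ≠ 0 := by
    intro h
    rw [Finset.gcd_eq_zero_iff] at h
    have := h θ (by simp [hs, hθ])
    simp only [hf] at this
    exact (irr_degree_nat θ.2).1 (by exact_mod_cast this)
  refine ⟨(s.gcd f).natAbs, n, by simpa using hg0, ?_, ?_⟩
  · intro χ hχ
    have h1 : s.gcd f ∣ f χ := Finset.gcd_dvd (by simp [hs, hχ])
    have h2 := Int.natAbs_dvd_natAbs.mpr h1
    simpa [hf] using h2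
  · rw [Int.natAbs_of_nonneg hnn, hn, hs, Finset.sum_filter]
    refine Finset.sum_congr rfl fun χ _ => ?_
    split_ifs
    · rw [mul_comm]
    · rfl

end

end Cfsg.Agent.Lib.Helper28
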