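import Cfsg.Agent.Lib.Helper28.RankOneCartanA

set_option autoImplicit false

namespace Cfsg.Agent.Lib.Helper28

open Cfsg Cfsg.Agent.Lib.Helper4 Cfsg.Agent.Lib.Helper26
open scoped ComplexConjugate Classical

section

variable {G : Type*} [Group G] [Fintype G] {M : Ideal AlgInt}

set_option maxHeartbeats 1600000 in
/-- **a block with one irreducible Brauer character**: the members are natural multiples
`d_χ φ` (on `p`-regular elements) of an integral combination `φ`, and `Σ d_χ² = p ^ d`. -/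
theorem rank_one_cartan [Fintype (IrrCharacter G)] {p : ℕ} [Fact p.Prime]
    (hM : IsPModular p M) {B : Set (IrrCharacter G)} (hB : IsPBlock M B)
    (hl : blockRank p B = 1) :
    ∃ (n : IrrCharacter G → ℤ) (d : IrrCharacter G → ℕ),
      (∀ χ ∈ B, ∀ x : G, ¬ p ∣ orderOf x → (χ : G → ℂ) x =
        (d χ : ℂ) * ∑ ψ : IrrCharacter G,
          if ψ ∈ B then (n ψ : ℂ) * (ψ : G → ℂ) x else 0) ∧
      ∑ χ : IrrCharacter G, (if χ ∈ B then d χ ^ 2 else 0) = p ^ blockDefect p B := by
  have hprime : M.IsPrime := hM.2.1.isPrime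
  have hp : p.Prime := Fact.out
  obtain ⟨θ0, hθ0⟩ := Helper28.block_nonempty hB
  obtain ⟨g, n, hg0, hgdvd, hgsum⟩ := exists_bezout_degrees B ⟨θ0, hθ0⟩
  have hSne : ((fun χ : IrrCharacter G => (charDegree (χ : G → ℂ)).factorization p) '' B).Nonempty :=
    ⟨_, θ0, hθ0, rfl⟩
  obtain ⟨θ, hθ, hθm⟩ := Nat.sInf_mem hSne
  let d : IrrCharacter G → ℕ := fun χ => charDegree (χ : G → ℂ) / g
  have hd : ∀ χ ∈ B, charDegree (χ : G → ℂ) = g * d χ :=
    fun χ hχ => (Nat.mul_div_cancel' (hgdvd χ hχ)).symm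
  have hdeg : ∀ χ : IrrCharacter G, (χ : G → ℂ) 1 = (charDegree (χ : G → ℂ) : ℂ) :=
    fun χ => (irr_degree_nat χ.2).2.1
  have hgC : (g : ℂ) ≠ 0 := by exact_mod_cast hg0
  have hθ1 : (θ : G → ℂ) 1 ≠ 0 := by
    rw [hdeg]; exact_mod_cast (irr_degree_nat θ.2).1
  let φ : G → ℂ := fun x => ∑ ψ : IrrCharacter G,
    if ψ ∈ B then (n ψ : ℂ) * (ψ : G → ℂ) x else 0
  have hgsumC : ∑ ψ : IrrCharacter G,
      (if ψ ∈ B then (n ψ : ℂ) * (ψ : G → ℂ) 1 else 0) = (g : ℂ) := by
    have h1 := congrArg (fun z : ℤ => (z : ℂ)) hgsum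
    simp only [Int.cast_sum, Int.cast_natCast] at h1
    rw [← h1]
    refine Finset.sum_congr rfl fun ψ _ => ?_
    split_ifs
    · rw [hdeg]; push_cast; ring
    · simp
  have hφ1 : φ 1 = (g : ℂ) := hgsumC
  have hφ : ∀ x : G, ¬ p ∣ orderOf x → φ x = (g : ℂ) / (θ : G → ℂ) 1 * (θ : G → ℂ) x := by
    intro x hx
    show ∑ ψ : IrrCharacter G, (if ψ ∈ B then (n ψ : ℂ) * (ψ : G → ℂ) x else 0) = _
    rw [← hgsumC, Finset.sum_div, Finset.sum_mul]
    refine Finset.sum_congr rfl fun ψ _ => ?_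
    split_ifs with hψ
    · rw [pRegular_prop_of_blockRank_one hl hθ hψ x hx]; ring
    · simp
  have hχφ : ∀ χ ∈ B, ∀ x : G, ¬ p ∣ orderOf x → (χ : G → ℂ) x = (d χ : ℂ) * φ x := by
    intro χ hχ x hx
    rw [hφ x hx, pRegular_prop_of_blockRank_one hl hθ hχ x hx, hdeg χ, hd χ hχ]
    push_cast
    field_simp
  refine ⟨n, d, hχφ, ?_⟩
  set c : ℕ := ∑ χ : IrrCharacter G, (if χ ∈ B then d χ ^ 2 else 0) with hc
  let Φ : G → ℂ := fun x => ∑ χ : IrrCharacter G,
    if χ ∈ B then (d χ : ℂ) * (χ : G → ℂ) x else 0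
  -- `Φ` vanishes at `p`-singular elements
  have hΦsing : ∀ x : G, p ∣ orderOf x → Φ x = 0 := by
    intro x hx
    have h0 := blockCoeff_eq_zero_of_pSingular hM B (fun g => Helper28.osima hB g) x hx
    rw [Helper28.blockCoeff_eq_sum] at h0
    have hGc : (Nat.card G : ℂ)⁻¹ ≠ 0 := inv_ne_zero (by exact_mod_cast Nat.card_pos.ne')
    have h1 := (mul_eq_zero.mp h0).resolve_left hGc
    have h2 : conj ((g : ℂ) * Φ x) = 0 := by
      rw [← h1]
      show conj ((g:ℂ) * ∑ χ : IrrCharacter G,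
        if χ ∈ B then (d χ : ℂ) * (χ : G → ℂ) x else 0) = _
      rw [Finset.mul_sum, map_sum]
      refine Finset.sum_congr rfl fun χ _ => ?_
      split_ifs with hχ
      · rw [hdeg χ, hd χ hχ]
        simp only [map_mul, Complex.conj_natCast]
        push_cast
        ring
      · simp
    rw [map_eq_zero] at h2
    exact (mul_eq_zero.mp h2).resolve_left hgC
  -- `Φ = c φ` at `p`-regular elements
  have hΦreg : ∀ x : G, ¬ p ∣ orderOf x → Φ x = (c : ℂ) * φ x := by
    intro x hx
    show ∑ χ : IrrCharacter G, (if χ ∈ B then (d χ : ℂ) * (χ : G → ℂ) x else 0) = _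
    rw [hc, Nat.cast_sum, Finset.sum_mul]
    refine Finset.sum_congr rfl fun χ _ => ?_
    split_ifs with hχ
    · rw [hχφ χ hχ x hx]; push_cast; ring
    · simp
  -- `Φ` is a generalized character
  have hΦeq : Φ = ∑ χ : IrrCharacter G, (if χ ∈ B then (d χ : ℂ) • (χ : G → ℂ) else 0) := by
    funext x
    rw [Finset.sum_apply]
    refine Finset.sum_congr rfl fun χ _ => ?_
    split_ifs <;> simp
  have hΦgen : IsGeneralizedCharacter G Φ := by
    have : Φ = ∑ χ : IrrCharacter G, (if χ ∈ B then d χ • (χ : G → ℂ) else 0) := by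
      funext x
      rw [Finset.sum_apply]
      refine Finset.sum_congr rfl fun χ _ => ?_
      split_ifs <;> simp
    rw [this]
    refine isGeneralizedCharacter_sum _ _ fun χ _ => ?_
    split_ifs
    · exact isGeneralizedCharacter_nsmul (isGeneralizedCharacter_of_isCharacter
        (isCharacter_of_isIrrCharacter χ.2)) _
    · exact isGeneralizedCharacter_zero
  have h1reg : ¬ p ∣ orderOf (1 : G) := by rw [orderOf_one]; exact hp.not_dvd_one
  -- `p ^ a ∣ c * g`
  have hdvd1 : p ^ (Nat.card G).factorization p ∣ c * g := by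
    obtain ⟨S⟩ : Nonempty (Sylow p G) := inferInstance
    obtain ⟨k, hk⟩ := card_dvd_degree_of_vanish hΦgen hΦsing (S : Subgroup G) S.2
    rw [hΦreg 1 h1reg, hφ1, Sylow.card_eq_multiplicity] at hk
    have hk' : ((c * g : ℕ) : ℤ) = k * ((p ^ (Nat.card G).factorization p : ℕ) : ℤ) := by
      have : (((c * g : ℕ) : ℤ) : ℂ) =
          ((k * ((p ^ (Nat.card G).factorization p : ℕ) : ℤ) : ℤ) : ℂ) := by
        push_cast
        push_cast at hk
        exact hk
      exact_mod_cast this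
    have : ((p ^ (Nat.card G).factorization p : ℕ) : ℤ) ∣ ((c * g : ℕ) : ℤ) :=
      ⟨k, by rw [hk']; ring⟩
    exact Int.natCast_dvd_natCast.mp this
  -- inner products of `Φ` with members of `B`
  have hΦψ : ∀ ψ ∈ B, classInner Φ (ψ : G → ℂ) = (d ψ : ℂ) := by
    intro ψ hψ
    rw [hΦeq, classInner_sum_left]
    rw [Finset.sum_eq_single ψ]
    · rw [if_pos hψ, classInner_smul_left, Helper4.classInner_irr, if_pos rfl, mul_one]
    · intro χ _ hχψ
      split_ifs
      · rw [classInner_smul_left, Helper4.classInner_irr, if_neg hχψ, mul_zero]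
      · exact classInner_zero_left _
    · intro h; exact absurd (Finset.mem_univ _) h
  -- `Φ = c • φ°`
  have hΦφ : Φ = (c : ℂ) • pRegularPart p φ := by
    funext x
    rw [Pi.smul_apply, smul_eq_mul, pRegularPart_apply]
    by_cases hx : p ∣ orderOf x
    · rw [if_pos hx, mul_zero, hΦsing x hx]
    · rw [if_neg hx, hΦreg x hx]
  -- `p ^ d • φ°` is a generalized character
  have hΨgen : IsGeneralizedCharacter G (((p : ℂ) ^ blockDefect p B) • pRegularPart p φ) := by
    have : ((p : ℂ) ^ blockDefect p B) • pRegularPart p φ =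
        ∑ ψ : IrrCharacter G, (if ψ ∈ B then n ψ •
          (fun g => (p ^ blockDefect p B : ℂ) * pRegularPart p (ψ : G → ℂ) g) else 0) := by
      funext x
      rw [Finset.sum_apply, Pi.smul_apply, smul_eq_mul, pRegularPart_apply]
      by_cases hx : p ∣ orderOf x
      · rw [if_pos hx, mul_zero]
        symm
        refine Finset.sum_eq_zero fun ψ _ => ?_
        split_ifs
        · rw [Pi.smul_apply, pRegularPart_apply, if_pos hx, mul_zero, smul_zero]
        · rfl
      · rw [if_neg hx]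
        show _ * ∑ ψ : IrrCharacter G, (if ψ ∈ B then (n ψ : ℂ) * (ψ : G → ℂ) x else 0) = _
        rw [Finset.mul_sum]
        refine Finset.sum_congr rfl fun ψ _ => ?_
        split_ifs
        · rw [Pi.smul_apply, pRegularPart_apply, if_neg hx, zsmul_eq_mul]
          ring
        · simp
    rw [this]
    refine isGeneralizedCharacter_sum _ _ fun ψ _ => ?_
    split_ifs with hψ
    · exact isGeneralizedCharacter_zsmul
        (isGeneralizedCharacter_pow_blockDefect_pRegularPart hp hψ) _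
    · exact isGeneralizedCharacter_zero
  have hk : ∀ ψ : IrrCharacter G, ∃ k : ℤ,
      classInner (((p : ℂ) ^ blockDefect p B) • pRegularPart p φ) (ψ : G → ℂ) = k :=
    fun ψ => classInner_generalized_int hΨgen
      (isGeneralizedCharacter_of_isCharacter (isCharacter_of_isIrrCharacter ψ.2))
  choose k hk using hk
  -- `c * k ψ = p ^ d * d ψ`
  have hck : ∀ ψ ∈ B, (c : ℤ) * k ψ = (p : ℤ) ^ blockDefect p B * (d ψ : ℤ) := by
    intro ψ hψ
    have h1 := hΦψ ψ hψ
    rw [hΦφ, classInner_smul_left] at h1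
    have h2 := hk ψ
    rw [classInner_smul_left] at h2
    have : (((c : ℤ) * k ψ : ℤ) : ℂ) = (((p : ℤ) ^ blockDefect p B * (d ψ : ℤ) : ℤ) : ℂ) := by
      push_cast
      rw [← h2, ← h1]
      ring
    exact_mod_cast this
  -- `Σ n ψ d ψ = 1`
  have hnd : ∑ ψ : IrrCharacter G, (if ψ ∈ B then n ψ * (d ψ : ℤ) else 0) = 1 := by
    have hgZ : (g : ℤ) ≠ 0 := by exact_mod_cast hg0
    apply mul_left_cancel₀ hgZ
    rw [mul_one, Finset.mul_sum]
    conv_rhs => rw [← hgsum]
    refine Finset.sum_congr rfl fun ψ _ => ?_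
    split_ifs with hψ
    · rw [hd ψ hψ]; push_cast; ring
    · simp
  have hdvd2 : c ∣ p ^ blockDefect p B := by
    have : (c : ℤ) ∣ ((p ^ blockDefect p B : ℕ) : ℤ) := by
      refine ⟨∑ ψ : IrrCharacter G, (if ψ ∈ B then n ψ * k ψ else 0), ?_⟩
      have : ((p ^ blockDefect p B : ℕ) : ℤ) = (p : ℤ) ^ blockDefect p B * 1 := by
        push_cast; ring
      rw [this, ← hnd, Finset.mul_sum, Finset.mul_sum]
      refine Finset.sum_congr rfl fun ψ _ => ?_
      split_ifs with hψ
      · have := hck ψ hψ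
        calc (p : ℤ) ^ blockDefect p B * (n ψ * (d ψ : ℤ))
            = n ψ * ((p : ℤ) ^ blockDefect p B * (d ψ : ℤ)) := by ring
          _ = n ψ * ((c : ℤ) * k ψ) := by rw [this]
          _ = (c : ℤ) * (n ψ * k ψ) := by ring
      · simp
    exact Int.natCast_dvd_natCast.mp this
  -- arithmetic
  obtain ⟨e, he, hce⟩ := (Nat.dvd_prime_pow hp).mp hdvd2
  have hc0 : c ≠ 0 := by rw [hce]; exact pow_ne_zero _ hp.pos.ne'
  have hcg0 : c * g ≠ 0 := mul_ne_zero hc0 hg0
  have h3 := (hp.pow_dvd_iff_le_factorization hcg0).mp hdvd1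
  rw [Nat.factorization_mul hc0 hg0, Finsupp.add_apply, hce, hp.factorization_pow,
    Finsupp.single_eq_same] at h3
  have hθ0' : charDegree (θ : G → ℂ) ≠ 0 := (irr_degree_nat θ.2).1
  have h4 : g.factorization p ≤ (charDegree (θ : G → ℂ)).factorization p :=
    (Nat.factorization_le_iff_dvd hg0 hθ0').mpr (hgdvd θ hθ) p
  have h5 : blockDefect p B = (Nat.card G).factorization p -
      (charDegree (θ : G → ℂ)).factorization p := by
    unfold blockDefect
    rw [← hθm]
  have h6 : blockDefect p B ≤ e := by omega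
  rw [hce, le_antisymm he h6]

end

end Cfsg.Agent.Lib.Helper28
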