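import Mathlib
import Cfsg.Prelude.Def_Blocks
import Cfsg.Agent.Lib.Helper28.RealOddC
import Cfsg.Agent.Lib.Helper28.DualRep
import Cfsg.Agent.Lib.Helper7.ExtDet
import Cfsg.Agent.S0857

set_option autoImplicit false

/-!
# Extensions of real odd degree characters in the principal `2`-block (helper28)
-/

namespace Cfsg.Agent.Lib.Helper28

open Cfsg Cfsg.Agent.Lib.Helper4 Cfsg.Agent.Lib.Helper26
open scoped ComplexConjugate Classical

section

variable {G : Type*} [Group G] [Fintype G] {M : Ideal AlgInt}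

/-- a root of unity of odd order and of `2`-power-times-`m` order is an `m`-th root of unity -/
theorem pow_eq_one_of_odd_order {z : ℂˣ} {a m r : ℕ} (hr : Odd r) (h1 : z ^ (2 ^ a * m) = 1)
    (h2 : z ^ r = 1) : z ^ m = 1 := by
  have h3 : (z ^ m) ^ (2 ^ a) = 1 := by rw [← pow_mul, mul_comm, h1]
  have h4 : (z ^ m) ^ r = 1 := by rw [← pow_mul, mul_comm, pow_mul, h2, one_pow]
  have hd1 : orderOf (z ^ m) ∣ 2 ^ a := orderOf_dvd_of_pow_eq_one h3
  have hd2 : orderOf (z ^ m) ∣ r := orderOf_dvd_of_pow_eq_one h4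
  have hcop : Nat.Coprime (2 ^ a) r := Nat.Coprime.pow_left a (Nat.coprime_two_left.mpr hr)
  have : orderOf (z ^ m) = 1 := Nat.eq_one_of_dvd_coprimes hcop hd1 hd2
  exact orderOf_eq_one_iff.mp this

/-- **S4580** -/
theorem exists_extension_mem_principalBlock (hM : IsPModular 2 M) (N : Subgroup G) [N.Normal]
    (θ : IrrCharacter N) (hreal : ∀ n : N, ((θ : N → ℂ) n).im = 0)
    (hodd : Odd (charDegree (θ : N → ℂ)))
    (hext : ∃ η : IrrCharacter G, ∀ n : N, (η : G → ℂ) n = (θ : N → ℂ) n) :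
    ∃ η : IrrCharacter G, (∀ n : N, (η : G → ℂ) n = (θ : N → ℂ) n) ∧
      η ∈ principalBlock M G := by
  have hMtop : M ≠ ⊤ := hM.2.1.ne_top
  obtain ⟨η, hη⟩ := hext
  have hηc : IsIrrCharacter G (fun g => conj ((η : G → ℂ) g)) := isIrrCharacter_conj η.2
  have he₂ : ∀ n : N, (fun g => conj ((η : G → ℂ) g)) n = (θ : N → ℂ) n := by
    intro n
    show conj ((η : G → ℂ) n) = _
    rw [hη n]
    exact Complex.conj_eq_iff_im.mpr (hreal n)
  obtain ⟨β, hβN, hβ⟩ := Cfsg.Agent.Lib.Helper7.ext_twist N (θ : N → ℂ) θ.2 (η : G → ℂ)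
    (fun g => conj ((η : G → ℂ) g)) η.2 hηc hη he₂
  have hβ' : ∀ g : G, conj ((η : G → ℂ) g) = ((β g : ℂˣ) : ℂ) * (η : G → ℂ) g :=
    fun g => congrFun hβ g
  set a := (Nat.card G).factorization 2 with ha
  set m := Nat.card G / 2 ^ a with hm
  have hGm : 2 ^ a * m = Nat.card G := Nat.ordProj_mul_ordCompl_eq_self (Nat.card G) 2
  have hmodd : Odd m := by
    rw [← Nat.not_even_iff_odd, even_iff_two_dvd]
    exact Nat.not_dvd_ordCompl Nat.prime_two Nat.card_pos.ne'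
  obtain ⟨s0, hs0⟩ := hmodd
  set s := s0 + 1 with hs
  have h2s : 2 * s = m + 1 := by omega
  have hirr0 : IsIrrCharacter G (fun g => (((β ^ s) g : ℂˣ) : ℂ) * (η : G → ℂ) g) :=
    Cfsg.Agent.S0857.isIrr_twist (β ^ s) (η : G → ℂ) η.2
  let η₀ : IrrCharacter G := ⟨fun g => (((β ^ s) g : ℂˣ) : ℂ) * (η : G → ℂ) g, hirr0⟩
  have hη₀ : ∀ g : G, (η₀ : G → ℂ) g = ((β g : ℂˣ) : ℂ) ^ s * (η : G → ℂ) g := by
    intro g
    show (((β ^ s) g : ℂˣ) : ℂ) * (η : G → ℂ) g = _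
    rw [MonoidHom.pow_apply, Units.val_pow_eq_pow_val]
  have hext0 : ∀ n : N, (η₀ : G → ℂ) n = (θ : N → ℂ) n := by
    intro n
    rw [hη₀, hβN n, Units.val_one, one_pow, one_mul, hη n]
  refine ⟨η₀, hext0, ?_⟩
  have hdeg : charDegree (η₀ : G → ℂ) = charDegree (θ : N → ℂ) := by
    unfold charDegree
    have := hext0 1
    rw [Subgroup.coe_one] at this
    rw [this]
  apply mem_principalBlock_of_odd_degree hM η₀ η₀ (by rw [hdeg]; exact hodd)
    (sameBlock_refl hMtop _)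
  intro g hg
  -- `z = β g`
  have hzG : (β g) ^ (2 ^ a * m) = 1 := by
    rw [hGm, ← map_pow, pow_card_eq_one', map_one]
  have hzr : (β g) ^ orderOf g = 1 := by
    rw [← map_pow, pow_orderOf_eq_one, map_one]
  have hzm : (β g) ^ m = 1 := pow_eq_one_of_odd_order hg hzG hzr
  have hnorm : ‖((β g : ℂˣ) : ℂ)‖ = 1 := by
    apply Complex.norm_eq_one_of_pow_eq_one (n := Nat.card G) _ Nat.card_pos.ne'
    rw [← Units.val_pow_eq_pow_val, ← map_pow, pow_card_eq_one', map_one, Units.val_one]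
  have hconj : conj ((β g : ℂˣ) : ℂ) = (((β g)⁻¹ : ℂˣ) : ℂ) := by
    rw [Units.val_inv_eq_inv_val, Complex.inv_eq_conj hnorm]
  rw [hη₀, map_mul, map_pow, hconj, hβ' g, ← Units.val_pow_eq_pow_val,
    ← Units.val_pow_eq_pow_val, ← mul_assoc, ← Units.val_mul]
  congr 2
  -- `z^s = (z⁻¹)^s z`
  have : (β g) ^ s * (β g) ^ s = β g := by
    rw [← pow_add, ← two_mul, h2s, pow_succ, hzm, one_mul]
  calc (β g) ^ s = (β g)⁻¹ ^ s * ((β g) ^ s * (β g) ^ s) := by
        rw [← mul_assoc, inv_pow, inv_mul_cancel, one_mul]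
    _ = (β g)⁻¹ ^ s * β g := by rw [this]

end

end Cfsg.Agent.Lib.Helper28
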