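import Mathlib
import Cfsg.Prelude.Def_Blocks
import Cfsg.Agent.Lib.Helper28.RobinsonE
import Cfsg.Agent.Lib.Helper28.BrauerA
import Cfsg.Agent.Lib.Helper28.QuotPC
import Cfsg.Agent.Lib.Helper28.RealOddA
import Cfsg.Agent.Lib.Helper26.TIInd
import Cfsg.Agent.S0911

set_option autoImplicit false

/-!
# Separated classes, part A (helper28)

The block part of the permutation character on the cosets of a Sylow subgroup, evaluated at an
element `x`, is a convolution of the block idempotent with the permutation character; it lies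
in the local ideal unless a Sylow subgroup of `C(x)` is contained in a defect group.
-/

namespace Cfsg.Agent.Lib.Helper28

open Cfsg Cfsg.Agent.Lib.Helper4 Cfsg.Agent.Lib.Helper26
open scoped ComplexConjugate Classical

section

variable {G : Type*} [Group G] [Fintype G] {M : Ideal AlgInt}

/-- the permutation character on the cosets of `S` -/
noncomputable def sepPerm (S : Subgroup G) : G → ℂ := indFun S (fun _ => (1 : ℂ))

theorem isClassFunction_sepPerm (S : Subgroup G) : IsClassFunction G (sepPerm S) :=
  isClassFunction_indFun S _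

theorem isCharacter_sepPerm (S : Subgroup G) : IsCharacter G (sepPerm S) :=
  isCharacter_indFun S isCharacter_one'

theorem sepPerm_isIntegral (S : Subgroup G) (y : G) : IsIntegral ℤ (sepPerm S y) := by
  obtain ⟨n, ρ, h⟩ := isCharacter_sepPerm S
  rw [← h]
  exact Helper4.character_isIntegral ρ y

/-- the multiplicity of `χ` in the permutation character -/
noncomputable def sepMult (S : Subgroup G) [Fintype S] (χ : IrrCharacter G) : ℂ :=
  classInner (fun u : S => (χ : G → ℂ) u) (fun _ => (1 : ℂ))

theorem sepMult_nat (S : Subgroup G) [Fintype S] (χ : IrrCharacter G) :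
    ∃ n : ℕ, sepMult S χ = n :=
  exists_nat_classInner_restrict_one S χ

theorem classInner_sepPerm (S : Subgroup G) [Fintype S] (χ : IrrCharacter G) :
    classInner (sepPerm S) (χ : G → ℂ) = sepMult S χ := by
  have h1 := classInner_indFun_right' S (χ : G → ℂ)
    (Helper4.isClassFunction_of_isIrrCharacter χ.2) (fun _ => (1 : ℂ))
  have h2 : classInner (sepPerm S) (χ : G → ℂ) = conj (classInner (χ : G → ℂ) (sepPerm S)) :=
    (classInner_conj_symm _ _).symm
  obtain ⟨n, hn⟩ := sepMult_nat S χ
  rw [h2]
  unfold sepPerm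
  rw [h1]
  have h3 : classInner ((χ : G → ℂ) ∘ S.subtype) (fun _ => (1 : ℂ)) = sepMult S χ := rfl
  rw [h3, hn, Complex.conj_natCast]

theorem sepPerm_apply [Fintype (IrrCharacter G)] (S : Subgroup G) [Fintype S] (y : G) :
    sepPerm S y = ∑ χ : IrrCharacter G, sepMult S χ * (χ : G → ℂ) y := by
  have h := Helper4.classFunction_expansion (sepPerm S) (isClassFunction_sepPerm S)
  have h2 := congrFun h y
  rw [Finset.sum_apply] at h2
  rw [h2]
  refine Finset.sum_congr rfl fun χ _ => ?_
  rw [Pi.smul_apply, smul_eq_mul, classInner_sepPerm]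

/-- the block part of the permutation character at `x` -/
noncomputable def sepPsi [Fintype (IrrCharacter G)] (S : Subgroup G) [Fintype S]
    (B : Set (IrrCharacter G)) (x : G) : ℂ :=
  ∑ χ : IrrCharacter G, if χ ∈ B then sepMult S χ * conj ((χ : G → ℂ) x) else 0

theorem sum_char_blockCoeff_shift (B : Set (IrrCharacter G)) (χ : IrrCharacter G) (x : G) :
    ∑ y : G, (χ : G → ℂ) y * blockCoeff B (y * x) =
      if χ ∈ B then conj ((χ : G → ℂ) x) else 0 := by
  have h1 : ∑ y : G, (χ : G → ℂ) y * blockCoeff B (y * x) =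
      ∑ h : G, blockCoeff B h * (χ : G → ℂ) (h * x⁻¹) := by
    apply Fintype.sum_equiv (Equiv.mulRight x)
    intro y
    show (χ : G → ℂ) y * blockCoeff B (y * x) = blockCoeff B (y * x) * (χ : G → ℂ) (y * x * x⁻¹)
    rw [mul_inv_cancel_right, mul_comm]
  rw [h1, sum_mul_char_shift χ.2 _ (isClassFunction_blockCoeff B), omegaF_blockCoeff,
    irr_inv_eq_conj]
  split_ifs
  · rw [one_mul]
  · rw [zero_mul]

/-- the block part of the permutation character as a convolution -/
theorem sepPsi_eq_sum [Fintype (IrrCharacter G)] (S : Subgroup G) [Fintype S]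
    (B : Set (IrrCharacter G)) (x : G) :
    sepPsi S B x = ∑ y : G, sepPerm S y * blockCoeff B (y * x) := by
  have h1 : ∀ y : G, sepPerm S y * blockCoeff B (y * x) =
      ∑ χ : IrrCharacter G, sepMult S χ * ((χ : G → ℂ) y * blockCoeff B (y * x)) := by
    intro y
    rw [sepPerm_apply, Finset.sum_mul]
    refine Finset.sum_congr rfl fun χ _ => ?_
    ring
  simp only [h1]
  rw [Finset.sum_comm]
  unfold sepPsi
  refine Finset.sum_congr rfl fun χ _ => ?_
  rw [← Finset.mul_sum, sum_char_blockCoeff_shift]
  split_ifs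
  · rfl
  · rw [mul_zero]

theorem sepPsi_memLocalRing [Fintype (IrrCharacter G)] (hMtop : M ≠ ⊤) [M.IsPrime]
    (S : Subgroup G) [Fintype S] (B : Set (IrrCharacter G)) (x : G) :
    MemLocalRing M (sepPsi S B x) := by
  unfold sepPsi
  apply memLocalRing_sum
  intro χ _
  split_ifs
  · obtain ⟨n, hn⟩ := sepMult_nat S χ
    rw [hn]
    exact memLocalRing_mul (memLocalRing_natCast hMtop n)
      (memLocalRing_of_isIntegral hMtop (isIntegral_conj_irr χ x))
  · exact memLocalRing_zero hMtop

end

section Action

variable {G : Type*} [Group G]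

/-- conjugation action of a subgroup on a conjugation-invariant subtype -/
noncomputable def conjSubAction (Q : Subgroup G) (P : G → Prop)
    (hP : ∀ t ∈ Q, ∀ y : G, P y → P (t * y * t⁻¹)) : MulAction Q {y : G // P y} where
  smul t y := ⟨(t : G) * y.1 * (t : G)⁻¹, hP t t.2 y.1 y.2⟩
  one_smul y := by
    apply Subtype.ext
    show ((1 : Q) : G) * y.1 * ((1 : Q) : G)⁻¹ = y.1
    simp
  mul_smul s t y := by
    apply Subtype.ext
    show ((s * t : Q) : G) * y.1 * ((s * t : Q) : G)⁻¹ =
      (s : G) * ((t : G) * y.1 * (t : G)⁻¹) * (s : G)⁻¹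
    rw [Subgroup.coe_mul]
    group

end Action

section Claim

variable {G : Type*} [Group G] [Fintype G] {M : Ideal AlgInt}

/-- **the block part of the permutation character lies in the local ideal** at `x` unless the
`p`-subgroup `Q` of `C(x)` is contained in a conjugate of the defect group -/
theorem sepPsi_memLocalIdeal [Fintype (IrrCharacter G)] {p : ℕ} [Fact p.Prime]
    (hM : IsPModular p M) (S : Subgroup G) [Fintype S] {B : Set (IrrCharacter G)}
    (hB : IsPBlock M B) {g : G} (hg : IsDefectClass M B g)
    (P0 : Sylow p (Subgroup.centralizer ({g} : Set G))) (x : G) (Q : Subgroup G)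
    (hQ : IsPGroup p Q) (hQx : Q ≤ Subgroup.centralizer ({x} : Set G))
    (hnot : ∀ c : G, ¬ Q ≤ ((P0 : Subgroup (Subgroup.centralizer ({g} : Set G))).map
      (Subgroup.centralizer ({g} : Set G)).subtype).map (MulAut.conj c).toMonoidHom) :
    MemLocalIdeal M (sepPsi S B x) := by
  have hprime : M.IsPrime := hM.2.1.isPrime
  have hMtop : M ≠ ⊤ := hM.2.1.ne_top
  rw [sepPsi_eq_sum]
  -- split the sum
  have hsplit : ∑ y : G, sepPerm S y * blockCoeff B (y * x) =
      ∑ y : {y : G // ¬ MemLocalIdeal M (blockCoeff B (y * x))},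
        sepPerm S y.1 * blockCoeff B (y.1 * x) +
      ∑ y : {y : G // ¬ ¬ MemLocalIdeal M (blockCoeff B (y * x))},
        sepPerm S y.1 * blockCoeff B (y.1 * x) :=
    (Fintype.sum_subtype_add_sum_subtype
      (fun y : G => ¬ MemLocalIdeal M (blockCoeff B (y * x)))
      (fun y => sepPerm S y * blockCoeff B (y * x))).symm
  rw [hsplit]
  apply memLocalIdeal_add
  · -- the `Q`-action has no fixed points
    have hinv : ∀ t ∈ Q, ∀ y : G, blockCoeff B (t * y * t⁻¹ * x) = blockCoeff B (y * x) := by
      intro t ht y
      have htx : t * x = x * t := by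
        have := Subgroup.mem_centralizer_singleton_iff.mp (hQx ht)
        exact this
      have h1 : t * y * t⁻¹ * x = t * (y * x) * t⁻¹ := by
        have h2 : x = t * x * t⁻¹ := by rw [htx]; group
        calc t * y * t⁻¹ * x = t * y * t⁻¹ * (t * x * t⁻¹) := by rw [← h2]
          _ = t * (y * x) * t⁻¹ := by group
      rw [h1]
      exact isClassFunction_blockCoeff B (y * x) t
    let _ := conjSubAction Q (fun y : G => ¬ MemLocalIdeal M (blockCoeff B (y * x)))
      (fun t ht y hy => by rw [hinv t ht y]; exact hy)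
    apply sum_memLocalIdeal_of_pgroup_action hM hQ
      (fun y : {y : G // ¬ MemLocalIdeal M (blockCoeff B (y * x))} =>
        sepPerm S y.1 * blockCoeff B (y.1 * x))
    · intro t y
      show sepPerm S ((t : G) * y.1 * (t : G)⁻¹) * blockCoeff B ((t : G) * y.1 * (t : G)⁻¹ * x) =
        sepPerm S y.1 * blockCoeff B (y.1 * x)
      rw [hinv t t.2 y.1, isClassFunction_sepPerm S y.1 t]
    · intro y
      exact memLocalRing_mul (memLocalRing_of_isIntegral hMtop (sepPerm_isIntegral S y.1))
        (osima hB _)
    · intro y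
      by_contra hcon
      push Not at hcon
      -- `Q ≤ C(y x)`
      have hfix : ∀ t ∈ Q, t * y.1 * t⁻¹ = y.1 := by
        intro t ht
        have := hcon ⟨t, ht⟩
        exact congrArg Subtype.val this
      have hQyx : Q ≤ Subgroup.centralizer ({y.1 * x} : Set G) := by
        intro t ht
        rw [Subgroup.mem_centralizer_singleton_iff]
        have htx : t * x = x * t := Subgroup.mem_centralizer_singleton_iff.mp (hQx ht)
        have hty : t * y.1 = y.1 * t := by
          have := hfix t ht
          calc t * y.1 = t * y.1 * t⁻¹ * t := by group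
            _ = y.1 * t := by rw [this]
        calc t * (y.1 * x) = t * y.1 * x := by group
          _ = y.1 * t * x := by rw [hty]
          _ = y.1 * (t * x) := by group
          _ = y.1 * (x * t) := by rw [htx]
          _ = y.1 * x * t := by group
      -- min–max
      have hmm := (Cfsg.Agent.S0911.result p M hM B hB g hg P0 (y.1 * x)).1 (osima hB _) y.2
      obtain ⟨c, Q', hQ'⟩ := hmm
      -- `Q` lies in a Sylow subgroup of `C(y x)`
      obtain ⟨Q'', hQ''⟩ := (hQ.comap_of_injective
        (Subgroup.centralizer ({y.1 * x} : Set G)).subtype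
        (Subgroup.subtype_injective _)).exists_le_sylow
      obtain ⟨k, hk⟩ := MulAction.exists_smul_eq (Subgroup.centralizer ({y.1 * x} : Set G)) Q' Q''
      apply hnot ((k : G) * c)
      intro t ht
      have ht1 : (⟨t, hQyx ht⟩ : Subgroup.centralizer ({y.1 * x} : Set G)) ∈
          (Q'' : Subgroup (Subgroup.centralizer ({y.1 * x} : Set G))) := by
        apply hQ''
        show (⟨t, hQyx ht⟩ : Subgroup.centralizer ({y.1 * x} : Set G)) ∈
          Q.comap (Subgroup.centralizer ({y.1 * x} : Set G)).subtype
        exact ht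
      have ht1' : (⟨t, hQyx ht⟩ : Subgroup.centralizer ({y.1 * x} : Set G)) ∈
          ((k • Q' : Sylow p (Subgroup.centralizer ({y.1 * x} : Set G))) :
            Subgroup (Subgroup.centralizer ({y.1 * x} : Set G))) := by
        rw [hk]; exact ht1
      rw [Sylow.coe_subgroup_smul, Subgroup.mem_smul_pointwise_iff_exists] at ht1'
      obtain ⟨s, hs, hst⟩ := ht1'
      have hst' : (k : G) * (s : G) * (k : G)⁻¹ = t := by
        have := congrArg Subtype.val hst
        simpa [MulAut.smul_def, MulAut.conj_apply] using this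
      have hs2 : (s : G) ∈ (Q' : Subgroup (Subgroup.centralizer ({y.1 * x} : Set G))).map
            (Subgroup.centralizer ({y.1 * x} : Set G)).subtype := ⟨s, hs, rfl⟩
      obtain ⟨d, hd, hdt⟩ := hQ' hs2
      refine ⟨d, hd, ?_⟩
      have hdt' : c * d * c⁻¹ = (s : G) := hdt
      show (k : G) * c * d * ((k : G) * c)⁻¹ = t
      calc (k : G) * c * d * ((k : G) * c)⁻¹ = (k : G) * (c * d * c⁻¹) * (k : G)⁻¹ := by group
        _ = (k : G) * (s : G) * (k : G)⁻¹ := by rw [hdt']
        _ = t := hst'
  · apply memLocalIdeal_sum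
    intro y _
    have hy : MemLocalIdeal M (blockCoeff B (y.1 * x)) := not_not.mp y.2
    rw [mul_comm]
    exact memLocalIdeal_mul_right hy
      (memLocalRing_of_isIntegral hMtop (sepPerm_isIntegral S y.1))

end Claim

end Cfsg.Agent.Lib.Helper28
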