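import Mathlib
import Cfsg.Prelude.Def_Blocks
import Cfsg.Agent.Lib.Helper28.SepA
import Cfsg.Agent.Lib.Helper28.RobinsonA
import Cfsg.Agent.Lib.Helper28.SectionF
import Cfsg.Agent.Lib.Helper28.LocalRes

set_option autoImplicit false

/-!
# Separated classes, part B (helper28)

Counting pairs for separated classes, the resulting character identity and its reduction
modulo the local ideal, block by block.  Also two pieces of linear algebra.
-/

namespace Cfsg.Agent.Lib.Helper28

open Cfsg Cfsg.Agent.Lib.Helper4 Cfsg.Agent.Lib.Helper26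
open scoped ComplexConjugate Classical

section LinAlg

/-- from a spanning family of `F^r` one can extract `r` members with nonzero determinant -/
theorem exists_injective_det_ne_zero {F : Type*} [Field F] {ι : Type*} [Finite ι] {r : ℕ}
    (v : ι → Fin r → F) (hspan : Submodule.span F (Set.range v) = ⊤) :
    ∃ s : Fin r → ι, Function.Injective s ∧
      (Matrix.of fun k i => v (s k) i : Matrix (Fin r) (Fin r) F).det ≠ 0 := by
  obtain ⟨b, hbsub, hbspan, hbli⟩ := exists_linearIndependent F (Set.range v)
  have hbfin : b.Finite := Set.Finite.subset (Set.finite_range v) hbsub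
  have : Fintype b := hbfin.fintype
  have htop : ⊤ ≤ Submodule.span F (Set.range (Subtype.val : b → Fin r → F)) := by
    rw [Subtype.range_coe, hbspan, hspan]
  let bas : Module.Basis b F (Fin r → F) := Module.Basis.mk hbli htop
  have hcard : Fintype.card b = r := by
    have h1 := Module.finrank_eq_card_basis bas
    rw [Module.finrank_fin_fun] at h1
    exact h1.symm
  let e : Fin r ≃ b := (Fintype.equivFinOfCardEq hcard).symm
  have hsel : ∀ k : Fin r, ∃ d : ι, v d = (e k).1 := fun k => hbsub (e k).2
  choose s hs using hsel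
  refine ⟨s, ?_, ?_⟩
  · intro k k' hkk
    have h1 : (e k).1 = (e k').1 := by rw [← hs k, ← hs k', hkk]
    exact e.injective (Subtype.ext h1)
  · have hli : LinearIndependent F (fun k : Fin r => (e k).1) :=
      hbli.comp e e.injective
    have hrow : (Matrix.of fun k i => v (s k) i : Matrix (Fin r) (Fin r) F).row =
        fun k : Fin r => (e k).1 := by
      funext k
      funext i
      show v (s k) i = (e k).1 i
      rw [hs k]
    have hunit : IsUnit (Matrix.of fun k i => v (s k) i : Matrix (Fin r) (Fin r) F) := by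
      rw [← Matrix.linearIndependent_rows_iff_isUnit, hrow]
      exact hli
    have hdet := (Matrix.isUnit_iff_isUnit_det _).mp hunit
    exact hdet.ne_zero

end LinAlg

section Res

variable {M : Ideal AlgInt} [hmax : M.IsMaximal]

theorem localRes_prod {ι : Type*} (s : Finset ι) (f : ι → ℂ)
    (h : ∀ i ∈ s, MemLocalRing M (f i)) :
    localRes M (∏ i ∈ s, f i) = ∏ i ∈ s, localRes M (f i) := by
  have : M.IsPrime := hmax.isPrime
  induction s using Finset.induction_on with
  | empty => rw [Finset.prod_empty, Finset.prod_empty, localRes_one]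
  | insert a s ha ih =>
    rw [Finset.prod_insert ha, Finset.prod_insert ha,
      localRes_mul (h a (Finset.mem_insert_self a s))
        (memLocalRing_prod s f fun i hi => h i (Finset.mem_insert_of_mem hi)),
      ih fun i hi => h i (Finset.mem_insert_of_mem hi)]

/-- the residue map commutes with determinants -/
theorem localRes_det {r : ℕ} (W : Matrix (Fin r) (Fin r) ℂ)
    (hW : ∀ i j, MemLocalRing M (W i j)) :
    localRes M W.det =
      (Matrix.of fun i j => localRes M (W i j) : Matrix (Fin r) (Fin r) (AlgInt ⧸ M)).det := by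
  have hprime : M.IsPrime := hmax.isPrime
  have hMtop : M ≠ ⊤ := hmax.ne_top
  rw [Matrix.det_apply', Matrix.det_apply']
  have hprod : ∀ σ : Equiv.Perm (Fin r), MemLocalRing M (∏ i, W (σ i) i) := fun σ =>
    memLocalRing_prod _ _ fun i _ => hW _ _
  have hsign : ∀ σ : Equiv.Perm (Fin r),
      MemLocalRing M (((Equiv.Perm.sign σ : ℤ) : ℂ)) := by
    intro σ
    rcases Int.units_eq_one_or (Equiv.Perm.sign σ) with h | h
    · rw [h]; simpa using memLocalRing_one hMtop
    · rw [h]; simpa using memLocalRing_neg (memLocalRing_one hMtop)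
  rw [localRes_sum _ _ fun σ _ => memLocalRing_mul (hsign σ) (hprod σ)]
  refine Finset.sum_congr rfl fun σ _ => ?_
  rw [localRes_mul (hsign σ) (hprod σ), localRes_prod _ _ fun i _ => hW _ _]
  congr 1
  rcases Int.units_eq_one_or (Equiv.Perm.sign σ) with h | h
  · rw [h]
    simp only [Units.val_one, Int.cast_one]
    exact localRes_one
  · rw [h]
    simp only [Units.val_neg, Units.val_one, Int.cast_neg, Int.cast_one]
    rw [localRes_neg (memLocalRing_one hMtop), localRes_one]

end Res

section Count

variable {G : Type*} [Group G] [Fintype G] {M : Ideal AlgInt}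

/-- the pair count for separated classes, in sum form -/
theorem sep_double_sum {p : ℕ} [Fact p.Prime] (S : Sylow p G) {r : ℕ} (x : Fin r → G)
    (hx : ∀ i j : Fin r, IsConj (x i) (x j) → i = j)
    (hsep : ∀ i j : Fin r, ∀ g h : G, IsConj (x i) g → IsConj (x j) h → ∀ k : ℕ, 0 < k →
      orderOf (g * h⁻¹) ≠ p ^ k) (i j : Fin r) :
    ∑ u : (S : Subgroup G), ∑ g : G, classInd (x i) g * classInd (x j) ((u : G)⁻¹ * g) =
      if i = j then ((Subgroup.centralizer ({x i} : Set G)).index : ℂ) else 0 := by
  rw [Finset.sum_eq_single (1 : (S : Subgroup G))]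
  · simp only [Subgroup.coe_one, inv_one, one_mul]
    by_cases hij : i = j
    · subst hij
      rw [if_pos rfl, ← sum_classInd]
      refine Finset.sum_congr rfl fun g _ => ?_
      unfold classInd
      split_ifs <;> simp
    · rw [if_neg hij]
      apply Finset.sum_eq_zero
      intro g _
      unfold classInd
      by_cases h1 : IsConj (x i) g
      · by_cases h2 : IsConj (x j) g
        · exact absurd (hx i j (h1.trans h2.symm)) hij
        · rw [if_neg h2, mul_zero]
      · rw [if_neg h1, zero_mul]
  · intro u _ hu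
    apply Finset.sum_eq_zero
    intro g _
    unfold classInd
    by_cases h1 : IsConj (x i) g
    · by_cases h2 : IsConj (x j) ((u : G)⁻¹ * g)
      · exfalso
        obtain ⟨k, hk⟩ := (IsPGroup.iff_orderOf.mp S.2) u
        have hk0 : 0 < k := by
          rcases Nat.eq_zero_or_pos k with h0 | h0
          · exfalso
            rw [h0, pow_zero, orderOf_eq_one_iff] at hk
            exact hu hk
          · exact h0
        have h3 := hsep i j g ((u : G)⁻¹ * g) h1 h2 k hk0
        apply h3
        have h4 : g * ((u : G)⁻¹ * g)⁻¹ = (u : G) := by group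
        rw [h4, Subgroup.orderOf_coe, hk]
      · rw [if_neg h2, mul_zero]
    · rw [if_neg h1, zero_mul]
  · intro h
    exact absurd (Finset.mem_univ _) h

/-- **the character identity for separated classes** -/
theorem sep_char_sum [Fintype (IrrCharacter G)] {p : ℕ} [Fact p.Prime] (S : Sylow p G)
    {r : ℕ} (x : Fin r → G)
    (hx : ∀ i j : Fin r, IsConj (x i) (x j) → i = j)
    (hsep : ∀ i j : Fin r, ∀ g h : G, IsConj (x i) g → IsConj (x j) h → ∀ k : ℕ, 0 < k →
      orderOf (g * h⁻¹) ≠ p ^ k) (i j : Fin r) :
    ∑ χ : IrrCharacter G, conj ((χ : G → ℂ) (x j)) * centralChar (χ : G → ℂ) (x i) *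
        sepMult (S : Subgroup G) χ =
      if i = j then ((S : Subgroup G).index : ℂ) else 0 := by
  have h1 := sum_pairs_eq_two (x i) (x j) (S : Subgroup G)
  rw [sep_double_sum S x hx hsep i j] at h1
  have hS0 : (Nat.card (S : Subgroup G) : ℂ) ≠ 0 := Nat.cast_ne_zero.mpr Nat.card_pos.ne'
  have hC0 : (Nat.card (Subgroup.centralizer ({x j} : Set G)) : ℂ) ≠ 0 :=
    Nat.cast_ne_zero.mpr Nat.card_pos.ne'
  have h2 : ∑ χ : IrrCharacter G, conj ((χ : G → ℂ) (x j)) * centralChar (χ : G → ℂ) (x i) *
        sepMult (S : Subgroup G) χ =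
      (if i = j then ((Subgroup.centralizer ({x i} : Set G)).index : ℂ) else 0) *
        (Nat.card (Subgroup.centralizer ({x j} : Set G)) : ℂ) /
        (Nat.card (S : Subgroup G) : ℂ) := by
    rw [h1]
    unfold sepMult
    field_simp
  rw [h2]
  by_cases hij : i = j
  · subst hij
    rw [if_pos rfl, if_pos rfl]
    have h3 : ((Subgroup.centralizer ({x i} : Set G)).index : ℂ) *
        (Nat.card (Subgroup.centralizer ({x i} : Set G)) : ℂ) = (Nat.card G : ℂ) := by
      rw [mul_comm]
      exact_mod_cast (Subgroup.centralizer ({x i} : Set G)).card_mul_index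
    have h4 : ((S : Subgroup G).index : ℂ) * (Nat.card (S : Subgroup G) : ℂ) =
        (Nat.card G : ℂ) := by
      rw [mul_comm]
      exact_mod_cast (S : Subgroup G).card_mul_index
    rw [h3, ← h4]
    field_simp
  · rw [if_neg hij, if_neg hij, zero_mul, zero_div]

/-- the block-by-block reduction of the character identity -/
theorem sep_block_congr [Fintype (IrrCharacter G)]
    [Fintype {b : Set (IrrCharacter G) // IsPBlock M b}] {p : ℕ} [Fact p.Prime]
    (hM : IsPModular p M) (S : Sylow p G) {r : ℕ} (x : Fin r → G)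
    (hx : ∀ i j : Fin r, IsConj (x i) (x j) → i = j)
    (hsep : ∀ i j : Fin r, ∀ g h : G, IsConj (x i) g → IsConj (x j) h → ∀ k : ℕ, 0 < k →
      orderOf (g * h⁻¹) ≠ p ^ k)
    (rep : Set (IrrCharacter G) → IrrCharacter G)
    (hrep : ∀ b : Set (IrrCharacter G), IsPBlock M b → rep b ∈ b) (i j : Fin r) :
    MemLocalIdeal M ((if i = j then ((S : Subgroup G).index : ℂ) else 0) -
      ∑ b : {b : Set (IrrCharacter G) // IsPBlock M b},
        centralChar (rep b.1 : G → ℂ) (x i) * sepPsi (S : Subgroup G) b.1 (x j)) := by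
  have hprime : M.IsPrime := hM.2.1.isPrime
  have hMtop : M ≠ ⊤ := hM.2.1.ne_top
  rw [← sep_char_sum S x hx hsep i j, sum_irr_eq_sum_blocks (M := M), ← Finset.sum_sub_distrib]
  apply memLocalIdeal_sum
  intro b _
  unfold sepPsi
  rw [Finset.mul_sum, ← Finset.sum_sub_distrib]
  apply memLocalIdeal_sum
  intro χ _
  by_cases hχ : χ ∈ b.1
  · rw [if_pos hχ, if_pos hχ]
    have h1 : conj ((χ : G → ℂ) (x j)) * centralChar (χ : G → ℂ) (x i) *
          sepMult (S : Subgroup G) χ -
        centralChar (rep b.1 : G → ℂ) (x i) *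
          (sepMult (S : Subgroup G) χ * conj ((χ : G → ℂ) (x j))) =
        (centralChar (χ : G → ℂ) (x i) - centralChar (rep b.1 : G → ℂ) (x i)) *
          (sepMult (S : Subgroup G) χ * conj ((χ : G → ℂ) (x j))) := by ring
    rw [h1]
    have hsame : SameBlock M (χ : G → ℂ) (rep b.1 : G → ℂ) :=
      (Helper28.mem_block_iff b.2 hχ (rep b.1)).mp (hrep b.1 b.2)
    apply memLocalIdeal_mul_right (hsame (x i))
    obtain ⟨n, hn⟩ := sepMult_nat (S : Subgroup G) χ
    rw [hn]
    exact memLocalRing_mul (memLocalRing_natCast hMtop n)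
      (memLocalRing_of_isIntegral hMtop (isIntegral_conj_irr χ (x j)))
  · rw [if_neg hχ, if_neg hχ, mul_zero, sub_zero]
    exact memLocalIdeal_zero hMtop

end Count

end Cfsg.Agent.Lib.Helper28
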