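import Mathlib
import Cfsg.Prelude.Def_Blocks
import Cfsg.Agent.Lib.Helper28.SepB
import Cfsg.Agent.Lib.Helper28.BlockDefectD
import Cfsg.Agent.Lib.Helper28.BlockDefectE
import Cfsg.Agent.Lib.Helper28.BrauerD

set_option autoImplicit false

/-!
# Separated classes, part C (helper28)

`r` pairwise non-conjugate classes with common defect group `D`, no quotient of two of their
members being a nontrivial `p`-element, give `r` distinct blocks with defect group `D` and a
character matrix which is nonsingular modulo the local ideal.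
-/

namespace Cfsg.Agent.Lib.Helper28

open Cfsg Cfsg.Agent.Lib.Helper4 Cfsg.Agent.Lib.Helper26
open scoped ComplexConjugate Classical

section Sums

theorem sum_subtype_and {α : Type*} (P Q : α → Prop) [Fintype {a // P a}]
    [Fintype {a // P a ∧ Q a}] (T : α → ℂ) :
    ∑ b : {a // P a}, T b.1 =
      ∑ d : {a // P a ∧ Q a}, T d.1 + ∑ b : {a // P a}, if Q b.1 then 0 else T b.1 := by
  have h1 : ∑ b : {a // P a}, T b.1 =
      ∑ b : {a // P a}, ((if Q b.1 then T b.1 else 0) + (if Q b.1 then 0 else T b.1)) := by
    refine Finset.sum_congr rfl fun b _ => ?_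
    split_ifs
    · rw [add_zero]
    · rw [zero_add]
  rw [h1, Finset.sum_add_distrib]
  congr 1
  rw [← Finset.sum_filter]
  rw [Finset.sum_subtype (Finset.univ.filter fun b : {a // P a} => Q b.1)
    (p := fun b : {a // P a} => Q b.1) (by intro b; simp)]
  exact Fintype.sum_equiv (Equiv.subtypeSubtypeEquivSubtypeInter P Q) _ _ (fun b => rfl)

end Sums

section Main

variable {G : Type*} [Group G] [Fintype G] {M : Ideal AlgInt}

/-- a block which contributes modulo the local ideal has `D` as a defect group -/
theorem sep_term_memLocalIdeal [Fintype (IrrCharacter G)] {p : ℕ} [Fact p.Prime]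
    (hM : IsPModular p M) (S : Subgroup G) [Fintype S] (D : Subgroup G) (hD : IsPGroup p D)
    (xi xj : G)
    (hci : Nat.card D = p ^ (Nat.card (Subgroup.centralizer ({xi} : Set G))).factorization p)
    (hDj : D ≤ Subgroup.centralizer ({xj} : Set G))
    {b : Set (IrrCharacter G)} (hb : IsPBlock M b) {χ : IrrCharacter G} (hχ : χ ∈ b)
    (hnot : ¬ IsDefectGroup p M b D) :
    MemLocalIdeal M (centralChar (χ : G → ℂ) xi * sepPsi S b xj) := by
  have hprime : M.IsPrime := hM.2.1.isPrime
  have hMtop : M ≠ ⊤ := hM.2.1.ne_top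
  by_contra hcon
  have hωR : MemLocalRing M (centralChar (χ : G → ℂ) xi) :=
    memLocalRing_of_isIntegral hMtop (isIntegral_centralChar χ.2 xi)
  have hψR : MemLocalRing M (sepPsi S b xj) := sepPsi_memLocalRing hMtop S b xj
  have hω : ¬ MemLocalIdeal M (centralChar (χ : G → ℂ) xi) := fun h =>
    hcon (memLocalIdeal_mul_right h hψR)
  have hψ : ¬ MemLocalIdeal M (sepPsi S b xj) := fun h =>
    hcon (memLocalIdeal_mul_left hωR h)
  obtain ⟨g, hg⟩ := exists_defectClass hM hb
  obtain ⟨P0⟩ : Nonempty (Sylow p (Subgroup.centralizer ({g} : Set G))) := inferInstance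
  have h1 : ∃ c : G, D ≤ ((P0 : Subgroup (Subgroup.centralizer ({g} : Set G))).map
      (Subgroup.centralizer ({g} : Set G)).subtype).map (MulAut.conj c).toMonoidHom := by
    by_contra hne
    push Not at hne
    exact hψ (sepPsi_memLocalIdeal hM S hb hg P0 xj D hD hDj hne)
  obtain ⟨c, hc⟩ := h1
  obtain ⟨c', Q, hQ⟩ := (Cfsg.Agent.S0911.result p M hM b hb g hg P0 xi).2 ⟨χ, hχ, hω⟩
  set DB : Subgroup G := (P0 : Subgroup (Subgroup.centralizer ({g} : Set G))).map
      (Subgroup.centralizer ({g} : Set G)).subtype with hDB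
  have hcard1 : Nat.card (DB.map (MulAut.conj c').toMonoidHom) = Nat.card DB :=
    Subgroup.card_map_of_injective (MulAut.conj c').injective
  have hcard2 : Nat.card (DB.map (MulAut.conj c).toMonoidHom) = Nat.card DB :=
    Subgroup.card_map_of_injective (MulAut.conj c).injective
  have hcardQ : Nat.card ((Q : Subgroup (Subgroup.centralizer ({xi} : Set G))).map
      (Subgroup.centralizer ({xi} : Set G)).subtype) = Nat.card D := by
    rw [Subgroup.card_map_of_injective (Subgroup.subtype_injective _), Q.card_eq_multiplicity,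
      hci]
  have hle : Nat.card DB ≤ Nat.card D := by
    rw [← hcard1, ← hcardQ]
    exact Nat.le_of_dvd Nat.card_pos (Subgroup.card_dvd_of_le hQ)
  have heq : D = DB.map (MulAut.conj c).toMonoidHom := by
    apply Subgroup.eq_of_le_of_card_ge hc
    rw [hcard2]
    exact hle
  apply hnot
  rw [heq]
  exact isDefectGroup_map_conj ⟨g, hg, P0, rfl⟩ c

set_option maxHeartbeats 1600000 in
/-- **the theorem on separated classes** -/
theorem sep_main (p : ℕ) [Fact p.Prime] (M : Ideal AlgInt) (hM : IsPModular p M)
    (D : Subgroup G) {r : ℕ} (x : Fin r → G)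
    (hx : ∀ i j : Fin r, IsConj (x i) (x j) → i = j)
    (hD : ∀ i : Fin r, ∃ S : Sylow p ↥(Subgroup.centralizer ({x i} : Set G)),
      (S : Subgroup ↥(Subgroup.centralizer ({x i} : Set G))).map
        (Subgroup.centralizer ({x i} : Set G)).subtype = D)
    (hsep : ∀ i j : Fin r, ∀ g h : G, IsConj (x i) g → IsConj (x j) h → ∀ k : ℕ, 0 < k →
      orderOf (g * h⁻¹) ≠ p ^ k) :
    ∃ B : Fin r → Set (IrrCharacter G), Function.Injective B ∧
      (∀ i : Fin r, IsPBlock M (B i) ∧ IsDefectGroup p M (B i) D) ∧
      ∀ χ : Fin r → IrrCharacter G,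
        (∀ i : Fin r, χ i ∈ B i ∧ blockHeight p (B i) (χ i : G → ℂ) = 0) →
        ¬ MemLocalIdeal M (Matrix.det (Matrix.of fun i j : Fin r => (χ i : G → ℂ) (x j))) := by
  have hp : p.Prime := Fact.out
  have hprime : M.IsPrime := hM.2.1.isPrime
  have hMtop : M ≠ ⊤ := hM.2.1.ne_top
  haveI hmax : M.IsMaximal := hM.2.1
  letI := Ideal.Quotient.field M
  have : Fintype (IrrCharacter G) := Fintype.ofFinite _
  have : Fintype {b : Set (IrrCharacter G) // IsPBlock M b} := Fintype.ofFinite _
  have : Fintype {b : Set (IrrCharacter G) // IsPBlock M b ∧ IsDefectGroup p M b D} :=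
    Fintype.ofFinite _
  obtain ⟨S⟩ : Nonempty (Sylow p G) := inferInstance
  -- data on `D`
  have hDdata : ∀ i : Fin r, IsPGroup p D ∧ D ≤ Subgroup.centralizer ({x i} : Set G) ∧
      Nat.card D = p ^ (Nat.card (Subgroup.centralizer ({x i} : Set G))).factorization p := by
    intro i
    obtain ⟨Si, hSi⟩ := hD i
    refine ⟨?_, ?_, ?_⟩
    · rw [← hSi]; exact Si.2.map _
    · rw [← hSi]; exact Subgroup.map_subtype_le _
    · rw [← hSi, Subgroup.card_map_of_injective (Subgroup.subtype_injective _)]
      exact Si.card_eq_multiplicity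
  -- representatives
  let rep : Set (IrrCharacter G) → IrrCharacter G := fun b =>
    if h : ∃ χ : IrrCharacter G, χ ∈ b then h.choose else trivIrr G
  have hrep : ∀ b : Set (IrrCharacter G), IsPBlock M b → rep b ∈ b := by
    intro b hb
    have h := Helper28.block_nonempty hb
    show (if h : ∃ χ : IrrCharacter G, χ ∈ b then h.choose else trivIrr G) ∈ b
    rw [dif_pos h]
    exact h.choose_spec
  -- the congruence over the blocks with defect group `D`
  have hcongr : ∀ i j : Fin r, MemLocalIdeal M
      ((if i = j then ((S : Subgroup G).index : ℂ) else 0) -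
        ∑ d : {b : Set (IrrCharacter G) // IsPBlock M b ∧ IsDefectGroup p M b D},
          centralChar (rep d.1 : G → ℂ) (x i) * sepPsi (S : Subgroup G) d.1 (x j)) := by
    intro i j
    have h1 := sep_block_congr hM S x hx hsep rep hrep i j
    have h2 := sum_subtype_and (fun b : Set (IrrCharacter G) => IsPBlock M b)
      (fun b : Set (IrrCharacter G) => IsDefectGroup p M b D)
      (fun b => centralChar (rep b : G → ℂ) (x i) * sepPsi (S : Subgroup G) b (x j))
    rw [h2] at h1
    have h3 : MemLocalIdeal M (∑ b : {b : Set (IrrCharacter G) // IsPBlock M b},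
        if IsDefectGroup p M b.1 D then 0
        else centralChar (rep b.1 : G → ℂ) (x i) * sepPsi (S : Subgroup G) b.1 (x j)) := by
      apply memLocalIdeal_sum
      intro b _
      split_ifs with hdg
      · exact memLocalIdeal_zero hMtop
      · exact sep_term_memLocalIdeal hM (S : Subgroup G) D (hDdata j).1 (x i) (x j)
          (hDdata i).2.2 (hDdata j).2.1 b.2 (hrep b.1 b.2) hdg
    have h4 := memLocalIdeal_add h1 h3
    have h5 : ((if i = j then ((S : Subgroup G).index : ℂ) else 0) -
        (∑ d : {b : Set (IrrCharacter G) // IsPBlock M b ∧ IsDefectGroup p M b D},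
          centralChar (rep d.1 : G → ℂ) (x i) * sepPsi (S : Subgroup G) d.1 (x j) +
        ∑ b : {b : Set (IrrCharacter G) // IsPBlock M b},
          if IsDefectGroup p M b.1 D then 0
          else centralChar (rep b.1 : G → ℂ) (x i) * sepPsi (S : Subgroup G) b.1 (x j))) +
        (∑ b : {b : Set (IrrCharacter G) // IsPBlock M b},
          if IsDefectGroup p M b.1 D then 0
          else centralChar (rep b.1 : G → ℂ) (x i) * sepPsi (S : Subgroup G) b.1 (x j)) =
        (if i = j then ((S : Subgroup G).index : ℂ) else 0) -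
        ∑ d : {b : Set (IrrCharacter G) // IsPBlock M b ∧ IsDefectGroup p M b D},
          centralChar (rep d.1 : G → ℂ) (x i) * sepPsi (S : Subgroup G) d.1 (x j) := by ring
    rw [h5] at h4
    exact h4
  -- local ring membership
  have hωR : ∀ (χ : IrrCharacter G) (g : G), MemLocalRing M (centralChar (χ : G → ℂ) g) :=
    fun χ g => memLocalRing_of_isIntegral hMtop (isIntegral_centralChar χ.2 g)
  have hψR : ∀ (b : Set (IrrCharacter G)) (g : G), MemLocalRing M (sepPsi (S : Subgroup G) b g) :=
    fun b g => sepPsi_memLocalRing hMtop (S : Subgroup G) b g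
  -- the index is a unit
  have hcop : ((S : Subgroup G).index).Coprime p :=
    Nat.Coprime.symm ((Nat.Prime.coprime_iff_not_dvd hp).mpr S.not_dvd_index)
  have hu : localRes M (((S : Subgroup G).index : ℕ) : ℂ) ≠ 0 := by
    rw [Ne, localRes_eq_zero_iff (memLocalRing_natCast hMtop _)]
    exact not_memLocalIdeal_natCast hM hcop
  -- the vectors
  let v : {b : Set (IrrCharacter G) // IsPBlock M b ∧ IsDefectGroup p M b D} →
      Fin r → AlgInt ⧸ M := fun d i => localRes M (centralChar (rep d.1 : G → ℂ) (x i))
  have hspan : Submodule.span (AlgInt ⧸ M) (Set.range v) = ⊤ := by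
    rw [eq_top_iff, ← (Pi.basisFun (AlgInt ⧸ M) (Fin r)).span_eq]
    apply Submodule.span_le.mpr
    rintro _ ⟨j, rfl⟩
    rw [Pi.basisFun_apply]
    have hkey : localRes M (((S : Subgroup G).index : ℕ) : ℂ) •
        (Pi.single j (1 : AlgInt ⧸ M) : Fin r → AlgInt ⧸ M) =
        ∑ d : {b : Set (IrrCharacter G) // IsPBlock M b ∧ IsDefectGroup p M b D},
          localRes M (sepPsi (S : Subgroup G) d.1 (x j)) • v d := by
      funext i
      rw [Finset.sum_apply, Pi.smul_apply]
      simp only [Pi.smul_apply, smul_eq_mul]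
      have h1 := hcongr i j
      have hsumR : MemLocalRing M
          (∑ d : {b : Set (IrrCharacter G) // IsPBlock M b ∧ IsDefectGroup p M b D},
            centralChar (rep d.1 : G → ℂ) (x i) * sepPsi (S : Subgroup G) d.1 (x j)) :=
        memLocalRing_sum _ _ fun d _ => memLocalRing_mul (hωR _ _) (hψR _ _)
      have hiteR : MemLocalRing M (if i = j then ((S : Subgroup G).index : ℂ) else 0) := by
        split_ifs
        · exact memLocalRing_natCast hMtop _
        · exact memLocalRing_zero hMtop
      have h2 := localRes_eq_of_sub_memLocalIdeal hiteR hsumR h1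
      rw [localRes_sum _ _ fun d _ => memLocalRing_mul (hωR _ _) (hψR _ _)] at h2
      have h3 : ∀ d : {b : Set (IrrCharacter G) // IsPBlock M b ∧ IsDefectGroup p M b D},
          localRes M (centralChar (rep d.1 : G → ℂ) (x i) * sepPsi (S : Subgroup G) d.1 (x j)) =
          localRes M (sepPsi (S : Subgroup G) d.1 (x j)) * v d i := by
        intro d
        rw [localRes_mul (hωR _ _) (hψR _ _), mul_comm]
      rw [Finset.sum_congr rfl fun d _ => h3 d] at h2
      rw [← h2]
      by_cases hij : i = j
      · subst hij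
        rw [if_pos rfl, Pi.single_eq_same, mul_one]
      · rw [if_neg hij, Pi.single_eq_of_ne hij, mul_zero, localRes_zero]
    have hmem : localRes M (((S : Subgroup G).index : ℕ) : ℂ) •
        (Pi.single j (1 : AlgInt ⧸ M) : Fin r → AlgInt ⧸ M) ∈
        Submodule.span (AlgInt ⧸ M) (Set.range v) := by
      rw [hkey]
      apply Submodule.sum_mem
      intro d _
      exact Submodule.smul_mem _ _ (Submodule.subset_span ⟨d, rfl⟩)
    have h6 := Submodule.smul_mem _ (localRes M (((S : Subgroup G).index : ℕ) : ℂ))⁻¹ hmem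
    rw [smul_smul, inv_mul_cancel₀ hu, one_smul] at h6
    exact h6
  obtain ⟨s, hsinj, hsdet⟩ := exists_injective_det_ne_zero v hspan
  refine ⟨fun k => (s k).1, ?_, fun k => (s k).2, ?_⟩
  · intro k k' hkk
    exact hsinj (Subtype.ext hkk)
  · intro χ hχ hdet
    -- the matrix of central characters
    let W : Matrix (Fin r) (Fin r) ℂ := Matrix.of fun k j => centralChar (χ k : G → ℂ) (x j)
    have hWR : ∀ k j, MemLocalRing M (W k j) := fun k j => hωR _ _
    have hWres : (Matrix.of fun k j => localRes M (W k j) :
        Matrix (Fin r) (Fin r) (AlgInt ⧸ M)) = Matrix.of fun k i => v (s k) i := by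
      ext k j
      show localRes M (centralChar (χ k : G → ℂ) (x j)) =
        localRes M (centralChar (rep (s k).1 : G → ℂ) (x j))
      apply localRes_eq_of_sub_memLocalIdeal (hωR _ _) (hωR _ _)
      exact (Helper28.mem_block_iff (s k).2.1 (hχ k).1 (rep (s k).1)).mp
        (hrep (s k).1 (s k).2.1) (x j)
    have hWdet : localRes M W.det ≠ 0 := by
      rw [localRes_det W hWR, hWres]
      exact hsdet
    apply hWdet
    -- factor the determinant
    have hdegs : ∀ k : Fin r, charDegree (χ k : G → ℂ) ≠ 0 ∧
        (χ k : G → ℂ) 1 = (charDegree (χ k : G → ℂ) : ℂ) := fun k =>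
      ⟨(irr_degree_nat (χ k).2).1, (irr_degree_nat (χ k).2).2.1⟩
    have hval : ∀ j : Fin r, (charDegree (χ j : G → ℂ)).factorization p ≤
        ((Subgroup.centralizer ({x j} : Set G)).index).factorization p := by
      intro j
      have hBj := (s j).2
      obtain ⟨g, hg, hgle, hgcard⟩ := isDefectGroup_data hBj.2
      have h1 := factorization_eq_sInf_of_height_zero (hχ j).1 (hχ j).2
      have h2 := sInf_le_index_factorization hM hBj.1 hg.2.1
      have h3 : ((Subgroup.centralizer ({g} : Set G)).index).factorization p =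
          ((Subgroup.centralizer ({x j} : Set G)).index).factorization p := by
        have hcg : (Nat.card (Subgroup.centralizer ({g} : Set G))).factorization p =
            (Nat.card (Subgroup.centralizer ({x j} : Set G))).factorization p := by
          have e1 := hgcard
          rw [(hDdata j).2.2] at e1
          exact (Nat.pow_right_injective hp.two_le e1).symm
        have e4 : (Nat.card (Subgroup.centralizer ({g} : Set G)) *
            (Subgroup.centralizer ({g} : Set G)).index).factorization p =
            (Nat.card G).factorization p := by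
          rw [(Subgroup.centralizer ({g} : Set G)).card_mul_index]
        have e5 : (Nat.card (Subgroup.centralizer ({x j} : Set G)) *
            (Subgroup.centralizer ({x j} : Set G)).index).factorization p =
            (Nat.card G).factorization p := by
          rw [(Subgroup.centralizer ({x j} : Set G)).card_mul_index]
        rw [Nat.factorization_mul Nat.card_pos.ne' Subgroup.index_ne_zero_of_finite,
          Finsupp.add_apply] at e4 e5
        omega
      rw [h1, ← h3]
      exact h2
    let A2 : Matrix (Fin r) (Fin r) ℂ := Matrix.of fun i j : Fin r => (χ i : G → ℂ) (x j)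
    let A1 : Matrix (Fin r) (Fin r) ℂ :=
      Matrix.of fun k j : Fin r => (charDegree (χ k : G → ℂ) : ℂ)⁻¹ * A2 k j
    let A0 : Matrix (Fin r) (Fin r) ℂ :=
      Matrix.of fun k j : Fin r => (charDegree (χ j : G → ℂ) : ℂ) * A1 k j
    have hWfac : W = Matrix.of fun k j : Fin r =>
        (((Subgroup.centralizer ({x j} : Set G)).index : ℂ) /
          (charDegree (χ j : G → ℂ) : ℂ)) * A0 k j := by
      ext k j
      show centralChar (χ k : G → ℂ) (x j) =
        (((Subgroup.centralizer ({x j} : Set G)).index : ℂ) /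
          (charDegree (χ j : G → ℂ) : ℂ)) * ((charDegree (χ j : G → ℂ) : ℂ) *
            ((charDegree (χ k : G → ℂ) : ℂ)⁻¹ * (χ k : G → ℂ) (x j)))
      unfold centralChar
      have h1 : (charDegree (χ j : G → ℂ) : ℂ) ≠ 0 := Nat.cast_ne_zero.mpr (hdegs j).1
      have h2 : (charDegree (χ k : G → ℂ) : ℂ) ≠ 0 := Nat.cast_ne_zero.mpr (hdegs k).1
      rw [(hdegs k).2]
      field_simp
    have hdetW : W.det = (∏ j : Fin r, ((Subgroup.centralizer ({x j} : Set G)).index : ℂ) /
          (charDegree (χ j : G → ℂ) : ℂ)) *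
        ((∏ j : Fin r, (charDegree (χ j : G → ℂ) : ℂ)) *
          ((∏ k : Fin r, (charDegree (χ k : G → ℂ) : ℂ)⁻¹) * A2.det)) := by
      rw [hWfac, Matrix.det_mul_row (fun j : Fin r =>
        ((Subgroup.centralizer ({x j} : Set G)).index : ℂ) / (charDegree (χ j : G → ℂ) : ℂ)) A0]
      congr 1
      show A0.det = _
      have hA0 : A0.det = (∏ j : Fin r, (charDegree (χ j : G → ℂ) : ℂ)) * A1.det :=
        Matrix.det_mul_row (fun j : Fin r => (charDegree (χ j : G → ℂ) : ℂ)) A1
      have hA1 : A1.det = (∏ k : Fin r, (charDegree (χ k : G → ℂ) : ℂ)⁻¹) * A2.det :=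
        Matrix.det_mul_column (fun k : Fin r => (charDegree (χ k : G → ℂ) : ℂ)⁻¹) A2
      rw [hA0, hA1]
    have hcancel : (∏ j : Fin r, (charDegree (χ j : G → ℂ) : ℂ)) *
        ((∏ k : Fin r, (charDegree (χ k : G → ℂ) : ℂ)⁻¹) * A2.det) = A2.det := by
      rw [← mul_assoc, ← Finset.prod_mul_distrib]
      have : ∀ j : Fin r, (charDegree (χ j : G → ℂ) : ℂ) * (charDegree (χ j : G → ℂ) : ℂ)⁻¹ = 1 :=
        fun j => mul_inv_cancel₀ (Nat.cast_ne_zero.mpr (hdegs j).1)
      rw [Finset.prod_congr rfl fun j _ => this j, Finset.prod_const_one, one_mul]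
    have hprodR : MemLocalRing M
        (∏ j : Fin r, ((Subgroup.centralizer ({x j} : Set G)).index : ℂ) /
          (charDegree (χ j : G → ℂ) : ℂ)) := by
      apply memLocalRing_prod
      intro j _
      exact natCast_div_memLocalRing hM Subgroup.index_ne_zero_of_finite (hdegs j).1 (hval j)
    have hdet' : MemLocalIdeal M A2.det := hdet
    rw [hdetW, hcancel]
    rw [localRes_eq_zero_iff]
    · exact memLocalIdeal_mul_left hprodR hdet'
    · exact memLocalRing_mul hprodR (memLocalRing_of_memLocalIdeal hdet')

end Main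

end Cfsg.Agent.Lib.Helper28
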