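import Mathlib
import Cfsg.Agent.Lib.Helper4.RepEigen

set_option autoImplicit false

/-!
# The determinant of a diagonalizable endomorphism (helper28)

`det f = ∏ μ ^ dim E_μ` for a diagonalizable endomorphism, and the version for `ρ g`.
-/

namespace Cfsg.Agent.Lib.Helper28

open Cfsg Cfsg.Agent.Lib.Helper4

section Det

variable {V : Type*} [AddCommGroup V] [Module ℂ V] [FiniteDimensional ℂ V]

theorem det_eq_prod_of_eigen (f : Module.End ℂ V) (hf : ⨆ μ : ℂ, f.eigenspace μ = ⊤) :
    LinearMap.det f =
      ∏ μ ∈ (finite_eigen f).toFinset, μ ^ Module.finrank ℂ (f.eigenspace μ) := by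
  classical
  set s := (finite_eigen f).toFinset with hs
  let E : s → Submodule ℂ V := fun μ => f.eigenspace (μ : ℂ)
  have hind : iSupIndep E := f.eigenspaces_iSupIndep.comp Subtype.val_injective
  have hsup : ⨆ μ : s, E μ = ⊤ := by
    rw [eq_top_iff, ← hf]
    apply iSup_le
    intro μ
    by_cases h : f.eigenspace μ = ⊥
    · rw [h]; exact bot_le
    · have hμ : μ ∈ s := by
        rw [hs, Set.Finite.mem_toFinset]
        exact h
      exact le_iSup E ⟨μ, hμ⟩
  have hds := DirectSum.isInternal_submodule_of_iSupIndep_of_iSup_eq_top hind hsup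
  let b := hds.collectedBasis (fun μ => Module.finBasis ℂ (E μ))
  rw [← LinearMap.det_toMatrix b f]
  have hdiag : LinearMap.toMatrix b b f = Matrix.diagonal (fun i => ((i.1 : s) : ℂ)) := by
    ext i j
    rw [LinearMap.toMatrix_apply]
    have hmem : b j ∈ E j.1 := hds.collectedBasis_mem _ j
    have h1 : f (b j) = ((j.1 : s) : ℂ) • b j := Module.End.mem_eigenspace_iff.mp hmem
    rw [h1, map_smul, Module.Basis.repr_self, Finsupp.smul_apply, Finsupp.single_apply,
      Matrix.diagonal_apply]
    by_cases hij : i = j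
    · subst hij
      simp
    · rw [if_neg (Ne.symm hij), if_neg hij]
      simp
  rw [hdiag, Matrix.det_diagonal, Fintype.prod_sigma]
  simp only [Finset.prod_const, Finset.card_univ, Fintype.card_fin]
  exact Finset.prod_coe_sort s (fun μ => μ ^ Module.finrank ℂ (f.eigenspace μ))

end Det

section Rep

variable {G : Type*} [Group G] [Finite G]
variable {V : Type*} [AddCommGroup V] [Module ℂ V] [FiniteDimensional ℂ V]

theorem det_rho_eq_prod (ρ : Representation ℂ G V) (g : G) :
    LinearMap.det (ρ g) = ∏ μ ∈ eigvals ρ g, μ ^ eigmult ρ g μ :=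
  det_eq_prod_of_eigen (ρ g) (rho_iSup_eigenspace ρ g)

end Rep

end Cfsg.Agent.Lib.Helper28
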