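import Mathlib
import Cfsg.Agent.Lib.Helper28.SmallDegA
import Cfsg.Agent.Lib.Helper28.AlperinA
import Cfsg.Agent.Lib.Helper28.BlockDefectB
import Cfsg.Agent.Lib.Helper4.GaloisChar
import Cfsg.Agent.Lib.Helper7.DetChar

set_option autoImplicit false

/-!
# Faithful characters of small degree in the principal block (helper28)

A perfect group with a faithful irreducible character of degree `< 2p` in the principal `p`-block
has `C_G(P)` a `p`-group (`P` a Sylow `p`-subgroup).
-/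

namespace Cfsg.Agent.Lib.Helper28

open Cfsg Cfsg.Agent.Lib.Helper4 Cfsg.Agent.Lib.Helper26
open scoped ComplexConjugate Classical

section SmallDeg

variable {G : Type*} [Group G] [Fintype G] {M : Ideal AlgInt}

/-- `χ(c)/χ(1) ≡ 1` for `χ` in the principal block and `c` centralizing a Sylow `p`-subgroup -/
theorem memLocalIdeal_one_sub_ratio {p : ℕ} [Fact p.Prime] (hM : IsPModular p M) (P : Sylow p G)
    {χ : IrrCharacter G} (hχ : χ ∈ principalBlock M G) {c : G}
    (hc : c ∈ Subgroup.centralizer ((P : Subgroup G) : Set G)) :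
    MemLocalIdeal M (1 - (χ : G → ℂ) c / (χ : G → ℂ) 1) := by
  have hprime : M.IsPrime := hM.2.1.isPrime
  have hp : p.Prime := Fact.out
  have h1 : MemLocalIdeal M (centralChar (fun _ : G => (1 : ℂ)) c - centralChar (χ : G → ℂ) c) :=
    hχ c
  have hle : (P : Subgroup G) ≤ Subgroup.centralizer ({c} : Set G) := by
    intro x hx
    rw [Subgroup.mem_centralizer_singleton_iff]
    exact (Subgroup.mem_centralizer_iff.mp hc x hx)
  have hdvd : (Subgroup.centralizer ({c} : Set G)).index ∣ (P : Subgroup G).index :=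
    Subgroup.index_dvd_of_le hle
  have hnd : ¬ p ∣ (Subgroup.centralizer ({c} : Set G)).index := fun hd =>
    P.not_dvd_index (hd.trans hdvd)
  have hcop : ((Subgroup.centralizer ({c} : Set G)).index).Coprime p :=
    ((Nat.Prime.coprime_iff_not_dvd hp).mpr hnd).symm
  have h2 := memLocalIdeal_mul_left (memLocalRing_inv_natCast hM hcop) h1
  have hidx0 : ((Subgroup.centralizer ({c} : Set G)).index : ℂ) ≠ 0 := by
    have : (Subgroup.centralizer ({c} : Set G)).index ≠ 0 := Subgroup.index_ne_zero_of_finite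
    exact_mod_cast this
  have e : ((Subgroup.centralizer ({c} : Set G)).index : ℂ)⁻¹ *
      (centralChar (fun _ : G => (1 : ℂ)) c - centralChar (χ : G → ℂ) c) =
      1 - (χ : G → ℂ) c / (χ : G → ℂ) 1 := by
    unfold centralChar
    rw [mul_one, div_one, mul_div_assoc, ← mul_one_sub, ← mul_assoc, inv_mul_cancel₀ hidx0,
      one_mul]
  rwa [e] at h2

/-- Fourier inversion for the multiplicities of the eigenvalues -/
theorem fourier_eigmult {n : ℕ} (ρ : Representation ℂ G (Fin n → ℂ)) (c : G) {q : ℕ}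
    (hq : 0 < q) (hcq : c ^ q = 1) {μ : ℂ} (hμ : μ ∈ eigvals ρ c) :
    (q : ℂ) * (eigmult ρ c μ : ℂ) =
      ∑ j ∈ Finset.range q, ρ.character (c ^ j) * (μ⁻¹) ^ j := by
  have hpow : ∀ ν ∈ eigvals ρ c, ν ^ q = 1 := by
    intro ν hν
    have h1 := eigenvalue_pow_orderOf ρ c ν ((mem_eigvals ρ c).mp hν)
    obtain ⟨k, hk⟩ := orderOf_dvd_of_pow_eq_one hcq
    rw [hk, pow_mul, h1, one_pow]
  have hμ0 : μ ≠ 0 := by
    intro h
    have := hpow μ hμ
    rw [h, zero_pow hq.ne'] at this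
    exact zero_ne_one this
  simp_rw [character_pow_eq_sum, Finset.sum_mul]
  rw [Finset.sum_comm]
  rw [Finset.sum_eq_single μ]
  · have h1 : ∀ j ∈ Finset.range q, μ ^ j * (eigmult ρ c μ : ℂ) * μ⁻¹ ^ j =
        (eigmult ρ c μ : ℂ) := by
      intro j _
      rw [inv_pow]
      have : μ ^ j ≠ 0 := pow_ne_zero j hμ0
      field_simp
    rw [Finset.sum_congr rfl h1, Finset.sum_const, Finset.card_range, nsmul_eq_mul]
  · intro ν hν hne
    have h1 : ∀ j ∈ Finset.range q, ν ^ j * (eigmult ρ c ν : ℂ) * μ⁻¹ ^ j =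
        (eigmult ρ c ν : ℂ) * (ν * μ⁻¹) ^ j := by
      intro j _
      rw [mul_pow]
      ring
    rw [Finset.sum_congr rfl h1, ← Finset.mul_sum]
    have h2 : (ν * μ⁻¹) ^ q = 1 := by
      rw [mul_pow, inv_pow, hpow ν hν, hpow μ hμ]
      simp
    have h3 : ν * μ⁻¹ ≠ 1 := by
      intro h
      apply hne
      have := congrArg (fun z => z * μ) h
      simp only [one_mul] at this
      rw [mul_assoc, inv_mul_cancel₀ hμ0, mul_one] at this
      exact this
    have h4 : ∑ j ∈ Finset.range q, (ν * μ⁻¹) ^ j = 0 := by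
      have := geom_sum_mul (ν * μ⁻¹) q
      rw [h2, sub_self] at this
      exact (mul_eq_zero.mp this).resolve_right (sub_ne_zero.mpr h3)
    rw [h4, mul_zero]
  · intro h
    exact absurd hμ h

/-- the multiplicity of a nontrivial eigenvalue of an element of prime order `q ≠ p` centralizing a
Sylow `p`-subgroup, divided by the degree, lies in the local ideal -/
theorem memLocalIdeal_eigmult_div {p : ℕ} [Fact p.Prime] (hM : IsPModular p M) (P : Sylow p G)
    {χ : IrrCharacter G} (hχ : χ ∈ principalBlock M G) {n : ℕ}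
    (ρ : Representation ℂ G (Fin n → ℂ)) (hρ : ρ.character = (χ : G → ℂ)) {c : G}
    (hc : c ∈ Subgroup.centralizer ((P : Subgroup G) : Set G)) {q : ℕ} (hq : q.Prime)
    (hqp : q ≠ p) (hcq : c ^ q = 1) {μ : ℂ} (hμ : μ ∈ eigvals ρ c) (hμ1 : μ ≠ 1) :
    MemLocalIdeal M ((eigmult ρ c μ : ℂ) / (n : ℂ)) := by
  have hprime : M.IsPrime := hM.2.1.isPrime
  have hMtop : M ≠ ⊤ := hM.2.1.ne_top
  have hp : p.Prime := Fact.out
  have hn1 : (χ : G → ℂ) 1 = (n : ℂ) := by
    rw [← hρ]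
    exact Cfsg.Agent.Lib.Helper7.character_one_eq ρ
  have hμq : μ ^ q = 1 := by
    have h1 := eigenvalue_pow_orderOf ρ c μ ((mem_eigvals ρ c).mp hμ)
    obtain ⟨k, hk⟩ := orderOf_dvd_of_pow_eq_one hcq
    rw [hk, pow_mul, h1, one_pow]
  have hμ0 : μ ≠ 0 := by
    intro h
    rw [h, zero_pow hq.pos.ne'] at hμq
    exact zero_ne_one hμq
  have hinvq : (μ⁻¹) ^ q = 1 := by rw [inv_pow, hμq, inv_one]
  have hinv1 : μ⁻¹ ≠ 1 := by
    intro h
    apply hμ1
    exact inv_eq_one.mp h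
  have hint : IsIntegral ℤ (μ⁻¹) :=
    ⟨Polynomial.X ^ q - 1, Polynomial.monic_X_pow_sub_C 1 hq.pos.ne', by simp [hinvq]⟩
  have hgeom : ∑ j ∈ Finset.range q, (μ⁻¹) ^ j = 0 := by
    have := geom_sum_mul (μ⁻¹) q
    rw [hinvq, sub_self] at this
    exact (mul_eq_zero.mp this).resolve_right (sub_ne_zero.mpr hinv1)
  have hF := fourier_eigmult ρ c hq.pos hcq hμ
  have hkey : (q : ℂ) * ((eigmult ρ c μ : ℂ) / (n : ℂ)) =
      - ∑ j ∈ Finset.range q, (1 - (χ : G → ℂ) (c ^ j) / (χ : G → ℂ) 1) * (μ⁻¹) ^ j := by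
    have e1 : ∀ j ∈ Finset.range q, (1 - (χ : G → ℂ) (c ^ j) / (χ : G → ℂ) 1) * (μ⁻¹) ^ j =
        (μ⁻¹) ^ j - ρ.character (c ^ j) * (μ⁻¹) ^ j / (n : ℂ) := by
      intro j _
      rw [hn1, hρ]
      ring
    rw [Finset.sum_congr rfl e1, Finset.sum_sub_distrib, hgeom, zero_sub, neg_neg,
      ← Finset.sum_div, ← hF]
    ring
  have hLI : MemLocalIdeal M ((q : ℂ) * ((eigmult ρ c μ : ℂ) / (n : ℂ))) := by
    rw [hkey]
    apply memLocalIdeal_neg
    apply memLocalIdeal_sum
    intro j _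
    apply memLocalIdeal_mul_right
    · exact memLocalIdeal_one_sub_ratio hM P hχ (Subgroup.pow_mem _ hc j)
    · exact memLocalRing_of_isIntegral hMtop (hint.pow j)
  have hcop : q.Coprime p := (Nat.coprime_primes hq hp).mpr hqp
  have h2 := memLocalIdeal_mul_left (memLocalRing_inv_natCast hM hcop) hLI
  have hq0 : (q : ℂ) ≠ 0 := by exact_mod_cast hq.pos.ne'
  rwa [← mul_assoc, inv_mul_cancel₀ hq0, one_mul] at h2

/-- arithmetic: `a / n` in the local ideal with `a ≤ n < 2p` -/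
theorem dvd_of_memLocalIdeal_div {p : ℕ} (hM : IsPModular p M) {a n : ℕ} (hn : 0 < n)
    (hn2 : n < 2 * p) (han : a ≤ n) (h : MemLocalIdeal M ((a : ℂ) / (n : ℂ))) :
    p ∣ a ∧ (p ∣ n → a = 0) := by
  have hprime : M.IsPrime := hM.2.1.isPrime
  have hMtop : M ≠ ⊤ := hM.2.1.ne_top
  have hp : p.Prime := hM.1
  have key : ∀ b : ℕ, MemLocalIdeal M (b : ℂ) → p ∣ b := by
    intro b hb
    by_contra hnd
    exact not_memLocalIdeal_natCast hM ((Nat.Prime.coprime_iff_not_dvd hp).mpr hnd).symm hb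
  have hn0 : (n : ℂ) ≠ 0 := by exact_mod_cast hn.ne'
  have ha : p ∣ a := by
    apply key
    have h1 := memLocalIdeal_mul_right h (memLocalRing_natCast hMtop n)
    rwa [div_mul_cancel₀ _ hn0] at h1
  refine ⟨ha, ?_⟩
  intro hpn
  obtain ⟨k, hk⟩ := hpn
  have hk1 : k = 1 := by
    have hk0 : 0 < k := by
      rcases Nat.eq_zero_or_pos k with h0 | h0
      · rw [h0, mul_zero] at hk
        omega
      · exact h0
    have : p * k < p * 2 := by rw [← hk]; omega
    have := Nat.lt_of_mul_lt_mul_left this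
    omega
  rw [hk1, mul_one] at hk
  obtain ⟨a', ha'⟩ := ha
  have hp0 : (p : ℂ) ≠ 0 := by exact_mod_cast hp.pos.ne'
  have h3 : MemLocalIdeal M (a' : ℂ) := by
    have e : (a : ℂ) / (n : ℂ) = (a' : ℂ) := by
      rw [ha', hk]
      push_cast
      field_simp
    rwa [e] at h
  obtain ⟨a'', ha''⟩ := key a' h3
  rw [ha''] at ha'
  rcases Nat.eq_zero_or_pos a'' with h0 | h0
  · rw [ha', h0, mul_zero, mul_zero]
  · exfalso
    have h4 : p * (p * a'') ≥ p * (2 * 1) :=
      Nat.mul_le_mul_left p (Nat.mul_le_mul hp.two_le h0)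
    rw [hk, ha'] at han
    have := hp.pos
    nlinarith

end SmallDeg

end Cfsg.Agent.Lib.Helper28
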