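import Mathlib
import Cfsg.Agent.Lib.Helper28.SmallDegB

set_option autoImplicit false

/-!
# Faithful characters of small degree in the principal block: the theorem (helper28)
-/

namespace Cfsg.Agent.Lib.Helper28

open Cfsg Cfsg.Agent.Lib.Helper4 Cfsg.Agent.Lib.Helper26
open scoped ComplexConjugate Classical

section SmallDeg

variable {G : Type*} [Group G] [Fintype G] {M : Ideal AlgInt}

theorem centralizer_sylow_isPGroup {p : ℕ} [Fact p.Prime] (hM : IsPModular p M)
    (hperf : commutator G = ⊤) (P : Sylow p G) (χ : IrrCharacter G)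
    (hχ : χ ∈ principalBlock M G)
    (hfaith : ∀ g : G, (χ : G → ℂ) g = (χ : G → ℂ) 1 → g = 1)
    (hdeg : charDegree (χ : G → ℂ) < 2 * p) :
    IsPGroup p ↥(Subgroup.centralizer ((P : Subgroup G) : Set G)) := by
  have hp : p.Prime := Fact.out
  by_contra hnp
  have hcard : ¬ ∃ k, Nat.card ↥(Subgroup.centralizer ((P : Subgroup G) : Set G)) = p ^ k :=
    fun h => hnp (IsPGroup.iff_card.mpr h)
  obtain ⟨q, hq, hqdvd, hqp⟩ : ∃ q, q.Prime ∧
      q ∣ Nat.card ↥(Subgroup.centralizer ((P : Subgroup G) : Set G)) ∧ q ≠ p := by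
    by_contra hno
    push_neg at hno
    exact hcard ⟨_, Nat.eq_prime_pow_of_unique_prime_dvd Nat.card_pos.ne'
      (fun {d} hd hdvd => hno d hd hdvd)⟩
  haveI : Fact q.Prime := ⟨hq⟩
  obtain ⟨c, hc⟩ := exists_prime_orderOf_dvd_card' q hqdvd
  have hcG : orderOf (c : G) = q := by
    rw [Subgroup.orderOf_coe]
    exact hc
  have hcq : (c : G) ^ q = 1 := by
    rw [← hcG]
    exact pow_orderOf_eq_one _
  have hc1 : (c : G) ≠ 1 := by
    intro h
    rw [h, orderOf_one] at hcG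
    exact hq.one_lt.ne hcG
  have hcmem : (c : G) ∈ Subgroup.centralizer ((P : Subgroup G) : Set G) := c.2
  obtain ⟨n, ρ, hirr, hρ⟩ := χ.2
  have hn1 : (χ : G → ℂ) 1 = (n : ℂ) := by
    rw [← hρ]
    exact Cfsg.Agent.Lib.Helper7.character_one_eq ρ
  have hdn : charDegree (χ : G → ℂ) = n := by
    rw [← hρ]
    exact charDegree_character ρ
  rw [hdn] at hdeg
  have hn0 : 0 < n := by
    have := finrank_ne_zero_of_irreducible ρ hirr
    rw [Module.finrank_fin_fun] at this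
    have hn : n ≠ 0 := by exact_mod_cast this
    exact Nat.pos_of_ne_zero hn
  have hsum : ∑ μ ∈ eigvals ρ (c : G), eigmult ρ (c : G) μ = n := by
    have := finrank_eq_sum_nat ρ (c : G)
    rw [Module.finrank_fin_fun] at this
    exact this.symm
  have hprop : ∀ μ ∈ eigvals ρ (c : G), μ ≠ 1 → p ∣ eigmult ρ (c : G) μ ∧ ¬ p ∣ n := by
    intro μ hμ hμ1
    have hLI := memLocalIdeal_eigmult_div hM P hχ ρ hρ hcmem hq hqp hcq hμ hμ1
    have hle : eigmult ρ (c : G) μ ≤ n :=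
      le_trans (Finset.single_le_sum (f := fun μ => eigmult ρ (c : G) μ)
        (fun _ _ => Nat.zero_le _) hμ) (le_of_eq hsum)
    obtain ⟨h1, h2⟩ := dvd_of_memLocalIdeal_div hM hn0 hdeg hle hLI
    refine ⟨h1, fun hpn => ?_⟩
    have := eigmult_pos ρ (c : G) hμ
    rw [h2 hpn] at this
    exact lt_irrefl _ this
  have hex : ∃ μ₀ ∈ eigvals ρ (c : G), μ₀ ≠ 1 := by
    by_contra hno
    push_neg at hno
    apply hc1
    apply hfaith
    rw [hn1, ← hρ, character_eq_sum ρ (c : G)]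
    have h1 : ∀ μ ∈ eigvals ρ (c : G), μ * (eigmult ρ (c : G) μ : ℂ) =
        (eigmult ρ (c : G) μ : ℂ) := by
      intro μ hμ
      rw [hno μ hμ, one_mul]
    rw [Finset.sum_congr rfl h1, ← Nat.cast_sum, hsum]
  obtain ⟨μ₀, hμ₀, hμ₀1⟩ := hex
  obtain ⟨hpd, hpn⟩ := hprop μ₀ hμ₀ hμ₀1
  have hle₀ : eigmult ρ (c : G) μ₀ ≤ n :=
    le_trans (Finset.single_le_sum (f := fun μ => eigmult ρ (c : G) μ)
      (fun _ _ => Nat.zero_le _) hμ₀) (le_of_eq hsum)
  have hother : ∀ μ ∈ eigvals ρ (c : G), μ ≠ μ₀ → μ = 1 := by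
    intro μ hμ hne
    by_contra hμ1
    obtain ⟨hpd', _⟩ := hprop μ hμ hμ1
    have h1 : p ≤ eigmult ρ (c : G) μ := Nat.le_of_dvd (eigmult_pos ρ _ hμ) hpd'
    have h2 : p ≤ eigmult ρ (c : G) μ₀ := Nat.le_of_dvd (eigmult_pos ρ _ hμ₀) hpd
    have h3 : eigmult ρ (c : G) μ + eigmult ρ (c : G) μ₀ ≤ n := by
      refine le_trans ?_ (le_of_eq hsum)
      have hsub : ({μ, μ₀} : Finset ℂ) ⊆ eigvals ρ (c : G) := by
        intro x hx
        rw [Finset.mem_insert, Finset.mem_singleton] at hx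
        rcases hx with rfl | rfl <;> assumption
      calc eigmult ρ (c : G) μ + eigmult ρ (c : G) μ₀
          = ∑ x ∈ ({μ, μ₀} : Finset ℂ), eigmult ρ (c : G) x := by
            rw [Finset.sum_pair hne]
        _ ≤ _ := Finset.sum_le_sum_of_subset hsub
    omega
  have hmult : eigmult ρ (c : G) μ₀ = p := by
    obtain ⟨k, hk⟩ := hpd
    have hpos := eigmult_pos ρ (c : G) hμ₀
    have hk1 : k = 1 := by
      rw [hk] at hle₀ hpos
      have hk0 : 0 < k := by
        rcases Nat.eq_zero_or_pos k with h0 | h0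
        · rw [h0, mul_zero] at hpos
          exact absurd hpos (lt_irrefl _)
        · exact h0
      have h2 : p * k < p * 2 := by omega
      have := Nat.lt_of_mul_lt_mul_left h2
      omega
    rw [hk, hk1, mul_one]
  have hdet : LinearMap.det (ρ (c : G)) = μ₀ ^ p := by
    rw [det_rho_eq_prod, Finset.prod_eq_single μ₀, hmult]
    · intro μ hμ hne
      rw [hother μ hμ hne, one_pow]
    · intro h
      exact absurd hμ₀ h
  have hdet1 : LinearMap.det (ρ (c : G)) = 1 := by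
    have hker : (Cfsg.Agent.Lib.Helper7.detHom ρ).ker = ⊤ := by
      rw [eq_top_iff, ← hperf]
      exact Abelianization.commutator_subset_ker _
    have hmem : (c : G) ∈ (Cfsg.Agent.Lib.Helper7.detHom ρ).ker := by
      rw [hker]
      exact Subgroup.mem_top _
    have h1 := MonoidHom.mem_ker.mp hmem
    rw [← Cfsg.Agent.Lib.Helper7.detHom_apply, h1]
    rfl
  have hμq : μ₀ ^ q = 1 := by
    have h1 := eigenvalue_pow_orderOf ρ (c : G) μ₀ ((mem_eigvals ρ _).mp hμ₀)
    rwa [hcG] at h1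
  have hμp : μ₀ ^ p = 1 := by rw [← hdet, hdet1]
  have hcop : Nat.Coprime p q := (Nat.coprime_primes hp hq).mpr (Ne.symm hqp)
  apply hμ₀1
  have h5 : μ₀ ^ Nat.gcd p q = 1 := pow_gcd_eq_one.mpr ⟨hμp, hμq⟩
  rwa [Nat.Coprime.gcd_eq_one hcop, pow_one] at h5

end SmallDeg

end Cfsg.Agent.Lib.Helper28
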