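import Mathlib
import Cfsg.Agent.Lib.Helper28.SectionFn
import Cfsg.Agent.Lib.Helper28.LocalRingB

set_option autoImplicit false

/-!
# Functions of the `p'`-part are local-integer combinations of irreducible characters (helper28)
-/

namespace Cfsg.Agent.Lib.Helper28

open Cfsg Cfsg.Agent.Lib.Helper4 Cfsg.Agent.Lib.Helper26
open scoped ComplexConjugate Classical

section

variable {G : Type*} [Group G] [Fintype G] {M : Ideal AlgInt} {n m k : ℕ}

/-- the scaled indicator of the section of `g` -/
noncomputable def secInd (n k : ℕ) (g : G) : G → ℂ :=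
  fun x => if IsConj (x ^ k) g then (n : ℂ) else 0

theorem isClassFunction_secInd (n k : ℕ) (g : G) : IsClassFunction G (secInd n k g) := by
  intro x t
  show (if IsConj ((t * x * t⁻¹) ^ k) g then (n : ℂ) else 0) = if IsConj (x ^ k) g then (n : ℂ) else 0
  have h2 : (t * x * t⁻¹) ^ k = t * x ^ k * t⁻¹ := conj_pow
  have h3 : IsConj (t * x ^ k * t⁻¹) g ↔ IsConj (x ^ k) g := by
    have hx : IsConj (x ^ k) (t * x ^ k * t⁻¹) := isConj_iff.mpr ⟨t, rfl⟩
    exact ⟨fun h => hx.trans h, fun h => hx.symm.trans h⟩
  rw [h2]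
  simp only [h3]

/-- inner products of the section indicators with irreducible characters are algebraic
integers -/
theorem classInner_secInd_isIntegral (hcard : Nat.card G = n * m) (hnm : Nat.Coprime n m)
    (hk1 : k ≡ 1 [MOD n]) (hk0 : k ≡ 0 [MOD m]) (g : G) (ψ : IrrCharacter G) :
    IsIntegral ℤ (classInner (secInd n k g) (ψ : G → ℂ)) := by
  apply brauer_characterization_algInt (secInd n k g) (isClassFunction_secInd n k g)
  intro E q hq hE _ ξ
  exact section_restrict_isIntegral hcard hnm hk1 hk0 g (secInd n k g) (fun x => rfl) E q hq hE ξ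

/-- a class function of the `n`-part with values in the local ring has local-integer inner
products with the irreducible characters, when `n` is a unit of the local ring -/
theorem classInner_comp_pow_memLocalRing [M.IsPrime] (hcard : Nat.card G = n * m)
    (hnm : Nat.Coprime n m) (hk1 : k ≡ 1 [MOD n]) (hk0 : k ≡ 0 [MOD m])
    (hn : MemLocalRing M ((n : ℂ)⁻¹)) (F : G → ℂ) (hF : IsClassFunction G F)
    (hFR : ∀ g, MemLocalRing M (F g)) (ψ : IrrCharacter G) :
    MemLocalRing M (classInner (fun x => F (x ^ k)) (ψ : G → ℂ)) := by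
  have hMtop : M ≠ ⊤ := Ideal.IsPrime.ne_top ‹_›
  have : Fintype (ConjClasses G) := Fintype.ofFinite _
  have hn0 : (n : ℂ) ≠ 0 := by
    have : n ≠ 0 := by
      rintro rfl
      rw [zero_mul] at hcard
      exact Nat.card_pos.ne' hcard
    exact_mod_cast this
  -- pointwise decomposition
  have hpt : ∀ x : G, F (x ^ k) = ∑ C : ConjClasses G,
      (F (Quotient.out C) * (n : ℂ)⁻¹) * secInd n k (Quotient.out C) x := by
    intro x
    rw [Finset.sum_eq_single (ConjClasses.mk (x ^ k))]
    · have hc : IsConj (x ^ k) (Quotient.out (ConjClasses.mk (x ^ k))) := by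
        rw [← ConjClasses.mk_eq_mk_iff_isConj]
        exact (Quotient.out_eq _).symm
      show _ = _ * (if IsConj (x ^ k) (Quotient.out (ConjClasses.mk (x ^ k))) then (n : ℂ) else 0)
      rw [if_pos hc, mul_assoc, inv_mul_cancel₀ hn0, mul_one]
      obtain ⟨c, hc'⟩ := isConj_iff.mp hc
      rw [← hc', hF]
    · intro C _ hC
      show _ * (if IsConj (x ^ k) (Quotient.out C) then (n : ℂ) else 0) = 0
      rw [if_neg, mul_zero]
      intro hc
      apply hC
      rw [← Quotient.out_eq C]
      exact (ConjClasses.mk_eq_mk_iff_isConj.mpr hc).symm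
    · intro h
      exact absurd (Finset.mem_univ _) h
  have hsum : classInner (fun x => F (x ^ k)) (ψ : G → ℂ) = ∑ C : ConjClasses G,
      (F (Quotient.out C) * (n : ℂ)⁻¹) *
        classInner (secInd n k (Quotient.out C)) (ψ : G → ℂ) := by
    unfold classInner
    simp only [hpt]
    simp only [Finset.sum_mul, Finset.mul_sum]
    rw [Finset.sum_comm]
    refine Finset.sum_congr rfl fun C _ => ?_
    refine Finset.sum_congr rfl fun x _ => ?_
    ring
  rw [hsum]
  apply memLocalRing_sum
  intro C _
  exact memLocalRing_mul (memLocalRing_mul (hFR _) hn)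
    (memLocalRing_of_isIntegral hMtop (classInner_secInd_isIntegral hcard hnm hk1 hk0 _ ψ))

end

end Cfsg.Agent.Lib.Helper28
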