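import Mathlib
import Cfsg.Agent.Lib.Helper28.SqSumA
import Cfsg.Agent.Lib.Helper28.HeightZeroI
import Cfsg.Agent.Lib.Helper28.BlockPReg
import Cfsg.Agent.Lib.Helper28.BlockDefectA

set_option autoImplicit false

/-!
# The `p`-part of the sum of the squares of the degrees in a block (helper28)
-/

namespace Cfsg.Agent.Lib.Helper28

open Cfsg Cfsg.Agent.Lib.Helper4 Cfsg.Agent.Lib.Helper26
open scoped ComplexConjugate Classical

section

variable {G : Type*} [Group G] [Fintype G] {M : Ideal AlgInt}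

theorem pow_k_eq_self_of_pRegular {p n k : ℕ} (hp : p.Prime) {a : ℕ}
    (hcard : Nat.card G = n * p ^ a) (hk1 : k ≡ 1 [MOD n]) {x : G} (hx : ¬ p ∣ orderOf x) :
    x ^ k = x := by
  apply pow_k_eq_self hk1
  have h1 : orderOf x ∣ n * p ^ a := hcard ▸ orderOf_dvd_natCard x
  have hcop : Nat.Coprime (orderOf x) (p ^ a) :=
    Nat.Coprime.pow_right a ((Nat.Prime.coprime_iff_not_dvd hp).mpr hx).symm
  exact orderOf_dvd_iff_pow_eq_one.mp (hcop.dvd_of_dvd_mul_right h1)

/-- first identity -/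
theorem sum_deg_mul_classInner [Fintype (IrrCharacter G)] {p : ℕ} [Fact p.Prime]
    (hM : IsPModular p M) {B : Set (IrrCharacter G)} (hB : IsPBlock M B) {n k a : ℕ}
    (hcard : Nat.card G = n * p ^ a) (hk1 : k ≡ 1 [MOD n]) :
    ∑ ψ : IrrCharacter G, (if ψ ∈ B then (ψ : G → ℂ) 1 *
        classInner (fun x => blockCoeff B (x ^ k)⁻¹) (ψ : G → ℂ) else 0) = blockCoeff B 1 := by
  have hprime : M.IsPrime := hM.2.1.isPrime
  have hp : p.Prime := Fact.out
  have hG : (Nat.card G : ℂ) ≠ 0 := by exact_mod_cast Nat.card_pos.ne'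
  have hpt : ∀ x : G, blockCoeff B (x ^ k)⁻¹ * blockCoeff B x = blockCoeff B x⁻¹ * blockCoeff B x := by
    intro x
    by_cases hx : p ∣ orderOf x
    · rw [blockCoeff_eq_zero_of_pSingular hM B (fun g => osima hB g) x hx, mul_zero, mul_zero]
    · rw [pow_k_eq_self_of_pRegular hp hcard hk1 hx]
  have h1 : ∑ ψ : IrrCharacter G, (if ψ ∈ B then (ψ : G → ℂ) 1 *
        classInner (fun x => blockCoeff B (x ^ k)⁻¹) (ψ : G → ℂ) else 0) =
      ∑ x : G, blockCoeff B (x ^ k)⁻¹ * blockCoeff B x := by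
    have h2 : ∀ x : G, blockCoeff B (x ^ k)⁻¹ * blockCoeff B x =
        ∑ ψ : IrrCharacter G, (Nat.card G : ℂ)⁻¹ * (blockCoeff B (x ^ k)⁻¹ *
          (if ψ ∈ B then (ψ : G → ℂ) 1 * conj ((ψ : G → ℂ) x) else 0)) := by
      intro x
      rw [blockCoeff_eq_sum B x, ← Finset.mul_sum, ← Finset.mul_sum]
      ring
    simp only [h2]
    rw [Finset.sum_comm]
    refine Finset.sum_congr rfl fun ψ _ => ?_
    by_cases hψ : ψ ∈ B
    · simp only [if_pos hψ]
      unfold classInner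
      rw [Finset.mul_sum, Finset.mul_sum]
      refine Finset.sum_congr rfl fun x _ => ?_
      ring
    · simp only [if_neg hψ, mul_zero, Finset.sum_const_zero]
  rw [h1, Finset.sum_congr rfl (fun x _ => hpt x)]
  have h3 := congrFun (conv_blockCoeff_self B) 1
  rw [← h3]
  show _ = ∑ g : G, blockCoeff B g * blockCoeff B (g⁻¹ * 1)
  refine Finset.sum_congr rfl fun x _ => ?_
  rw [mul_one, mul_comm]

/-- second identity -/
theorem sum_row_mul_classInner [Fintype (IrrCharacter G)] {p : ℕ} [Fact p.Prime]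
    (hM : IsPModular p M) {B : Set (IrrCharacter G)} (hB : IsPBlock M B) {n k a : ℕ}
    (hcard : Nat.card G = n * p ^ a) (hk1 : k ≡ 1 [MOD n]) {χ₀ : IrrCharacter G}
    (hχ₀ : χ₀ ∈ B) :
    ∑ ψ : IrrCharacter G, classInner (pRegularPart p (χ₀ : G → ℂ)) (ψ : G → ℂ) *
        classInner (fun x => blockCoeff B (x ^ k)⁻¹) (ψ : G → ℂ) =
      (Nat.card G : ℂ)⁻¹ * (χ₀ : G → ℂ) 1 := by
  have hprime : M.IsPrime := hM.2.1.isPrime
  have hp : p.Prime := Fact.out
  have hχcf := Helper4.isClassFunction_of_isIrrCharacter χ₀.2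
  have hfcf := isClassFunction_pRegularPart p hχcf
  have hreal : ∀ ψ : IrrCharacter G,
      conj (classInner (pRegularPart p (χ₀ : G → ℂ)) (ψ : G → ℂ)) =
        classInner (pRegularPart p (χ₀ : G → ℂ)) (ψ : G → ℂ) := by
    intro ψ
    obtain ⟨j, hj⟩ := exists_int_classInner_pRegularPart' hp χ₀ ψ
    have hpc : ((p : ℂ) ^ (Nat.card G).factorization p) ≠ 0 :=
      pow_ne_zero _ (Nat.cast_ne_zero.mpr hp.ne_zero)
    have h1 : classInner (pRegularPart p (χ₀ : G → ℂ)) (ψ : G → ℂ) =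
        ((p : ℂ) ^ (Nat.card G).factorization p)⁻¹ * (j : ℂ) := by
      rw [← hj, ← mul_assoc, inv_mul_cancel₀ hpc, one_mul]
    rw [h1, map_mul, map_inv₀, map_pow, Complex.conj_natCast, map_intCast]
  have hexp := Helper4.classFunction_expansion (pRegularPart p (χ₀ : G → ℂ)) hfcf
  have hpt : ∀ x : G, blockCoeff B (x ^ k)⁻¹ * conj (pRegularPart p (χ₀ : G → ℂ) x) =
      blockCoeff B x⁻¹ * (χ₀ : G → ℂ) x⁻¹ := by
    intro x
    rw [pRegularPart_apply]
    by_cases hx : p ∣ orderOf x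
    · rw [if_pos hx, map_zero, mul_zero]
      have hx' : p ∣ orderOf x⁻¹ := by rwa [orderOf_inv]
      rw [blockCoeff_eq_zero_of_pSingular hM B (fun g => osima hB g) x⁻¹ hx', zero_mul]
    · rw [if_neg hx, pow_k_eq_self_of_pRegular hp hcard hk1 hx,
        Helper26.isCharacter_conj_eq_inv (isCharacter_of_isIrrCharacter χ₀.2)]
  have h1 : ∑ ψ : IrrCharacter G, classInner (pRegularPart p (χ₀ : G → ℂ)) (ψ : G → ℂ) *
        classInner (fun x => blockCoeff B (x ^ k)⁻¹) (ψ : G → ℂ) =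
      (Nat.card G : ℂ)⁻¹ * ∑ x : G, blockCoeff B (x ^ k)⁻¹ *
        conj (pRegularPart p (χ₀ : G → ℂ) x) := by
    have h2 : ∀ x : G, conj (pRegularPart p (χ₀ : G → ℂ) x) =
        ∑ ψ : IrrCharacter G, classInner (pRegularPart p (χ₀ : G → ℂ)) (ψ : G → ℂ) *
          conj ((ψ : G → ℂ) x) := by
      intro x
      have h3 := congrFun hexp x
      rw [Finset.sum_apply] at h3
      conv_lhs => rw [h3]
      rw [map_sum]
      refine Finset.sum_congr rfl fun ψ _ => ?_
      rw [Pi.smul_apply, smul_eq_mul, map_mul, hreal]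
    simp only [h2]
    unfold classInner
    simp only [Finset.mul_sum]
    rw [Finset.sum_comm]
    refine Finset.sum_congr rfl fun x _ => ?_
    refine Finset.sum_congr rfl fun ψ _ => ?_
    ring
  rw [h1, Finset.sum_congr rfl (fun x _ => hpt x)]
  congr 1
  rw [← Equiv.sum_comp (Equiv.inv G) (fun x : G => blockCoeff B x⁻¹ * (χ₀ : G → ℂ) x⁻¹)]
  have h4 := omegaF_blockCoeff B χ₀
  rw [if_pos hχ₀] at h4
  unfold omegaF at h4
  have h5 := irr_one_ne_zero χ₀.2
  rw [div_eq_iff h5, one_mul] at h4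
  rw [← h4]
  refine Finset.sum_congr rfl fun x _ => ?_
  simp

end

end Cfsg.Agent.Lib.Helper28
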