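import Mathlib
import Cfsg.Agent.Lib.Helper28.SqSumB

set_option autoImplicit false

/-!
# The `p`-part of the sum of the squares of the degrees in a block: main theorem (helper28)
-/

namespace Cfsg.Agent.Lib.Helper28

open Cfsg Cfsg.Agent.Lib.Helper4 Cfsg.Agent.Lib.Helper26
open scoped ComplexConjugate Classical

section

variable {G : Type*} [Group G] [Fintype G] {M : Ideal AlgInt}

set_option maxHeartbeats 1600000 in
/-- **Brauer**: `ν_p (∑_{χ ∈ B} χ(1)²) = 2a - d` -/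
theorem sum_sq_factorization [Fintype (IrrCharacter G)] {p : ℕ} [Fact p.Prime]
    (hM : IsPModular p M) {B : Set (IrrCharacter G)} (hB : IsPBlock M B) :
    (∑ ψ : IrrCharacter G, if ψ ∈ B then charDegree (ψ : G → ℂ) ^ 2 else 0).factorization p =
      2 * (Nat.card G).factorization p - blockDefect p B := by
  have hprime : M.IsPrime := hM.2.1.isPrime
  have hMtop : M ≠ ⊤ := hM.2.1.ne_top
  have hp : p.Prime := Fact.out
  have hpc : (p : ℂ) ≠ 0 := Nat.cast_ne_zero.mpr hp.ne_zero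
  obtain ⟨a, ha⟩ : ∃ a, a = (Nat.card G).factorization p := ⟨_, rfl⟩
  obtain ⟨n, hn⟩ : ∃ n, n = Nat.card G / p ^ a := ⟨_, rfl⟩
  have hcard : Nat.card G = n * p ^ a := by
    rw [hn, ha, mul_comm]
    exact (Nat.ordProj_mul_ordCompl_eq_self _ p).symm
  have hncop : n.Coprime p := by
    rw [hn, ha]
    exact (Nat.coprime_ordCompl hp Nat.card_pos.ne').symm
  have hnm : Nat.Coprime n (p ^ a) := Nat.Coprime.pow_right a hncop
  have hn0 : (n : ℂ) ≠ 0 := by
    have : n ≠ 0 := by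
      rintro rfl
      rw [zero_mul] at hcard
      exact Nat.card_pos.ne' hcard
    exact_mod_cast this
  obtain ⟨k, hk1, hk0⟩ := exists_crt_exp hnm
  -- a character of height zero
  obtain ⟨θ0, hθ0⟩ := Helper28.block_nonempty hB
  have hSne : ((fun χ : IrrCharacter G =>
      (charDegree (χ : G → ℂ)).factorization p) '' B).Nonempty := ⟨_, θ0, hθ0, rfl⟩
  obtain ⟨χ₀, hχ₀, hχm⟩ := Nat.sInf_mem hSne
  have hmin : ∀ ψ ∈ B, (charDegree (χ₀ : G → ℂ)).factorization p ≤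
      (charDegree (ψ : G → ℂ)).factorization p := by
    intro ψ hψ
    show (fun χ : IrrCharacter G => (charDegree (χ : G → ℂ)).factorization p) χ₀ ≤ _
    rw [hχm]
    exact Nat.sInf_le ⟨ψ, hψ, rfl⟩
  have hdef := blockDefect_eq_of_min hχ₀ hmin
  obtain ⟨v, hv⟩ : ∃ v, v = (charDegree (χ₀ : G → ℂ)).factorization p := ⟨_, rfl⟩
  obtain ⟨hχ0, hχ1, hχdvd⟩ := irr_degree_nat χ₀.2
  have hva : v ≤ a := by
    rw [hv, ha]
    exact (Nat.factorization_le_iff_dvd hχ0 Nat.card_pos.ne').mpr hχdvd p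
  rw [hdef, ← ha, ← hv]
  have hexp : 2 * a - (a - v) = a + v := by omega
  rw [hexp]
  -- the unit
  have hχcf := Helper4.isClassFunction_of_isIrrCharacter χ₀.2
  obtain ⟨c, hc⟩ : ∃ c, c = omegaF (χ₀ : G → ℂ) (pregTest p (χ₀ : G → ℂ)) := ⟨_, rfl⟩
  have hcR : MemLocalRing M c := by
    rw [hc]
    exact omegaF_memLocalRing χ₀.2 _ (isClassFunction_pregTest p hχcf)
      (fun g => pregTest_memLocalRing hM χ₀.2 g)
  have hcU : ¬ MemLocalIdeal M c := by
    rw [hc]
    exact unit_of_height_zero hM hB hχ₀ hmin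
  -- the coefficients `w`
  have hFcf : IsClassFunction G (fun g => blockCoeff B g⁻¹) := by
    intro g t
    show blockCoeff B (t * g * t⁻¹)⁻¹ = blockCoeff B g⁻¹
    have : (t * g * t⁻¹)⁻¹ = t * g⁻¹ * t⁻¹ := by group
    rw [this, isClassFunction_blockCoeff B]
  obtain ⟨w, hw⟩ : ∃ w : IrrCharacter G → ℂ, w = fun ψ : IrrCharacter G =>
      classInner (fun x => blockCoeff B (x ^ k)⁻¹) (ψ : G → ℂ) := ⟨_, rfl⟩
  have hwR : ∀ ψ, MemLocalRing M (w ψ) := by
    intro ψ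
    rw [hw]
    exact classInner_comp_pow_memLocalRing hcard hnm hk1 hk0
      (memLocalRing_inv_natCast hM hncop) (fun g => blockCoeff B g⁻¹) hFcf
      (fun g => osima hB _) ψ
  -- degrees
  have hdeg : ∀ ψ : IrrCharacter G, (ψ : G → ℂ) 1 = (charDegree (ψ : G → ℂ) : ℂ) :=
    fun ψ => (irr_degree_nat ψ.2).2.1
  obtain ⟨u, hu⟩ : ∃ u : IrrCharacter G → ℕ,
      u = fun ψ : IrrCharacter G => charDegree (ψ : G → ℂ) / p ^ v :=
    ⟨_, rfl⟩
  have hudeg : ∀ ψ ∈ B, charDegree (ψ : G → ℂ) = p ^ v * u ψ := by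
    intro ψ hψ
    rw [hu]
    have h1 : p ^ v ∣ charDegree (ψ : G → ℂ) := by
      have h2 : p ^ v ∣ p ^ (charDegree (ψ : G → ℂ)).factorization p :=
        pow_dvd_pow p (hv ▸ hmin ψ hψ)
      exact h2.trans (Nat.ordProj_dvd _ _)
    exact (Nat.mul_div_cancel' h1).symm
  have hu0cop : (u χ₀).Coprime p := by
    rw [hu, hv]
    exact (Nat.coprime_ordCompl hp hχ0).symm
  -- the row of `χ₀`
  have hrow : ∀ ψ ∈ B, classInner (pRegularPart p (χ₀ : G → ℂ)) (ψ : G → ℂ) =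
      omegaF (ψ : G → ℂ) (pregTest p (χ₀ : G → ℂ)) * (ψ : G → ℂ) 1 / (p : ℂ) ^ a := by
    intro ψ hψ
    have h1 := omegaF_pregTest hp (χ₀ : G → ℂ) (ψ : G → ℂ) (irr_one_ne_zero ψ.2)
    obtain ⟨j, hj⟩ := exists_int_classInner_pRegularPart' hp χ₀ ψ
    have hpa : ((p : ℂ) ^ (Nat.card G).factorization p) ≠ 0 := pow_ne_zero _ hpc
    have h2 : classInner (pRegularPart p (χ₀ : G → ℂ)) (ψ : G → ℂ) =
        ((p : ℂ) ^ (Nat.card G).factorization p)⁻¹ * (j : ℂ) := by
      rw [← hj, ← mul_assoc, inv_mul_cancel₀ hpa, one_mul]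
    have h3 : conj (classInner (pRegularPart p (χ₀ : G → ℂ)) (ψ : G → ℂ)) =
        classInner (pRegularPart p (χ₀ : G → ℂ)) (ψ : G → ℂ) := by
      rw [h2, map_mul, map_inv₀, map_pow, Complex.conj_natCast, map_intCast]
    rw [h3, ← ha] at h1
    rw [h1, mul_div_assoc, mul_comm, div_mul_cancel₀]
    exact pow_ne_zero _ hpc
  have hrow0 : ∀ ψ : IrrCharacter G, ψ ∉ B →
      classInner (pRegularPart p (χ₀ : G → ℂ)) (ψ : G → ℂ) = 0 := by
    intro ψ hψ
    exact classInner_pRegularPart_eq_zero hM χ₀ ψ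
      (fun h => hψ ((Helper28.mem_block_iff hB hχ₀ ψ).mpr h))
  -- the two sums
  obtain ⟨X, hX⟩ : ∃ X : ℂ, X = ∑ ψ : IrrCharacter G,
      (if ψ ∈ B then (u ψ : ℂ) * w ψ else 0) := ⟨_, rfl⟩
  obtain ⟨Y, hY⟩ : ∃ Y : ℂ, Y = ∑ ψ : IrrCharacter G,
      (if ψ ∈ B then (omegaF (ψ : G → ℂ) (pregTest p (χ₀ : G → ℂ)) - c) *
        ((u ψ : ℂ) * w ψ) else 0) := ⟨_, rfl⟩
  have hYJ : MemLocalIdeal M Y := by
    rw [hY]
    apply memLocalIdeal_sum
    intro ψ _
    by_cases hψ : ψ ∈ B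
    · rw [if_pos hψ]
      apply memLocalIdeal_mul_right _
        (memLocalRing_mul (memLocalRing_natCast hMtop _) (hwR ψ))
      have hsame := (Helper28.mem_block_iff hB hχ₀ ψ).mp hψ
      have h1 := omegaF_sub_memLocalIdeal hχcf
        (Helper4.isClassFunction_of_isIrrCharacter ψ.2) hsame (pregTest p (χ₀ : G → ℂ))
        (isClassFunction_pregTest p hχcf) (fun g => pregTest_memLocalRing hM χ₀.2 g)
      have h2 := memLocalIdeal_neg h1
      rw [neg_sub, ← hc] at h2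
      exact h2
    · rw [if_neg hψ]
      exact memLocalIdeal_zero hMtop
  obtain ⟨S, hS⟩ : ∃ S : ℕ, S = ∑ ψ : IrrCharacter G,
      if ψ ∈ B then charDegree (ψ : G → ℂ) ^ 2 else 0 := ⟨_, rfl⟩
  rw [← hS]
  have hGc : (Nat.card G : ℂ) = (n : ℂ) * (p : ℂ) ^ a := by
    rw [hcard]; push_cast; ring
  have hpa : (p : ℂ) ^ a ≠ 0 := pow_ne_zero _ hpc
  have hpv : (p : ℂ) ^ v ≠ 0 := pow_ne_zero _ hpc
  -- identity 2
  have hid2 : (p : ℂ) ^ v * X = ((n : ℂ) * (p : ℂ) ^ a)⁻¹ * (S : ℂ) := by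
    have h1 := sum_deg_mul_classInner hM hB hcard hk1
    rw [blockCoeff_eq_sum B 1, hGc] at h1
    have h2 : ∑ ψ : IrrCharacter G, (if ψ ∈ B then (ψ : G → ℂ) 1 * conj ((ψ : G → ℂ) 1)
        else 0) = (S : ℂ) := by
      rw [hS]
      push_cast
      refine Finset.sum_congr rfl fun ψ _ => ?_
      by_cases hψ : ψ ∈ B
      · rw [if_pos hψ, if_pos hψ, hdeg, Complex.conj_natCast]
        ring
      · rw [if_neg hψ, if_neg hψ]
    rw [h2] at h1
    rw [← h1, hX, Finset.mul_sum]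
    refine Finset.sum_congr rfl fun ψ _ => ?_
    by_cases hψ : ψ ∈ B
    · rw [if_pos hψ, if_pos hψ, hdeg, hudeg ψ hψ, hw]
      push_cast
      ring
    · rw [if_neg hψ, if_neg hψ, mul_zero]
  -- identity 1
  have hid1 : c * X + Y = (u χ₀ : ℂ) / (n : ℂ) := by
    have h1 := sum_row_mul_classInner hM hB hcard hk1 hχ₀
    rw [hGc, hdeg χ₀, hudeg χ₀ hχ₀] at h1
    have h2 : ∑ ψ : IrrCharacter G, classInner (pRegularPart p (χ₀ : G → ℂ)) (ψ : G → ℂ) *
        classInner (fun x => blockCoeff B (x ^ k)⁻¹) (ψ : G → ℂ) =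
        (p : ℂ) ^ v / (p : ℂ) ^ a * (c * X + Y) := by
      rw [hX, hY, Finset.mul_sum, ← Finset.sum_add_distrib, Finset.mul_sum]
      refine Finset.sum_congr rfl fun ψ _ => ?_
      by_cases hψ : ψ ∈ B
      · rw [if_pos hψ, if_pos hψ, hrow ψ hψ, hdeg, hudeg ψ hψ, hw]
        push_cast
        field_simp
        ring
      · rw [if_neg hψ, if_neg hψ, hrow0 ψ hψ]
        ring
    rw [h2] at h1
    push_cast at h1
    field_simp at h1 ⊢
    linear_combination h1
  -- the ratio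
  obtain ⟨r, hr⟩ : ∃ r : ℂ, r = (S : ℂ) / (p : ℂ) ^ (a + v) := ⟨_, rfl⟩
  have hcr : c * r = (u χ₀ : ℂ) - (n : ℂ) * Y := by
    have h1 : X = (S : ℂ) / ((n : ℂ) * (p : ℂ) ^ (a + v)) := by
      rw [pow_add]
      field_simp
      have := hid2
      field_simp at this
      linear_combination this
    rw [h1] at hid1
    rw [hr]
    have hpav : (p : ℂ) ^ (a + v) ≠ 0 := pow_ne_zero _ hpc
    field_simp at hid1 ⊢
    linear_combination hid1
  have hcrR : MemLocalRing M (c * r) := by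
    rw [hcr]
    exact memLocalRing_sub (memLocalRing_natCast hMtop _)
      (memLocalRing_mul (memLocalRing_natCast hMtop _) (memLocalRing_of_memLocalIdeal hYJ))
  have hcrU : ¬ MemLocalIdeal M (c * r) := by
    intro h
    apply not_memLocalIdeal_natCast hM hu0cop
    have h1 : (u χ₀ : ℂ) = c * r + (n : ℂ) * Y := by rw [hcr]; ring
    rw [h1]
    exact memLocalIdeal_add h (memLocalIdeal_mul_left (memLocalRing_natCast hMtop _) hYJ)
  have hc0 : c ≠ 0 := by
    rintro rfl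
    exact hcU (memLocalIdeal_zero hMtop)
  have hrR : MemLocalRing M r := by
    have h1 : r = c⁻¹ * (c * r) := by
      rw [← mul_assoc, inv_mul_cancel₀ hc0, one_mul]
    rw [h1]
    exact memLocalRing_mul (memLocalRing_inv hcR hcU) hcrR
  have hrU : ¬ MemLocalIdeal M r := fun h => hcrU (memLocalIdeal_mul_left hcR h)
  have hpav : (p : ℂ) ^ (a + v) ≠ 0 := pow_ne_zero _ hpc
  have hSr : (S : ℂ) = ((p ^ (a + v) : ℕ) : ℂ) * r := by
    rw [hr]
    push_cast
    field_simp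
  have hS0 : S ≠ 0 := by
    rintro rfl
    apply hrU
    rw [hr, Nat.cast_zero, zero_div]
    exact memLocalIdeal_zero hMtop
  have hfpow : (p ^ (a + v)).factorization p = a + v := by
    rw [hp.factorization_pow, Finsupp.single_eq_same]
  apply le_antisymm
  · by_contra hlt
    rw [not_le] at hlt
    apply hrU
    obtain ⟨t, ht⟩ : p ^ (a + v + 1) ∣ S :=
      (pow_dvd_pow p hlt).trans (Nat.ordProj_dvd S p)
    have h1 : r = (p : ℂ) * (t : ℂ) := by
      rw [hr, ht]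
      push_cast
      rw [pow_succ]
      field_simp
    rw [h1]
    exact memLocalIdeal_mul_right (memLocalIdeal_natCast_p hM) (memLocalRing_natCast hMtop _)
  · have := factorization_le_of_eq_mul_memLocalRing hM hS0 hSr hrR
    rwa [hfpow] at this

end

end Cfsg.Agent.Lib.Helper28
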